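import Mathlib

set_option autoImplicit false

namespace Cfsg.Agent.Helper61

open SemidirectProduct

/-- In a group of exponent two, any two elements commute. -/
theorem comm_of_sq_eq_one {N : Type*} [Group N] (hN2 : ∀ n : N, n ^ 2 = 1) (a b : N) :
    a * b = b * a := by
  have ha : a⁻¹ = a := by
    have := hN2 a
    rw [pow_two] at this
    exact inv_eq_of_mul_eq_one_left this
  have hb : b⁻¹ = b := by
    have := hN2 b
    rw [pow_two] at this
    exact inv_eq_of_mul_eq_one_left this
  have hab : (a * b)⁻¹ = a * b := by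
    have := hN2 (a * b)
    rw [pow_two] at this
    exact inv_eq_of_mul_eq_one_left this
  calc a * b = (a * b)⁻¹ := hab.symm
    _ = b⁻¹ * a⁻¹ := mul_inv_rev a b
    _ = b * a := by rw [ha, hb]

/-- The prime graph of a semidirect product `N ⋊ L` with `N` of exponent two on which every element
of `L` with a non-trivial fixed point is of order at most two, coincides with the prime graph of `L`
as soon as `L` has even order. -/
theorem primeGraph_semidirect {N L : Type*} [Group N] [Group L] [Finite N] [Finite L]
    (φ : L →* MulAut N) (hN2 : ∀ n : N, n ^ 2 = 1)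
    (hfix : ∀ (l : L) (n : N), φ l n = n → n ≠ 1 → l ^ 2 = 1)
    (h2 : 2 ∣ Nat.card L) :
    (∀ p : ℕ, p.Prime → (p ∣ Nat.card L ↔ p ∣ Nat.card (N ⋊[φ] L))) ∧
    (∀ p q : ℕ, p.Prime → q.Prime → p ≠ q →
      ((∃ g : L, orderOf g = p * q) ↔ (∃ g : N ⋊[φ] L, orderOf g = p * q))) := by
  constructor
  · intro p hp
    rw [SemidirectProduct.card]
    have hN : IsPGroup 2 N := by
      intro n
      exact ⟨1, by simpa using hN2 n⟩
    have : Fact (Nat.Prime 2) := ⟨Nat.prime_two⟩
    obtain ⟨n, hn⟩ := IsPGroup.iff_card.1 hN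
    rw [hn]
    constructor
    · intro h
      exact Dvd.dvd.mul_left h _
    · intro h
      rcases (Nat.Prime.dvd_mul hp).1 h with h | h
      · have := (Nat.prime_dvd_prime_iff_eq hp Nat.prime_two).1 (hp.dvd_of_dvd_pow h)
        rw [this]
        exact h2
      · exact h
  · intro p q hp hq hpq
    constructor
    · rintro ⟨g, hg⟩
      refine ⟨inr g, ?_⟩
      rw [orderOf_injective (inr : L →* N ⋊[φ] L) inr_injective g, hg]
    · rintro ⟨y, hy⟩
      set l : L := rightHom y with hl
      set m : ℕ := orderOf l with hm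
      have hpq0 : 0 < p * q := Nat.mul_pos hp.pos hq.pos
      have hmdvd : m ∣ p * q := by
        rw [← hy]
        exact orderOf_map_dvd (rightHom : N ⋊[φ] L →* L) y
      have hmpos : 0 < m := Nat.pos_of_dvd_of_pos hmdvd hpq0
      by_cases hmeq : m = p * q
      · exact ⟨l, hmeq⟩
      exfalso
      -- `y ^ m` lies in the kernel of `rightHom`, which is the range of `inl`.
      have hker : y ^ m ∈ (rightHom : N ⋊[φ] L →* L).ker := by
        rw [MonoidHom.mem_ker, map_pow, ← hl, hm, pow_orderOf_eq_one]
      rw [← range_inl_eq_ker_rightHom] at hker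
      obtain ⟨n, hn⟩ := hker
      have hy2m : y ^ (m * 2) = 1 := by
        rw [pow_mul, ← hn, ← map_pow, hN2 n, map_one]
      have hdvd2 : p * q ∣ m * 2 := by
        rw [← hy]
        exact orderOf_dvd_of_pow_eq_one hy2m
      -- hence `p * q = 2 * m`
      have hpq2m : p * q = m * 2 := by
        obtain ⟨s, hs⟩ := hmdvd
        obtain ⟨t, ht⟩ := hdvd2
        rw [hs, mul_assoc] at ht
        have hst : 2 = s * t := Nat.eq_of_mul_eq_mul_left hmpos ht
        have hs2 : s ∣ 2 := ⟨t, hst⟩
        rcases (Nat.dvd_prime Nat.prime_two).1 hs2 with h1 | h1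
        · exfalso
          apply hmeq
          rw [hs, h1, mul_one]
        · rw [hs, h1]
      -- `n ≠ 1`
      have hn1 : n ≠ 1 := by
        intro h
        rw [h, map_one] at hn
        have : p * q ∣ m := by
          rw [← hy]
          exact orderOf_dvd_of_pow_eq_one hn.symm
        have := Nat.le_of_dvd hmpos this
        omega
      -- `l` fixes `n`
      have hcomm : y * inl n * y⁻¹ = inl n := by
        rw [hn, ← pow_succ', pow_succ, mul_inv_cancel_right]
      have hfixn : φ l n = n := by
        have h1 : (y * inl n * y⁻¹).left = n := by rw [hcomm, left_inl]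
        have h2' : (y * inl n * y⁻¹).left = y.left * φ y.right n * y.left⁻¹ := by
          simp only [mul_left, mul_right, inv_left, right_inl, left_inl, mul_one]
          rw [← MulAut.mul_apply, ← map_mul]
          simp
        have h3 : y.left * φ l n * y.left⁻¹ = n := h2'.symm.trans h1
        rw [comm_of_sq_eq_one hN2 y.left (φ l n), mul_inv_cancel_right] at h3
        exact h3
      have hl2 : l ^ 2 = 1 := hfix l n hfixn hn1
      have hm2 : m ∣ 2 := orderOf_dvd_of_pow_eq_one hl2
      have hm2' : m ≤ 2 := Nat.le_of_dvd (by norm_num) hm2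
      have hp2 := hp.two_le
      have hq2 := hq.two_le
      have h4 : p * q ≤ 4 := by omega
      have hp4 : p ≤ 2 := by nlinarith
      have hq4 : q ≤ 2 := by nlinarith
      apply hpq
      omega

/-- Prime graph data are invariant under isomorphism. -/
theorem primeGraph_congr {H H' : Type*} [Group H] [Group H'] (e : H ≃* H') :
    (∀ p : ℕ, (p ∣ Nat.card H ↔ p ∣ Nat.card H')) ∧
    (∀ m : ℕ, ((∃ g : H, orderOf g = m) ↔ (∃ g : H', orderOf g = m))) := by
  constructor
  · intro p
    rw [Nat.card_congr e.toEquiv]
  · intro m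
    constructor
    · rintro ⟨g, hg⟩
      exact ⟨e g, by rw [MulEquiv.orderOf_eq, hg]⟩
    · rintro ⟨g, hg⟩
      exact ⟨e.symm g, by rw [MulEquiv.orderOf_eq, hg]⟩

/-- Every finite group has an isomorphic copy in `Type`. -/
theorem exists_type0_copy (H : Type*) [Group H] [Finite H] :
    ∃ (H' : Type) (_ : Group H') (_ : Finite H'), Nonempty (H' ≃* H) := by
  have : Small.{0} H := inferInstance
  exact ⟨Shrink.{0} H, inferInstance, Finite.of_equiv H (equivShrink H), ⟨Shrink.mulEquiv⟩⟩

end Cfsg.Agent.Helper61
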