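import Mathlib
import Cfsg.Agent.Helper61.PrimeGraph

set_option autoImplicit false

namespace Cfsg.Agent.Helper61

open Matrix

/-- A determinant-one `2 × 2` matrix in characteristic two with a non-zero fixed vector squares to one. -/
theorem sq_eq_one_of_fixed {F : Type*} [Field F] [CharP F 2] (A : Matrix (Fin 2) (Fin 2) F)
    (hdet : A.det = 1) (v : Fin 2 → F) (hv : v ≠ 0) (hfix : A *ᵥ v = v) : A * A = 1 := by
  have h2 : (2 : F) = 0 := CharTwo.two_eq_zero
  have hdet0 : (A - 1).det = 0 := by
    apply Matrix.exists_mulVec_eq_zero_iff.1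
    exact ⟨v, hv, by rw [Matrix.sub_mulVec, hfix, Matrix.one_mulVec, sub_self]⟩
  rw [Matrix.det_fin_two] at hdet hdet0
  simp only [Matrix.sub_apply, Matrix.one_apply_eq, Matrix.one_apply_ne, ne_eq, Fin.isValue,
    zero_ne_one, one_ne_zero, not_false_eq_true, sub_zero] at hdet0
  have htr : A 0 0 + A 1 1 = 0 := by linear_combination hdet - hdet0 + h2
  ext i j
  fin_cases i <;> fin_cases j <;> simp [Matrix.mul_apply, Fin.sum_univ_two]
  · linear_combination (A 0 0) * htr - hdet - h2
  · linear_combination (A 0 1) * htr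
  · linear_combination (A 1 0) * htr
  · linear_combination (A 1 1) * htr - hdet - h2

/-- `k` copies of the natural module of `SL(2, F)`, written multiplicatively. -/
abbrev natMod (k : ℕ) (F : Type*) [Field F] : Type _ := Multiplicative (Fin k → Fin 2 → F)

/-- The action of `SL(2, F)` on `k` copies of its natural module. -/
def natModAct (k : ℕ) (F : Type*) [Field F] :
    Matrix.SpecialLinearGroup (Fin 2) F →* MulAut (natMod k F) where
  toFun g :=
    { toFun := fun n => Multiplicative.ofAdd (fun i => g.1 *ᵥ (Multiplicative.toAdd n i))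
      invFun := fun n => Multiplicative.ofAdd (fun i => (g⁻¹).1 *ᵥ (Multiplicative.toAdd n i))
      left_inv := by
        intro n
        apply Multiplicative.toAdd.injective
        funext i
        simp only [toAdd_ofAdd, Matrix.mulVec_mulVec]
        rw [← Matrix.SpecialLinearGroup.coe_mul, inv_mul_cancel, Matrix.SpecialLinearGroup.coe_one,
          Matrix.one_mulVec]
      right_inv := by
        intro n
        apply Multiplicative.toAdd.injective
        funext i
        simp only [toAdd_ofAdd, Matrix.mulVec_mulVec]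
        rw [← Matrix.SpecialLinearGroup.coe_mul, mul_inv_cancel, Matrix.SpecialLinearGroup.coe_one,
          Matrix.one_mulVec]
      map_mul' := by
        intro a b
        apply Multiplicative.toAdd.injective
        funext i
        simp only [toAdd_ofAdd, toAdd_mul, Pi.add_apply, Matrix.mulVec_add] }
  map_one' := by
    refine MulEquiv.ext (fun n => ?_)
    apply Multiplicative.toAdd.injective
    funext i
    simp
  map_mul' := by
    intro a b
    refine MulEquiv.ext (fun n => ?_)
    apply Multiplicative.toAdd.injective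
    funext i
    show (a * b).1 *ᵥ (Multiplicative.toAdd n i) = a.1 *ᵥ (b.1 *ᵥ (Multiplicative.toAdd n i))
    rw [Matrix.SpecialLinearGroup.coe_mul, Matrix.mulVec_mulVec]

theorem natModAct_apply (k : ℕ) (F : Type*) [Field F] (g : Matrix.SpecialLinearGroup (Fin 2) F)
    (n : natMod k F) (i : Fin k) :
    Multiplicative.toAdd (natModAct k F g n) i = g.1 *ᵥ (Multiplicative.toAdd n i) := rfl

/-- In characteristic two the centre of `SL(2, F)` is trivial. -/
theorem center_SL2_eq_bot (F : Type*) [Field F] [CharP F 2] :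
    Subgroup.center (Matrix.SpecialLinearGroup (Fin 2) F) = ⊥ := by
  rw [Subgroup.eq_bot_iff_forall]
  intro x hx
  rw [Matrix.SpecialLinearGroup.mem_center_iff] at hx
  obtain ⟨r, hr, hrx⟩ := hx
  have h2 : (2 : F) = 0 := CharTwo.two_eq_zero
  have hr1 : r = 1 := by
    rw [Fintype.card_fin] at hr
    have : (r - 1) ^ 2 = 0 := by linear_combination hr - r * h2 + h2
    have := pow_eq_zero_iff (two_ne_zero) |>.1 this
    exact sub_eq_zero.1 this
  apply Subtype.ext
  rw [← hrx, hr1]
  simp

/-- The action of `PSL(2, F)` on `k` copies of the natural module, in characteristic two. -/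
noncomputable def natModActPSL (k : ℕ) (F : Type*) [Field F] [CharP F 2] :
    Matrix.ProjectiveSpecialLinearGroup (Fin 2) F →* MulAut (natMod k F) :=
  QuotientGroup.lift (Subgroup.center (Matrix.SpecialLinearGroup (Fin 2) F)) (natModAct k F)
    (by rw [center_SL2_eq_bot]; exact bot_le)

theorem natModActPSL_mk (k : ℕ) (F : Type*) [Field F] [CharP F 2]
    (g : Matrix.SpecialLinearGroup (Fin 2) F) :
    natModActPSL k F (QuotientGroup.mk g) = natModAct k F g := rfl

theorem natMod_sq (k : ℕ) (F : Type*) [Field F] [CharP F 2] (n : natMod k F) : n ^ 2 = 1 := by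
  apply Multiplicative.toAdd.injective
  funext i
  funext j
  have h2 : (2 : F) = 0 := CharTwo.two_eq_zero
  simp only [toAdd_pow, toAdd_one, Pi.smul_apply, Pi.zero_apply, nsmul_eq_mul, Nat.cast_ofNat]
  rw [h2, zero_mul]

theorem natModActPSL_fix (k : ℕ) (F : Type*) [Field F] [CharP F 2]
    (l : Matrix.ProjectiveSpecialLinearGroup (Fin 2) F) (n : natMod k F)
    (hfix : natModActPSL k F l n = n) (hn : n ≠ 1) : l ^ 2 = 1 := by
  obtain ⟨g, rfl⟩ := QuotientGroup.mk_surjective l
  rw [natModActPSL_mk] at hfix
  have hne : ∃ i, Multiplicative.toAdd n i ≠ 0 := by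
    by_contra hcon
    push Not at hcon
    apply hn
    apply Multiplicative.toAdd.injective
    funext i
    exact hcon i
  obtain ⟨i, hi⟩ := hne
  have hfixi : g.1 *ᵥ (Multiplicative.toAdd n i) = Multiplicative.toAdd n i := by
    rw [← natModAct_apply, hfix]
  have hgg : g.1 * g.1 = 1 := sq_eq_one_of_fixed g.1 g.2 _ hi hfixi
  have : g ^ 2 = 1 := by
    apply Subtype.ext
    rw [pow_two, Matrix.SpecialLinearGroup.coe_mul, hgg, Matrix.SpecialLinearGroup.coe_one]
  rw [← QuotientGroup.mk_pow, this, QuotientGroup.mk_one]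

/-- `PSL(2, F)` has even order in characteristic two. -/
theorem two_dvd_card_PSL2 (F : Type*) [Field F] [Finite F] [CharP F 2] :
    2 ∣ Nat.card (Matrix.ProjectiveSpecialLinearGroup (Fin 2) F) := by
  classical
  let u : Matrix.SpecialLinearGroup (Fin 2) F := ⟨!![1, 1; 0, 1], by simp [Matrix.det_fin_two]⟩
  have hu2 : u ^ 2 = 1 := by
    apply Subtype.ext
    have h2 : (2 : F) = 0 := CharTwo.two_eq_zero
    rw [pow_two, Matrix.SpecialLinearGroup.coe_mul, Matrix.SpecialLinearGroup.coe_one]
    ext i j
    fin_cases i <;> fin_cases j <;> simp [u, Matrix.mul_apply, Fin.sum_univ_two]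
    linear_combination h2
  have hu1 : u ≠ 1 := by
    intro h
    have := congrArg (fun M : Matrix.SpecialLinearGroup (Fin 2) F => M.1 0 1) h
    simp [u] at this
  let l : Matrix.ProjectiveSpecialLinearGroup (Fin 2) F := QuotientGroup.mk u
  have hl2 : l ^ 2 = 1 := by
    rw [← QuotientGroup.mk_pow, hu2, QuotientGroup.mk_one]
  have hl1 : l ≠ 1 := by
    intro h
    rw [QuotientGroup.eq_one_iff, center_SL2_eq_bot, Subgroup.mem_bot] at h
    exact hu1 h
  have hord : orderOf l = 2 := orderOf_eq_prime hl2 hl1
  have hdvd := orderOf_dvd_natCard l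
  rwa [hord] at hdvd

end Cfsg.Agent.Helper61
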