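import Mathlib

set_option autoImplicit false

/-! A finite abelian group with a commuting family of endomorphisms acting irreducibly is the
additive group of a finite field, on which the endomorphisms act as multiplications
(Schur's lemma). -/

namespace Cfsg.Agent.Helper61

universe u v

open scoped IsMulCommutative

theorem exists_field_of_irreducible {K : Type u} [Group K] [Finite K] [Nontrivial K]
    (hcomm : ∀ x y : K, x * y = y * x) {H : Type v} (φ : H → K → K)
    (hmul : ∀ h x y, φ h (x * y) = φ h x * φ h y)
    (hinj : ∀ h, Function.Injective (φ h))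
    (hcommφ : ∀ h h' x, φ h (φ h' x) = φ h' (φ h x))
    (hirr : ∀ W : Subgroup K, (∀ h, ∀ w ∈ W, φ h w ∈ W) → W = ⊥ ∨ W = ⊤) :
    ∃ (R : Type u) (_ : Field R) (_ : Finite R) (ψ : R → K) (c : H → R),
      Function.Bijective ψ ∧ (∀ r s, ψ (r + s) = ψ r * ψ s) ∧ (∀ h, c h ≠ 0) ∧
      (∀ h r, ψ (c h * r) = φ h (ψ r)) := by
  classical
  letI : CommGroup K := { (inferInstance : Group K) with mul_comm := hcomm }
  -- the endomorphisms
  let f : H → AddMonoid.End (Additive K) := fun h =>
    AddMonoidHom.mk' (fun a => Additive.ofMul (φ h a.toMul)) (by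
      intro a b
      change Additive.ofMul (φ h (a.toMul * b.toMul)) = _
      rw [hmul]
      rfl)
  have hf : ∀ h a, f h a = Additive.ofMul (φ h a.toMul) := fun h a => rfl
  let S : Set (AddMonoid.End (Additive K)) := Set.range f
  have hS : ∀ x ∈ S, ∀ y ∈ S, x * y = y * x := by
    rintro _ ⟨h, rfl⟩ _ ⟨h', rfl⟩
    ext a
    change f h (f h' a) = f h' (f h a)
    rw [hf, hf, hf, hf]
    exact congrArg Additive.ofMul (hcommφ h h' _)
  let R := Subring.closure S
  have : IsMulCommutative R := Subring.isMulCommutative_closure hS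
  haveI hfinE : Finite (AddMonoid.End (Additive K)) :=
    Finite.of_injective (fun g : AddMonoid.End (Additive K) => (g : Additive K → Additive K))
      DFunLike.coe_injective
  haveI : Finite R := Subtype.finite
  have hfmem : ∀ h, f h ∈ R := fun h => Subring.subset_closure ⟨h, rfl⟩
  -- elements of `R` commute with the `f h`
  have hRcomm : ∀ (r : R) (h : H) (a : Additive K), r.1 (f h a) = f h (r.1 a) := by
    intro r h a
    have := mul_comm r ⟨f h, hfmem h⟩
    have h2 := congrArg (fun x : R => x.1 a) this
    exact h2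
  -- a nonzero element of `R` is injective
  have hRinj : ∀ r : R, r ≠ 0 → Function.Injective r.1 := by
    intro r hr
    let W : Subgroup K := (AddMonoidHom.ker r.1).toSubgroup'
    have hW : ∀ x : K, x ∈ W ↔ r.1 (Additive.ofMul x) = 0 := fun x => Iff.rfl
    have hinv : ∀ h, ∀ w ∈ W, φ h w ∈ W := by
      intro h w hw
      rw [hW] at hw ⊢
      have := hRcomm r h (Additive.ofMul w)
      rw [hf] at this
      change r.1 (Additive.ofMul (φ h w)) = _ at this
      rw [this, hw, map_zero]
    rcases hirr W hinv with h | h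
    · rw [injective_iff_map_eq_zero]
      intro a ha
      have : a.toMul ∈ W := (hW _).mpr ha
      rw [h, Subgroup.mem_bot] at this
      exact this
    · exfalso
      apply hr
      apply Subtype.ext
      ext a
      have : a.toMul ∈ W := by rw [h]; trivial
      exact (hW _).mp this
  have : Nontrivial R := by
    obtain ⟨x, hx⟩ := exists_ne (1 : K)
    refine ⟨⟨0, 1, ?_⟩⟩
    intro h01
    have := congrArg (fun r : R => r.1 (Additive.ofMul x)) h01
    simp only [Subring.coe_zero, Subring.coe_one] at this
    change (0 : Additive K) = Additive.ofMul x at this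
    exact hx (by simpa using this.symm)
  have : NoZeroDivisors R := by
    refine ⟨fun {a b} hab => ?_⟩
    by_contra hcon
    push Not at hcon
    have hinj' : Function.Injective (a * b).1 := by
      change Function.Injective (a.1 * b.1)
      exact (hRinj a hcon.1).comp (hRinj b hcon.2)
    rw [hab] at hinj'
    obtain ⟨x, hx⟩ := exists_ne (1 : K)
    have := hinj' (a₁ := Additive.ofMul x) (a₂ := 0) (by simp)
    exact hx (by simpa using this)
  have : IsDomain R := NoZeroDivisors.to_isDomain R
  have : Fintype R := Fintype.ofFinite R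
  let _ : Field R := Fintype.fieldOfDomain R
  obtain ⟨x₁, hx₁⟩ := exists_ne (1 : K)
  let a₁ : Additive K := Additive.ofMul x₁
  have ha₁ : a₁ ≠ 0 := fun h => hx₁ (by simpa [a₁] using h)
  let ψ : R → K := fun r => (r.1 a₁).toMul
  have hψadd : ∀ r s : R, ψ (r + s) = ψ r * ψ s := by
    intro r s
    change ((r.1 + s.1) a₁).toMul = _
    rfl
  have hψinj : Function.Injective ψ := by
    intro r s hrs
    by_contra hne
    have hsub : r - s ≠ 0 := sub_ne_zero.mpr hne
    have hi := hRinj (r - s) hsub
    have h0 : (r - s).1 a₁ = (r - s).1 0 := by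
      rw [map_zero]
      change r.1 a₁ - s.1 a₁ = 0
      rw [sub_eq_zero]
      exact congrArg Additive.ofMul hrs
    exact ha₁ (hi h0)
  have hψφ : ∀ (h : H) (r : R), ψ (⟨f h, hfmem h⟩ * r) = φ h (ψ r) := by
    intro h r
    change ((f h * r.1) a₁).toMul = _
    change (f h (r.1 a₁)).toMul = _
    rw [hf]
    rfl
  have hψsurj : Function.Surjective ψ := by
    let W : Subgroup K :=
      { carrier := Set.range ψ
        mul_mem' := by
          rintro _ _ ⟨r, rfl⟩ ⟨s, rfl⟩
          exact ⟨r + s, hψadd r s⟩
        one_mem' := ⟨0, by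
          change ((0 : AddMonoid.End (Additive K)) a₁).toMul = 1
          rfl⟩
        inv_mem' := by
          rintro _ ⟨r, rfl⟩
          refine ⟨-r, ?_⟩
          change ((-r.1) a₁).toMul = _
          rfl }
    have hinv : ∀ h, ∀ w ∈ W, φ h w ∈ W := by
      rintro h _ ⟨r, rfl⟩
      exact ⟨⟨f h, hfmem h⟩ * r, hψφ h r⟩
    rcases hirr W hinv with h | h
    · exfalso
      have : ψ 1 ∈ W := ⟨1, rfl⟩
      rw [h, Subgroup.mem_bot] at this
      apply hx₁
      exact this
    · intro y
      have : y ∈ W := by rw [h]; trivial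
      exact this
  refine ⟨R, inferInstance, inferInstance, ψ, fun h => ⟨f h, hfmem h⟩, ⟨hψinj, hψsurj⟩, hψadd,
    ?_, hψφ⟩
  intro h h0
  have := congrArg (fun r : R => r.1 a₁) h0
  simp only [Subring.coe_zero] at this
  change f h a₁ = 0 at this
  rw [hf] at this
  have h1 : φ h x₁ = 1 := by simpa [a₁] using this
  have h2 : φ h 1 = 1 := by
    have := hmul h 1 1
    rw [mul_one] at this
    exact mul_left_cancel (a := φ h 1) (by rw [← this, mul_one])
  exact hx₁ (hinj h (h1.trans h2.symm))

end Cfsg.Agent.Helper61
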