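import Mathlib

set_option autoImplicit false

/-! Field-theoretic lemmas: an involutive endomorphism of a finite field of order `p ^ f`, `f` odd,
is trivial; an additive bijection of such a field normalising an irreducible family of
multiplications and whose square is a multiplication is linear. -/

namespace Cfsg.Agent.Helper61.Zg

/-- the characteristic of a finite field of order `p ^ f` -/
theorem charP_of_natCard {R : Type*} [Field R] [Finite R] {p f : ℕ} (hp : p.Prime) (hf : f ≠ 0)
    (hcard : Nat.card R = p ^ f) : CharP R p := by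
  haveI : Fintype R := Fintype.ofFinite R
  obtain ⟨p', hchar⟩ := CharP.exists R
  obtain ⟨n, hp', hcard'⟩ := FiniteField.card R p'
  rw [Nat.card_eq_fintype_card, hcard'] at hcard
  have h1 : p ∣ p' ^ (n : ℕ) := by
    rw [hcard]
    exact dvd_pow_self p hf
  have h2 : p = p' := (Nat.prime_dvd_prime_iff_eq hp hp').mp (hp.dvd_of_dvd_pow h1)
  rw [h2]
  exact hchar

/-- an involutive ring endomorphism of a finite field of order `p ^ f`, `f` odd, is the
identity -/
theorem ringHom_eq_id_of_invol {R : Type*} [Field R] [Finite R] {p f : ℕ} (hp : p.Prime)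
    (hf : Odd f) (hcard : Nat.card R = p ^ f) (θ : R →+* R) (hθ : ∀ r, θ (θ r) = r) (r : R) :
    θ r = r := by
  haveI : Fact p.Prime := ⟨hp⟩
  haveI : Fintype R := Fintype.ofFinite R
  have hf0 : f ≠ 0 := by
    rintro rfl
    exact absurd hf (by decide)
  haveI : CharP R p := charP_of_natCard hp hf0 hcard
  letI : Algebra (ZMod p) R := ZMod.algebra R p
  let e : R ≃+* R :=
    { toFun := θ
      invFun := θ
      left_inv := hθ
      right_inv := hθ
      map_mul' := map_mul θ
      map_add' := map_add θ }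
  have he : ∀ x : ZMod p, e (algebraMap (ZMod p) R x) = algebraMap (ZMod p) R x := by
    intro x
    have := RingHom.ext_zmod ((e : R →+* R).comp (algebraMap (ZMod p) R)) (algebraMap (ZMod p) R)
    exact RingHom.congr_fun this x
  let a : R ≃ₐ[ZMod p] R := AlgEquiv.ofRingEquiv (f := e) he
  have hcardaut : Nat.card (R ≃ₐ[ZMod p] R) = f := by
    rw [IsGalois.card_aut_eq_finrank]
    have h1 := FiniteField.pow_finrank_eq_card p R
    rw [← Nat.card_eq_fintype_card, hcard] at h1
    exact Nat.pow_right_injective hp.two_le h1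
  have ha2 : a ^ 2 = 1 := by
    ext x
    change θ (θ x) = x
    exact hθ x
  have h1 : orderOf a ∣ 2 := orderOf_dvd_of_pow_eq_one ha2
  have h2 : orderOf a ∣ f := hcardaut ▸ orderOf_dvd_natCard a
  have h3 : orderOf a ∣ 1 := by
    have hc : Nat.Coprime 2 f := (Nat.coprime_two_left).mpr hf
    rw [← hc]
    exact Nat.dvd_gcd h1 h2
  have h4 : a = 1 := orderOf_eq_one_iff.mp (Nat.dvd_one.mp h3)
  have : a r = r := by rw [h4]; rfl
  exact this

/-- **Semilinear maps are linear.** -/
theorem linear_of_normalizes {R : Type*} [Field R] [Finite R] {p f : ℕ} (hp : p.Prime)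
    (hf : Odd f) (hcard : Nat.card R = p ^ f) {ι : Type*} (c : ι → R)
    (hirr : ∀ W : AddSubgroup R, (∀ i, ∀ w ∈ W, c i * w ∈ W) → W = ⊥ ∨ W = ⊤)
    (g : R → R) (hgadd : ∀ x y, g (x + y) = g x + g y) (hginj : Function.Injective g)
    (hnorm : ∀ i, ∃ r' : R, ∀ x, g (c i * x) = r' * g x)
    (c₂ : R) (hsq : ∀ x, g (g x) = c₂ * x) :
    ∀ r x, g (r * x) = r * g x := by
  have hg0 : g 0 = 0 := by
    have := hgadd 0 0
    rw [add_zero] at this
    exact left_eq_add.mp this
  have hgneg : ∀ x, g (-x) = - g x := by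
    intro x
    have := hgadd x (-x)
    rw [add_neg_cancel, hg0] at this
    exact (neg_eq_of_add_eq_zero_right this.symm).symm
  have hg1 : g 1 ≠ 0 := by
    intro h
    exact one_ne_zero (hginj (h.trans hg0.symm))
  -- the multipliers
  let L : AddSubgroup R :=
    { carrier := {r | ∃ r' : R, ∀ x, g (r * x) = r' * g x}
      add_mem' := by
        rintro r s ⟨r', hr⟩ ⟨s', hs⟩
        refine ⟨r' + s', fun x => ?_⟩
        rw [add_mul, hgadd, hr, hs, add_mul]
      zero_mem' := ⟨0, fun x => by rw [zero_mul, zero_mul, hg0]⟩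
      neg_mem' := by
        rintro r ⟨r', hr⟩
        refine ⟨-r', fun x => ?_⟩
        rw [neg_mul, hgneg, hr, neg_mul] }
  have hLmem : ∀ r, r ∈ L ↔ ∃ r' : R, ∀ x, g (r * x) = r' * g x := fun r => Iff.rfl
  have hLinv : ∀ i, ∀ w ∈ L, c i * w ∈ L := by
    intro i w hw
    obtain ⟨w', hw'⟩ := (hLmem w).mp hw
    obtain ⟨r', hr'⟩ := hnorm i
    rw [hLmem]
    refine ⟨r' * w', fun x => ?_⟩
    rw [mul_assoc, hr', hw', mul_assoc]
  have hL1 : (1 : R) ∈ L := (hLmem 1).mpr ⟨1, fun x => by rw [one_mul, one_mul]⟩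
  have hLtop : L = ⊤ := by
    rcases hirr L hLinv with h | h
    · exfalso
      rw [h, AddSubgroup.mem_bot] at hL1
      exact one_ne_zero hL1
    · exact h
  have hall : ∀ r, ∃ r' : R, ∀ x, g (r * x) = r' * g x := by
    intro r
    rw [← hLmem, hLtop]
    trivial
  choose θ hθ using hall
  have hθ1 : ∀ r, g r = θ r * g 1 := by
    intro r
    have := hθ r 1
    rwa [mul_one] at this
  have hθeq : ∀ r r', (∀ x, g (r * x) = r' * g x) → θ r = r' := by
    intro r r' h
    have h1 := h 1
    rw [hθ r 1] at h1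
    exact mul_right_cancel₀ hg1 h1
  let Θ : R →+* R :=
    { toFun := θ
      map_one' := hθeq 1 1 (fun x => by rw [one_mul, one_mul])
      map_mul' := by
        intro r s
        apply hθeq
        intro x
        rw [mul_assoc, hθ, hθ, mul_assoc]
      map_zero' := hθeq 0 0 (fun x => by rw [zero_mul, zero_mul, hg0])
      map_add' := by
        intro r s
        apply hθeq
        intro x
        rw [add_mul, hgadd, hθ, hθ, add_mul] }
  have hc₂ : c₂ ≠ 0 := by
    intro h
    have := hsq 1
    rw [h, zero_mul] at this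
    exact hg1 (hginj (this.trans hg0.symm))
  have hΘ2 : ∀ r, Θ (Θ r) = r := by
    intro r
    have h1 : g (g (r * 1)) = θ (θ r) * g (g 1) := by
      rw [hθ r 1, hθ (θ r) (g 1)]
    rw [hsq, hsq, mul_one, mul_one] at h1
    have h2 : r * c₂ = θ (θ r) * c₂ := by rw [mul_comm r c₂]; exact h1
    exact (mul_right_cancel₀ hc₂ h2).symm
  have hid := ringHom_eq_id_of_invol hp hf hcard Θ hΘ2
  intro r x
  rw [hθ r x]
  congr 1
  exact hid r

end Cfsg.Agent.Helper61.Zg
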