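import Mathlib
import Cfsg.Agent.Helper61.ZgSemi

set_option autoImplicit false

/-! Field-theoretic lemmas for semi-affine groups: an additive injection of a field normalising all
multiplications is semilinear; a group acting faithfully by ring automorphisms on a field of order
`p ^ f` has order dividing `f`. -/

namespace Cfsg.Agent.Helper61.Zpo

open Cfsg.Agent.Helper61.Zg

/-- an additive injection normalising the multiplications is semilinear -/
theorem exists_semilinear {R : Type*} [Field R] (g : R → R)
    (hgadd : ∀ x y, g (x + y) = g x + g y) (hginj : Function.Injective g)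
    (hall : ∀ r, ∃ r' : R, ∀ x, g (r * x) = r' * g x) :
    ∃ θ : R →+* R, ∀ r x, g (r * x) = θ r * g x := by
  have hg0 : g 0 = 0 := by
    have := hgadd 0 0
    rw [add_zero] at this
    exact left_eq_add.mp this
  have hg1 : g 1 ≠ 0 := by
    intro h
    exact one_ne_zero (hginj (h.trans hg0.symm))
  choose θ hθ using hall
  have hθeq : ∀ r r', (∀ x, g (r * x) = r' * g x) → θ r = r' := by
    intro r r' h
    have h1 := h 1
    rw [hθ r 1] at h1
    exact mul_right_cancel₀ hg1 h1
  refine ⟨{ toFun := θ
            map_one' := hθeq 1 1 (fun x => by rw [one_mul, one_mul])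
            map_mul' := by
              intro r s
              apply hθeq
              intro x
              rw [mul_assoc, hθ, hθ, mul_assoc]
            map_zero' := hθeq 0 0 (fun x => by rw [zero_mul, zero_mul, hg0])
            map_add' := by
              intro r s
              apply hθeq
              intro x
              rw [add_mul, hgadd, hθ, hθ, add_mul] }, ?_⟩
  intro r x
  exact hθ r x

/-- the ring automorphisms of a finite field of order `p ^ f` as algebra automorphisms -/
noncomputable def ringAutToAlg {R : Type*} [Field R] (p : ℕ) [Fact p.Prime] [CharP R p] :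
    RingAut R →* (letI : Algebra (ZMod p) R := ZMod.algebra R p; R ≃ₐ[ZMod p] R) :=
  letI : Algebra (ZMod p) R := ZMod.algebra R p
  { toFun := fun e => AlgEquiv.ofRingEquiv (f := e) (fun x => by
      have := RingHom.ext_zmod ((e : R →+* R).comp (algebraMap (ZMod p) R))
        (algebraMap (ZMod p) R)
      exact RingHom.congr_fun this x)
    map_one' := by
      ext x
      rfl
    map_mul' := by
      intro e e'
      ext x
      rfl }

theorem ringAutToAlg_injective {R : Type*} [Field R] (p : ℕ) [Fact p.Prime] [CharP R p] :
    Function.Injective (ringAutToAlg (R := R) p) := by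
  intro e e' h
  ext x
  letI : Algebra (ZMod p) R := ZMod.algebra R p
  have := congrArg (fun a : R ≃ₐ[ZMod p] R => a x) h
  exact this

/-- a group acting faithfully by ring automorphisms on a field of order `p ^ f` has order dividing
`f` -/
theorem card_dvd_of_injective_ringAut {R : Type*} [Field R] [Finite R] {p f : ℕ} (hp : p.Prime)
    (hf : f ≠ 0) (hcard : Nat.card R = p ^ f) {H : Type*} [Group H] [Finite H]
    (Θ : H →* RingAut R) (hΘ : Function.Injective Θ) : Nat.card H ∣ f := by
  haveI : Fact p.Prime := ⟨hp⟩
  haveI : Fintype R := Fintype.ofFinite R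
  haveI : CharP R p := charP_of_natCard hp hf hcard
  letI : Algebra (ZMod p) R := ZMod.algebra R p
  have hcardaut : Nat.card (R ≃ₐ[ZMod p] R) = f := by
    rw [IsGalois.card_aut_eq_finrank]
    have h1 := FiniteField.pow_finrank_eq_card p R
    rw [← Nat.card_eq_fintype_card, hcard] at h1
    exact Nat.pow_right_injective hp.two_le h1
  have h1 := Subgroup.card_dvd_of_injective ((ringAutToAlg (R := R) p).comp Θ)
    ((ringAutToAlg_injective p).comp hΘ)
  rw [hcardaut] at h1
  exact h1

end Cfsg.Agent.Helper61.Zpo
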