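import Mathlib
import Cfsg.Agent.Helper96.PSLTwoElt

set_option autoImplicit false

/-! # Transport of `PSL` along a ring isomorphism -/

namespace Cfsg.Agent.Helper61

theorem map_center_mulEquiv {A B : Type*} [Group A] [Group B] (e : A ≃* B) :
    (Subgroup.center A).map (e : A →* B) = Subgroup.center B := by
  ext b
  rw [Subgroup.mem_map]
  constructor
  · rintro ⟨a, ha, rfl⟩
    rw [Subgroup.mem_center_iff] at ha ⊢
    intro g
    have := ha (e.symm g)
    have h2 := congrArg e this
    simpa using h2
  · intro hb
    refine ⟨e.symm b, ?_, by simp⟩
    rw [Subgroup.mem_center_iff] at hb ⊢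
    intro g
    have := hb (e g)
    apply e.injective
    simpa using this

/-- a ring isomorphism induces an isomorphism of projective special linear groups -/
noncomputable def pslCongr {n : Type} [Fintype n] [DecidableEq n] {R S : Type*} [CommRing R]
    [CommRing S] (e : R ≃+* S) :
    Matrix.ProjectiveSpecialLinearGroup n R ≃* Matrix.ProjectiveSpecialLinearGroup n S :=
  QuotientGroup.congr (Subgroup.center (Matrix.SpecialLinearGroup n R))
    (Subgroup.center (Matrix.SpecialLinearGroup n S)) (Cfsg.Agent.Helper96.slMapEquiv e)
    (map_center_mulEquiv _)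

end Cfsg.Agent.Helper61
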