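import Mathlib

set_option autoImplicit false

/-! Basic lemmas on subgroups of index two: lifting along surjections, finite `2`-groups,
finite abelian groups of even order. -/

namespace Cfsg.Agent.Helper61.S3t

variable {H : Type*} [Group H]

/-- "`H` has a subgroup of index two" -/
def HasIdx2 (H : Type*) [Group H] : Prop := ∃ N : Subgroup H, N.index = 2

theorem HasIdx2.of_surjective {A : Type*} [Group A] (f : H →* A) (hf : Function.Surjective f)
    (h : HasIdx2 A) : HasIdx2 H := by
  obtain ⟨N, hN⟩ := h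
  exact ⟨N.comap f, by rw [Subgroup.index_comap_of_surjective N hf]; exact hN⟩

theorem HasIdx2.of_quotient (M : Subgroup H) [M.Normal] (h : HasIdx2 (H ⧸ M)) : HasIdx2 H :=
  HasIdx2.of_surjective (QuotientGroup.mk' M) (QuotientGroup.mk'_surjective M) h

theorem HasIdx2.of_mulEquiv {A : Type*} [Group A] (e : H ≃* A) (h : HasIdx2 A) : HasIdx2 H :=
  HasIdx2.of_surjective e.toMonoidHom e.surjective h

/-- through the range of a homomorphism -/
theorem HasIdx2.of_range {A : Type*} [Group A] (f : H →* A) (h : HasIdx2 f.range) : HasIdx2 H :=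
  HasIdx2.of_surjective f.rangeRestrict f.rangeRestrict_surjective h

/-- a nontrivial finite `2`-group has a subgroup of index two -/
theorem hasIdx2_of_two_group {P : Type*} [Group P] [Finite P] (hP : IsPGroup 2 P)
    [Nontrivial P] : HasIdx2 P := by
  have : Fact (Nat.Prime 2) := ⟨Nat.prime_two⟩
  obtain ⟨k, hk⟩ := IsPGroup.iff_card.mp hP
  have hk0 : k ≠ 0 := by
    rintro rfl
    have h1 := Finite.one_lt_card (α := P)
    rw [hk] at h1
    simp at h1
  obtain ⟨j, rfl⟩ := Nat.exists_eq_succ_of_ne_zero hk0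
  have hdvd : 2 ^ j ∣ Nat.card P := by
    rw [hk]
    exact pow_dvd_pow 2 (Nat.le_succ j)
  obtain ⟨N, hN⟩ := Sylow.exists_subgroup_card_pow_prime 2 hdvd
  refine ⟨N, ?_⟩
  have h1 := N.card_mul_index
  rw [hN, hk, pow_succ] at h1
  have hpos : 0 < 2 ^ j := by positivity
  exact Nat.eq_of_mul_eq_mul_left hpos h1

/-- a finite abelian group of even order has a subgroup of index two -/
theorem hasIdx2_of_comm {A : Type*} [CommGroup A] [Finite A] (h : Even (Nat.card A)) :
    HasIdx2 A := by
  have : Fact (Nat.Prime 2) := ⟨Nat.prime_two⟩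
  obtain ⟨t, ht⟩ := exists_prime_orderOf_dvd_card' (G := A) 2 (even_iff_two_dvd.mp h)
  -- write the order as `2 ^ k * m` with `m` odd
  obtain ⟨k, m, hm, hkm⟩ := Nat.exists_eq_two_pow_mul_odd (Nat.card_pos (α := A)).ne'
  let f : A →* A := powMonoidHom m
  have hrange : IsPGroup 2 f.range := by
    rintro ⟨_, a, rfl⟩
    refine ⟨k, ?_⟩
    apply Subtype.ext
    change (a ^ m) ^ 2 ^ k = 1
    rw [← pow_mul, mul_comm, ← hkm]
    exact pow_card_eq_one'
  have hnt : Nontrivial f.range := by
    refine ⟨⟨⟨f t, t, rfl⟩, 1, ?_⟩⟩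
    intro h1
    have h2 : t ^ m = 1 := congrArg Subtype.val h1
    have h3 : orderOf t ∣ m := orderOf_dvd_of_pow_eq_one h2
    rw [ht] at h3
    exact (Nat.not_even_iff_odd.mpr hm) (even_iff_two_dvd.mpr h3)
  exact HasIdx2.of_range f (hasIdx2_of_two_group hrange)

/-- a homomorphism to a commutative group whose range has even order -/
theorem HasIdx2.of_comm_range [Finite H] {A : Type*} [CommGroup A] (f : H →* A)
    (h : Even (Nat.card f.range)) : HasIdx2 H := by
  have : Finite f.range := Finite.of_surjective f.rangeRestrict f.rangeRestrict_surjective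
  exact HasIdx2.of_range f (hasIdx2_of_comm h)

/-- a homomorphism whose range is a nontrivial `2`-group -/
theorem HasIdx2.of_two_group_range [Finite H] {A : Type*} [Group A] (f : H →* A)
    (h : IsPGroup 2 f.range) (hnt : ∃ x, f x ≠ 1) : HasIdx2 H := by
  have : Finite f.range := Finite.of_surjective f.rangeRestrict f.rangeRestrict_surjective
  have : Nontrivial f.range := by
    obtain ⟨x, hx⟩ := hnt
    exact ⟨⟨⟨f x, x, rfl⟩, 1, fun h1 => hx (congrArg Subtype.val h1)⟩⟩
  exact HasIdx2.of_range f (hasIdx2_of_two_group h)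

end Cfsg.Agent.Helper61.S3t
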