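import Mathlib
import Cfsg.Agent.Helper61.S3tBasic

set_option autoImplicit false

/-! General lemmas for the abstract index-two theorem: homomorphisms to `ℤˣ` versus subgroups of
index two, invariant characters, fixed-point-free involutory automorphisms, groups in which
commuting elements of equal prime order generate the same subgroup. -/

namespace Cfsg.Agent.Helper61.S3t

variable {H : Type*} [Group H]

/-- the character of a subgroup of index two -/
noncomputable def homOfIdx2 (N : Subgroup H) (hN : N.index = 2) : H →* ℤˣ := by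
  classical
  exact
  { toFun := fun x => if x ∈ N then 1 else -1
    map_one' := by simp [N.one_mem]
    map_mul' := by
      intro a b
      have h := Subgroup.mul_mem_iff_of_index_two hN (a := a) (b := b)
      by_cases ha : a ∈ N <;> by_cases hb : b ∈ N <;> simp [h, ha, hb] }

theorem homOfIdx2_eq_one_iff (N : Subgroup H) (hN : N.index = 2) (x : H) :
    homOfIdx2 N hN x = 1 ↔ x ∈ N := by
  classical
  show (if x ∈ N then (1 : ℤˣ) else -1) = 1 ↔ x ∈ N
  by_cases hx : x ∈ N
  · simp [hx]
  · simp only [hx, if_false, iff_false]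
    decide

theorem homOfIdx2_ne_one (N : Subgroup H) (hN : N.index = 2) : homOfIdx2 N hN ≠ 1 := by
  intro h
  have h1 : ∀ x, x ∈ N := fun x => by
    rw [← homOfIdx2_eq_one_iff N hN, h]; rfl
  have : N = ⊤ := (Subgroup.eq_top_iff' N).mpr h1
  rw [this, Subgroup.index_top] at hN
  norm_num at hN

theorem HasIdx2.exists_hom (h : HasIdx2 H) : ∃ ψ : H →* ℤˣ, ψ ≠ 1 := by
  obtain ⟨N, hN⟩ := h
  exact ⟨homOfIdx2 N hN, homOfIdx2_ne_one N hN⟩

/-- the kernel of a nontrivial character has index two -/
theorem index_ker_of_ne_one (ψ : H →* ℤˣ) (hψ : ψ ≠ 1) : ψ.ker.index = 2 := by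
  rw [Subgroup.index_ker]
  obtain ⟨x, hx⟩ : ∃ x, ψ x ≠ 1 := by
    by_contra hcon
    push Not at hcon
    exact hψ (MonoidHom.ext hcon)
  have hx' : ψ x = -1 := by
    rcases Int.units_eq_one_or (ψ x) with h | h
    · exact absurd h hx
    · exact h
  have htop : ψ.range = ⊤ := by
    rw [Subgroup.eq_top_iff']
    intro u
    rcases Int.units_eq_one_or u with h | h
    · rw [h]; exact Subgroup.one_mem _
    · rw [h, ← hx']; exact ⟨x, rfl⟩
  rw [htop, Subgroup.card_top]
  simp

/-- an invariant nontrivial character from an arbitrary one -/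
theorem exists_invariant_hom (σ : H ≃* H) (hσ : ∀ x, σ (σ x) = x) (ψ : H →* ℤˣ) (hψ : ψ ≠ 1) :
    ∃ χ : H →* ℤˣ, χ ≠ 1 ∧ ∀ x, χ (σ x) = χ x := by
  by_cases h : ∀ x, ψ (σ x) = ψ x
  · exact ⟨ψ, hψ, h⟩
  · refine ⟨ψ * ψ.comp σ.toMonoidHom, ?_, ?_⟩
    · intro h1
      apply h
      intro x
      have h2 : ψ x * ψ (σ x) = 1 := by
        have := DFunLike.congr_fun h1 x
        simpa using this
      have h3 : ψ (σ x) * ψ (σ x) = 1 := Int.units_mul_self _
      calc ψ (σ x) = (ψ x * ψ (σ x)) * ψ (σ x) := by rw [h2, one_mul]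
        _ = ψ x * (ψ (σ x) * ψ (σ x)) := by rw [mul_assoc]
        _ = ψ x := by rw [h3, mul_one]
    · intro x
      show ψ (σ x) * ψ (σ (σ x)) = ψ x * ψ (σ x)
      rw [hσ, mul_comm]

/-- an involutory automorphism without nontrivial fixed points on an invariant finite subgroup
inverts it -/
theorem inverts_of_fpf [Finite H] (σ : H ≃* H) (hσ : ∀ x, σ (σ x) = x) (Y : Subgroup H)
    (hY : ∀ y ∈ Y, σ y ∈ Y) (hfix : ∀ y ∈ Y, σ y = y → y = 1) : ∀ y ∈ Y, σ y = y⁻¹ := by
  let f : Y → Y := fun y => ⟨y.1⁻¹ * σ y.1, Y.mul_mem (Y.inv_mem y.2) (hY y.1 y.2)⟩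
  have hinj : Function.Injective f := by
    intro y y' hyy
    have h1 : y.1⁻¹ * σ y.1 = y'.1⁻¹ * σ y'.1 := congrArg Subtype.val hyy
    have h2 : σ (y'.1 * y.1⁻¹) = y'.1 * y.1⁻¹ := by
      rw [map_mul, map_inv]
      have e1 : σ y.1 = y.1 * (y'.1⁻¹ * σ y'.1) := by rw [← h1]; group
      rw [e1]; group
    have h3 := hfix _ (Y.mul_mem y'.2 (Y.inv_mem y.2)) h2
    apply Subtype.ext
    exact (mul_inv_eq_one.mp h3).symm
  have hsurj : Function.Surjective f := Finite.injective_iff_surjective.mp hinj
  intro y hy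
  obtain ⟨w, hw⟩ := hsurj ⟨y, hy⟩
  have hw' : y = w.1⁻¹ * σ w.1 := (congrArg Subtype.val hw).symm
  rw [hw', map_mul, map_inv, hσ]
  group

/-- a subgroup inverted by an automorphism is abelian -/
theorem comm_of_inverts (σ : H ≃* H) (Y : Subgroup H) (hinv : ∀ y ∈ Y, σ y = y⁻¹) {a b : H}
    (ha : a ∈ Y) (hb : b ∈ Y) : a * b = b * a := by
  have h1 := hinv _ (Y.mul_mem ha hb)
  rw [map_mul, hinv a ha, hinv b hb, mul_inv_rev] at h1
  have h2 : (a⁻¹ * b⁻¹)⁻¹ = (b⁻¹ * a⁻¹)⁻¹ := congrArg (·⁻¹) h1
  simpa using h2.symm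

/-- two-power elements lie in the commutator subgroup when there is no subgroup of index two -/
theorem two_pow_mem_commutator [Finite H] (hno : ¬ HasIdx2 H) {x : H} {k : ℕ}
    (hx : x ^ 2 ^ k = 1) : x ∈ commutator H := by
  by_contra hxc
  apply hno
  apply HasIdx2.of_surjective (Abelianization.of (G := H)) (QuotientGroup.mk'_surjective (commutator H))
  apply hasIdx2_of_comm
  have h1 : Abelianization.of x ≠ 1 := by
    intro h
    apply hxc
    rw [← Abelianization.ker_of (G := H)]
    exact h
  have h2 : (Abelianization.of x) ^ 2 ^ k = 1 := by rw [← map_pow, hx, map_one]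
  have h3 : orderOf (Abelianization.of x) ∣ 2 ^ k := orderOf_dvd_of_pow_eq_one h2
  have h4 : orderOf (Abelianization.of x) ≠ 1 := fun h => h1 (orderOf_eq_one_iff.mp h)
  obtain ⟨j, hj, hj2⟩ := (Nat.dvd_prime_pow Nat.prime_two).mp h3
  have hj0 : j ≠ 0 := by
    rintro rfl
    exact h4 (by simpa using hj2)
  have h5 : 2 ∣ orderOf (Abelianization.of x) := by
    rw [hj2]; exact dvd_pow_self 2 hj0
  exact even_iff_two_dvd.mpr (h5.trans (orderOf_dvd_natCard _))

/-- In a finite group where commuting elements of equal prime order generate the same subgroup,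
commuting elements generate a cyclic group. -/
theorem mem_zpowers_of_commute [Finite H]
    (hcyc : ∀ p : ℕ, p.Prime → ∀ u v : H, u ≠ 1 → u ^ p = 1 → v ^ p = 1 → u * v = v * u →
      v ∈ Subgroup.zpowers u) :
    ∀ (n : ℕ) (y y' : H), orderOf y = n → y * y' = y' * y → y' ^ n = 1 →
      y' ∈ Subgroup.zpowers y := by
  intro n
  induction n using Nat.strong_induction_on with
  | _ n ih =>
    intro y y' hy hc hy'
    by_cases hn1 : n = 1
    · rw [hn1, pow_one] at hy'
      rw [hy']; exact Subgroup.one_mem _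
    have hnpos : 0 < n := by rw [← hy]; exact orderOf_pos y
    obtain ⟨p, hp, hpn⟩ := Nat.exists_prime_and_dvd hn1
    obtain ⟨m, rfl⟩ := hpn
    have hmpos : 0 < m := Nat.pos_of_mul_pos_left hnpos
    have hmlt : m < p * m := by
      have := hp.two_le
      nlinarith
    -- order of `y ^ p`
    have ho : orderOf (y ^ p) = m := by
      rw [orderOf_pow_of_dvd hp.pos.ne' (by rw [hy]; exact dvd_mul_right p m), hy]
      exact Nat.mul_div_cancel_left m hp.pos
    have hc' : y ^ p * y' ^ p = y' ^ p * y ^ p := by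
      have : Commute (y ^ p) (y' ^ p) := (Commute.pow_pow (show Commute y y' from hc) p p)
      exact this
    have h1 : y' ^ p ∈ Subgroup.zpowers (y ^ p) := by
      apply ih m hmlt (y ^ p) (y' ^ p) ho hc'
      rw [← pow_mul]; exact hy'
    obtain ⟨j, hj⟩ := Subgroup.mem_zpowers_iff.mp h1
    -- `w = y' * y ^ (-j)` has order dividing `p`
    set w : H := y' * (y ^ j)⁻¹ with hw
    have hcj : Commute y' (y ^ j) := ((show Commute y y' from hc).symm.zpow_right j)
    have hwp : w ^ p = 1 := by
      rw [hw, (hcj.inv_right).mul_pow, inv_pow, ← zpow_natCast (y ^ j), ← zpow_mul, mul_comm j,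
        zpow_mul, zpow_natCast, hj]
      exact mul_inv_cancel _
    -- `u = y ^ m` has order `p`
    set u : H := y ^ m with hu
    have hup : u ^ p = 1 := by
      rw [hu, ← pow_mul, mul_comm, ← hy]; exact pow_orderOf_eq_one y
    have hu1 : u ≠ 1 := by
      intro h
      have := orderOf_dvd_of_pow_eq_one h
      rw [hy] at this
      have := Nat.le_of_dvd hmpos this
      omega
    have huw : u * w = w * u := by
      have h1 : Commute y w := by
        rw [hw]
        exact (show Commute y y' from hc).mul_right ((Commute.refl y).zpow_right j).inv_right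
      exact (h1.pow_left m)
    have h2 := hcyc p hp u w hu1 hup hwp huw
    have h3 : w ∈ Subgroup.zpowers y :=
      (Subgroup.zpowers_le.mpr (Subgroup.npow_mem_zpowers y m)) h2
    have h4 : y' = w * y ^ j := by rw [hw]; group
    rw [h4]
    exact Subgroup.mul_mem _ h3 (Subgroup.zpow_mem_zpowers y j)

/-- all subgroups of order two of a group with at most one involution coincide -/
theorem unique_sub2 {T : Type*} [Group T] (z : T) (hz : ∀ x : T, orderOf x = 2 → x = z)
    (A B : Subgroup T) (hA : Nat.card A = 2) (hB : Nat.card B = 2) : A = B := by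
  have key : ∀ A : Subgroup T, Nat.card A = 2 → A = Subgroup.zpowers z := by
    intro A hA
    have : Finite A := Nat.finite_of_card_ne_zero (by omega)
    have : Fact (Nat.Prime 2) := ⟨Nat.prime_two⟩
    obtain ⟨x, hx⟩ := exists_prime_orderOf_dvd_card' (G := A) 2 (by rw [hA])
    have hx' : orderOf x.1 = 2 := by rw [Subgroup.orderOf_coe]; exact hx
    have hxz : x.1 = z := hz x.1 hx'
    have hle : Subgroup.zpowers z ≤ A := by
      rw [Subgroup.zpowers_le, ← hxz]; exact x.2
    symm
    apply Subgroup.eq_of_le_of_card_ge hle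
    rw [hA, Nat.card_zpowers, ← hxz, hx']
  rw [key A hA, key B hB]

end Cfsg.Agent.Helper61.S3t
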