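import Mathlib
import Cfsg.Agent.Helper61.S3tAbsA
import Cfsg.Agent.S2910
import Cfsg.Agent.S0086

set_option autoImplicit false

/-! Abstract index-two theorem, step U: if a finite group without subgroups of index two has all
elements of order three in one cyclic subgroup, then the elements of order prime to three form a
normal subgroup of index a power of three, and the elements of order three are central. -/

namespace Cfsg.Agent.Helper61.S3t

variable {H : Type*} [Group H] [Finite H]

theorem conj_order3 (h3 : ∀ r r' : H, orderOf r = 3 → orderOf r' = 3 → r' ∈ Subgroup.zpowers r)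
    {r : H} (hr : orderOf r = 3) (g : H) : g * r * g⁻¹ = r ∨ g * r * g⁻¹ = r⁻¹ := by
  have ho : orderOf (g * r * g⁻¹) = 3 := by
    have := MulEquiv.orderOf_eq (MulAut.conj g) r
    rw [MulAut.conj_apply] at this
    rw [this, hr]
  classical
  have hmem := h3 r _ hr ho
  rw [mem_zpowers_iff_mem_range_orderOf, hr] at hmem
  simp only [Finset.mem_image, Finset.mem_range] at hmem
  obtain ⟨j, hj, hjr⟩ := hmem
  have hr3 : r ^ 3 = 1 := by rw [← hr]; exact pow_orderOf_eq_one r
  interval_cases j
  · exfalso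
    rw [pow_zero] at hjr
    rw [← hjr, orderOf_one] at ho
    norm_num at ho
  · left; rw [← hjr, pow_one]
  · right
    rw [← hjr]
    apply eq_inv_of_mul_eq_one_left
    rw [← pow_succ, hr3]

/-- elements of order three are central -/
theorem order3_central (hno : ¬ HasIdx2 H)
    (h3 : ∀ r r' : H, orderOf r = 3 → orderOf r' = 3 → r' ∈ Subgroup.zpowers r)
    {r : H} (hr : orderOf r = 3) : r ∈ Subgroup.center H := by
  by_contra hnc
  apply hno
  have hr3 : r ^ 3 = 1 := by rw [← hr]; exact pow_orderOf_eq_one r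
  have hrinv : r⁻¹ ≠ r := by
    intro h
    have h2 : r * r = 1 := by
      calc r * r = r⁻¹ * r := by rw [h]
        _ = 1 := inv_mul_cancel r
    have h4 : r ^ 2 = 1 := by rw [pow_two]; exact h2
    have := orderOf_dvd_of_pow_eq_one h4
    rw [hr] at this
    norm_num at this
  obtain ⟨g0, hg0⟩ : ∃ g : H, g * r * g⁻¹ ≠ r := by
    by_contra hcon
    push Not at hcon
    apply hnc
    rw [Subgroup.mem_center_iff]
    intro g
    have := hcon g
    calc g * r = (g * r * g⁻¹) * g := by group
      _ = r * g := by rw [this]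
  have hg0' : g0 * r * g0⁻¹ = r⁻¹ := by
    rcases conj_order3 h3 hr g0 with h | h
    · exact absurd h hg0
    · exact h
  refine ⟨Subgroup.centralizer {r}, ?_⟩
  rw [Subgroup.index_eq_two_iff]
  refine ⟨g0, fun b => ?_⟩
  have hmem : ∀ x : H, x ∈ Subgroup.centralizer {r} ↔ x * r * x⁻¹ = r := by
    intro x
    rw [Subgroup.mem_centralizer_iff]
    constructor
    · intro h
      have := h r (Set.mem_singleton r)
      calc x * r * x⁻¹ = (r * x) * x⁻¹ := by rw [this]
        _ = r := by group
    · intro h y hy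
      rw [Set.mem_singleton_iff] at hy
      subst hy
      calc y * x = (x * y * x⁻¹) * x := by rw [h]
        _ = x * y := by group
  rw [hmem, hmem]
  have e : b * g0 * r * (b * g0)⁻¹ = b * (g0 * r * g0⁻¹) * b⁻¹ := by group
  rw [e, hg0']
  have e2 : b * r⁻¹ * b⁻¹ = (b * r * b⁻¹)⁻¹ := by group
  rw [e2]
  rcases conj_order3 h3 hr b with h | h
  · right
    refine ⟨h, ?_⟩
    rw [h]
    exact hrinv
  · left
    refine ⟨?_, ?_⟩
    · rw [h, inv_inv]
    · rw [h]
      exact hrinv

/-- Step U -/
theorem exists_three_compl (hno : ¬ HasIdx2 H)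
    (h3 : ∀ r r' : H, orderOf r = 3 → orderOf r' = 3 → r' ∈ Subgroup.zpowers r) :
    ∃ M : Subgroup H, M.Normal ∧ (∀ x, x ∈ M ↔ (orderOf x).Coprime 3) ∧ ∃ e : ℕ, M.index = 3 ^ e := by
  haveI : Fact (Nat.Prime 3) := ⟨Nat.prime_three⟩
  by_cases hdiv : 3 ∣ Nat.card H
  · obtain ⟨P⟩ : Nonempty (Sylow 3 H) := inferInstance
    have hZ : Cfsg.omegaOne 3 (P : Subgroup H) ≤ Subgroup.center H := by
      unfold Cfsg.omegaOne
      rw [Subgroup.closure_le]
      rintro x ⟨-, hx3⟩
      by_cases hx1 : x = 1
      · rw [hx1]; exact Subgroup.one_mem _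
      · exact order3_central hno h3 (orderOf_eq_prime hx3 hx1)
    obtain ⟨⟨P', N, hNn, hN⟩, -⟩ := Cfsg.Agent.S2910.result (by norm_num) hdiv P hZ
    haveI := hNn
    refine ⟨N, hNn, fun x => Cfsg.Agent.S0086.result P' N hN x, ?_⟩
    obtain ⟨e, he⟩ := IsPGroup.iff_card.mp P'.isPGroup'
    refine ⟨e, ?_⟩
    have h1 := hN.card_mul_card
    have h2 := N.card_mul_index
    rw [he] at h1
    have hpos : 0 < Nat.card N := Nat.card_pos
    have : Nat.card N * N.index = Nat.card N * 3 ^ e := by rw [h2, h1]
    exact Nat.eq_of_mul_eq_mul_left hpos this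
  · refine ⟨⊤, inferInstance, fun x => ?_, 0, by simp⟩
    simp only [Subgroup.mem_top, true_iff]
    rw [Nat.coprime_comm, Nat.Prime.coprime_iff_not_dvd Nat.prime_three]
    intro h
    exact hdiv (h.trans (orderOf_dvd_natCard x))

end Cfsg.Agent.Helper61.S3t
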