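import Mathlib

set_option autoImplicit false

/-! Automorphisms of generalised quaternion groups: an automorphism of odd order of the
quaternion group of order `2 ^ (n + 2)`, `n ≥ 2`, is trivial; counting generating pairs of the
quaternion group of order eight. -/

namespace Cfsg.Agent.Helper61.S3t

open QuaternionGroup

theorem quat_aut_odd {n : ℕ} (hn : 2 ≤ n) (ψ : MulAut (QuaternionGroup (2 ^ n))) {m : ℕ}
    (hm : Odd m) (hψ : ψ ^ m = 1) : ψ = 1 := by
  haveI : NeZero (2 * 2 ^ n) := ⟨by positivity⟩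
  have h8 : 8 ≤ 2 * 2 ^ n := by
    have : 2 ^ 2 ≤ 2 ^ n := Nat.pow_le_pow_right (by norm_num) hn
    omega
  -- step 1
  obtain ⟨j, hj⟩ : ∃ j, ψ (a 1) = a j := by
    have ho : orderOf (ψ (a 1)) = 2 * 2 ^ n := by
      rw [MulEquiv.orderOf_eq, orderOf_a_one]
    cases hx : ψ (a 1) with
    | a j => exact ⟨j, rfl⟩
    | xa i =>
      exfalso
      rw [hx, orderOf_xa] at ho
      omega
  have hpow : ∀ (i : ZMod (2 * 2 ^ n)) (v : ℕ), (a i : QuaternionGroup (2 ^ n)) ^ v = a ((v : ZMod (2 * 2 ^ n)) * i) := by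
    intro i v
    induction v with
    | zero =>
      rw [pow_zero, one_def]
      congr 1
      push_cast
      ring
    | succ v ih =>
      rw [pow_succ, ih, a_mul_a]
      congr 1
      push_cast
      ring
  have ha : ∀ i : ZMod (2 * 2 ^ n), ψ (a i) = a (i * j) := by
    intro i
    have h1 : (a i : QuaternionGroup (2 ^ n)) = a 1 ^ i.val := by
      rw [a_one_pow, ZMod.natCast_zmod_val]
    rw [h1, map_pow, hj, hpow, ZMod.natCast_zmod_val]
  have hiter : ∀ k : ℕ, (ψ ^ k) (a 1) = a (j ^ k) := by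
    intro k
    induction k with
    | zero => simp
    | succ k ih =>
      rw [pow_succ', MulAut.mul_apply, ih, ha, pow_succ]
  have hjm : j ^ m = 1 := by
    have h1 := hiter m
    rw [hψ, MulAut.one_apply] at h1
    exact (a.inj h1).symm
  have hj1 : j = 1 := by
    have hm0 : m ≠ 0 := by
      rintro rfl
      simp at hm
    let u : (ZMod (2 * 2 ^ n))ˣ := Units.ofPowEqOne j m hjm hm0
    have hum : u ^ m = 1 := Units.pow_ofPowEqOne hjm hm0
    have hcard : Fintype.card (ZMod (2 * 2 ^ n))ˣ = 2 ^ n := by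
      rw [ZMod.card_units_eq_totient]
      have : 2 * 2 ^ n = 2 ^ (n + 1) := by ring
      rw [this, Nat.totient_prime_pow_succ Nat.prime_two]
      simp
    have hu2 : u ^ (2 ^ n) = 1 := by
      have := pow_card_eq_one (x := u)
      rw [hcard] at this
      exact this
    have h1 : u ^ Nat.gcd m (2 ^ n) = 1 := pow_gcd_eq_one.mpr ⟨hum, hu2⟩
    have hg : Nat.gcd m (2 ^ n) = 1 := by
      apply Nat.Coprime.pow_right
      exact Nat.coprime_two_right.mpr hm
    rw [hg, pow_one] at h1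
    have : (u : ZMod (2 * 2 ^ n)) = 1 := by rw [h1]; rfl
    exact this
  have ha' : ∀ i : ZMod (2 * 2 ^ n), ψ (a i) = a i := by
    intro i
    rw [ha, hj1, mul_one]
  -- step 2
  obtain ⟨k, hk⟩ : ∃ k, ψ (xa 0) = xa k := by
    cases hx : ψ (xa 0) with
    | xa k => exact ⟨k, rfl⟩
    | a i =>
      exfalso
      have h1 : ψ (xa 0) = ψ (a i) := by rw [hx, ha']
      have h2 := ψ.injective h1
      cases h2
  have hxa : ∀ i : ZMod (2 * 2 ^ n), ψ (xa i) = xa (k + i) := by
    intro i
    have h1 : (xa i : QuaternionGroup (2 ^ n)) = xa 0 * a i := by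
      rw [xa_mul_a, zero_add]
    rw [h1, map_mul, hk, ha', xa_mul_a]
  have hiter2 : ∀ r : ℕ, (ψ ^ r) (xa 0) = xa ((r : ZMod (2 * 2 ^ n)) * k) := by
    intro r
    induction r with
    | zero => simp
    | succ r ih =>
      rw [pow_succ', MulAut.mul_apply, ih, hxa]
      congr 1
      push_cast
      ring
  have hk0 : k = 0 := by
    have h1 := hiter2 m
    rw [hψ, MulAut.one_apply] at h1
    have h2 : (m : ZMod (2 * 2 ^ n)) * k = 0 := (xa.inj h1).symm
    have hunit : IsUnit (m : ZMod (2 * 2 ^ n)) := by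
      rw [ZMod.isUnit_iff_coprime]
      have : 2 * 2 ^ n = 2 ^ (n + 1) := by ring
      rw [this]
      apply Nat.Coprime.pow_right
      exact Nat.coprime_two_right.mpr hm
    exact (hunit.mul_right_eq_zero).mp h2
  ext x
  rw [MulAut.one_apply]
  cases x with
  | a i => exact ha' i
  | xa i => rw [hxa, hk0, zero_add]

/-- the quaternion group is not commutative -/
theorem quat_not_comm {n : ℕ} (hn : 1 ≤ n) :
    (a 1 : QuaternionGroup (2 ^ n)) * xa 0 ≠ xa 0 * a 1 := by
  haveI : NeZero (2 * 2 ^ n) := ⟨by positivity⟩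
  rw [a_mul_xa, xa_mul_a]
  intro h
  have h1 : (0 : ZMod (2 * 2 ^ n)) - 1 = 0 + 1 := xa.inj h
  have h2 : ((2 : ℕ) : ZMod (2 * 2 ^ n)) = 0 := by
    have : (2 : ZMod (2 * 2 ^ n)) = (0 + 1) - (0 - 1) := by ring
    push_cast
    rw [this, h1]; ring
  rw [ZMod.natCast_eq_zero_iff] at h2
  have h4 : 4 ≤ 2 * 2 ^ n := by
    have : 2 ^ 1 ≤ 2 ^ n := Nat.pow_le_pow_right (by norm_num) hn
    omega
  have := Nat.le_of_dvd (by norm_num) h2
  omega

/-- pairs of generators of the quaternion group of order eight -/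
def QPairs : Type :=
  {pq : QuaternionGroup 2 × QuaternionGroup 2 // pq.1 * pq.1 = a 2 ∧ pq.2 * pq.2 = a 2 ∧
    pq.2 ≠ pq.1 ∧ pq.2 ≠ pq.1⁻¹}

instance : Fintype QPairs := by
  unfold QPairs
  infer_instance

theorem card_QPairs : Fintype.card QPairs = 24 := by
  decide

end Cfsg.Agent.Helper61.S3t
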