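import Mathlib
import Cfsg.Agent.Helper61.S3tAbsB
import Cfsg.Agent.Helper61.S3tAbsC
import Cfsg.Agent.S0016
import Cfsg.Agent.S0106
import Cfsg.Agent.S0219

set_option autoImplicit false

/-! Abstract index-two theorem: the structure of a counterexample. -/

namespace Cfsg.Agent.Helper61.S3t

variable {H : Type*} [Group H] [Finite H]

theorem card_SL23 : Nat.card (Matrix.SpecialLinearGroup (Fin 2) (ZMod 3)) = 24 := by
  rw [Nat.card_eq_fintype_card]; decide

/-- all subgroups of order two coincide if all involutions do -/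
theorem unique_sub2' {T : Type*} [Group T]
    (hz : ∀ x y : T, orderOf x = 2 → orderOf y = 2 → x = y)
    (A B : Subgroup T) (hA : Nat.card A = 2) (hB : Nat.card B = 2) : A = B := by
  have key : ∀ A : Subgroup T, Nat.card A = 2 → ∃ x : T, orderOf x = 2 ∧ A = Subgroup.zpowers x := by
    intro A hA
    have : Finite A := Nat.finite_of_card_ne_zero (by omega)
    have : Fact (Nat.Prime 2) := ⟨Nat.prime_two⟩
    obtain ⟨x, hx⟩ := exists_prime_orderOf_dvd_card' (G := A) 2 (by rw [hA])
    have hx' : orderOf x.1 = 2 := by rw [Subgroup.orderOf_coe]; exact hx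
    refine ⟨x.1, hx', ?_⟩
    have hle : Subgroup.zpowers x.1 ≤ A := by
      rw [Subgroup.zpowers_le]; exact x.2
    symm
    apply Subgroup.eq_of_le_of_card_ge hle
    rw [hA, Nat.card_zpowers, hx']
  obtain ⟨x, hx, rfl⟩ := key A hA
  obtain ⟨y, hy, rfl⟩ := key B hB
  rw [hz x y hx hy]

theorem coprime_three_of_two_pow {x : H} {k : ℕ} (hx : x ^ 2 ^ k = 1) :
    (orderOf x).Coprime 3 := by
  have h1 : orderOf x ∣ 2 ^ k := orderOf_dvd_of_pow_eq_one hx
  have h2 : (2 ^ k).Coprime 3 := Nat.Coprime.pow_left k (by norm_num)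
  exact Nat.Coprime.coprime_dvd_left h1 h2

theorem eq_one_of_two_pow_of_coprime {x : H} {k : ℕ} (hx : x ^ 2 ^ k = 1)
    (hc : (orderOf x).Coprime 2) : x = 1 := by
  have h1 : orderOf x ∣ 2 ^ k := orderOf_dvd_of_pow_eq_one hx
  have h2 : (orderOf x).Coprime (2 ^ k) := Nat.Coprime.pow_right k hc
  have h3 : orderOf x = 1 := Nat.eq_one_of_dvd_coprimes h2 dvd_rfl h1
  exact orderOf_eq_one_iff.mp h3

end Cfsg.Agent.Helper61.S3t
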