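import Mathlib
import Cfsg.Agent.Helper61.S3tAbsD

set_option autoImplicit false

/-! Abstract index-two theorem: the structure of a counterexample (continued). -/

namespace Cfsg.Agent.Helper61.S3t

variable {H : Type*} [Group H] [Finite H]

theorem orderOf_conj' (g y : H) : orderOf (g * y * g⁻¹) = orderOf y := by
  have := MulEquiv.orderOf_eq (MulAut.conj g) y
  rwa [MulAut.conj_apply] at this

/-- conjugation acts on an abelian normal subgroup through powers -/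
theorem conj_zpow_of_abelian
    (hcyc : ∀ p : ℕ, p.Prime → ∀ u v : H, u ≠ 1 → u ^ p = 1 → v ^ p = 1 → u * v = v * u →
      v ∈ Subgroup.zpowers u)
    (Y : Subgroup H) (hYn : ∀ y ∈ Y, ∀ g : H, g * y * g⁻¹ ∈ Y)
    (hYc : ∀ a ∈ Y, ∀ b ∈ Y, a * b = b * a) {y : H} (hy : y ∈ Y) (g : H) :
    ∃ a : ℤ, g * y * g⁻¹ = y ^ a := by
  have h1 : y * (g * y * g⁻¹) = (g * y * g⁻¹) * y := hYc y hy _ (hYn y hy g)
  have h2 : (g * y * g⁻¹) ^ (orderOf y) = 1 := by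
    rw [conj_pow, pow_orderOf_eq_one]; group
  have := mem_zpowers_of_commute hcyc (orderOf y) y (g * y * g⁻¹) rfl h1 h2
  obtain ⟨a, ha⟩ := Subgroup.mem_zpowers_iff.mp this
  exact ⟨a, ha.symm⟩

/-- the commutator subgroup centralises such a subgroup -/
theorem commutator_centralizes
    (hcyc : ∀ p : ℕ, p.Prime → ∀ u v : H, u ≠ 1 → u ^ p = 1 → v ^ p = 1 → u * v = v * u →
      v ∈ Subgroup.zpowers u)
    (Y : Subgroup H) (hYn : ∀ y ∈ Y, ∀ g : H, g * y * g⁻¹ ∈ Y)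
    (hYc : ∀ a ∈ Y, ∀ b ∈ Y, a * b = b * a) {y : H} (hy : y ∈ Y) {c : H}
    (hc : c ∈ commutator H) : c * y = y * c := by
  have hpow : ∀ g : H, ∃ a : ℤ, g * y * g⁻¹ = y ^ a :=
    fun g => conj_zpow_of_abelian hcyc Y hYn hYc hy g
  have hcomm2 : ∀ g h : H, (g * h) * y * (g * h)⁻¹ = (h * g) * y * (h * g)⁻¹ := by
    intro g h
    obtain ⟨a, ha⟩ := hpow g
    obtain ⟨b, hb⟩ := hpow h
    have e1 : (g * h) * y * (g * h)⁻¹ = g * (h * y * h⁻¹) * g⁻¹ := by group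
    have e2 : (h * g) * y * (h * g)⁻¹ = h * (g * y * g⁻¹) * h⁻¹ := by group
    rw [e1, e2, hb, ha, ← conj_zpow, ← conj_zpow, ha, hb, ← zpow_mul, ← zpow_mul, mul_comm]
  have hle : commutator H ≤ Subgroup.centralizer {y} := by
    rw [commutator_eq_closure, Subgroup.closure_le]
    rintro _ ⟨g, h, rfl⟩
    rw [SetLike.mem_coe, Subgroup.mem_centralizer_iff]
    intro w hw
    rw [Set.mem_singleton_iff] at hw
    subst hw
    have h1 := hcomm2 g⁻¹ h⁻¹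
    rw [commutatorElement_def]
    have e : g * h * g⁻¹ * h⁻¹ * w * (g * h * g⁻¹ * h⁻¹)⁻¹ =
        (g * h) * ((g⁻¹ * h⁻¹) * w * (g⁻¹ * h⁻¹)⁻¹) * (g * h)⁻¹ := by group
    have e2 : w = (g * h) * ((h⁻¹ * g⁻¹) * w * (h⁻¹ * g⁻¹)⁻¹) * (g * h)⁻¹ := by group
    have h2 : g * h * g⁻¹ * h⁻¹ * w * (g * h * g⁻¹ * h⁻¹)⁻¹ = w := by
      rw [e, h1, ← e2]
    calc w * (g * h * g⁻¹ * h⁻¹)
        = (g * h * g⁻¹ * h⁻¹ * w * (g * h * g⁻¹ * h⁻¹)⁻¹) * (g * h * g⁻¹ * h⁻¹) := by rw [h2]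
      _ = g * h * g⁻¹ * h⁻¹ * w := by group
  have := (Subgroup.mem_centralizer_iff.mp (hle hc)) y (Set.mem_singleton y)
  exact this.symm

/-- **Structure of a counterexample.** -/
theorem struct_of_no_idx2 (hno : ¬ HasIdx2 H) (z : H) (hz2 : orderOf z = 2)
    (hzu : ∀ x : H, orderOf x = 2 → x = z)
    (hcyc : ∀ p : ℕ, p.Prime → ∀ u v : H, u ≠ 1 → u ^ p = 1 → v ^ p = 1 → u * v = v * u →
      v ∈ Subgroup.zpowers u)
    (h3 : ∀ r r' : H, orderOf r = 3 → orderOf r' = 3 → r' ∈ Subgroup.zpowers r)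
    (σ : H ≃* H) (hσ2 : ∀ x, σ (σ x) = x) (hσfix : ∀ x, σ x = x → x = 1 ∨ x = z) :
    ∃ (P : Sylow 2 H) (n : ℕ) (Y : Subgroup H) (e : ℕ), 1 ≤ n ∧
      Nonempty (↥(P : Subgroup H) ≃* QuaternionGroup (2 ^ n)) ∧
      (∀ x : H, ∀ k : ℕ, x ^ 2 ^ k = 1 → x ∈ (P : Subgroup H)) ∧
      (∀ x, x ∈ Y ↔ (orderOf x).Coprime 2 ∧ (orderOf x).Coprime 3) ∧
      (∀ y ∈ Y, ∀ x : H, ∀ k : ℕ, x ^ 2 ^ k = 1 → x * y = y * x) ∧
      Nat.card H = Nat.card Y * Nat.card (P : Subgroup H) * 3 ^ e := by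
  classical
  haveI : Fact (Nat.Prime 2) := ⟨Nat.prime_two⟩
  obtain ⟨M, hMn, hM, e, hMe⟩ := exists_three_compl hno h3
  haveI := hMn
  have heven : Even (Nat.card H) := by
    rw [even_iff_two_dvd, ← hz2]; exact orderOf_dvd_natCard z
  obtain ⟨P⟩ : Nonempty (Sylow 2 H) := inferInstance
  have hP2 : ∀ x ∈ (P : Subgroup H), ∃ k : ℕ, x ^ 2 ^ k = 1 := by
    intro x hx
    obtain ⟨k, hk⟩ := P.isPGroup' ⟨x, hx⟩
    exact ⟨k, by simpa using congrArg Subtype.val hk⟩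
  have hPM : (P : Subgroup H) ≤ M := by
    intro x hx
    obtain ⟨k, hk⟩ := hP2 x hx
    exact (hM x).mpr (coprime_three_of_two_pow hk)
  -- unique involution in `P`
  have huniq : ∀ A B : Subgroup ↥(P : Subgroup H), Nat.card A = 2 → Nat.card B = 2 → A = B := by
    apply unique_sub2'
    intro x y hx hy
    apply Subtype.ext
    rw [← Subgroup.orderOf_coe] at hx hy
    rw [hzu _ hx, hzu _ hy]
  rcases Cfsg.Agent.S0016.result 2 P.isPGroup' huniq with hcycP | ⟨-, n, ⟨eP⟩⟩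
  · exfalso
    exact hno (Cfsg.Agent.S0219.result heven P hcycP)
  have hn : 1 ≤ n := by
    by_contra h0
    have hn0 : n = 0 := by omega
    subst hn0
    apply hno
    haveI : IsCyclic (QuaternionGroup (2 ^ 0)) := QuaternionGroup.quaternionGroup_one_isCyclic
    have : IsCyclic ↥(P : Subgroup H) := isCyclic_of_injective eP.toMonoidHom eP.injective
    exact Cfsg.Agent.S0219.result heven P this
  -- the Sylow subgroup of `M`
  let T : Sylow 2 ↥M := P.subtype hPM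
  have eT : ↥(T : Subgroup ↥M) ≃* QuaternionGroup (2 ^ n) :=
    (Subgroup.subgroupOfEquivOfLe hPM).trans eP
  have h3M : ¬ 3 ∣ Nat.card ↥M := by
    intro hdiv
    haveI : Fact (Nat.Prime 3) := ⟨Nat.prime_three⟩
    obtain ⟨m, hm⟩ := exists_prime_orderOf_dvd_card' (G := ↥M) 3 hdiv
    have h1 := (hM m.1).mp m.2
    rw [Subgroup.orderOf_coe, hm] at h1
    norm_num at h1
  rcases Cfsg.Agent.S0106.result T n hn ⟨eT⟩ with hcomp | ⟨A, B, hB, ⟨eAB⟩⟩
  swap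
  · exfalso
    apply h3M
    have h1 : Nat.card (↥A ⧸ B.subgroupOf A) = 24 := by
      rw [Nat.card_congr eAB.toEquiv, card_SL23]
    have h2 : Nat.card (↥A ⧸ B.subgroupOf A) ∣ Nat.card ↥A :=
      (B.subgroupOf A).card_quotient_dvd_card
    have h3' : Nat.card ↥A ∣ Nat.card ↥M := Subgroup.card_subgroup_dvd_card A
    rw [h1] at h2
    exact (by norm_num : 3 ∣ 24).trans (h2.trans h3')
  obtain ⟨T', Y0, hY0n, hY0c⟩ := hcomp
  haveI := hY0n
  set Y : Subgroup H := Y0.map M.subtype with hYdef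
  have hY : ∀ x, x ∈ Y ↔ (orderOf x).Coprime 2 ∧ (orderOf x).Coprime 3 := by
    intro x
    constructor
    · rintro ⟨m, hm, rfl⟩
      have h1 := (Cfsg.Agent.S0086.result T' Y0 hY0c m).mp hm
      rw [← Subgroup.orderOf_coe] at h1
      exact ⟨h1, (hM m.1).mp m.2⟩
    · rintro ⟨h2, h3'⟩
      have hxM : x ∈ M := (hM x).mpr h3'
      refine ⟨⟨x, hxM⟩, ?_, rfl⟩
      apply (Cfsg.Agent.S0086.result T' Y0 hY0c ⟨x, hxM⟩).mpr
      rw [Subgroup.orderOf_mk]; exact h2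
  have hYn : ∀ y ∈ Y, ∀ g : H, g * y * g⁻¹ ∈ Y := by
    intro y hy g
    rw [hY, orderOf_conj']
    exact (hY y).mp hy
  have hYσ : ∀ y ∈ Y, σ y ∈ Y := by
    intro y hy
    rw [hY, MulEquiv.orderOf_eq]
    exact (hY y).mp hy
  have hYfix : ∀ y ∈ Y, σ y = y → y = 1 := by
    intro y hy hfix
    rcases hσfix y hfix with h | h
    · exact h
    · exfalso
      have := ((hY y).mp hy).1
      rw [h, hz2] at this
      norm_num at this
  have hinv := inverts_of_fpf σ hσ2 Y hYσ hYfix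
  have hYc : ∀ a ∈ Y, ∀ b ∈ Y, a * b = b * a := fun a ha b hb => comm_of_inverts σ Y hinv ha hb
  have h2cent : ∀ y ∈ Y, ∀ x : H, ∀ k : ℕ, x ^ 2 ^ k = 1 → x * y = y * x := by
    intro y hy x k hx
    exact commutator_centralizes hcyc Y hYn hYc hy (two_pow_mem_commutator hno hx)
  have hT'2 : ∀ t : ↥M, t ∈ (T' : Subgroup ↥M) → ∃ k : ℕ, (t : H) ^ 2 ^ k = 1 := by
    intro t ht
    obtain ⟨k, hk⟩ := T'.isPGroup' ⟨t, ht⟩
    refine ⟨k, ?_⟩
    have := congrArg Subtype.val (congrArg Subtype.val hk)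
    simpa using this
  set Q : Subgroup H := (T' : Subgroup ↥M).map M.subtype with hQdef
  have h2Q : ∀ x : H, ∀ k : ℕ, x ^ 2 ^ k = 1 → x ∈ Q := by
    intro x k hx
    have hxM : x ∈ M := (hM x).mpr (coprime_three_of_two_pow hx)
    obtain ⟨⟨y, t⟩, hyt, -⟩ := (Subgroup.isComplement'_def.mp hY0c).existsUnique ⟨x, hxM⟩
    have hyt' : ((y.1 : ↥M) : H) * ((t.1 : ↥M) : H) = x := congrArg Subtype.val hyt
    obtain ⟨k', hk'⟩ := hT'2 t.1 t.2
    have hyY : ((y.1 : ↥M) : H) ∈ Y := ⟨y.1, y.2, rfl⟩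
    have c1 : ((t.1 : ↥M) : H) * ((y.1 : ↥M) : H) = ((y.1 : ↥M) : H) * ((t.1 : ↥M) : H) :=
      h2cent _ hyY _ k' hk'
    have c3 : x * ((t.1 : ↥M) : H) = ((t.1 : ↥M) : H) * x := by
      calc x * ((t.1 : ↥M) : H) = ((y.1 : ↥M) : H) * ((t.1 : ↥M) : H) * ((t.1 : ↥M) : H) := by
            rw [hyt']
        _ = ((t.1 : ↥M) : H) * ((y.1 : ↥M) : H) * ((t.1 : ↥M) : H) := by rw [c1]
        _ = ((t.1 : ↥M) : H) * (((y.1 : ↥M) : H) * ((t.1 : ↥M) : H)) := mul_assoc _ _ _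
        _ = ((t.1 : ↥M) : H) * x := by rw [hyt']
    have hyeq : ((y.1 : ↥M) : H) = x * (((t.1 : ↥M) : H))⁻¹ := by
      rw [← hyt']; group
    have hypow : (((y.1 : ↥M) : H)) ^ 2 ^ (k + k') = 1 := by
      have hcm : Commute x (((t.1 : ↥M) : H))⁻¹ := (show Commute x _ from c3).inv_right
      rw [hyeq, hcm.mul_pow, inv_pow, pow_add, pow_mul, hx, one_pow, mul_comm (2 ^ k) (2 ^ k'),
        pow_mul, hk', one_pow, inv_one, mul_one]
    have hy1 : ((y.1 : ↥M) : H) = 1 :=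
      eq_one_of_two_pow_of_coprime hypow ((hY _).mp hyY).1
    rw [hy1, one_mul] at hyt'
    exact ⟨t.1, t.2, hyt'⟩
  have hQ2 : IsPGroup 2 Q := T'.isPGroup'.map M.subtype
  have hPQ : (P : Subgroup H) ≤ Q := by
    intro x hx
    obtain ⟨k, hk⟩ := hP2 x hx
    exact h2Q x k hk
  have hQP : Q = (P : Subgroup H) := P.is_maximal' hQ2 hPQ
  refine ⟨P, n, Y, e, hn, ⟨eP⟩, ?_, hY, h2cent, ?_⟩
  · intro x k hx
    rw [← hQP]
    exact h2Q x k hx
  · have h1 := M.card_mul_index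
    have h2 := hY0c.card_mul_card
    have h3' : Nat.card Y = Nat.card Y0 := Subgroup.card_subtype M Y0
    have h4 : Nat.card Q = Nat.card (T' : Subgroup ↥M) := Subgroup.card_subtype M _
    rw [hQP] at h4
    rw [← h1, ← h2, hMe, h3', h4]

end Cfsg.Agent.Helper61.S3t
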