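import Mathlib
import Cfsg.Agent.Helper61.S3tAbsE

set_option autoImplicit false

/-! Abstract index-two theorem: the final contradiction. -/

namespace Cfsg.Agent.Helper61.S3t

open QuaternionGroup

/-- the arithmetic at the end -/
theorem arith_J {s cardH cardC idx cardY e : ℕ}
    (h1 : s * s = cardH + 1) (h2 : cardC ∣ s - 1) (h3 : cardH = cardY * 8 * 3 ^ e)
    (hY : Odd cardY) (h4 : cardC * idx = cardH) (h5 : 2 * cardY ∣ cardC) (h6 : idx ≤ 24)
    (h7 : 9 ∣ cardH) (hpos : 0 < cardH) : False := by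
  have hCpos : 0 < cardC := by
    rcases Nat.eq_zero_or_pos cardC with h | h
    · rw [h, zero_mul] at h4; omega
    · exact h
  have hYpos : 0 < cardY := hY.pos
  have hs2 : 2 ≤ s := by
    by_contra hlt
    have : s ≤ 1 := by omega
    have : s * s ≤ 1 := by nlinarith
    omega
  obtain ⟨m, hm⟩ := h2
  have hm0 : m ≠ 0 := by
    rintro rfl
    omega
  -- `idx = m * (s + 1)`
  have hidx : idx = m * (s + 1) := by
    have e1 : (s - 1) * (s + 1) = cardH := by
      have : s - 1 + 1 = s := by omega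
      nlinarith
    have e2 : cardC * (m * (s + 1)) = cardC * idx := by
      rw [h4, ← e1, hm]; ring
    exact (Nat.eq_of_mul_eq_mul_left hCpos e2).symm
  have hs24 : s + 1 ≤ 24 := by
    have : 1 ≤ m := Nat.one_le_iff_ne_zero.mpr hm0
    nlinarith
  -- `idx ∣ 4 * 3 ^ e`
  obtain ⟨c, hc⟩ := h5
  have hcidx : c * idx = 4 * 3 ^ e := by
    have e1 : (2 * cardY) * (c * idx) = (2 * cardY) * (4 * 3 ^ e) := by
      calc (2 * cardY) * (c * idx) = cardC * idx := by rw [hc]; ring
        _ = cardH := h4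
        _ = (2 * cardY) * (4 * 3 ^ e) := by rw [h3]; ring
    exact Nat.eq_of_mul_eq_mul_left (by omega) e1
  have hs5 : ¬ 5 ∣ s + 1 := by
    intro h
    have h' : 5 ∣ 4 * 3 ^ e := by
      rw [← hcidx, hidx]
      exact Dvd.dvd.mul_left (Dvd.dvd.mul_left h m) c
    have h'' : 5 ∣ 3 ^ e := (Nat.Coprime.dvd_mul_left (by norm_num)).mp h'
    have := Nat.Prime.dvd_of_dvd_pow (by norm_num : Nat.Prime 5) h''
    omega
  -- `cardH = 8 * w` with `w` odd
  have hw : Odd (cardY * 3 ^ e) := hY.mul (Odd.pow (by decide))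
  obtain ⟨w', hw'⟩ := hw
  have h3' : cardH = 8 * (2 * w' + 1) := by rw [← hw', h3]; ring
  obtain ⟨d, hd⟩ := h7
  have hs23 : s ≤ 23 := by omega
  interval_cases s <;> omega

variable {H : Type*} [Group H] [Finite H]

/-- the index of the centraliser of a quaternion pair -/
theorem index_le_of_quat (z : H) (hzc : ∀ g : H, g * z * g⁻¹ = z) (P : Subgroup H) [hPn : P.Normal]
    (eP : ↥P ≃* QuaternionGroup 2) (hzP : ∀ hz : z ∈ P, eP ⟨z, hz⟩ = a 2) (hzmem : z ∈ P)
    (C : Subgroup H)
    (hC : ∀ c : H, c * (eP.symm (a 1) : H) = (eP.symm (a 1) : H) * c →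
      c * (eP.symm (xa 0) : H) = (eP.symm (xa 0) : H) * c → c ∈ C) : C.index ≤ 24 := by
  classical
  set x0 : ↥P := eP.symm (a 1) with hx0
  set y0 : ↥P := eP.symm (xa 0) with hy0
  have hfz : ∀ g : H, MulAut.conjNormal g (⟨z, hzmem⟩ : ↥P) = ⟨z, hzmem⟩ := by
    intro g
    apply Subtype.ext
    rw [MulAut.conjNormal_apply]
    exact hzc g
  have hx0sq : x0 * x0 = ⟨z, hzmem⟩ := by
    apply eP.injective
    rw [map_mul, hx0, MulEquiv.apply_symm_apply, hzP hzmem]
    decide
  have hy0sq : y0 * y0 = ⟨z, hzmem⟩ := by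
    apply eP.injective
    rw [map_mul, hy0, MulEquiv.apply_symm_apply, hzP hzmem]
    decide
  have hyx : y0 ≠ x0 := by
    intro h
    have := congrArg eP h
    rw [hy0, hx0, MulEquiv.apply_symm_apply, MulEquiv.apply_symm_apply] at this
    exact absurd this (by decide)
  have hyx' : y0 ≠ x0⁻¹ := by
    intro h
    have := congrArg eP h
    rw [map_inv, hy0, hx0, MulEquiv.apply_symm_apply, MulEquiv.apply_symm_apply] at this
    exact absurd this (by decide)
  let F : H → QPairs := fun g =>
    ⟨(eP (MulAut.conjNormal g x0), eP (MulAut.conjNormal g y0)), by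
      refine ⟨?_, ?_, ?_, ?_⟩
      · show eP (MulAut.conjNormal g x0) * eP (MulAut.conjNormal g x0) = a 2
        rw [← map_mul, ← map_mul, hx0sq, hfz, hzP hzmem]
      · show eP (MulAut.conjNormal g y0) * eP (MulAut.conjNormal g y0) = a 2
        rw [← map_mul, ← map_mul, hy0sq, hfz, hzP hzmem]
      · show eP (MulAut.conjNormal g y0) ≠ eP (MulAut.conjNormal g x0)
        intro h
        exact hyx ((MulAut.conjNormal g).injective (eP.injective h))
      · show eP (MulAut.conjNormal g y0) ≠ (eP (MulAut.conjNormal g x0))⁻¹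
        intro h
        rw [← map_inv, ← map_inv] at h
        exact hyx' ((MulAut.conjNormal g).injective (eP.injective h))⟩
  have hF : ∀ g g' : H, F g = F g' → g⁻¹ * g' ∈ C := by
    intro g g' h
    have h1 : eP (MulAut.conjNormal g x0) = eP (MulAut.conjNormal g' x0) :=
      congrArg (fun q : QPairs => q.1.1) h
    have h2 : eP (MulAut.conjNormal g y0) = eP (MulAut.conjNormal g' y0) :=
      congrArg (fun q : QPairs => q.1.2) h
    have h1' : g * (x0 : H) * g⁻¹ = g' * (x0 : H) * g'⁻¹ := by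
      have := congrArg Subtype.val (eP.injective h1)
      rwa [MulAut.conjNormal_apply, MulAut.conjNormal_apply] at this
    have h2' : g * (y0 : H) * g⁻¹ = g' * (y0 : H) * g'⁻¹ := by
      have := congrArg Subtype.val (eP.injective h2)
      rwa [MulAut.conjNormal_apply, MulAut.conjNormal_apply] at this
    apply hC
    · calc g⁻¹ * g' * (x0 : H) = g⁻¹ * (g' * (x0 : H) * g'⁻¹) * g' := by group
        _ = g⁻¹ * (g * (x0 : H) * g⁻¹) * g' := by rw [h1']
        _ = (x0 : H) * (g⁻¹ * g') := by group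
    · calc g⁻¹ * g' * (y0 : H) = g⁻¹ * (g' * (y0 : H) * g'⁻¹) * g' := by group
        _ = g⁻¹ * (g * (y0 : H) * g⁻¹) * g' := by rw [h2']
        _ = (y0 : H) * (g⁻¹ * g') := by group
  let Fq : H ⧸ C → QPairs := fun q => F q.out
  have hinj : Function.Injective Fq := by
    intro q q' h
    have h1 := hF _ _ h
    rw [← QuotientGroup.eq, QuotientGroup.out_eq', QuotientGroup.out_eq'] at h1
    exact h1
  rw [Subgroup.index_eq_card]
  have := Nat.card_le_card_of_injective Fq hinj
  rw [Nat.card_eq_fintype_card (α := QPairs), card_QPairs] at this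
  exact this

end Cfsg.Agent.Helper61.S3t
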