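import Mathlib
import Cfsg.Agent.Helper61.S3tAbsF

set_option autoImplicit false

/-! Abstract index-two theorem: the final contradiction (continued) and the theorem. -/

namespace Cfsg.Agent.Helper61.S3t

open QuaternionGroup

variable {H : Type*} [Group H] [Finite H]

/-- if all elements of odd order centralise a normal quaternion subgroup then there is a subgroup
of index two -/
theorem hasIdx2_of_odd_triv (P : Subgroup H) [P.Normal] {n : ℕ} (hn : 1 ≤ n)
    (eP : ↥P ≃* QuaternionGroup (2 ^ n))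
    (hodd : ∀ g : H, Odd (orderOf g) → MulAut.conjNormal (H := P) g = 1) : HasIdx2 H := by
  apply HasIdx2.of_two_group_range (MulAut.conjNormal (H := P))
  · rintro ⟨_, g, rfl⟩
    obtain ⟨k, m, hm, hkm⟩ := Nat.exists_eq_two_pow_mul_odd (orderOf_pos g).ne'
    refine ⟨k, Subtype.ext ?_⟩
    show (MulAut.conjNormal (H := P) g) ^ 2 ^ k = 1
    rw [← map_pow]
    apply hodd
    have h1 : (g ^ 2 ^ k) ^ m = 1 := by
      rw [← pow_mul, ← hkm]; exact pow_orderOf_eq_one g
    exact hm.of_dvd_nat (orderOf_dvd_of_pow_eq_one h1)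
  · refine ⟨(eP.symm (a 1) : H), ?_⟩
    intro h
    have h1 := DFunLike.congr_fun h (eP.symm (xa 0))
    rw [MulAut.one_apply] at h1
    have h2 : ((eP.symm (a 1) : ↥P) : H) * ((eP.symm (xa 0) : ↥P) : H) * ((eP.symm (a 1) : ↥P) : H)⁻¹ =
        ((eP.symm (xa 0) : ↥P) : H) := by
      rw [← MulAut.conjNormal_apply, h1]
    have h3 : (eP.symm (a 1) : ↥P) * eP.symm (xa 0) = eP.symm (xa 0) * eP.symm (a 1) := by
      apply Subtype.ext
      rw [Subgroup.coe_mul, Subgroup.coe_mul]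
      calc ((eP.symm (a 1) : ↥P) : H) * ((eP.symm (xa 0) : ↥P) : H)
          = (((eP.symm (a 1) : ↥P) : H) * ((eP.symm (xa 0) : ↥P) : H) *
              ((eP.symm (a 1) : ↥P) : H)⁻¹) * ((eP.symm (a 1) : ↥P) : H) := by group
        _ = ((eP.symm (xa 0) : ↥P) : H) * ((eP.symm (a 1) : ↥P) : H) := by rw [h2]
    have h4 := congrArg eP h3
    rw [map_mul, map_mul, MulEquiv.apply_symm_apply, MulEquiv.apply_symm_apply] at h4
    exact quat_not_comm hn h4

theorem quat2_rel {P : Type*} [Group P] (eP : P ≃* QuaternionGroup 2) :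
    eP.symm (a 1) * eP.symm (a 1) = eP.symm (a 2) ∧
    eP.symm (xa 0) * eP.symm (xa 0) = eP.symm (a 2) ∧
    eP.symm (xa 0) * eP.symm (a 1) * (eP.symm (xa 0))⁻¹ = (eP.symm (a 1))⁻¹ ∧
    orderOf (eP.symm (a 2)) = 2 := by
  refine ⟨?_, ?_, ?_, ?_⟩
  · rw [← map_mul]; congr 1
  · rw [← map_mul]; congr 1
  · rw [← map_inv, ← map_inv, ← map_mul, ← map_mul]; congr 1
  · rw [MulEquiv.orderOf_eq]
    apply orderOf_eq_prime
    · decide
    · decide

end Cfsg.Agent.Helper61.S3t
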