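import Mathlib
import Cfsg.Agent.Helper61.S3tAbsG

set_option autoImplicit false

/-! Abstract index-two theorem. -/

namespace Cfsg.Agent.Helper61.S3t

open QuaternionGroup

variable {H : Type*} [Group H] [Finite H]

theorem false_of_struct (hno : ¬ HasIdx2 H) (z : H) (hz2 : orderOf z = 2)
    (hzu : ∀ x : H, orderOf x = 2 → x = z)
    (hc3 : ∀ r : H, orderOf r = 3 → r ∈ Subgroup.center H)
    (hbound : ∀ x y : H, x * x = z → y * y = z → y * x * y⁻¹ = x⁻¹ → ∀ C : Subgroup H,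
      (∀ c ∈ C, c * x = x * c ∧ c * y = y * c) →
      ∃ s : ℕ, s * s = Nat.card H + 1 ∧ Nat.card C ∣ s - 1)
    (P : Sylow 2 H) (n : ℕ) (hn : 1 ≤ n) (eP : ↥(P : Subgroup H) ≃* QuaternionGroup (2 ^ n))
    (h2P : ∀ x : H, ∀ k : ℕ, x ^ 2 ^ k = 1 → x ∈ (P : Subgroup H))
    (Y : Subgroup H) (hY : ∀ x, x ∈ Y ↔ (orderOf x).Coprime 2 ∧ (orderOf x).Coprime 3)
    (hYc : ∀ y ∈ Y, ∀ x : H, ∀ k : ℕ, x ^ 2 ^ k = 1 → x * y = y * x) (e : ℕ)
    (hcard : Nat.card H = Nat.card Y * Nat.card (P : Subgroup H) * 3 ^ e) : False := by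
  classical
  haveI : Fact (Nat.Prime 2) := ⟨Nat.prime_two⟩
  have hP2 : ∀ x ∈ (P : Subgroup H), ∃ k : ℕ, x ^ 2 ^ k = 1 := by
    intro x hx
    obtain ⟨k, hk⟩ := P.isPGroup' ⟨x, hx⟩
    exact ⟨k, by simpa using congrArg Subtype.val hk⟩
  haveI hPn : (P : Subgroup H).Normal := by
    refine ⟨fun x hx g => ?_⟩
    obtain ⟨k, hk⟩ := hP2 x hx
    apply h2P _ k
    rw [conj_pow, hk]; group
  by_cases hn2 : 2 ≤ n
  · apply hno
    apply hasIdx2_of_odd_triv (P : Subgroup H) hn eP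
    intro g hg
    have h1 : (MulAut.congr eP (MulAut.conjNormal (H := (P : Subgroup H)) g)) ^ (orderOf g) = 1 := by
      rw [← map_pow, ← map_pow, pow_orderOf_eq_one, map_one, map_one]
    have h2 := quat_aut_odd hn2 _ hg h1
    exact (MulAut.congr eP).injective (h2.trans (map_one _).symm)
  have hn1 : n = 1 := by omega
  subst hn1
  -- elements of `Y` act trivially
  have hYtriv : ∀ g ∈ Y, MulAut.conjNormal (H := (P : Subgroup H)) g = 1 := by
    intro g hg
    ext x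
    rw [MulAut.one_apply, MulAut.conjNormal_apply]
    obtain ⟨k, hk⟩ := hP2 x.1 x.2
    have := hYc g hg x.1 k hk
    calc g * (x : H) * g⁻¹ = ((x : H) * g) * g⁻¹ := by rw [this]
      _ = x := by group
  by_cases h3el : ∀ g : H, ∀ b : ℕ, g ^ 3 ^ b = 1 → MulAut.conjNormal (H := (P : Subgroup H)) g = 1
  · apply hno
    apply hasIdx2_of_odd_triv (P : Subgroup H) hn eP
    intro g hg
    obtain ⟨b, m', hm', hbm⟩ := Nat.exists_eq_pow_mul_and_not_dvd (orderOf_pos g).ne' 3 (by norm_num)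
    -- `g ^ 3 ^ b` lies in `Y`
    have h1 : (g ^ 3 ^ b) ^ m' = 1 := by
      rw [← pow_mul, ← hbm]; exact pow_orderOf_eq_one g
    have ho1 : orderOf (g ^ 3 ^ b) ∣ m' := orderOf_dvd_of_pow_eq_one h1
    have hm'g : m' ∣ orderOf g := ⟨3 ^ b, by rw [hbm]; ring⟩
    have hm'odd : Odd m' := hg.of_dvd_nat hm'g
    have hmemY : g ^ 3 ^ b ∈ Y := by
      rw [hY]
      constructor
      · exact Nat.Coprime.coprime_dvd_left ho1 (Nat.coprime_two_right.mpr hm'odd)
      · apply Nat.Coprime.coprime_dvd_left ho1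
        rw [Nat.coprime_comm]
        exact (Nat.Prime.coprime_iff_not_dvd Nat.prime_three).mpr hm'
    have e1 : (MulAut.conjNormal (H := (P : Subgroup H)) g) ^ 3 ^ b = 1 := by
      rw [← map_pow]; exact hYtriv _ hmemY
    have h2 : (g ^ m') ^ 3 ^ b = 1 := by
      rw [← pow_mul, mul_comm, ← hbm]; exact pow_orderOf_eq_one g
    have e2 : (MulAut.conjNormal (H := (P : Subgroup H)) g) ^ m' = 1 := by
      rw [← map_pow]; exact h3el _ b h2
    have e3 := pow_gcd_eq_one.mpr ⟨e1, e2⟩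
    have hg1 : Nat.gcd (3 ^ b) m' = 1 := by
      apply Nat.Coprime.pow_left
      exact (Nat.Prime.coprime_iff_not_dvd Nat.prime_three).mpr hm'
    rw [hg1, pow_one] at e3
    exact e3
  push Not at h3el
  obtain ⟨g, b, hgb, hgne⟩ := h3el
  -- `9 ∣ |H|`
  have h9 : 9 ∣ Nat.card H := by
    have ho : orderOf g ∣ 3 ^ b := orderOf_dvd_of_pow_eq_one hgb
    obtain ⟨b', hb', hob'⟩ := (Nat.dvd_prime_pow Nat.prime_three).mp ho
    have hb2 : 2 ≤ b' := by
      by_contra hlt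
      have : b' = 0 ∨ b' = 1 := by omega
      rcases this with h | h
      · rw [h, pow_zero] at hob'
        apply hgne
        rw [orderOf_eq_one_iff.mp hob', map_one]
      · rw [h, pow_one] at hob'
        apply hgne
        have hc := hc3 g hob'
        rw [Subgroup.mem_center_iff] at hc
        ext x
        rw [MulAut.one_apply, MulAut.conjNormal_apply]
        calc g * (x : H) * g⁻¹ = ((x : H) * g) * g⁻¹ := by rw [hc]
          _ = x := by group
    have : 9 ∣ orderOf g := by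
      rw [hob']
      exact (by norm_num : 9 = 3 ^ 2) ▸ pow_dvd_pow 3 hb2
    exact this.trans (orderOf_dvd_natCard g)
  -- the quaternion pair
  have eP' : ↥(P : Subgroup H) ≃* QuaternionGroup 2 := eP
  obtain ⟨r1, r2, r3, r4⟩ := quat2_rel eP'
  have hzeq : ((eP'.symm (a 2) : ↥(P : Subgroup H)) : H) = z := by
    apply hzu
    rw [Subgroup.orderOf_coe]; exact r4
  have hzmem : z ∈ (P : Subgroup H) := by rw [← hzeq]; exact (eP'.symm (a 2)).2
  have hzP : ∀ hz : z ∈ (P : Subgroup H), eP' ⟨z, hz⟩ = a 2 := by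
    intro hz
    have : (⟨z, hz⟩ : ↥(P : Subgroup H)) = eP'.symm (a 2) := Subtype.ext hzeq.symm
    rw [this, MulEquiv.apply_symm_apply]
  have hzc : ∀ g : H, g * z * g⁻¹ = z := by
    intro g
    apply hzu
    rw [orderOf_conj', hz2]
  set x : H := ((eP'.symm (a 1) : ↥(P : Subgroup H)) : H) with hx
  set y : H := ((eP'.symm (xa 0) : ↥(P : Subgroup H)) : H) with hy
  have hxx : x * x = z := by
    rw [← hzeq, ← r1]; rfl
  have hyy : y * y = z := by
    rw [← hzeq, ← r2]; rfl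
  have hyx : y * x * y⁻¹ = x⁻¹ := by
    have := congrArg Subtype.val r3
    exact this
  set C : Subgroup H := Subgroup.centralizer {x, y} with hC
  have hCmem : ∀ c : H, c ∈ C ↔ c * x = x * c ∧ c * y = y * c := by
    intro c
    rw [hC, Subgroup.mem_centralizer_iff]
    constructor
    · intro h
      exact ⟨(h x (by simp)).symm, (h y (by simp)).symm⟩
    · rintro ⟨h1, h2⟩ w hw
      rcases hw with rfl | hw
      · exact h1.symm
      · rw [Set.mem_singleton_iff] at hw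
        subst hw
        exact h2.symm
  obtain ⟨s, hs1, hs2⟩ := hbound x y hxx hyy hyx C (fun c hc => (hCmem c).mp hc)
  have hidx : C.index ≤ 24 :=
    index_le_of_quat z hzc (P : Subgroup H) eP' hzP hzmem C
      (fun c h1 h2 => (hCmem c).mpr ⟨h1, h2⟩)
  have hcardP : Nat.card (P : Subgroup H) = 8 := by
    rw [Nat.card_congr eP'.toEquiv, Nat.card_eq_fintype_card, QuaternionGroup.card]
  have hYodd : Odd (Nat.card Y) := by
    rw [← Nat.not_even_iff_odd, even_iff_two_dvd]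
    intro h2
    obtain ⟨w, hw⟩ := exists_prime_orderOf_dvd_card' (G := ↥Y) 2 h2
    have := ((hY w.1).mp w.2).1
    rw [Subgroup.orderOf_coe, hw] at this
    norm_num at this
  have hxP : ∃ k : ℕ, x ^ 2 ^ k = 1 := hP2 x (eP'.symm (a 1)).2
  have hyP : ∃ k : ℕ, y ^ 2 ^ k = 1 := hP2 y (eP'.symm (xa 0)).2
  have hYC : Y ≤ C := by
    intro w hw
    obtain ⟨k1, hk1⟩ := hxP
    obtain ⟨k2, hk2⟩ := hyP
    rw [hCmem]
    exact ⟨(hYc w hw x k1 hk1).symm, (hYc w hw y k2 hk2).symm⟩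
  have hzC : z ∈ C := by
    rw [hCmem]
    constructor
    · rw [← hxx, mul_assoc]
    · rw [← hyy, mul_assoc]
  have h2C : 2 * Nat.card Y ∣ Nat.card C := by
    apply Nat.Coprime.mul_dvd_of_dvd_of_dvd (Nat.coprime_two_left.mpr hYodd)
    · have : orderOf (⟨z, hzC⟩ : ↥C) = 2 := by rw [Subgroup.orderOf_mk]; exact hz2
      rw [← this]; exact orderOf_dvd_natCard _
    · exact Subgroup.card_dvd_of_le hYC
  have h3' : Nat.card H = Nat.card Y * 8 * 3 ^ e := by rw [hcard, hcardP]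
  exact arith_J hs1 hs2 h3' hYodd C.card_mul_index h2C hidx h9 Nat.card_pos

/-- **Abstract index-two theorem.** -/
theorem hasIdx2_abs (z : H) (hz2 : orderOf z = 2) (hzu : ∀ x : H, orderOf x = 2 → x = z)
    (hcyc : ∀ p : ℕ, p.Prime → ∀ u v : H, u ≠ 1 → u ^ p = 1 → v ^ p = 1 → u * v = v * u →
      v ∈ Subgroup.zpowers u)
    (h3 : ∀ r r' : H, orderOf r = 3 → orderOf r' = 3 → r' ∈ Subgroup.zpowers r)
    (σ : H ≃* H) (hσ2 : ∀ x, σ (σ x) = x) (hσfix : ∀ x, σ x = x → x = 1 ∨ x = z)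
    (hbound : ∀ x y : H, x * x = z → y * y = z → y * x * y⁻¹ = x⁻¹ → ∀ C : Subgroup H,
      (∀ c ∈ C, c * x = x * c ∧ c * y = y * c) →
      ∃ s : ℕ, s * s = Nat.card H + 1 ∧ Nat.card C ∣ s - 1) : HasIdx2 H := by
  by_contra hno
  obtain ⟨P, n, Y, e, hn, ⟨eP⟩, h2P, hY, hYc, hcard⟩ :=
    struct_of_no_idx2 hno z hz2 hzu hcyc h3 σ hσ2 hσfix
  exact false_of_struct hno z hz2 hzu (fun r hr => order3_central hno h3 hr) hbound P n hn eP h2P
    Y hY hYc e hcard

end Cfsg.Agent.Helper61.S3t
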