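import Cfsg.Agent.Helper61.ZsInv

set_option autoImplicit false
set_option linter.unusedSectionVars false

/-! Zassenhaus data with two-point stabiliser of even order `d` and `2 d ≤ n - 1`: counting
involutions shows `2 d = n - 1`, every element interchanging `inf` and `zero` is an involution
inverting the two-point stabiliser, which is therefore abelian. -/

namespace Cfsg.Agent.Helper61.Zs

open MulAction

variable {G Ω : Type*} [Group G] [MulAction G Ω] {inf zero : Ω} {K : Subgroup G}

/-- elements interchanging `inf` and `zero` -/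
def IsSwap (inf zero : Ω) (g : G) : Prop := g • inf = zero ∧ g • zero = inf

namespace ZData

variable (D : ZData inf zero K)
include D

theorem exists_swap : ∃ t : G, IsSwap inf zero t := by
  obtain ⟨g, h1, h2⟩ := D.two_trans inf zero zero inf D.ne D.zero_ne
  exact ⟨g, h1, h2⟩

theorem card_swap : Nat.card {g : G // IsSwap inf zero g} = Nat.card (stabH G inf zero) := by
  obtain ⟨t, ht⟩ := D.exists_swap
  apply Nat.card_congr
  refine ⟨fun g => ⟨t⁻¹ * g.1, ?_⟩, fun h => ⟨t * h.1, ?_⟩, ?_, ?_⟩
  · rw [mem_stabH]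
    constructor
    · rw [mul_smul, g.2.1, inv_smul_eq_iff, ht.1]
    · rw [mul_smul, g.2.2, inv_smul_eq_iff, ht.2]
  · have hh := mem_stabH.mp h.2
    constructor
    · rw [mul_smul, hh.1, ht.1]
    · rw [mul_smul, hh.2, ht.2]
  · intro g
    apply Subtype.ext
    simp
  · intro h
    apply Subtype.ext
    simp

theorem fix_invol {j : G} (hj : j ∈ stabH G inf zero) (hj1 : j ≠ 1) {x : Ω} (hx : j • x = x) :
    x = inf ∨ x = zero :=
  D.eq_of_three_fixed hj1 D.ne (mem_stabH.mp hj).1 (mem_stabH.mp hj).2 hx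

/-- for `x ∉ {inf, zero}`, the involution fixing `x` and `j • x` interchanges `inf` and `zero` -/
theorem exists_invol_swap [Finite G] {j : G} (hj : j ∈ stabH G inf zero) (hj1 : j ≠ 1)
    (hjj : j * j = 1) {x : Ω} (hx1 : x ≠ inf) (hx2 : x ≠ zero) :
    ∃ i : G, i ≠ 1 ∧ i * i = 1 ∧ i • x = x ∧ i • (j • x) = j • x ∧ IsSwap inf zero i := by
  have hjinv : j⁻¹ = j := inv_eq_of_mul_eq_one_left hjj
  have hjx : j • x ≠ x := by
    intro h
    rcases D.fix_invol hj hj1 h with h | h
    · exact hx1 h
    · exact hx2 h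
  have hjjx : j • (j • x) = x := by rw [← mul_smul, hjj, one_smul]
  have hjxinf : j • x ≠ inf := D.smul_ne_inf (mem_stabH.mp hj).1 hx1
  obtain ⟨g, hg1, hg2⟩ := D.two_trans inf zero x (j • x) D.ne hjx.symm
  set i : G := g * j * g⁻¹ with hi
  have hi1 : i ≠ 1 := by
    intro h
    apply hj1
    have : j = g⁻¹ * i * g := by rw [hi]; group
    rw [this, h]; group
  have hii : i * i = 1 := by
    have : i * i = g * (j * j) * g⁻¹ := by rw [hi]; group
    rw [this, hjj]; group
  have hix : i • x = x := by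
    rw [hi, mul_smul, mul_smul, inv_smul_eq_iff.mpr hg1.symm, (mem_stabH.mp hj).1, hg1]
  have hijx : i • (j • x) = j • x := by
    rw [hi, mul_smul, mul_smul, inv_smul_eq_iff.mpr hg2.symm, (mem_stabH.mp hj).2, hg2]
  -- `j` centralises `i`
  have hconj : j * i * j⁻¹ = i := by
    apply D.invol_unique hjx.symm (i := j * i * j⁻¹) (i' := i) _ hi1 _ hii _ _ hix hijx
    · intro h
      apply hi1
      have : i = j⁻¹ * (j * i * j⁻¹) * j := by group
      rw [this, h]; group
    · have : j * i * j⁻¹ * (j * i * j⁻¹) = j * (i * i) * j⁻¹ := by group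
      rw [this, hii]; group
    · rw [hjinv, mul_smul, mul_smul, hijx, hjjx]
    · rw [hjinv, mul_smul, mul_smul, hjjx, hix]
  have hcomm : j * i = i * j := by
    have := congrArg (· * j) hconj
    simpa [mul_assoc] using this
  have hfix : j • (i • inf) = i • inf := by
    rw [← mul_smul, hcomm, mul_smul, (mem_stabH.mp hj).1]
  have hiinf : i • inf = zero := by
    rcases D.fix_invol hj hj1 hfix with h | h
    · exfalso
      exact hi1 (D.three_fixed i inf x (j • x) hx1.symm hjx.symm hjxinf.symm h hix hijx)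
    · exact h
  refine ⟨i, hi1, hii, hix, hijx, hiinf, ?_⟩
  rw [← hiinf, ← mul_smul, hii, one_smul]

/-- **Counting** -/
theorem swap_invol [Finite G] [Fintype Ω] (heven : Even (Nat.card (stabH G inf zero)))
    (hd : 2 * Nat.card (stabH G inf zero) ≤ Fintype.card Ω - 2) :
    2 * Nat.card (stabH G inf zero) = Fintype.card Ω - 2 ∧
      ∀ s : G, IsSwap inf zero s → s * s = 1 := by
  classical
  have : Fintype G := Fintype.ofFinite G
  obtain ⟨j, hj, hj1, hjj⟩ := D.exists_invol heven
  have hex : ∀ x : Ω, x ≠ inf → x ≠ zero → ∃ i : G, i ≠ 1 ∧ i * i = 1 ∧ i • x = x ∧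
      i • (j • x) = j • x ∧ IsSwap inf zero i := fun x h1 h2 => D.exists_invol_swap hj hj1 hjj h1 h2
  choose! J hJ using hex
  set X : Finset Ω := (Finset.univ.erase inf).erase zero with hX
  have hXmem : ∀ x, x ∈ X ↔ x ≠ zero ∧ x ≠ inf := by
    intro x
    rw [hX, Finset.mem_erase, Finset.mem_erase]
    simp
  have hXcard : X.card = Fintype.card Ω - 2 := by
    rw [hX, Finset.card_erase_of_mem, Finset.card_erase_of_mem (Finset.mem_univ _),
      Finset.card_univ]
    · omega
    · rw [Finset.mem_erase]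
      exact ⟨D.zero_ne, Finset.mem_univ _⟩
  set Sw : Finset G := Finset.univ.filter (fun g => IsSwap inf zero g) with hSw
  have hSwcard : Sw.card = Nat.card (stabH G inf zero) := by
    rw [← D.card_swap, Nat.card_eq_fintype_card, Fintype.card_subtype]
  have himg : X.image J ⊆ Sw := by
    intro i hi
    rw [Finset.mem_image] at hi
    obtain ⟨x, hx, rfl⟩ := hi
    rw [hXmem] at hx
    rw [hSw, Finset.mem_filter]
    exact ⟨Finset.mem_univ _, (hJ x hx.2 hx.1).2.2.2.2⟩
  have hfib : ∀ b ∈ X.image J, (X.filter (fun a => J a = b)).card ≤ 2 := by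
    intro b hb
    rw [Finset.mem_image] at hb
    obtain ⟨x, hx, rfl⟩ := hb
    rw [hXmem] at hx
    obtain ⟨h1, h2, h3, h4, -⟩ := hJ x hx.2 hx.1
    have hjx : j • x ≠ x := by
      intro h
      rcases D.fix_invol hj hj1 h with h | h
      · exact hx.2 h
      · exact hx.1 h
    have hsub : X.filter (fun a => J a = J x) ⊆ {x, j • x} := by
      intro a ha
      rw [Finset.mem_filter, hXmem] at ha
      obtain ⟨g1, g2, g3, g4, -⟩ := hJ a ha.1.2 ha.1.1
      rw [ha.2] at g3
      rw [Finset.mem_insert, Finset.mem_singleton]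
      exact D.eq_of_three_fixed h1 hjx.symm h3 h4 g3
    exact (Finset.card_le_card hsub).trans Finset.card_le_two
  have hle := Finset.card_le_mul_card_image X 2 hfib
  have hle2 : (X.image J).card ≤ Sw.card := Finset.card_le_card himg
  rw [hXcard] at hle
  rw [hSwcard] at hle2
  refine ⟨by omega, ?_⟩
  have heq : X.image J = Sw := by
    apply Finset.eq_of_subset_of_card_le himg
    rw [hSwcard]
    omega
  intro s hs
  have hsS : s ∈ Sw := by
    rw [hSw, Finset.mem_filter]
    exact ⟨Finset.mem_univ _, hs⟩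
  rw [← heq, Finset.mem_image] at hsS
  obtain ⟨x, hx, rfl⟩ := hsS
  rw [hXmem] at hx
  exact (hJ x hx.2 hx.1).2.1

end ZData

end Cfsg.Agent.Helper61.Zs
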