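import Mathlib
import Cfsg.Agent.Helper61.ZsCount

set_option autoImplicit false
set_option linter.unusedSectionVars false

/-! Extension of an invariant character of the two-point stabiliser of a sharply triply
transitive group (given as Zassenhaus data) to the whole group, through the Bruhat
decomposition. -/

namespace Cfsg.Agent.Helper61.S3t

open Cfsg.Agent.Helper61.Zs MulAction

variable {G Ω : Type*} [Group G] [MulAction G Ω] {inf zero : Ω} {K : Subgroup G}

/-- the element of `K` moving `zero` to `y` -/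
noncomputable def kOf (D : ZData inf zero K) (y : Ω) : G := by
  classical
  exact if hy : y ≠ inf then Classical.choose (D.K_trans zero y D.zero_ne hy) else 1

theorem kOf_mem (D : ZData inf zero K) (y : Ω) : kOf D y ∈ K := by
  unfold kOf
  by_cases hy : y ≠ inf
  · rw [dif_pos hy]
    exact (Classical.choose_spec (D.K_trans zero y D.zero_ne hy)).1
  · rw [dif_neg hy]
    exact K.one_mem

theorem kOf_smul (D : ZData inf zero K) {y : Ω} (hy : y ≠ inf) : kOf D y • zero = y := by
  unfold kOf
  rw [dif_pos hy]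
  exact (Classical.choose_spec (D.K_trans zero y D.zero_ne hy)).2

theorem kOf_eq (D : ZData inf zero K) {k : G} (hk : k ∈ K) : kOf D (k • zero) = k := by
  have hne : k • zero ≠ inf := D.K_smul_ne_inf hk D.zero_ne
  exact D.K_unique (kOf_mem D _) hk D.zero_ne (kOf_smul D hne)

/-- the component in the two-point stabiliser of an element of the point stabiliser -/
noncomputable def hPart (D : ZData inf zero K) (b : G) : G := (kOf D (b • zero))⁻¹ * b

theorem hPart_mem (D : ZData inf zero K) {b : G} (hb : b • inf = inf) :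
    hPart D b ∈ stabH G inf zero := by
  have hbz : b • zero ≠ inf := D.smul_ne_inf hb D.zero_ne
  unfold hPart
  rw [mem_stabH]
  constructor
  · rw [mul_smul, hb, inv_smul_eq_iff, D.K_fix _ (kOf_mem D _)]
  · rw [mul_smul, inv_smul_eq_iff, kOf_smul D hbz]

theorem hPart_eq (D : ZData inf zero K) {k h : G} (hk : k ∈ K) (hh : h ∈ stabH G inf zero) :
    hPart D (k * h) = h := by
  unfold hPart
  have : (k * h) • zero = k • zero := by rw [mul_smul, (mem_stabH.mp hh).2]
  rw [this, kOf_eq D hk, inv_mul_cancel_left]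

theorem mul_hPart (D : ZData inf zero K) (b : G) : kOf D (b • zero) * hPart D b = b := by
  unfold hPart
  rw [mul_inv_cancel_left]

theorem hPart_mul (D : ZData inf zero K) {b b' : G} (hb : b • inf = inf) (hb' : b' • inf = inf) :
    hPart D (b * b') = hPart D b * hPart D b' := by
  have hh := hPart_mem D hb
  have hh' := hPart_mem D hb'
  have hk := kOf_mem D (b • zero)
  have hk' := kOf_mem D (b' • zero)
  have e : b * b' = (kOf D (b • zero) * (hPart D b * kOf D (b' • zero) * (hPart D b)⁻¹)) *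
      (hPart D b * hPart D b') := by
    conv_lhs => rw [← mul_hPart D b, ← mul_hPart D b']
    group
  rw [e]
  exact hPart_eq D (K.mul_mem hk (D.conj_mem hh hk')) ((stabH G inf zero).mul_mem hh hh')

end Cfsg.Agent.Helper61.S3t

namespace Cfsg.Agent.Helper61.S3t

open Cfsg.Agent.Helper61.Zs MulAction

variable {G Ω : Type*} [Group G] [MulAction G Ω] {inf zero : Ω} {K : Subgroup G}

/-- hypotheses for the extension of a character -/
structure CharData (D : ZData inf zero K) (t : G) (ψ : G → ℤˣ) : Prop where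
  t_inf : t • inf = zero
  t_zero : t • zero = inf
  t_sq : t * t = 1
  psi_one : ψ 1 = 1
  psi_mul : ∀ h h' : G, h ∈ stabH G inf zero → h' ∈ stabH G inf zero → ψ (h * h') = ψ h * ψ h'
  psi_inv : ∀ h : G, h ∈ stabH G inf zero → ψ (t * h * t) = ψ h
  trans : ∀ k k' : G, k ∈ K → k' ∈ K → k ≠ 1 → k' ≠ 1 → ∃ h ∈ stabH G inf zero, h * k * h⁻¹ = k'

/-- the character on the point stabiliser -/
noncomputable def chi (D : ZData inf zero K) (ψ : G → ℤˣ) (b : G) : ℤˣ := ψ (hPart D b)

/-- the Borel component of an element outside the point stabiliser -/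
noncomputable def rOf (D : ZData inf zero K) (t g : G) : G := t * (kOf D (g • inf))⁻¹ * g

/-- the extended character -/
noncomputable def phi (D : ZData inf zero K) (t : G) (ψ : G → ℤˣ) (ε : ℤˣ) (g : G) : ℤˣ := by
  classical
  exact if g • inf = inf then chi D ψ g else ε * chi D ψ (rOf D t g)

variable {D : ZData inf zero K} {t : G} {ψ : G → ℤˣ}

theorem phi_of_mem (ε : ℤˣ) {g : G} (hg : g • inf = inf) : phi D t ψ ε g = chi D ψ g := by
  unfold phi
  rw [if_pos hg]

theorem phi_of_not_mem (ε : ℤˣ) {g : G} (hg : g • inf ≠ inf) :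
    phi D t ψ ε g = ε * chi D ψ (rOf D t g) := by
  unfold phi
  rw [if_neg hg]

namespace CharData

variable (C : CharData D t ψ)
include C

theorem t_inv : t⁻¹ = t := inv_eq_of_mul_eq_one_left C.t_sq

theorem chi_mul {b b' : G} (hb : b • inf = inf) (hb' : b' • inf = inf) :
    chi D ψ (b * b') = chi D ψ b * chi D ψ b' := by
  unfold chi
  rw [hPart_mul D hb hb']
  exact C.psi_mul _ _ (hPart_mem D hb) (hPart_mem D hb')

theorem chi_K {k : G} (hk : k ∈ K) : chi D ψ k = 1 := by
  unfold chi
  have := hPart_eq D hk (stabH G inf zero).one_mem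
  rw [mul_one] at this
  rw [this, C.psi_one]

theorem chi_H {h : G} (hh : h ∈ stabH G inf zero) : chi D ψ h = ψ h := by
  unfold chi
  have := hPart_eq D K.one_mem hh
  rw [one_mul] at this
  rw [this]

theorem tconj_mem {h : G} (hh : h ∈ stabH G inf zero) : t * h * t ∈ stabH G inf zero := by
  rw [mem_stabH] at hh ⊢
  constructor
  · rw [mul_smul, mul_smul, C.t_inf, hh.2, C.t_zero]
  · rw [mul_smul, mul_smul, C.t_zero, hh.1, C.t_inf]

theorem rOf_inf {g : G} (hg : g • inf ≠ inf) : rOf D t g • inf = inf := by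
  unfold rOf
  rw [mul_smul, mul_smul, inv_smul_eq_iff.mpr (kOf_smul D hg).symm, C.t_zero]

theorem eq_rOf (g : G) : g = kOf D (g • inf) * t * rOf D t g := by
  unfold rOf
  have : kOf D (g • inf) * t * (t * (kOf D (g • inf))⁻¹ * g) =
      kOf D (g • inf) * (t * t) * (kOf D (g • inf))⁻¹ * g := by group
  rw [this, C.t_sq]
  group

theorem phi_mul_right (ε : ℤˣ) (g : G) {b : G} (hb : b • inf = inf) :
    phi D t ψ ε (g * b) = phi D t ψ ε g * chi D ψ b := by
  by_cases hg : g • inf = inf
  · have hgb : (g * b) • inf = inf := by rw [mul_smul, hb, hg]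
    rw [phi_of_mem ε hgb, phi_of_mem ε hg, C.chi_mul hg hb]
  · have hgb : (g * b) • inf ≠ inf := by rw [mul_smul, hb]; exact hg
    rw [phi_of_not_mem ε hgb, phi_of_not_mem ε hg]
    have e : rOf D t (g * b) = rOf D t g * b := by
      unfold rOf
      rw [mul_smul, hb]
      group
    rw [e, C.chi_mul (C.rOf_inf hg) hb, mul_assoc]

theorem phi_mul_left (ε : ℤˣ) {b : G} (hb : b • inf = inf) (g : G) :
    phi D t ψ ε (b * g) = chi D ψ b * phi D t ψ ε g := by
  by_cases hg : g • inf = inf
  · have hgb : (b * g) • inf = inf := by rw [mul_smul, hg, hb]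
    rw [phi_of_mem ε hgb, phi_of_mem ε hg, C.chi_mul hb hg]
  · have hgb : (b * g) • inf ≠ inf := by
      rw [mul_smul]
      intro h
      apply hg
      have : b • (g • inf) = b • inf := h.trans hb.symm
      exact smul_left_cancel b this
    rw [phi_of_not_mem ε hgb, phi_of_not_mem ε hg]
    set k := kOf D (b • zero) with hk
    set h := hPart D b with hh
    have hkK : k ∈ K := kOf_mem D _
    have hhH : h ∈ stabH G inf zero := hPart_mem D hb
    have hbkh : b = k * h := (mul_hPart D b).symm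
    set kg := kOf D (g • inf) with hkg
    have hkgK : kg ∈ K := kOf_mem D _
    have hkgz : kg • zero = g • inf := kOf_smul D hg
    -- the `K`-component of `b * g`
    have e1 : kOf D ((b * g) • inf) = k * (h * kg * h⁻¹) := by
      have : (b * g) • inf = (k * (h * kg * h⁻¹)) • zero := by
        calc (b * g) • inf = b • (kg • zero) := by rw [mul_smul, hkgz]
          _ = k • (h • (kg • zero)) := by rw [hbkh, mul_smul]
          _ = k • ((h * kg * h⁻¹) • zero) := by rw [D.conj_smul_zero hhH]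
          _ = (k * (h * kg * h⁻¹)) • zero := (mul_smul k (h * kg * h⁻¹) zero).symm
      rw [this]
      exact kOf_eq D (K.mul_mem hkK (D.conj_mem hhH hkgK))
    have e2 : rOf D t (b * g) = (t * h * t) * rOf D t g := by
      unfold rOf
      rw [e1, ← hkg]
      have : t * (k * (h * kg * h⁻¹))⁻¹ * (b * g) = t * h * kg⁻¹ * g := by
        rw [hbkh]; group
      rw [this]
      have : t * h * t * (t * kg⁻¹ * g) = t * h * (t * t) * kg⁻¹ * g := by group
      rw [this, C.t_sq]
      group
    have hth : (t * h * t) • inf = inf := (mem_stabH.mp (C.tconj_mem hhH)).1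
    rw [e2, C.chi_mul hth (C.rOf_inf hg), C.chi_H (C.tconj_mem hhH), C.psi_inv h hhH]
    have : chi D ψ b = ψ h := rfl
    rw [this]
    rw [← mul_assoc, ← mul_assoc, mul_comm ε]

end CharData

end Cfsg.Agent.Helper61.S3t

namespace Cfsg.Agent.Helper61.S3t

open Cfsg.Agent.Helper61.Zs MulAction

variable {G Ω : Type*} [Group G] [MulAction G Ω] {inf zero : Ω} {K : Subgroup G}

/-- the sign attached to a base element of `K` -/
noncomputable def epsOf (D : ZData inf zero K) (t : G) (ψ : G → ℤˣ) (k₀ : G) : ℤˣ :=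
  chi D ψ (rOf D t (t * k₀ * t))

variable {D : ZData inf zero K} {t : G} {ψ : G → ℤˣ}

namespace CharData

variable (C : CharData D t ψ)
include C

theorem tkt_not_mem {k : G} (hk : k ∈ K) (hk1 : k ≠ 1) : (t * k * t) • inf ≠ inf := by
  rw [mul_smul, mul_smul, C.t_inf]
  intro h
  have h1 : t • (k • zero) = t • zero := h.trans C.t_zero.symm
  have h2 : k • zero = zero := smul_left_cancel t h1
  exact hk1 (D.K_free k hk zero D.zero_ne h2)

theorem phi_one (ε : ℤˣ) : phi D t ψ ε 1 = 1 := by
  rw [phi_of_mem ε (one_smul G inf)]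
  exact C.chi_K K.one_mem

theorem phi_tkt_conj (ε : ℤˣ) {h : G} (hh : h ∈ stabH G inf zero) (k : G) :
    phi D t ψ ε (t * (h * k * h⁻¹) * t) = phi D t ψ ε (t * k * t) := by
  have hh' : h⁻¹ ∈ stabH G inf zero := (stabH G inf zero).inv_mem hh
  have h1 := C.tconj_mem hh
  have h2 := C.tconj_mem hh'
  have e : t * (h * k * h⁻¹) * t = (t * h * t) * ((t * k * t) * (t * h⁻¹ * t)) := by
    have : (t * h * t) * ((t * k * t) * (t * h⁻¹ * t)) =
        t * h * (t * t) * k * (t * t) * h⁻¹ * t := by group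
    rw [this, C.t_sq]
    group
  rw [e, C.phi_mul_left ε (mem_stabH.mp h1).1, C.phi_mul_right ε _ (mem_stabH.mp h2).1,
    C.chi_H h1, C.chi_H h2]
  have h3 : ψ (t * h * t) * ψ (t * h⁻¹ * t) = 1 := by
    rw [← C.psi_mul _ _ h1 h2]
    have : t * h * t * (t * h⁻¹ * t) = t * h * (t * t) * h⁻¹ * t := by group
    rw [this, C.t_sq]
    have : t * h * 1 * h⁻¹ * t = t * t := by group
    rw [this, C.t_sq, C.psi_one]
  rw [mul_comm (phi D t ψ ε (t * k * t)), ← mul_assoc, h3, one_mul]

theorem phi_tkt {k₀ : G} (hk₀ : k₀ ∈ K) (hk₀1 : k₀ ≠ 1) {k : G} (hk : k ∈ K) :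
    phi D t ψ (epsOf D t ψ k₀) (t * k * t) = 1 := by
  by_cases hk1 : k = 1
  · rw [hk1, mul_one, C.t_sq]
    exact C.phi_one _
  · obtain ⟨h, hh, hhk⟩ := C.trans k₀ k hk₀ hk hk₀1 hk1
    rw [← hhk, C.phi_tkt_conj _ hh, phi_of_not_mem _ (C.tkt_not_mem hk₀ hk₀1)]
    exact Int.units_mul_self _

theorem phi_t (ε : ℤˣ) : phi D t ψ ε t = ε := by
  have h1 : t • inf ≠ inf := by rw [C.t_inf]; exact D.zero_ne
  rw [phi_of_not_mem ε h1]
  have h2 : rOf D t t = 1 := by
    unfold rOf
    have : kOf D (t • inf) = 1 := by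
      rw [C.t_inf]
      have := kOf_eq D (K.one_mem)
      rwa [one_smul] at this
    rw [this, inv_one, mul_one, C.t_sq]
  rw [h2, C.chi_K K.one_mem, mul_one]

theorem phi_mul_t {k₀ : G} (hk₀ : k₀ ∈ K) (hk₀1 : k₀ ≠ 1) (g : G) :
    phi D t ψ (epsOf D t ψ k₀) (g * t) =
      phi D t ψ (epsOf D t ψ k₀) g * phi D t ψ (epsOf D t ψ k₀) t := by
  set ε := epsOf D t ψ k₀ with hε
  by_cases hg : g • inf = inf
  · rw [C.phi_mul_left ε hg, phi_of_mem ε hg]
  · set r := rOf D t g with hr
    have hrinf : r • inf = inf := C.rOf_inf hg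
    set kg := kOf D (g • inf) with hkg
    have hkgK : kg ∈ K := kOf_mem D _
    set kr := kOf D (r • zero) with hkr
    set hr' := hPart D r with hhr
    have hkrK : kr ∈ K := kOf_mem D _
    have hhrH : hr' ∈ stabH G inf zero := hPart_mem D hrinf
    have hrdec : r = kr * hr' := (mul_hPart D r).symm
    have e : g * t = kg * ((t * kr * t) * (t * hr' * t)) := by
      have h1 : g = kg * t * r := C.eq_rOf g
      have h2 : kg * ((t * kr * t) * (t * hr' * t)) = kg * t * kr * (t * t) * hr' * t := by group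
      rw [h2, C.t_sq]
      conv_lhs => rw [h1, hrdec]
      group
    have hth := C.tconj_mem hhrH
    rw [e, C.phi_mul_left ε (D.K_fix kg hkgK), C.chi_K hkgK, one_mul,
      C.phi_mul_right ε _ (mem_stabH.mp hth).1, C.phi_tkt hk₀ hk₀1 hkrK, one_mul, C.chi_H hth,
      C.psi_inv _ hhrH, phi_of_not_mem ε hg, C.phi_t]
    have : chi D ψ r = ψ hr' := rfl
    rw [this, mul_comm ε, mul_assoc, Int.units_mul_self, mul_one]

theorem phi_mul {k₀ : G} (hk₀ : k₀ ∈ K) (hk₀1 : k₀ ≠ 1) (g x : G) :
    phi D t ψ (epsOf D t ψ k₀) (g * x) =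
      phi D t ψ (epsOf D t ψ k₀) g * phi D t ψ (epsOf D t ψ k₀) x := by
  set ε := epsOf D t ψ k₀ with hε
  by_cases hx : x • inf = inf
  · rw [C.phi_mul_right ε g hx, phi_of_mem ε hx]
  · set r := rOf D t x with hr
    have hrinf : r • inf = inf := C.rOf_inf hx
    set kx := kOf D (x • inf) with hkx
    have hkxK : kx ∈ K := kOf_mem D _
    have hxdec : x = kx * t * r := C.eq_rOf x
    have aux : ∀ g : G, phi D t ψ ε (g * x) = phi D t ψ ε g * (phi D t ψ ε t * chi D ψ r) := by
      intro g
      have e : g * x = ((g * kx) * t) * r := by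
        conv_lhs => rw [hxdec]
        group
      rw [e, C.phi_mul_right ε _ hrinf, C.phi_mul_t hk₀ hk₀1, C.phi_mul_right ε g (D.K_fix kx hkxK),
        C.chi_K hkxK, mul_one, mul_assoc]
    have h1 := aux 1
    rw [one_mul, C.phi_one, one_mul] at h1
    rw [aux g, h1]

/-- **The extended character.** -/
theorem exists_hom (hK : ∃ k ∈ K, k ≠ 1) :
    ∃ φ : G →* ℤˣ, ∀ h ∈ stabH G inf zero, φ h = ψ h := by
  obtain ⟨k₀, hk₀, hk₀1⟩ := hK
  refine ⟨MonoidHom.mk' (phi D t ψ (epsOf D t ψ k₀)) (C.phi_mul hk₀ hk₀1), ?_⟩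
  intro h hh
  show phi D t ψ (epsOf D t ψ k₀) h = ψ h
  rw [phi_of_mem _ (mem_stabH.mp hh).1, C.chi_H hh]

end CharData

end Cfsg.Agent.Helper61.S3t
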