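import Mathlib
import Cfsg.Agent.Helper71.QuatSquare

set_option autoImplicit false

/-! The Zassenhaus bound: if a quaternion pair `X, Y` (`X² = Y² = -1`, `XY = -YX`) acts on a
finite abelian group `M` of odd order, then `M` has a subgroup `W` with `|M| = |W|²` invariant
under every automorphism commuting with `X` and `Y`; hence a group `C` of such automorphisms acting
freely on `M ∖ {0}` has order dividing `√|M| - 1`.  (The construction of `W` follows
`Helper71.isSquare_card_of_quaternion_action`.) -/

namespace Cfsg.Agent.Helper61.S3t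

open Cfsg.Agent.Helper71

/-- the nilpotent operator `u = aX + bY + XY` with `ker u = range u` -/
theorem quat_core {M : Type*} [AddCommGroup M] [Finite M]
    (X Y : M →+ M) (hX : ∀ m, X (X m) = -m) (hY : ∀ m, Y (Y m) = -m)
    (hXY : ∀ m, X (Y m) = -Y (X m)) (hodd : Odd (Nat.card M)) :
    ∃ a b : ℤ, (a • X + b • Y + X.comp Y).ker = (a • X + b • Y + X.comp Y).range := by
  obtain ⟨a, b, hab⟩ := exists_sq_add_sq_add_one _ hodd
  refine ⟨a, b, ?_⟩
  have hc : ∀ m : M, (a ^ 2 + b ^ 2 + 1 : ℤ) • m = 0 := by
    intro m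
    obtain ⟨d, hd⟩ := hab
    rw [hd, mul_smul, natCast_zsmul]
    exact card_nsmul_eq_zero'
  set u : M →+ M := a • X + b • Y + X.comp Y with hudef
  let v : M →+ M := a • X + b • Y - X.comp Y
  have hu : ∀ m, u m = a • X m + b • Y m + X (Y m) := fun m => rfl
  have hv : ∀ m, v m = a • X m + b • Y m - X (Y m) := fun m => rfl
  have huu : ∀ m, u (u m) = 0 := by
    intro m
    have h := hc m
    simp only [hu, map_add, map_neg, map_zsmul, hX, hY, hXY, neg_neg, smul_neg, smul_add]
    linear_combination (norm := module) (-1 : ℤ) • h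
  have huv : ∀ m, u (v m) + v (u m) = (4 : ℤ) • m := by
    intro m
    have h := hc m
    simp only [hu, hv, map_add, map_sub, map_neg, map_zsmul, hX, hY, hXY, neg_neg, smul_neg,
      smul_add, smul_sub]
    linear_combination (norm := module) (-2 : ℤ) • h
  apply le_antisymm
  · intro m hm
    rw [AddMonoidHom.mem_ker] at hm
    have h4 := huv m
    rw [hm, map_zero, add_zero] at h4
    obtain ⟨t, ht⟩ := hodd
    have hn : ((Nat.card M : ℕ) : ℤ) • m = 0 := by
      rw [natCast_zsmul]; exact card_nsmul_eq_zero'
    rw [ht] at hn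
    push_cast at hn
    have h1 : ((2 * (t : ℤ) + 1) * (2 * t + 1)) • m = 0 := by
      rw [mul_smul, hn, smul_zero]
    have h2 : m = u ((-((t : ℤ) ^ 2 + t)) • v m) := by
      rw [map_zsmul, h4]
      linear_combination (norm := module) (1 : ℤ) • h1
    rw [h2]
    exact ⟨_, rfl⟩
  · rintro _ ⟨m, rfl⟩
    rw [AddMonoidHom.mem_ker]
    exact huu m

/-- **The bound.** -/
theorem quat_bound {M : Type*} [AddCommGroup M] [Finite M]
    (X Y : M →+ M) (hX : ∀ m, X (X m) = -m) (hY : ∀ m, Y (Y m) = -m)
    (hXY : ∀ m, X (Y m) = -Y (X m)) (hodd : Odd (Nat.card M))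
    {C : Type*} [Group C] [Finite C] (act : C → M →+ M) (hact1 : ∀ m, act 1 m = m)
    (hactmul : ∀ c c' m, act (c * c') m = act c (act c' m))
    (hCX : ∀ c m, X (act c m) = act c (X m)) (hCY : ∀ c m, Y (act c m) = act c (Y m))
    (hfree : ∀ c m, act c m = m → m ≠ 0 → c = 1) :
    ∃ s : ℕ, s * s = Nat.card M ∧ Nat.card C ∣ s - 1 := by
  classical
  obtain ⟨a, b, hker⟩ := quat_core X Y hX hY hXY hodd
  set u : M →+ M := a • X + b • Y + X.comp Y with hudef
  have hu : ∀ m, u m = a • X m + b • Y m + X (Y m) := fun m => rfl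
  have huc : ∀ c m, u (act c m) = act c (u m) := by
    intro c m
    rw [hu, hu, hCX, hCY, hCX, map_add, map_add, map_zsmul, map_zsmul]
  refine ⟨Nat.card u.ker, ?_, ?_⟩
  · have h1 := AddSubgroup.card_eq_card_quotient_mul_card_addSubgroup u.ker
    have h2 : Nat.card (M ⧸ u.ker) = Nat.card u.range :=
      Nat.card_congr (QuotientAddGroup.quotientKerEquivRange u).toEquiv
    rw [h2, ← hker] at h1
    exact h1.symm
  · -- the free action on the non-zero elements of the kernel
    let S := {w : M // w ∈ u.ker ∧ w ≠ 0}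
    letI : MulAction C S :=
      { smul := fun c w => ⟨act c w.1, by
          rw [AddMonoidHom.mem_ker, huc, (AddMonoidHom.mem_ker.mp w.2.1), map_zero], by
          intro h
          apply w.2.2
          have h2 : act c⁻¹ (act c w.1) = w.1 := by
            rw [← hactmul, inv_mul_cancel, hact1]
          rw [← h2, h, map_zero]⟩
        one_smul := fun w => by
          apply Subtype.ext
          exact hact1 w.1
        mul_smul := fun c c' w => by
          apply Subtype.ext
          exact hactmul c c' w.1 }
    have hstab : ∀ w : S, MulAction.stabilizer C w = ⊥ := by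
      intro w
      rw [eq_bot_iff]
      intro c hc
      rw [MulAction.mem_stabilizer_iff] at hc
      have h1 : act c w.1 = w.1 := congrArg Subtype.val hc
      rw [Subgroup.mem_bot]
      exact hfree c w.1 h1 w.2.2
    have e := MulAction.selfEquivOrbitsQuotientProd hstab
    have hcard : Nat.card S = Nat.card (Quotient (MulAction.orbitRel C S)) * Nat.card C := by
      rw [Nat.card_congr e, Nat.card_prod]
    have hS : Nat.card S = Nat.card u.ker - 1 := by
      have e2 : S ≃ {w : u.ker // w ≠ 0} :=
        { toFun := fun w => ⟨⟨w.1, w.2.1⟩, fun h => w.2.2 (congrArg Subtype.val h)⟩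
          invFun := fun w => ⟨w.1.1, w.1.2, fun h => w.2 (Subtype.ext h)⟩
          left_inv := fun w => rfl
          right_inv := fun w => rfl }
      rw [Nat.card_congr e2]
      haveI : Fintype u.ker := Fintype.ofFinite _
      rw [Nat.card_eq_fintype_card, Fintype.card_subtype_compl, Fintype.card_subtype_eq,
        Nat.card_eq_fintype_card]
    rw [← hS, hcard]
    exact dvd_mul_left _ _

end Cfsg.Agent.Helper61.S3t
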