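import Mathlib
import Cfsg.Agent.Helper61.ZsCount
import Cfsg.Agent.Helper61.S3tBound
import Cfsg.Agent.Helper71.FrobPP

set_option autoImplicit false
set_option linter.unusedSectionVars false

/-! Sharply triply transitive groups given as Zassenhaus data: properties of the two-point
stabiliser needed for the abstract index-two theorem. -/

namespace Cfsg.Agent.Helper61.S3t

open Cfsg.Agent.Helper61.Zs MulAction Cfsg.Agent.Helper71

/-- multiplicative form of the bound -/
theorem quat_bound_mul {A : Type*} [CommGroup A] [Finite A]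
    (X Y : A →* A) (hX : ∀ m, X (X m) = m⁻¹) (hY : ∀ m, Y (Y m) = m⁻¹)
    (hXY : ∀ m, X (Y m) = (Y (X m))⁻¹) (hodd : Odd (Nat.card A))
    {C : Type*} [Group C] [Finite C] (act : C → A →* A) (hact1 : ∀ m, act 1 m = m)
    (hactmul : ∀ c c' m, act (c * c') m = act c (act c' m))
    (hCX : ∀ c m, X (act c m) = act c (X m)) (hCY : ∀ c m, Y (act c m) = act c (Y m))
    (hfree : ∀ c m, act c m = m → m ≠ 1 → c = 1) :
    ∃ s : ℕ, s * s = Nat.card A ∧ Nat.card C ∣ s - 1 := by
  have hodd' : Odd (Nat.card (Additive A)) := hodd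
  have := quat_bound (M := Additive A) (MonoidHom.toAdditive X) (MonoidHom.toAdditive Y)
    (fun m => hX (Additive.toMul m)) (fun m => hY (Additive.toMul m))
    (fun m => hXY (Additive.toMul m)) hodd' (C := C)
    (fun c => MonoidHom.toAdditive (act c)) (fun m => hact1 (Additive.toMul m))
    (fun c c' m => hactmul c c' (Additive.toMul m))
    (fun c m => hCX c (Additive.toMul m)) (fun c m => hCY c (Additive.toMul m))
    (fun c m h hm => hfree c (Additive.toMul m) h hm)
  exact this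

/-- the bound for an abelian subgroup normalised by a quaternion pair -/
theorem quat_bound_subgroup {L : Type*} [Group L] (A : Subgroup L) [Finite A]
    (hA : ∀ a b : L, a ∈ A → b ∈ A → a * b = b * a) (x y : L)
    (hx : ∀ n ∈ A, x * n * x⁻¹ ∈ A) (hy : ∀ n ∈ A, y * n * y⁻¹ ∈ A)
    (hxx : ∀ n ∈ A, (x * x) * n * (x * x)⁻¹ = n⁻¹) (hyy : ∀ n ∈ A, (y * y) * n * (y * y)⁻¹ = n⁻¹)
    (hxy : ∀ n ∈ A, (x * y) * n * (x * y)⁻¹ = ((y * x) * n * (y * x)⁻¹)⁻¹)
    (hodd : Odd (Nat.card A)) (C : Subgroup L) [Finite C]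
    (hC : ∀ c ∈ C, ∀ n ∈ A, c * n * c⁻¹ ∈ A) (hCx : ∀ c ∈ C, c * x = x * c)
    (hCy : ∀ c ∈ C, c * y = y * c)
    (hfree : ∀ c ∈ C, ∀ n ∈ A, c * n * c⁻¹ = n → n ≠ 1 → c = 1) :
    ∃ s : ℕ, s * s = Nat.card A ∧ Nat.card C ∣ s - 1 := by
  letI : CommGroup ↥A :=
    { (inferInstance : Group ↥A) with mul_comm := fun a b => Subtype.ext (hA a.1 b.1 a.2 b.2) }
  refine quat_bound_mul (A := ↥A) (conjHom A x hx) (conjHom A y hy) ?_ ?_ ?_ hodd (C := ↥C)
    (fun c => conjHom A c.1 (hC c.1 c.2)) ?_ ?_ ?_ ?_ ?_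
  · intro m
    apply Subtype.ext
    show x * (x * (m : L) * x⁻¹) * x⁻¹ = ((m : L))⁻¹
    rw [← hxx m.1 m.2]; group
  · intro m
    apply Subtype.ext
    show y * (y * (m : L) * y⁻¹) * y⁻¹ = ((m : L))⁻¹
    rw [← hyy m.1 m.2]; group
  · intro m
    apply Subtype.ext
    show x * (y * (m : L) * y⁻¹) * x⁻¹ = (y * (x * (m : L) * x⁻¹) * y⁻¹)⁻¹
    have := hxy m.1 m.2
    have e1 : x * (y * (m : L) * y⁻¹) * x⁻¹ = (x * y) * m * (x * y)⁻¹ := by group
    have e2 : y * (x * (m : L) * x⁻¹) * y⁻¹ = (y * x) * m * (y * x)⁻¹ := by group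
    rw [e1, e2, this]
  · intro m
    apply Subtype.ext
    show (1 : L) * (m : L) * (1 : L)⁻¹ = m
    group
  · intro c c' m
    apply Subtype.ext
    show ((c : L) * (c' : L)) * (m : L) * ((c : L) * (c' : L))⁻¹ =
      (c : L) * ((c' : L) * (m : L) * (c' : L)⁻¹) * (c : L)⁻¹
    group
  · intro c m
    apply Subtype.ext
    show x * ((c : L) * (m : L) * (c : L)⁻¹) * x⁻¹ = (c : L) * (x * (m : L) * x⁻¹) * (c : L)⁻¹
    have h := hCx c.1 c.2
    have e1 : x * ((c : L) * (m : L) * (c : L)⁻¹) * x⁻¹ = (x * c) * m * (x * c)⁻¹ := by group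
    have e2 : (c : L) * (x * (m : L) * x⁻¹) * (c : L)⁻¹ = (c * x) * m * (c * x)⁻¹ := by group
    rw [e1, e2, h]
  · intro c m
    apply Subtype.ext
    show y * ((c : L) * (m : L) * (c : L)⁻¹) * y⁻¹ = (c : L) * (y * (m : L) * y⁻¹) * (c : L)⁻¹
    have h := hCy c.1 c.2
    have e1 : y * ((c : L) * (m : L) * (c : L)⁻¹) * y⁻¹ = (y * c) * m * (y * c)⁻¹ := by group
    have e2 : (c : L) * (y * (m : L) * y⁻¹) * (c : L)⁻¹ = (c * y) * m * (c * y)⁻¹ := by group
    rw [e1, e2, h]
  · intro c m h hm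
    apply Subtype.ext
    have h' : (c : L) * (m : L) * (c : L)⁻¹ = m := congrArg Subtype.val h
    exact hfree c.1 c.2 m.1 m.2 h' (fun h1 => hm (Subtype.ext h1))

end Cfsg.Agent.Helper61.S3t

namespace Cfsg.Agent.Helper61.S3t

open Cfsg.Agent.Helper61.Zs MulAction Cfsg.Agent.Helper71

variable {G Ω : Type*} [Group G] [MulAction G Ω] {inf zero : Ω} {K : Subgroup G}

/-- sharply triply transitive data: Zassenhaus data whose two-point stabiliser has even order and
is transitive on the remaining points, with an element interchanging the two base points and fixing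
a third point -/
structure S3Data (D : ZData inf zero K) (t : G) (c : Ω) : Prop where
  heven : Even (Nat.card (stabH G inf zero))
  htr : ∀ w w' : Ω, w ≠ inf → w ≠ zero → w' ≠ inf → w' ≠ zero →
    ∃ h ∈ stabH G inf zero, h • w = w'
  t_inf : t • inf = zero
  t_zero : t • zero = inf
  c_inf : c ≠ inf
  c_zero : c ≠ zero
  t_c : t • c = c

namespace S3Data

variable {D : ZData inf zero K} {t : G} {c : Ω} (S : S3Data D t c)
include S

theorem t_sq : t * t = 1 := by
  apply D.three_fixed (t * t) inf zero c D.ne S.c_zero.symm S.c_inf.symm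
  · rw [mul_smul, S.t_inf, S.t_zero]
  · rw [mul_smul, S.t_zero, S.t_inf]
  · rw [mul_smul, S.t_c, S.t_c]

theorem t_ne_one : t ≠ 1 := by
  intro h
  have := S.t_inf
  rw [h, one_smul] at this
  exact D.ne this

theorem t_inv : t⁻¹ = t := inv_eq_of_mul_eq_one_left S.t_sq

theorem trans_K (k k' : G) (hk : k ∈ K) (hk' : k' ∈ K) (hk1 : k ≠ 1) (hk'1 : k' ≠ 1) :
    ∃ h ∈ stabH G inf zero, h * k * h⁻¹ = k' := by
  have h1 : k • zero ≠ inf := D.K_smul_ne_inf hk D.zero_ne
  have h2 : k • zero ≠ zero := fun h => hk1 (D.K_free k hk zero D.zero_ne h)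
  have h1' : k' • zero ≠ inf := D.K_smul_ne_inf hk' D.zero_ne
  have h2' : k' • zero ≠ zero := fun h => hk'1 (D.K_free k' hk' zero D.zero_ne h)
  obtain ⟨h, hh, hhw⟩ := S.htr _ _ h1 h2 h1' h2'
  refine ⟨h, hh, ?_⟩
  apply D.K_unique (D.conj_mem hh hk) hk' D.zero_ne
  rw [D.conj_smul_zero hh, hhw]

theorem card_K [Finite G] : Nat.card K = Nat.card (stabH G inf zero) + 1 := by
  classical
  obtain ⟨k₀, hk₀, hk₀1⟩ := D.exists_K_ne_one
  have h1 : Nat.card (stabH G inf zero) = Nat.card {k : K // k ≠ 1} := by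
    apply Nat.card_congr
    refine Equiv.ofBijective (fun h => ⟨⟨h.1 * k₀ * h.1⁻¹, D.conj_mem h.2 hk₀⟩, ?_⟩) ⟨?_, ?_⟩
    · intro h1
      apply hk₀1
      have h2 : h.1 * k₀ * h.1⁻¹ = 1 := congrArg Subtype.val h1
      have : k₀ = h.1⁻¹ * (h.1 * k₀ * h.1⁻¹) * h.1 := by group
      rw [this, h2]; group
    · intro h h' hhh
      have h2 : h.1 * k₀ * h.1⁻¹ = h'.1 * k₀ * h'.1⁻¹ :=
        congrArg (fun x : {k : K // k ≠ 1} => (x.1 : G)) hhh
      have h3 : (h'.1⁻¹ * h.1) * k₀ * (h'.1⁻¹ * h.1)⁻¹ = k₀ := by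
        have : (h'.1⁻¹ * h.1) * k₀ * (h'.1⁻¹ * h.1)⁻¹ = h'.1⁻¹ * (h.1 * k₀ * h.1⁻¹) * h'.1 := by
          group
        rw [this, h2]; group
      have h4 := D.eq_one_of_conj_eq ((stabH G inf zero).mul_mem ((stabH G inf zero).inv_mem h'.2)
        h.2) hk₀ hk₀1 h3
      apply Subtype.ext
      exact (inv_mul_eq_one.mp h4).symm
    · rintro ⟨⟨k, hk⟩, hk1⟩
      have hk1' : k ≠ 1 := fun h => hk1 (Subtype.ext h)
      obtain ⟨h, hh, hhk⟩ := S.trans_K k₀ k hk₀ hk hk₀1 hk1'
      exact ⟨⟨h, hh⟩, Subtype.ext (Subtype.ext hhk)⟩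
  haveI : Fintype K := Fintype.ofFinite _
  have h2 : Nat.card {k : K // k ≠ 1} = Fintype.card K - 1 := by
    rw [Nat.card_eq_fintype_card, Fintype.card_subtype_compl, Fintype.card_subtype_eq]
  rw [h1, h2, Nat.card_eq_fintype_card]
  have : 0 < Fintype.card K := Fintype.card_pos
  omega

theorem three_trans {x y w x' y' w' : Ω} (hxy : x ≠ y) (hxw : x ≠ w) (hyw : y ≠ w)
    (hxy' : x' ≠ y') (hxw' : x' ≠ w') (hyw' : y' ≠ w') :
    ∃ g : G, g • x = x' ∧ g • y = y' ∧ g • w = w' := by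
  obtain ⟨g1, h1x, h1y⟩ := D.two_trans x y inf zero hxy D.ne
  obtain ⟨g2, h2x, h2y⟩ := D.two_trans x' y' inf zero hxy' D.ne
  have a1 : g1 • w ≠ inf := by
    rw [← h1x]; intro h; exact hxw (smul_left_cancel g1 h).symm
  have a2 : g1 • w ≠ zero := by
    rw [← h1y]; intro h; exact hyw (smul_left_cancel g1 h).symm
  have b1 : g2 • w' ≠ inf := by
    rw [← h2x]; intro h; exact hxw' (smul_left_cancel g2 h).symm
  have b2 : g2 • w' ≠ zero := by
    rw [← h2y]; intro h; exact hyw' (smul_left_cancel g2 h).symm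
  obtain ⟨h, hh, hhw⟩ := S.htr _ _ a1 a2 b1 b2
  refine ⟨g2⁻¹ * h * g1, ?_, ?_, ?_⟩
  · rw [mul_smul, mul_smul, h1x, (mem_stabH.mp hh).1, inv_smul_eq_iff, h2x]
  · rw [mul_smul, mul_smul, h1y, (mem_stabH.mp hh).2, inv_smul_eq_iff, h2y]
  · rw [mul_smul, mul_smul, hhw, inv_smul_smul]

/-- two elements agreeing at three points are equal -/
theorem eq_of_agree {g g' : G} {x y w : Ω} (hxy : x ≠ y) (hxw : x ≠ w) (hyw : y ≠ w)
    (hx : g • x = g' • x) (hy : g • y = g' • y) (hw : g • w = g' • w) : g = g' := by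
  have := D.three_fixed (g'⁻¹ * g) x y w hxy hyw hxw (by rw [mul_smul, hx, inv_smul_smul])
    (by rw [mul_smul, hy, inv_smul_smul]) (by rw [mul_smul, hw, inv_smul_smul])
  exact (inv_mul_eq_one.mp this).symm

end S3Data

end Cfsg.Agent.Helper61.S3t

namespace Cfsg.Agent.Helper61.S3t

open Cfsg.Agent.Helper61.Zs MulAction Cfsg.Agent.Helper71

variable {G Ω : Type*} [Group G] [MulAction G Ω] {inf zero : Ω} {K : Subgroup G}

namespace S3Data

variable {D : ZData inf zero K} {t : G} {c : Ω} (S : S3Data D t c)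
include S

theorem smul_c_ne {h : G} (hh : h ∈ stabH G inf zero) (h1 : h ≠ 1) : h • c ≠ c := by
  intro hc
  exact h1 (D.three_fixed h inf zero c D.ne S.c_zero.symm S.c_inf.symm (mem_stabH.mp hh).1
    (mem_stabH.mp hh).2 hc)

theorem order3_key {ρ ρ' : G} (hρ : ρ ∈ stabH G inf zero) (hρ' : ρ' ∈ stabH G inf zero)
    (h3 : orderOf ρ = 3) (h3' : orderOf ρ' = 3) : ρ' = ρ ∨ ρ' = t * ρ * t := by
  have facts : ∀ r : G, r ∈ stabH G inf zero → orderOf r = 3 →
      r ≠ 1 ∧ r * r ≠ 1 ∧ r * r * r = 1 ∧ r • c ≠ c ∧ r • (r • c) ≠ c ∧ r • (r • c) ≠ r • c := by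
    intro r hr ho
    have h1 : r ≠ 1 := by
      intro h; rw [h, orderOf_one] at ho; norm_num at ho
    have h2 : r * r ≠ 1 := by
      intro h
      have : r ^ 2 = 1 := by rw [pow_two]; exact h
      have := orderOf_dvd_of_pow_eq_one this
      rw [ho] at this
      norm_num at this
    have h3 : r * r * r = 1 := by
      have := pow_orderOf_eq_one r
      rw [ho, pow_succ, pow_two] at this
      exact this
    refine ⟨h1, h2, h3, S.smul_c_ne hr h1, ?_, ?_⟩
    · rw [← mul_smul]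
      exact S.smul_c_ne ((stabH G inf zero).mul_mem hr hr) h2
    · intro h
      exact S.smul_c_ne hr h1 (smul_left_cancel r h)
  obtain ⟨a1, a2, a3, a4, a5, a6⟩ := facts ρ hρ h3
  obtain ⟨b1, b2, b3, b4, b5, b6⟩ := facts ρ' hρ' h3'
  obtain ⟨g, hg1, hg2, hg3⟩ := S.three_trans (x := c) (y := ρ • c) (w := ρ • (ρ • c))
    (x' := c) (y' := ρ' • c) (w' := ρ' • (ρ' • c)) a4.symm a5.symm a6.symm b4.symm b5.symm b6.symm
  have hginv : g⁻¹ • c = c := by rw [inv_smul_eq_iff, hg1]
  have hconj : g * ρ * g⁻¹ = ρ' := by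
    apply eq_of_agree S (x := c) (y := ρ' • c) (w := ρ' • (ρ' • c)) b4.symm b5.symm b6.symm
    · rw [mul_smul, mul_smul, hginv, hg2]
    · rw [mul_smul, mul_smul, ← hg2, inv_smul_smul, hg3, hg2]
    · have s1 : ρ • (ρ • (ρ • c)) = c := by
        rw [← mul_smul, ← mul_smul, a3, one_smul]
      have s2 : ρ' • (ρ' • (ρ' • c)) = c := by
        rw [← mul_smul, ← mul_smul, b3, one_smul]
      calc (g * ρ * g⁻¹) • (ρ' • (ρ' • c)) = g • (ρ • (g⁻¹ • (ρ' • (ρ' • c)))) := by
            rw [mul_smul, mul_smul]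
        _ = g • (ρ • (ρ • (ρ • c))) := by rw [← hg3, inv_smul_smul]
        _ = g • c := by rw [s1]
        _ = c := hg1
        _ = ρ' • (ρ' • (ρ' • c)) := s2.symm
  have hfix : ∀ x : Ω, ρ • x = x → ρ' • (g • x) = g • x := by
    intro x hx
    rw [← hconj, mul_smul, mul_smul, inv_smul_smul, hx]
  have hinf := D.fix_invol hρ' b1 (hfix inf (mem_stabH.mp hρ).1)
  have hzero := D.fix_invol hρ' b1 (hfix zero (mem_stabH.mp hρ).2)
  rcases hinf with hinf | hinf
  · left
    have hz : g • zero = zero := by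
      rcases hzero with h | h
      · exfalso
        exact D.zero_ne (smul_left_cancel g (h.trans hinf.symm))
      · exact h
    have : g = 1 := D.three_fixed g inf zero c D.ne S.c_zero.symm S.c_inf.symm hinf hz hg1
    rw [← hconj, this]; group
  · right
    have hz : g • zero = inf := by
      rcases hzero with h | h
      · exact h
      · exfalso
        exact D.zero_ne (smul_left_cancel g (h.trans hinf.symm))
    have : g = t := by
      apply eq_of_agree S (x := inf) (y := zero) (w := c) D.ne S.c_inf.symm S.c_zero.symm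
      · rw [hinf, S.t_inf]
      · rw [hz, S.t_zero]
      · rw [hg1, S.t_c]
    rw [← hconj, this, S.t_inv]

theorem order3_rigid {ρ ρ' : G} (hρ : ρ ∈ stabH G inf zero) (hρ' : ρ' ∈ stabH G inf zero)
    (h3 : orderOf ρ = 3) (h3' : orderOf ρ' = 3) : ρ' = ρ ∨ ρ' = ρ⁻¹ := by
  have hinv : t * ρ * t = ρ⁻¹ := by
    rcases S.order3_key hρ ((stabH G inf zero).inv_mem hρ) h3 (by rw [orderOf_inv]; exact h3)
      with h | h
    · exfalso
      have h2 : ρ * ρ = 1 := by
        calc ρ * ρ = ρ⁻¹ * ρ := by rw [h]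
          _ = 1 := inv_mul_cancel ρ
      have : ρ ^ 2 = 1 := by rw [pow_two]; exact h2
      have := orderOf_dvd_of_pow_eq_one this
      rw [h3] at this
      norm_num at this
    · exact h.symm
  rcases S.order3_key hρ hρ' h3 h3' with h | h
  · exact Or.inl h
  · right; rw [h, hinv]

theorem sigma_fix {h : G} (hh : h ∈ stabH G inf zero) (hfix : t * h * t = h) : h * h = 1 := by
  have hcomm : t * h = h * t := by
    calc t * h = (t * h * t) * t⁻¹ := by group
      _ = h * t := by rw [hfix, S.t_inv]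
  have e1 : t • (h • c) = h • c := by
    rw [← mul_smul, hcomm, mul_smul, S.t_c]
  have e2 : t • (h • (h • c)) = h • (h • c) := by
    rw [← mul_smul, hcomm, mul_smul, e1]
  by_cases hc : h • c = c
  · have : h = 1 := D.three_fixed h inf zero c D.ne S.c_zero.symm S.c_inf.symm (mem_stabH.mp hh).1
      (mem_stabH.mp hh).2 hc
    rw [this, one_mul]
  · rcases D.eq_of_three_fixed S.t_ne_one (x := c) (y := h • c) (z := h • (h • c))
      (fun h' => hc h'.symm) S.t_c e1 e2 with h' | h'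
    · apply D.three_fixed (h * h) inf zero c D.ne S.c_zero.symm S.c_inf.symm
      · rw [mul_smul, (mem_stabH.mp hh).1, (mem_stabH.mp hh).1]
      · rw [mul_smul, (mem_stabH.mp hh).2, (mem_stabH.mp hh).2]
      · rw [mul_smul, h']
    · exact absurd (smul_left_cancel h h') hc

theorem hcyc_G [Finite G] {p : ℕ} (hp : p.Prime) {u v : G} (hu : u ∈ stabH G inf zero)
    (hv : v ∈ stabH G inf zero) (hu1 : u ≠ 1) (hup : u ^ p = 1) (hvp : v ^ p = 1)
    (hcomm : u * v = v * u) : v ∈ Subgroup.zpowers u := by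
  haveI : Fact p.Prime := ⟨hp⟩
  by_contra hvu
  have hou : orderOf u = p := orderOf_eq_prime hup hu1
  have key := pow_eq_one_of_fpf_pair_subgroup K
    (fun x y => Subtype.ext (D.K_comm S.heven x.2 y.2)) p hp.pos u v
    (fun n hn => D.conj_mem hu hn) (fun n hn => D.conj_mem hv hn) hcomm hup hvp ?_ ?_
  · obtain ⟨k₀, hk₀, hk₀1⟩ := D.exists_K_ne_one
    have hk₀p := key k₀ hk₀
    have hok : orderOf k₀ = p := orderOf_eq_prime hk₀p hk₀1
    have h1 : p ∣ Nat.card K := by
      have : orderOf (⟨k₀, hk₀⟩ : K) = p := by rw [Subgroup.orderOf_mk]; exact hok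
      rw [← this]; exact orderOf_dvd_natCard _
    have h2 : p ∣ Nat.card (stabH G inf zero) := by
      have : orderOf (⟨u, hu⟩ : stabH G inf zero) = p := by rw [Subgroup.orderOf_mk]; exact hou
      rw [← this]; exact orderOf_dvd_natCard _
    rw [S.card_K] at h1
    have := (Nat.dvd_add_right h2).mp h1
    exact hp.one_lt.ne' (Nat.dvd_one.mp this)
  · intro k hk0 hkp n hn hc
    by_contra hn1
    have huk : u ^ k ≠ 1 := by
      intro h
      have := orderOf_dvd_of_pow_eq_one h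
      rw [hou] at this
      have := Nat.le_of_dvd hk0 this
      omega
    apply huk
    apply D.eq_one_of_conj_eq ((stabH G inf zero).pow_mem hu k) hn hn1
    calc u ^ k * n * (u ^ k)⁻¹ = (n * u ^ k) * (u ^ k)⁻¹ := by rw [hc]
      _ = n := by group
  · intro i _ n hn hc
    by_contra hn1
    have huv : u ^ i * v ≠ 1 := by
      intro h
      apply hvu
      have : v = (u ^ i)⁻¹ := by
        calc v = (u ^ i)⁻¹ * (u ^ i * v) := by group
          _ = (u ^ i)⁻¹ := by rw [h, mul_one]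
      rw [this]
      exact Subgroup.inv_mem _ (Subgroup.pow_mem _ (Subgroup.mem_zpowers u) i)
    apply huv
    apply D.eq_one_of_conj_eq ((stabH G inf zero).mul_mem ((stabH G inf zero).pow_mem hu i) hv)
      hn hn1
    calc u ^ i * v * n * (u ^ i * v)⁻¹ = (n * (u ^ i * v)) * (u ^ i * v)⁻¹ := by rw [hc]
      _ = n := by group

end S3Data

end Cfsg.Agent.Helper61.S3t
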