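import Mathlib
import Cfsg.Agent.Helper61.S3tRigid
import Cfsg.Agent.Helper61.S3tHom
import Cfsg.Agent.Helper61.S3tAbsH

set_option autoImplicit false
set_option linter.unusedSectionVars false

/-! A sharply triply transitive group of even degree has a normal subgroup of index two; its
two-point stabiliser has a subgroup of index two invariant under the involution interchanging the
two points. -/

namespace Cfsg.Agent.Helper61.S3t

open Cfsg.Agent.Helper61.Zs MulAction Cfsg.Agent.Helper71

variable {G Ω : Type*} [Group G] [MulAction G Ω] {inf zero : Ω} {K : Subgroup G}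

namespace S3Data

variable {D : ZData inf zero K} {t : G} {c : Ω} (S : S3Data D t c)
include S

theorem bound_G [Finite G] {x y z : G} (hx : x ∈ stabH G inf zero) (hy : y ∈ stabH G inf zero)
    (hz : z ∈ stabH G inf zero) (hz1 : z ≠ 1) (hzz : z * z = 1) (hxx : x * x = z)
    (hyy : y * y = z) (hyx : y * x * y⁻¹ = x⁻¹) (C : Subgroup G) (hCH : C ≤ stabH G inf zero)
    (hCx : ∀ c ∈ C, c * x = x * c) (hCy : ∀ c ∈ C, c * y = y * c) :
    ∃ s : ℕ, s * s = Nat.card (stabH G inf zero) + 1 ∧ Nat.card C ∣ s - 1 := by
  have hodd : Odd (Nat.card K) := by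
    rw [S.card_K]
    exact S.heven.add_one
  have e : x * y = (y * x) * z := by
    have h1 : x * y * x = y := by
      calc x * y * x = x * (y * x * y⁻¹) * y := by group
        _ = y := by rw [hyx]; group
    have h2 : x * x * x * x = 1 := by
      calc x * x * x * x = (x * x) * (x * x) := by group
        _ = 1 := by rw [hxx, hzz]
    have h3 : x⁻¹ = x * x * x := by
      apply inv_eq_of_mul_eq_one_left
      exact h2
    calc x * y = (x * y * x) * x⁻¹ := by group
      _ = y * (x * x * x) := by rw [h1, h3]
      _ = (y * x) * (x * x) := by group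
      _ = (y * x) * z := by rw [hxx]
  have key := quat_bound_subgroup K (fun a b ha hb => D.K_comm S.heven ha hb) x y
    (fun n hn => D.conj_mem hx hn) (fun n hn => D.conj_mem hy hn) ?_ ?_ ?_ hodd C
    (fun c hc n hn => D.conj_mem (hCH hc) hn) hCx hCy ?_
  · rw [S.card_K] at key
    exact key
  · intro n hn
    rw [hxx]
    exact D.invol_inverts hz hz1 hzz hn
  · intro n hn
    rw [hyy]
    exact D.invol_inverts hz hz1 hzz hn
  · intro n hn
    rw [e]
    have : (y * x * z) * n * (y * x * z)⁻¹ = (y * x) * (z * n * z⁻¹) * (y * x)⁻¹ := by group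
    rw [this, D.invol_inverts hz hz1 hzz hn]
    group
  · intro c hc n hn hcn hn1
    exact D.eq_one_of_conj_eq (hCH hc) hn hn1 hcn

/-- conjugation by `t` on the two-point stabiliser -/
noncomputable def sigma : ↥(stabH G inf zero) ≃* ↥(stabH G inf zero) :=
  have hmem : ∀ h : G, h ∈ stabH G inf zero → t * h * t ∈ stabH G inf zero := by
    intro h hh
    rw [mem_stabH] at hh ⊢
    constructor
    · rw [mul_smul, mul_smul, S.t_inf, hh.2, S.t_zero]
    · rw [mul_smul, mul_smul, S.t_zero, hh.1, S.t_inf]
  { toFun := fun h => ⟨t * h.1 * t, hmem h.1 h.2⟩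
    invFun := fun h => ⟨t * h.1 * t, hmem h.1 h.2⟩
    left_inv := by
      intro h
      apply Subtype.ext
      show t * (t * h.1 * t) * t = h.1
      have : t * (t * h.1 * t) * t = (t * t) * h.1 * (t * t) := by group
      rw [this, S.t_sq]; group
    right_inv := by
      intro h
      apply Subtype.ext
      show t * (t * h.1 * t) * t = h.1
      have : t * (t * h.1 * t) * t = (t * t) * h.1 * (t * t) := by group
      rw [this, S.t_sq]; group
    map_mul' := by
      intro h h'
      apply Subtype.ext
      show t * (h.1 * h'.1) * t = (t * h.1 * t) * (t * h'.1 * t)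
      have : (t * h.1 * t) * (t * h'.1 * t) = t * h.1 * (t * t) * h'.1 * t := by group
      rw [this, S.t_sq]; group }

theorem sigma_apply (h : ↥(stabH G inf zero)) : ((S.sigma h : ↥(stabH G inf zero)) : G) = t * h.1 * t :=
  rfl

/-- the two-point stabiliser has a subgroup of index two -/
theorem hasIdx2_H [Finite G] : HasIdx2 ↥(stabH G inf zero) := by
  obtain ⟨j, hj, hj1, hjj⟩ := D.exists_invol S.heven
  have hz2 : orderOf (⟨j, hj⟩ : ↥(stabH G inf zero)) = 2 := by
    rw [Subgroup.orderOf_mk]
    haveI : Fact (Nat.Prime 2) := ⟨Nat.prime_two⟩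
    apply orderOf_eq_prime
    · rw [pow_two]; exact hjj
    · exact hj1
  have hsq : ∀ x : ↥(stabH G inf zero), x.1 * x.1 = 1 → x = 1 ∨ x = ⟨j, hj⟩ := by
    intro x hx
    by_cases hx1 : x.1 = 1
    · left; exact Subtype.ext hx1
    · right
      apply Subtype.ext
      exact D.invol_unique_H x.2 hj hx1 hj1 hx hjj
  apply hasIdx2_abs (⟨j, hj⟩ : ↥(stabH G inf zero)) hz2 ?_ ?_ ?_ S.sigma ?_ ?_ ?_
  · intro x hx
    have hx2 : x.1 * x.1 = 1 := by
      have := pow_orderOf_eq_one x
      rw [hx, pow_two] at this
      exact congrArg Subtype.val this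
    rcases hsq x hx2 with h | h
    · exfalso
      rw [h, orderOf_one] at hx
      norm_num at hx
    · exact h
  · intro p hp u v hu1 hup hvp hcomm
    have := S.hcyc_G hp u.2 v.2 (fun h => hu1 (Subtype.ext h))
      (by simpa using congrArg Subtype.val hup) (by simpa using congrArg Subtype.val hvp)
      (by simpa using congrArg Subtype.val hcomm)
    obtain ⟨k, hk⟩ := Subgroup.mem_zpowers_iff.mp this
    rw [Subgroup.mem_zpowers_iff]
    refine ⟨k, Subtype.ext ?_⟩
    rw [Subgroup.coe_zpow]
    exact hk
  · intro r r' hr hr'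
    rw [← Subgroup.orderOf_coe] at hr hr'
    rcases S.order3_rigid r.2 r'.2 hr hr' with h | h
    · have : r' = r := Subtype.ext h
      rw [this]; exact Subgroup.mem_zpowers r
    · have : r' = r⁻¹ := Subtype.ext h
      rw [this]; exact Subgroup.inv_mem _ (Subgroup.mem_zpowers r)
  · intro x
    apply Subtype.ext
    rw [sigma_apply, sigma_apply]
    have : t * (t * x.1 * t) * t = (t * t) * x.1 * (t * t) := by group
    rw [this, S.t_sq]; group
  · intro x hx
    have h1 : t * x.1 * t = x.1 := by
      have := congrArg Subtype.val hx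
      rwa [sigma_apply] at this
    exact hsq x (S.sigma_fix x.2 h1)
  · intro x y hxx hyy hyx C hC
    have key := S.bound_G x.2 y.2 hj hj1 hjj (by simpa using congrArg Subtype.val hxx)
      (by simpa using congrArg Subtype.val hyy) (by simpa using congrArg Subtype.val hyx)
      (C.map (stabH G inf zero).subtype) ?_ ?_ ?_
    · rw [Subgroup.card_subtype] at key
      exact key
    · rintro _ ⟨c, -, rfl⟩
      exact c.2
    · rintro _ ⟨c, hc, rfl⟩
      have := (hC c hc).1
      simpa using congrArg Subtype.val this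
    · rintro _ ⟨c, hc, rfl⟩
      have := (hC c hc).2
      simpa using congrArg Subtype.val this

/-- an invariant character of the two-point stabiliser -/
theorem exists_invariant_character [Finite G] :
    ∃ χ : ↥(stabH G inf zero) →* ℤˣ, χ ≠ 1 ∧ ∀ h, χ (S.sigma h) = χ h := by
  obtain ⟨ψ, hψ⟩ := S.hasIdx2_H.exists_hom
  refine exists_invariant_hom S.sigma ?_ ψ hψ
  intro x
  apply Subtype.ext
  rw [sigma_apply, sigma_apply]
  have : t * (t * x.1 * t) * t = (t * t) * x.1 * (t * t) := by group
  rw [this, S.t_sq]; group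

/-- **A sharply triply transitive group of even degree has a nontrivial character of order two.** -/
theorem exists_character [Finite G] : ∃ φ : G →* ℤˣ, φ ≠ 1 := by
  classical
  obtain ⟨χ, hχ, hχσ⟩ := S.exists_invariant_character
  let ψ : G → ℤˣ := fun g => if hg : g ∈ stabH G inf zero then χ ⟨g, hg⟩ else 1
  have hψ : ∀ (g : G) (hg : g ∈ stabH G inf zero), ψ g = χ ⟨g, hg⟩ := by
    intro g hg
    show (if hg : g ∈ stabH G inf zero then χ ⟨g, hg⟩ else 1) = _
    rw [dif_pos hg]
  have C : CharData D t ψ :=
    { t_inf := S.t_inf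
      t_zero := S.t_zero
      t_sq := S.t_sq
      psi_one := by
        rw [hψ 1 (stabH G inf zero).one_mem]
        exact map_one χ
      psi_mul := by
        intro h h' hh hh'
        rw [hψ _ ((stabH G inf zero).mul_mem hh hh'), hψ h hh, hψ h' hh', ← map_mul]
        rfl
      psi_inv := by
        intro h hh
        have := hχσ ⟨h, hh⟩
        rw [hψ h hh, ← this, hψ (t * h * t) (S.sigma ⟨h, hh⟩).2]
        rfl
      trans := S.trans_K }
  obtain ⟨φ, hφ⟩ := C.exists_hom D.exists_K_ne_one
  refine ⟨φ, ?_⟩
  intro h1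
  apply hχ
  ext h
  have := hφ h.1 h.2
  rw [h1, hψ h.1 h.2] at this
  simp only [MonoidHom.one_apply] at this ⊢
  rw [← this]

end S3Data

end Cfsg.Agent.Helper61.S3t
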