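import Cfsg.Agent.Helper61.ZsCount
import Cfsg.Agent.Helper61.FieldOfAction

set_option autoImplicit false
set_option linter.unusedSectionVars false

/-! Zassenhaus data with two-point stabiliser of even order `d`, `2 d ≤ n - 1`: the two-point
stabiliser is abelian and acts irreducibly on `K`, which is therefore the additive group of a
finite field. -/

namespace Cfsg.Agent.Helper61.Zs

open MulAction

universe u v

variable {G : Type u} {Ω : Type v} [Group G] [MulAction G Ω] {inf zero : Ω} {K : Subgroup G}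

namespace ZData

variable (D : ZData inf zero K)
include D

theorem trans (x y : Ω) : ∃ g : G, g • x = y := by
  obtain ⟨w, hw1, hw2⟩ := D.third
  have hx : ∃ x' : Ω, x ≠ x' := by
    by_cases h : x = inf
    · exact ⟨zero, h ▸ D.ne⟩
    · exact ⟨inf, h⟩
  have hy : ∃ y' : Ω, y ≠ y' := by
    by_cases h : y = inf
    · exact ⟨zero, h ▸ D.ne⟩
    · exact ⟨inf, h⟩
  obtain ⟨x', hx'⟩ := hx
  obtain ⟨y', hy'⟩ := hy
  obtain ⟨g, hg, -⟩ := D.two_trans x x' y y' hx' hy'
  exact ⟨g, hg⟩

/-- only the identity acts trivially -/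
theorem eq_one_of_smul_eq {g : G} (hg : ∀ x : Ω, g • x = x) : g = 1 := by
  obtain ⟨w, hw1, hw2⟩ := D.third
  exact D.three_fixed g inf zero w D.ne hw2.symm hw1.symm (hg _) (hg _) (hg _)

section Even

variable [Finite G] [Fintype Ω] (heven : Even (Nat.card (stabH G inf zero)))
  (hd : 2 * Nat.card (stabH G inf zero) ≤ Fintype.card Ω - 2)
include heven hd

theorem swap_inverts {s : G} (hs : IsSwap inf zero s) {h : G} (hh : h ∈ stabH G inf zero) :
    s * h * s⁻¹ = h⁻¹ := by
  obtain ⟨-, hinv⟩ := D.swap_invol heven hd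
  have hss := hinv s hs
  have hsh : IsSwap inf zero (s * h) := by
    have hh' := mem_stabH.mp hh
    constructor
    · rw [mul_smul, hh'.1, hs.1]
    · rw [mul_smul, hh'.2, hs.2]
  have h2 := hinv (s * h) hsh
  have hsinv : s⁻¹ = s := inv_eq_of_mul_eq_one_left hss
  rw [hsinv, eq_inv_iff_mul_eq_one]
  calc s * h * s * h = (s * h) * (s * h) := by group
    _ = 1 := h2

theorem H_comm {h h' : G} (hh : h ∈ stabH G inf zero) (hh' : h' ∈ stabH G inf zero) :
    h * h' = h' * h := by
  obtain ⟨s, hs⟩ := D.exists_swap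
  have h1 := D.swap_inverts heven hd hs hh
  have h2 := D.swap_inverts heven hd hs hh'
  have h3 := D.swap_inverts heven hd hs ((stabH G inf zero).mul_mem hh hh')
  have e : s * (h * h') * s⁻¹ = (s * h * s⁻¹) * (s * h' * s⁻¹) := by group
  rw [e, h1, h2, mul_inv_rev] at h3
  have h4 : (h⁻¹ * h'⁻¹)⁻¹ = (h'⁻¹ * h⁻¹)⁻¹ := congrArg (·⁻¹) h3
  simpa using h4.symm

omit heven hd in
theorem card_K : Nat.card K = Fintype.card Ω - 1 := by
  classical
  have h1 : Nat.card K = Nat.card {x : Ω // x ≠ inf} := by
    apply Nat.card_congr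
    refine Equiv.ofBijective (fun k => ⟨k.1 • zero, D.K_smul_ne_inf k.2 D.zero_ne⟩) ⟨?_, ?_⟩
    · intro k k' hkk'
      have : k.1 • zero = k'.1 • zero := congrArg Subtype.val hkk'
      exact Subtype.ext (D.K_unique k.2 k'.2 D.zero_ne this)
    · rintro ⟨x, hx⟩
      obtain ⟨k, hk, hkx⟩ := D.K_trans zero x D.zero_ne hx
      exact ⟨⟨k, hk⟩, Subtype.ext hkx⟩
  rw [h1, Nat.card_eq_fintype_card, Fintype.card_subtype_compl, Fintype.card_subtype_eq]

theorem two_mul_card_H : 2 * Nat.card (stabH G inf zero) + 1 = Nat.card K := by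
  classical
  have h1 := (D.swap_invol heven hd).1
  rw [D.card_K]
  have h3 : 3 ≤ Fintype.card Ω := by
    obtain ⟨w, hw1, hw2⟩ := D.third
    have : ({inf, zero, w} : Finset Ω).card = 3 := by
      rw [Finset.card_insert_of_notMem, Finset.card_insert_of_notMem, Finset.card_singleton]
      · simp [hw2.symm]
      · simp [D.ne, hw1.symm]
    calc 3 = ({inf, zero, w} : Finset Ω).card := this.symm
      _ ≤ Fintype.card Ω := Finset.card_le_univ _
  omega

/-- conjugation action of the two-point stabiliser on `K` -/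
def conjAct (D : ZData inf zero K) (h : stabH G inf zero) (k : K) : K :=
  ⟨h.1 * k.1 * h.1⁻¹, D.conj_mem h.2 k.2⟩

omit heven hd in
theorem conjAct_coe (h : stabH G inf zero) (k : K) :
    ((D.conjAct h k : K) : G) = h.1 * k.1 * h.1⁻¹ := rfl

/-- irreducibility -/
theorem irreducible (W : Subgroup K) (hW : ∀ h : stabH G inf zero, ∀ w ∈ W, D.conjAct h w ∈ W) :
    W = ⊥ ∨ W = ⊤ := by
  by_cases hbot : W = ⊥
  · exact Or.inl hbot
  · right
    obtain ⟨⟨w0, hw0mem⟩, hw01⟩ := (Subgroup.ne_bot_iff_exists_ne_one).mp hbot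
    have hw01' : (w0 : G) ≠ 1 := by
      intro h
      apply hw01
      apply Subtype.ext
      apply Subtype.ext
      exact h
    -- an injection `Option H → W`
    let ι : Option (stabH G inf zero) → W := fun o =>
      match o with
      | none => 1
      | some h => ⟨D.conjAct h w0, hW h w0 hw0mem⟩
    have hι : Function.Injective ι := by
      intro a b hab
      cases a with
      | none =>
        cases b with
        | none => rfl
        | some h =>
          exfalso
          have h1 : (1 : G) = h.1 * w0.1 * h.1⁻¹ := by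
            have := congrArg (fun x : W => ((x : K) : G)) hab
            exact this
          apply hw01'
          have : (w0 : G) = h.1⁻¹ * (h.1 * w0.1 * h.1⁻¹) * h.1 := by group
          rw [this, ← h1]; group
      | some h =>
        cases b with
        | none =>
          exfalso
          have h1 : h.1 * w0.1 * h.1⁻¹ = (1 : G) := by
            have := congrArg (fun x : W => ((x : K) : G)) hab
            exact this
          apply hw01'
          have : (w0 : G) = h.1⁻¹ * (h.1 * w0.1 * h.1⁻¹) * h.1 := by group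
          rw [this, h1]; group
        | some h' =>
          have h1 : h.1 * w0.1 * h.1⁻¹ = h'.1 * w0.1 * h'.1⁻¹ := by
            have := congrArg (fun x : W => ((x : K) : G)) hab
            exact this
          have h2 : (h'.1⁻¹ * h.1) * w0.1 * (h'.1⁻¹ * h.1)⁻¹ = w0.1 := by
            have : (h'.1⁻¹ * h.1) * w0.1 * (h'.1⁻¹ * h.1)⁻¹
                = h'.1⁻¹ * (h.1 * w0.1 * h.1⁻¹) * h'.1 := by group
            rw [this, h1]; group
          have h3 := D.eq_one_of_conj_eq
            ((stabH G inf zero).mul_mem ((stabH G inf zero).inv_mem h'.2) h.2) w0.2 hw01' h2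
          congr 1
          apply Subtype.ext
          exact (inv_mul_eq_one.mp h3).symm
    have hcard := Nat.card_le_card_of_injective ι hι
    rw [Finite.card_option] at hcard
    have hdvd : Nat.card W ∣ Nat.card K := Subgroup.card_subgroup_dvd_card W
    have h2 := D.two_mul_card_H heven hd
    rw [← Subgroup.card_eq_iff_eq_top]
    obtain ⟨m, hm⟩ := hdvd
    have hm1 : m = 1 := by
      rcases Nat.lt_or_ge m 2 with h | h
      · interval_cases m
        · rw [mul_zero] at hm; omega
        · rfl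
      · exfalso
        have : Nat.card W * 2 ≤ Nat.card W * m := Nat.mul_le_mul_left _ h
        omega
    rw [hm, hm1, mul_one]

/-- **The field.** -/
theorem exists_field :
    ∃ (R : Type u) (_ : Field R) (_ : Finite R) (ψ : R → K) (c : stabH G inf zero → R),
      Function.Bijective ψ ∧ (∀ r s, ψ (r + s) = ψ r * ψ s) ∧ (∀ h, c h ≠ 0) ∧
      (∀ h r, ψ (c h * r) = D.conjAct h (ψ r)) := by
  have : Nontrivial K := by
    obtain ⟨k, hk, hk1⟩ := D.exists_K_ne_one
    exact ⟨⟨⟨k, hk⟩, 1, fun h => hk1 (congrArg Subtype.val h)⟩⟩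
  apply exists_field_of_irreducible (K := K) (H := stabH G inf zero)
  · intro x y
    exact Subtype.ext (D.K_comm heven x.2 y.2)
  · intro h x y
    apply Subtype.ext
    change h.1 * (x.1 * y.1) * h.1⁻¹ = (h.1 * x.1 * h.1⁻¹) * (h.1 * y.1 * h.1⁻¹)
    group
  · intro h x y hxy
    have : h.1 * x.1 * h.1⁻¹ = h.1 * y.1 * h.1⁻¹ := congrArg Subtype.val hxy
    exact Subtype.ext (mul_left_cancel (mul_right_cancel this))
  · intro h h' x
    apply Subtype.ext
    change h.1 * (h'.1 * x.1 * h'.1⁻¹) * h.1⁻¹ = h'.1 * (h.1 * x.1 * h.1⁻¹) * h'.1⁻¹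
    have hc := D.H_comm heven hd h.2 h'.2
    calc h.1 * (h'.1 * x.1 * h'.1⁻¹) * h.1⁻¹ = (h.1 * h'.1) * x.1 * (h.1 * h'.1)⁻¹ := by group
      _ = (h'.1 * h.1) * x.1 * (h'.1 * h.1)⁻¹ := by rw [hc]
      _ = h'.1 * (h.1 * x.1 * h.1⁻¹) * h'.1⁻¹ := by group
  · exact D.irreducible heven hd

end Even

end ZData

end Cfsg.Agent.Helper61.Zs
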