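import Mathlib
import Cfsg.Agent.Helper61.S3tMain
import Cfsg.Agent.Helper61.ZsField

set_option autoImplicit false
set_option linter.unusedSectionVars false

/-! Sharply triply transitive groups of even degree: a character of order two which is nontrivial
on the two-point stabiliser, the Zassenhaus data of its kernel, and commutativity of the
kernel of the character on the two-point stabiliser. -/

namespace Cfsg.Agent.Helper61.S3t

open Cfsg.Agent.Helper61.Zs MulAction

universe u v

variable {G : Type u} {Ω : Type v} [Group G] [MulAction G Ω] {inf zero : Ω} {K : Subgroup G}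

/-- a character nontrivial on the two-point stabiliser -/
theorem S3Data.exists_character_H [Finite G] {D : ZData inf zero K} {t : G} {c : Ω}
    (S : S3Data D t c) : ∃ φ : G →* ℤˣ, ∃ h ∈ stabH G inf zero, φ h ≠ 1 := by
  classical
  obtain ⟨χ, hχ, hχσ⟩ := S.exists_invariant_character
  let ψ : G → ℤˣ := fun g => if hg : g ∈ stabH G inf zero then χ ⟨g, hg⟩ else 1
  have hψ : ∀ (g : G) (hg : g ∈ stabH G inf zero), ψ g = χ ⟨g, hg⟩ := by
    intro g hg
    show (if hg : g ∈ stabH G inf zero then χ ⟨g, hg⟩ else 1) = _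
    rw [dif_pos hg]
  have C : CharData D t ψ :=
    { t_inf := S.t_inf
      t_zero := S.t_zero
      t_sq := S.t_sq
      psi_one := by
        rw [hψ 1 (stabH G inf zero).one_mem]
        exact map_one χ
      psi_mul := by
        intro h h' hh hh'
        rw [hψ _ ((stabH G inf zero).mul_mem hh hh'), hψ h hh, hψ h' hh', ← map_mul]
        rfl
      psi_inv := by
        intro h hh
        have := hχσ ⟨h, hh⟩
        rw [hψ h hh, ← this, hψ (t * h * t) (S.sigma ⟨h, hh⟩).2]
        rfl
      trans := S.trans_K }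
  obtain ⟨φ, hφ⟩ := C.exists_hom D.exists_K_ne_one
  obtain ⟨h, hh⟩ : ∃ h, χ h ≠ 1 := by
    by_contra hcon
    push Not at hcon
    exact hχ (MonoidHom.ext hcon)
  refine ⟨φ, h.1, h.2, ?_⟩
  rw [hφ h.1 h.2, hψ h.1 h.2]
  exact hh

/-- Zassenhaus data of a normal subgroup containing `K` -/
theorem ZData.restrict (D : ZData inf zero K) (N : Subgroup G) [hN : N.Normal] (hKN : K ≤ N) :
    ZData (G := ↥N) inf zero (K.subgroupOf N) := by
  obtain ⟨s, hs1, hs2⟩ := D.exists_swap
  obtain ⟨k₀, hk₀, hk₀1⟩ := D.exists_K_ne_one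
  -- an element of `N` moving `inf`
  have hn₀N : s * k₀ * s⁻¹ ∈ N := hN.conj_mem k₀ (hKN hk₀) s
  have hn₀ : (s * k₀ * s⁻¹) • inf ≠ inf := by
    rw [mul_smul, mul_smul, inv_smul_eq_iff.mpr hs2.symm]
    intro h
    have h1 : s • (k₀ • zero) = s • zero := h.trans hs2.symm
    have h2 : k₀ • zero = zero := smul_left_cancel s h1
    exact hk₀1 (D.K_free k₀ hk₀ zero D.zero_ne h2)
  -- transitivity of `N`
  have htrans : ∀ x : Ω, ∃ n ∈ N, n • x = inf := by
    intro x
    by_cases hx : x = inf
    · exact ⟨1, N.one_mem, by rw [one_smul, hx]⟩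
    · have hy : (s * k₀ * s⁻¹)⁻¹ • inf ≠ inf := by
        intro h
        apply hn₀
        rw [inv_smul_eq_iff] at h
        exact h.symm
      obtain ⟨k, hk, hkx⟩ := D.K_trans x _ hx hy
      refine ⟨(s * k₀ * s⁻¹) * k, N.mul_mem hn₀N (hKN hk), ?_⟩
      rw [mul_smul, hkx, smul_inv_smul]
  exact
    { ne := D.ne
      third := D.third
      two_trans := by
        intro x y x' y' hxy hxy'
        obtain ⟨n₁, hn₁, h1⟩ := htrans x
        obtain ⟨n₂, hn₂, h2⟩ := htrans x'
        have h1y : n₁ • y ≠ inf := by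
          rw [← h1]
          intro h
          exact hxy (smul_left_cancel n₁ h).symm
        have h2y : n₂ • y' ≠ inf := by
          rw [← h2]
          intro h
          exact hxy' (smul_left_cancel n₂ h).symm
        obtain ⟨k, hk, hky⟩ := D.K_trans _ _ h1y h2y
        refine ⟨⟨n₂⁻¹ * k * n₁, N.mul_mem (N.mul_mem (N.inv_mem hn₂) (hKN hk)) hn₁⟩, ?_, ?_⟩
        · show (n₂⁻¹ * k * n₁) • x = x'
          rw [mul_smul, mul_smul, h1, D.K_fix k hk, inv_smul_eq_iff, h2]
        · show (n₂⁻¹ * k * n₁) • y = y'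
          rw [mul_smul, mul_smul, hky, inv_smul_smul]
      three_fixed := by
        intro g x y z hxy hyz hxz hx hy hz
        apply Subtype.ext
        exact D.three_fixed g.1 x y z hxy hyz hxz hx hy hz
      K_fix := by
        intro k hk
        exact D.K_fix k.1 (Subgroup.mem_subgroupOf.mp hk)
      K_norm := by
        intro b hb k hk
        rw [Subgroup.mem_subgroupOf]
        exact D.K_norm b.1 hb k.1 (Subgroup.mem_subgroupOf.mp hk)
      K_trans := by
        intro x y hx hy
        obtain ⟨k, hk, hkx⟩ := D.K_trans x y hx hy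
        exact ⟨⟨k, hKN hk⟩, Subgroup.mem_subgroupOf.mpr hk, hkx⟩
      K_free := by
        intro k hk x hx hkx
        apply Subtype.ext
        exact D.K_free k.1 (Subgroup.mem_subgroupOf.mp hk) x hx hkx }

end Cfsg.Agent.Helper61.S3t
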