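import Mathlib
import Cfsg.Agent.Helper61.ZgAbelA

set_option autoImplicit false
set_option linter.unusedSectionVars false

/-! Sharply triply transitive groups of even degree: the kernel of the character on the two-point
stabiliser is commutative. -/

namespace Cfsg.Agent.Helper61.S3t

open Cfsg.Agent.Helper61.Zs MulAction

universe u v

variable {G : Type u} {Ω : Type v} [Group G] [MulAction G Ω] {inf zero : Ω} {K : Subgroup G}

/-- the kernel of the character on the two-point stabiliser -/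
def H1 (inf zero : Ω) (φ : G →* ℤˣ) : Subgroup G := stabH G inf zero ⊓ φ.ker

theorem mem_H1 {φ : G →* ℤˣ} {h : G} : h ∈ H1 inf zero φ ↔ h ∈ stabH G inf zero ∧ φ h = 1 := by
  unfold H1
  rw [Subgroup.mem_inf, MonoidHom.mem_ker]

/-- the order of `H1` -/
theorem two_mul_card_H1 [Finite G] (φ : G →* ℤˣ) (hφ : ∃ h ∈ stabH G inf zero, φ h ≠ 1) :
    2 * Nat.card (H1 inf zero φ) = Nat.card (stabH G inf zero) := by
  let χ : ↥(stabH G inf zero) →* ℤˣ := φ.comp (stabH G inf zero).subtype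
  have hχ : χ ≠ 1 := by
    obtain ⟨h, hh, hh1⟩ := hφ
    intro h1
    apply hh1
    have := DFunLike.congr_fun h1 ⟨h, hh⟩
    exact this
  have h1 := index_ker_of_ne_one χ hχ
  have h2 := Subgroup.card_mul_index χ.ker
  rw [h1] at h2
  have h3 : Nat.card χ.ker = Nat.card (H1 inf zero φ) := by
    refine Nat.card_congr ⟨fun x => ⟨x.1.1, mem_H1.mpr ⟨x.1.2, MonoidHom.mem_ker.mp x.2⟩⟩,
      fun y => ⟨⟨y.1, (mem_H1.mp y.2).1⟩, MonoidHom.mem_ker.mpr (mem_H1.mp y.2).2⟩,
      fun x => rfl, fun y => rfl⟩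
  omega

/-- the two-point stabiliser of the kernel of the character -/
theorem card_stabH_ker (φ : G →* ℤˣ) :
    Nat.card (stabH ↥φ.ker inf zero) = Nat.card (H1 inf zero φ) := by
  refine Nat.card_congr ⟨fun x => ⟨x.1.1, mem_H1.mpr ⟨?_, MonoidHom.mem_ker.mp x.1.2⟩⟩,
    fun y => ⟨⟨y.1, MonoidHom.mem_ker.mpr (mem_H1.mp y.2).2⟩, ?_⟩, fun x => rfl, fun y => rfl⟩
  · have := mem_stabH.mp x.2
    exact mem_stabH.mpr this
  · have := mem_stabH.mp (mem_H1.mp y.2).1
    exact mem_stabH.mpr this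

variable {D : ZData inf zero K} {t : G} {c : Ω}

/-- the character is trivial on `K` when `K` has odd order -/
theorem phi_K [Finite G] (D : ZData inf zero K) (φ : G →* ℤˣ) (hodd : Odd (Nat.card K)) {k : G}
    (hk : k ∈ K) : φ k = 1 := by
  have h1 : (⟨k, hk⟩ : K) ^ Nat.card K = 1 := pow_card_eq_one'
  have h2 : k ^ Nat.card K = 1 := by
    have := congrArg Subtype.val h1
    rw [Subgroup.coe_pow, Subgroup.coe_one] at this
    exact this
  have h3 : φ k ^ Nat.card K = 1 := by rw [← map_pow, h2, map_one]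
  obtain ⟨m, hm⟩ := hodd
  rw [hm, pow_succ, pow_mul, Int.units_sq, one_pow, one_mul] at h3
  exact h3

/-- **`H1` is commutative.** -/
theorem S3Data.H1_comm [Finite G] [Fintype Ω] (S : S3Data D t c) (φ : G →* ℤˣ)
    (hφ : ∃ h ∈ stabH G inf zero, φ h ≠ 1) (hodd : Odd (Nat.card K)) {x y : G}
    (hx : x ∈ H1 inf zero φ) (hy : y ∈ H1 inf zero φ) : x * y = y * x := by
  have hc1 := two_mul_card_H1 φ hφ
  have hc2 := S.card_K
  have hc3 := D.card_K
  rcases Nat.even_or_odd (Nat.card (H1 inf zero φ)) with hev | hod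
  · -- the kernel of the character is a Zassenhaus group
    have hKN : K ≤ φ.ker := fun k hk => MonoidHom.mem_ker.mpr (phi_K D φ hodd hk)
    have D' := ZData.restrict D φ.ker hKN
    have hc4 := card_stabH_ker (inf := inf) (zero := zero) φ
    have heven' : Even (Nat.card (stabH ↥φ.ker inf zero)) := by rw [hc4]; exact hev
    have hd' : 2 * Nat.card (stabH ↥φ.ker inf zero) ≤ Fintype.card Ω - 2 := by
      rw [hc4]; omega
    have hx' : (⟨x, MonoidHom.mem_ker.mpr (mem_H1.mp hx).2⟩ : ↥φ.ker) ∈ stabH ↥φ.ker inf zero :=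
      mem_stabH.mpr (mem_stabH.mp (mem_H1.mp hx).1)
    have hy' : (⟨y, MonoidHom.mem_ker.mpr (mem_H1.mp hy).2⟩ : ↥φ.ker) ∈ stabH ↥φ.ker inf zero :=
      mem_stabH.mpr (mem_stabH.mp (mem_H1.mp hy).1)
    have := D'.H_comm heven' hd' hx' hy'
    exact congrArg Subtype.val this
  · -- conjugation by `t` is fixed-point-free on `H1`
    let χ : ↥(stabH G inf zero) →* ℤˣ := φ.comp (stabH G inf zero).subtype
    have hχ : ∀ h : ↥(stabH G inf zero), h ∈ χ.ker ↔ φ h.1 = 1 := fun h => MonoidHom.mem_ker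
    have hcardker : Nat.card χ.ker = Nat.card (H1 inf zero φ) := by
      refine Nat.card_congr ⟨fun x => ⟨x.1.1, mem_H1.mpr ⟨x.1.2, MonoidHom.mem_ker.mp x.2⟩⟩,
        fun y => ⟨⟨y.1, (mem_H1.mp y.2).1⟩, MonoidHom.mem_ker.mpr (mem_H1.mp y.2).2⟩,
        fun x => rfl, fun y => rfl⟩
    have hσσ : ∀ h, S.sigma (S.sigma h) = h := by
      intro h
      apply Subtype.ext
      rw [S.sigma_apply, S.sigma_apply]
      have : t * (t * h.1 * t) * t = (t * t) * h.1 * (t * t) := by group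
      rw [this, S.t_sq]; group
    have hY : ∀ h ∈ χ.ker, S.sigma h ∈ χ.ker := by
      intro h hh
      rw [hχ] at hh ⊢
      rw [S.sigma_apply, map_mul, map_mul, hh, mul_one, ← map_mul, S.t_sq, map_one]
    have hfix : ∀ h ∈ χ.ker, S.sigma h = h → h = 1 := by
      intro h hh hfix
      have h1 : t * h.1 * t = h.1 := by
        have := congrArg Subtype.val hfix
        rwa [S.sigma_apply] at this
      have h2 := S.sigma_fix h.2 h1
      have h3 : (⟨h, hh⟩ : ↥χ.ker) ^ 2 = 1 := by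
        apply Subtype.ext
        apply Subtype.ext
        show h.1 ^ 2 = 1
        rw [pow_two]
        exact h2
      have h4 : orderOf (⟨h, hh⟩ : ↥χ.ker) ∣ 2 := orderOf_dvd_of_pow_eq_one h3
      have h5 : orderOf (⟨h, hh⟩ : ↥χ.ker) ∣ Nat.card χ.ker := orderOf_dvd_natCard _
      rw [hcardker] at h5
      have h6 : orderOf (⟨h, hh⟩ : ↥χ.ker) ∣ 1 := by
        have hc : Nat.Coprime 2 (Nat.card (H1 inf zero φ)) := (Nat.coprime_two_left).mpr hod
        rw [← hc]
        exact Nat.dvd_gcd h4 h5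
      have h7 := orderOf_eq_one_iff.mp (Nat.dvd_one.mp h6)
      exact congrArg Subtype.val h7
    have hinv := inverts_of_fpf S.sigma hσσ χ.ker hY hfix
    have hx' : (⟨x, (mem_H1.mp hx).1⟩ : ↥(stabH G inf zero)) ∈ χ.ker :=
      (hχ _).mpr (mem_H1.mp hx).2
    have hy' : (⟨y, (mem_H1.mp hy).1⟩ : ↥(stabH G inf zero)) ∈ χ.ker :=
      (hχ _).mpr (mem_H1.mp hy).2
    have := comm_of_inverts S.sigma χ.ker hinv hx' hy'
    exact congrArg Subtype.val this

end Cfsg.Agent.Helper61.S3t
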