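import Mathlib
import Cfsg.Agent.Helper61.ZgAbelB
import Cfsg.Agent.Helper61.ZgSemi

set_option autoImplicit false
set_option linter.unusedSectionVars false

/-! Sharply triply transitive groups of degree `p ^ f + 1`, `p` and `f` odd: the two-point
stabiliser is commutative. -/

namespace Cfsg.Agent.Helper61.S3t

open Cfsg.Agent.Helper61.Zs MulAction Cfsg.Agent.Helper61.Zg

universe u v

variable {G : Type u} {Ω : Type v} [Group G] [MulAction G Ω] {inf zero : Ω} {K : Subgroup G}

/-- irreducibility of a subgroup of the two-point stabiliser of index two -/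
theorem irreducible_of_card [Finite G] (D : ZData inf zero K) (H₁ : Subgroup G)
    (hH₁ : H₁ ≤ stabH G inf zero) (hcard : 2 * Nat.card H₁ + 1 = Nat.card K) (W : Subgroup K)
    (hW : ∀ h : H₁, ∀ w ∈ W, D.conjAct ⟨h.1, hH₁ h.2⟩ w ∈ W) : W = ⊥ ∨ W = ⊤ := by
  by_cases hbot : W = ⊥
  · exact Or.inl hbot
  · right
    obtain ⟨⟨w0, hw0mem⟩, hw01⟩ := (Subgroup.ne_bot_iff_exists_ne_one).mp hbot
    have hw01' : (w0 : G) ≠ 1 := by
      intro h
      apply hw01
      apply Subtype.ext
      apply Subtype.ext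
      exact h
    let ι : Option H₁ → W := fun o =>
      match o with
      | none => 1
      | some h => ⟨D.conjAct ⟨h.1, hH₁ h.2⟩ w0, hW h w0 hw0mem⟩
    have hι : Function.Injective ι := by
      intro a b hab
      cases a with
      | none =>
        cases b with
        | none => rfl
        | some h =>
          exfalso
          have h1 : (1 : G) = h.1 * w0.1 * h.1⁻¹ := by
            have := congrArg (fun x : W => ((x : K) : G)) hab
            exact this
          apply hw01'
          have : (w0 : G) = h.1⁻¹ * (h.1 * w0.1 * h.1⁻¹) * h.1 := by group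
          rw [this, ← h1]; group
      | some h =>
        cases b with
        | none =>
          exfalso
          have h1 : h.1 * w0.1 * h.1⁻¹ = (1 : G) := by
            have := congrArg (fun x : W => ((x : K) : G)) hab
            exact this
          apply hw01'
          have : (w0 : G) = h.1⁻¹ * (h.1 * w0.1 * h.1⁻¹) * h.1 := by group
          rw [this, h1]; group
        | some h' =>
          have h1 : h.1 * w0.1 * h.1⁻¹ = h'.1 * w0.1 * h'.1⁻¹ := by
            have := congrArg (fun x : W => ((x : K) : G)) hab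
            exact this
          have h2 : (h'.1⁻¹ * h.1) * w0.1 * (h'.1⁻¹ * h.1)⁻¹ = w0.1 := by
            have : (h'.1⁻¹ * h.1) * w0.1 * (h'.1⁻¹ * h.1)⁻¹
                = h'.1⁻¹ * (h.1 * w0.1 * h.1⁻¹) * h'.1 := by group
            rw [this, h1]; group
          have h3 := D.eq_one_of_conj_eq
            ((stabH G inf zero).mul_mem ((stabH G inf zero).inv_mem (hH₁ h'.2)) (hH₁ h.2))
            w0.2 hw01' h2
          congr 1
          apply Subtype.ext
          exact (inv_mul_eq_one.mp h3).symm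
    have hcard' := Nat.card_le_card_of_injective ι hι
    rw [Finite.card_option] at hcard'
    have hdvd : Nat.card W ∣ Nat.card K := Subgroup.card_subgroup_dvd_card W
    rw [← Subgroup.card_eq_iff_eq_top]
    obtain ⟨m, hm⟩ := hdvd
    have hm1 : m = 1 := by
      rcases Nat.lt_or_ge m 2 with h | h
      · interval_cases m
        · rw [mul_zero] at hm; omega
        · rfl
      · exfalso
        have : Nat.card W * 2 ≤ Nat.card W * m := Nat.mul_le_mul_left _ h
        omega
    rw [hm, hm1, mul_one]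

/-- **`H1` is central in the two-point stabiliser.** -/
theorem central_of_index_two [Finite G] (D : ZData inf zero K)
    (heven : Even (Nat.card (stabH G inf zero))) (φ : G →* ℤˣ) {p f : ℕ} (hp : p.Prime)
    (hf : Odd f) (hK : Nat.card K = p ^ f)
    (hcard : 2 * Nat.card (H1 inf zero φ) + 1 = Nat.card K)
    (hab : ∀ x y : G, x ∈ H1 inf zero φ → y ∈ H1 inf zero φ → x * y = y * x)
    {h₀ s : G} (hh₀ : h₀ ∈ stabH G inf zero) (hs : s ∈ H1 inf zero φ) : h₀ * s = s * h₀ := by
  classical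
  have hH₁ : H1 inf zero φ ≤ stabH G inf zero := fun h hh => (mem_H1.mp hh).1
  have : Nontrivial K := by
    obtain ⟨k, hk, hk1⟩ := D.exists_K_ne_one
    exact ⟨⟨⟨k, hk⟩, 1, fun h => hk1 (congrArg Subtype.val h)⟩⟩
  obtain ⟨R, hRf, hRfin, ψ, c₁, hψ, hadd, hc0, hconj⟩ :=
    exists_field_of_irreducible (K := K) (H := H1 inf zero φ)
      (fun x y => Subtype.ext (D.K_comm heven x.2 y.2))
      (fun h k => D.conjAct ⟨h.1, hH₁ h.2⟩ k)
      (by
        intro h x y
        apply Subtype.ext
        change h.1 * (x.1 * y.1) * h.1⁻¹ = (h.1 * x.1 * h.1⁻¹) * (h.1 * y.1 * h.1⁻¹)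
        group)
      (by
        intro h x y hxy
        have : h.1 * x.1 * h.1⁻¹ = h.1 * y.1 * h.1⁻¹ := congrArg Subtype.val hxy
        exact Subtype.ext (mul_left_cancel (mul_right_cancel this)))
      (by
        intro h h' x
        apply Subtype.ext
        change h.1 * (h'.1 * x.1 * h'.1⁻¹) * h.1⁻¹ = h'.1 * (h.1 * x.1 * h.1⁻¹) * h'.1⁻¹
        have hc := hab h.1 h'.1 h.2 h'.2
        calc h.1 * (h'.1 * x.1 * h'.1⁻¹) * h.1⁻¹ = (h.1 * h'.1) * x.1 * (h.1 * h'.1)⁻¹ := by group
          _ = (h'.1 * h.1) * x.1 * (h'.1 * h.1)⁻¹ := by rw [hc]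
          _ = h'.1 * (h.1 * x.1 * h.1⁻¹) * h'.1⁻¹ := by group)
      (fun W hW => irreducible_of_card D (H1 inf zero φ) hH₁ hcard W hW)
  -- the coordinate
  let e : R ≃ K := Equiv.ofBijective ψ hψ
  have he : ∀ r, e r = ψ r := fun r => rfl
  have he0 : e 0 = 1 := by
    have := hadd 0 0
    rw [add_zero] at this
    rw [he]
    exact (left_eq_mul.mp this)
  have hesymm_mul : ∀ a b : K, e.symm (a * b) = e.symm a + e.symm b := by
    intro a b
    rw [Equiv.symm_apply_eq, he, hadd, ← he, ← he, Equiv.apply_symm_apply, Equiv.apply_symm_apply]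
  have hesymm_one : e.symm 1 = 0 := by rw [Equiv.symm_apply_eq, he0]
  have hesymm_inv : ∀ a : K, e.symm a⁻¹ = - e.symm a := by
    intro a
    have := hesymm_mul a a⁻¹
    rw [mul_inv_cancel, hesymm_one] at this
    exact (neg_eq_of_add_eq_zero_right this.symm).symm
  have hcardR : Nat.card R = p ^ f := by rw [Nat.card_congr e, hK]
  -- conjugation by `h₀` in coordinates
  let g : R → R := fun r => e.symm (D.conjAct ⟨h₀, hh₀⟩ (e r))
  have hg : ∀ r, e (g r) = D.conjAct ⟨h₀, hh₀⟩ (e r) := fun r => Equiv.apply_symm_apply _ _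
  have hconjmul : ∀ (h : ↥(stabH G inf zero)) (a b : K),
      D.conjAct h (a * b) = D.conjAct h a * D.conjAct h b := by
    intro h a b
    apply Subtype.ext
    change h.1 * (a.1 * b.1) * h.1⁻¹ = (h.1 * a.1 * h.1⁻¹) * (h.1 * b.1 * h.1⁻¹)
    group
  have hlin := linear_of_normalizes hp hf hcardR c₁ ?_ g ?_ ?_ ?_
    (c₁ ⟨h₀ * h₀, mem_H1.mpr ⟨(stabH G inf zero).mul_mem hh₀ hh₀, by
      rw [map_mul, Int.units_mul_self]⟩⟩) ?_
  · -- conclusion
    obtain ⟨k₀, hk₀, hk₀1⟩ := D.exists_K_ne_one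
    have h1 := hlin (c₁ ⟨s, hs⟩) (e.symm ⟨k₀, hk₀⟩)
    have h2 := congrArg e h1
    rw [hg, he (c₁ _ * g _), hconj, ← he, hg, he (c₁ _ * _), hconj, ← he,
      Equiv.apply_symm_apply] at h2
    have h3 : h₀ * (s * k₀ * s⁻¹) * h₀⁻¹ = s * (h₀ * k₀ * h₀⁻¹) * s⁻¹ := congrArg Subtype.val h2
    have h4 : ((s * h₀)⁻¹ * (h₀ * s)) * k₀ * ((s * h₀)⁻¹ * (h₀ * s))⁻¹ = k₀ := by
      have : ((s * h₀)⁻¹ * (h₀ * s)) * k₀ * ((s * h₀)⁻¹ * (h₀ * s))⁻¹
          = (s * h₀)⁻¹ * (h₀ * (s * k₀ * s⁻¹) * h₀⁻¹) * (s * h₀) := by group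
      rw [this, h3]; group
    have hs' := hH₁ hs
    have h5 := D.eq_one_of_conj_eq ((stabH G inf zero).mul_mem ((stabH G inf zero).inv_mem
      ((stabH G inf zero).mul_mem hs' hh₀)) ((stabH G inf zero).mul_mem hh₀ hs')) hk₀ hk₀1 h4
    exact (inv_mul_eq_one.mp h5).symm
  · -- irreducibility in coordinates
    intro W hW
    let W' : Subgroup K :=
      { carrier := {k | e.symm k ∈ W}
        mul_mem' := by
          intro a b ha hb
          show e.symm (a * b) ∈ W
          rw [hesymm_mul]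
          exact W.add_mem ha hb
        one_mem' := by
          show e.symm 1 ∈ W
          rw [hesymm_one]
          exact W.zero_mem
        inv_mem' := by
          intro a ha
          show e.symm a⁻¹ ∈ W
          rw [hesymm_inv]
          exact W.neg_mem ha }
    have hW'mem : ∀ k, k ∈ W' ↔ e.symm k ∈ W := fun k => Iff.rfl
    have hW'inv : ∀ h : H1 inf zero φ, ∀ w ∈ W', D.conjAct ⟨h.1, hH₁ h.2⟩ w ∈ W' := by
      intro h w hw
      rw [hW'mem] at hw ⊢
      have : e.symm (D.conjAct ⟨h.1, hH₁ h.2⟩ w) = c₁ h * e.symm w := by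
        rw [Equiv.symm_apply_eq, he, hconj, ← he, Equiv.apply_symm_apply]
      rw [this]
      exact hW h _ hw
    rcases irreducible_of_card D (H1 inf zero φ) hH₁ hcard W' hW'inv with h | h
    · left
      rw [eq_bot_iff]
      intro w hw
      have : e w ∈ W' := by rw [hW'mem, Equiv.symm_apply_apply]; exact hw
      rw [h, Subgroup.mem_bot] at this
      rw [AddSubgroup.mem_bot]
      apply e.injective
      rw [this, he0]
    · right
      rw [eq_top_iff]
      intro w _
      have : e w ∈ W' := by rw [h]; trivial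
      rw [hW'mem, Equiv.symm_apply_apply] at this
      exact this
  · -- additivity
    intro x y
    show e.symm (D.conjAct ⟨h₀, hh₀⟩ (e (x + y))) = _
    rw [he (x + y), hadd, hconjmul, hesymm_mul]
    rfl
  · -- injectivity
    intro x y hxy
    have h1 : D.conjAct ⟨h₀, hh₀⟩ (e x) = D.conjAct ⟨h₀, hh₀⟩ (e y) := e.symm.injective hxy
    have h2 : h₀ * (e x).1 * h₀⁻¹ = h₀ * (e y).1 * h₀⁻¹ := congrArg Subtype.val h1
    exact e.injective (Subtype.ext (mul_left_cancel (mul_right_cancel h2)))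
  · -- normalisation
    intro i
    have hi' : h₀ * i.1 * h₀⁻¹ ∈ H1 inf zero φ := by
      rw [mem_H1]
      refine ⟨(stabH G inf zero).mul_mem ((stabH G inf zero).mul_mem hh₀ (hH₁ i.2))
        ((stabH G inf zero).inv_mem hh₀), ?_⟩
      rw [map_mul, map_mul, (mem_H1.mp i.2).2, mul_one, ← map_mul, mul_inv_cancel, map_one]
    refine ⟨c₁ ⟨h₀ * i.1 * h₀⁻¹, hi'⟩, fun x => ?_⟩
    apply e.injective
    rw [hg, he (c₁ i * x), hconj, he (c₁ _ * g x), hconj, ← he (g x), hg, ← he x]
    apply Subtype.ext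
    change h₀ * (i.1 * (e x).1 * i.1⁻¹) * h₀⁻¹
      = (h₀ * i.1 * h₀⁻¹) * (h₀ * (e x).1 * h₀⁻¹) * (h₀ * i.1 * h₀⁻¹)⁻¹
    group
  · -- the square
    intro x
    apply e.injective
    rw [hg, hg, he (c₁ _ * x), hconj, ← he]
    apply Subtype.ext
    change h₀ * (h₀ * (e x).1 * h₀⁻¹) * h₀⁻¹ = (h₀ * h₀) * (e x).1 * (h₀ * h₀)⁻¹
    group

end Cfsg.Agent.Helper61.S3t
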