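import Cfsg.Agent.Helper61.ZqCore
import Cfsg.Agent.Helper37.ProjLine3SL
import Cfsg.Agent.Helper5.PSL2

set_option autoImplicit false
set_option linter.unusedSectionVars false

/-! The Möbius action of `SL(2,F)` on `Option F`, and the identification of a `ZqGroup` with
`PSL(2,F)`. -/

namespace Cfsg.Agent.Helper61.Zq

open Equiv MulAction Matrix
open scoped LinearAlgebra.Projectivization MatrixGroups
open Cfsg.Agent.Helper37.PL3

variable {F : Type*} [Field F] [DecidableEq F]

/-- the vector `(x, 1)` -/
def vx (x : F) : Fin 2 → F := ![x, 1]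

theorem vx_ne (x : F) : vx x ≠ 0 := fun h => one_ne_zero (congrFun h 1)

/-- point of the projective line to extended field element -/
noncomputable def toOpt : ℙ F (Fin 2 → F) → Option F :=
  Projectivization.lift (fun v : {v : Fin 2 → F // v ≠ 0} =>
    if v.1 1 = 0 then (none : Option F) else some (v.1 0 / v.1 1)) (by
    rintro ⟨a, ha⟩ ⟨b, hb⟩ t h
    simp only at h
    subst h
    have ht : t ≠ 0 := by
      rintro rfl
      apply ha
      simp
    simp only [Pi.smul_apply, smul_eq_mul, mul_eq_zero, ht, false_or]
    by_cases hb1 : b 1 = 0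
    · simp [hb1]
    · simp only [hb1, if_false, Option.some.injEq]
      field_simp)

theorem toOpt_mk {v : Fin 2 → F} (hv : v ≠ 0) :
    toOpt (Projectivization.mk F v hv) = if v 1 = 0 then none else some (v 0 / v 1) := rfl

/-- extended field element to point of the projective line -/
def ofOpt : Option F → ℙ F (Fin 2 → F)
  | none => p0
  | some x => Projectivization.mk F (vx x) (vx_ne x)

/-- the identification of the projective line with `Option F` -/
noncomputable def lineEquiv : ℙ F (Fin 2 → F) ≃ Option F where
  toFun := toOpt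
  invFun := ofOpt
  left_inv := by
    intro P
    induction P using Projectivization.ind with | _ v hv =>
    rw [toOpt_mk]
    by_cases h1 : v 1 = 0
    · rw [if_pos h1]
      change p0 = _
      rw [p0, mk_eq_mk_iff_cr]
      simp [cr, e0, h1]
    · rw [if_neg h1]
      change Projectivization.mk F (vx _) _ = _
      rw [mk_eq_mk_iff_cr]
      simp only [cr, vx, Matrix.cons_val_zero, Matrix.cons_val_one]
      field_simp
      ring
  right_inv := by
    intro o
    cases o with
    | none =>
      change toOpt p0 = none
      rw [p0, toOpt_mk]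
      simp [e0]
    | some x =>
      change toOpt (Projectivization.mk F (vx x) (vx_ne x)) = some x
      rw [toOpt_mk]
      simp [vx]

/-- the Möbius action -/
noncomputable def mob : SpecialLinearGroup (Fin 2) F →* Perm (Option F) :=
  (lineEquiv.permCongrHom).toMonoidHom.comp (MulAction.toPermHom _ _)

theorem mob_apply (g : SpecialLinearGroup (Fin 2) F) (o : Option F) :
    mob g o = toOpt (g • ofOpt o) := rfl

theorem mob_none (g : SpecialLinearGroup (Fin 2) F) :
    mob g none = if g.1 1 0 = 0 then none else some (g.1 0 0 / g.1 1 0) := by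
  rw [mob_apply]
  change toOpt (g • p0) = _
  rw [p0, Projectivization.smul_mk, toOpt_mk]
  have h0 : (g • (e0 : Fin 2 → F)) 0 = g.1 0 0 := by
    change (g.1 *ᵥ e0) 0 = _
    simp [e0, Matrix.mulVec, dotProduct, Fin.sum_univ_two]
  have h1 : (g • (e0 : Fin 2 → F)) 1 = g.1 1 0 := by
    change (g.1 *ᵥ e0) 1 = _
    simp [e0, Matrix.mulVec, dotProduct, Fin.sum_univ_two]
  rw [h0, h1]

theorem mob_some (g : SpecialLinearGroup (Fin 2) F) (x : F) :
    mob g (some x) = if g.1 1 0 * x + g.1 1 1 = 0 then none
      else some ((g.1 0 0 * x + g.1 0 1) / (g.1 1 0 * x + g.1 1 1)) := by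
  rw [mob_apply]
  change toOpt (g • Projectivization.mk F (vx x) (vx_ne x)) = _
  rw [Projectivization.smul_mk, toOpt_mk]
  have h0 : (g • (vx x : Fin 2 → F)) 0 = g.1 0 0 * x + g.1 0 1 := by
    change (g.1 *ᵥ vx x) 0 = _
    simp [vx, Matrix.mulVec, dotProduct, Fin.sum_univ_two]
  have h1 : (g • (vx x : Fin 2 → F)) 1 = g.1 1 0 * x + g.1 1 1 := by
    change (g.1 *ᵥ vx x) 1 = _
    simp [vx, Matrix.mulVec, dotProduct, Fin.sum_univ_two]
  rw [h0, h1]

/-- upper unitriangular matrix -/
def umat (b : F) : SpecialLinearGroup (Fin 2) F := ⟨!![1, b; 0, 1], by simp [Matrix.det_fin_two]⟩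

/-- the Weyl element -/
def wmat : SpecialLinearGroup (Fin 2) F := ⟨!![0, -1; 1, 0], by simp [Matrix.det_fin_two]⟩

theorem mob_umat (b : F) : mob (umat b) = tr b := by
  ext o : 1
  cases o with
  | none => rw [mob_none]; simp [umat]
  | some x => rw [mob_some]; simp [umat]

theorem mob_wmat_zero : mob (wmat : SpecialLinearGroup (Fin 2) F) (some 0) = none := by
  rw [mob_some]; simp [wmat]

/-- the kernel of the Möbius action is the centre -/
theorem mob_ker : (mob : SpecialLinearGroup (Fin 2) F →* Perm (Option F)).ker
    = Subgroup.center (SpecialLinearGroup (Fin 2) F) := by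
  ext g
  rw [MonoidHom.mem_ker, Matrix.SpecialLinearGroup.mem_center_iff]
  constructor
  · intro h
    have h1 := congrArg (fun f : Perm (Option F) => f none) h
    have h2 := congrArg (fun f : Perm (Option F) => f (some 0)) h
    have h3 := congrArg (fun f : Perm (Option F) => f (some 1)) h
    simp only [Perm.coe_one, id_eq] at h1 h2 h3
    rw [mob_none] at h1
    rw [mob_some] at h2 h3
    have hc : g.1 1 0 = 0 := by
      by_contra hc
      rw [if_neg hc] at h1
      exact absurd h1 (by simp)
    have hdet := g.2
    rw [Matrix.det_fin_two, hc] at hdet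
    have hd : g.1 1 1 ≠ 0 := by
      rintro hd
      rw [hd] at hdet
      simp at hdet
    rw [hc] at h2 h3
    simp only [zero_mul, mul_zero, zero_add, hd, if_false, Option.some.injEq] at h2 h3
    have hb : g.1 0 1 = 0 := by
      rcases div_eq_zero_iff.mp h2 with h | h
      · exact h
      · exact absurd h hd
    rw [hb, add_zero, mul_one, div_eq_one_iff_eq hd] at h3
    refine ⟨g.1 0 0, ?_, ?_⟩
    · simp only [Fintype.card_fin]
      rw [sq]
      nth_rewrite 2 [h3]
      linear_combination hdet
    · ext i j
      fin_cases i <;> fin_cases j <;> simp [hb, hc, h3]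
  · rintro ⟨r, hr, hg⟩
    simp only [Fintype.card_fin] at hr
    have hr0 : r ≠ 0 := by
      rintro rfl
      simp at hr
    have e00 : g.1 0 0 = r := by rw [← hg]; simp
    have e01 : g.1 0 1 = 0 := by rw [← hg]; simp
    have e10 : g.1 1 0 = 0 := by rw [← hg]; simp
    have e11 : g.1 1 1 = r := by rw [← hg]; simp
    ext o : 1
    cases o with
    | none => rw [mob_none, e10]; simp
    | some x =>
      rw [mob_some, e00, e01, e10, e11]
      simp only [zero_mul, zero_add, hr0, if_false, add_zero, Perm.coe_one, id_eq,
        Option.some.injEq]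
      field_simp

/-- the image of `SL(2,F)` in `Perm (Option F)` -/
noncomputable def mobRange : Subgroup (Perm (Option F)) :=
  (mob : SpecialLinearGroup (Fin 2) F →* Perm (Option F)).range

/-- `PSL(2,F)` is the image of the Möbius action -/
noncomputable def pslEquivMobRange :
    Matrix.ProjectiveSpecialLinearGroup (Fin 2) F ≃* (mobRange : Subgroup (Perm (Option F))) :=
  (QuotientGroup.quotientMulEquivOfEq mob_ker.symm).trans
    (QuotientGroup.quotientKerEquivRange mob)

end Cfsg.Agent.Helper61.Zq
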