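import Cfsg.Agent.Helper61.ZgTau
import Cfsg.Agent.Helper61.ZqPSL

set_option autoImplicit false
set_option linter.unusedSectionVars false

/-! The Möbius action of `PGL(2,F)` on `Option F`, and the identification of a `ZgGroup` containing
the inversion with `PGL(2,F)`. -/

namespace Cfsg.Agent.Helper61.Zg

open Equiv MulAction Matrix
open scoped LinearAlgebra.Projectivization MatrixGroups
open Cfsg.Agent.Helper37.PL3
open Cfsg.Agent.Helper61.Zq (tr ml tr_none tr_some ml_none ml_some lineEquiv toOpt ofOpt vx vx_ne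
  toOpt_mk)

variable {F : Type*} [Field F] [DecidableEq F]

/-- the Möbius action of `PGL(2,F)` -/
noncomputable def mobPGL : PGL(Fin 2, F) →* Perm (Option F) :=
  (lineEquiv.permCongrHom).toMonoidHom.comp (MulAction.toPermHom _ _)

theorem mobPGL_apply (g : PGL(Fin 2, F)) (o : Option F) :
    mobPGL g o = toOpt (g • ofOpt o) := rfl

theorem mobPGL_none (g : GL (Fin 2) F) :
    mobPGL (Matrix.ProjGenLinGroup.mk g) none =
      if g.1 1 0 = 0 then none else some (g.1 0 0 / g.1 1 0) := by
  rw [mobPGL_apply]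
  change toOpt (Matrix.ProjGenLinGroup.mk g • p0) = _
  rw [p0, Projectivization.PGL.mk_smul_mk, toOpt_mk]
  have h0 : (g • (e0 : Fin 2 → F)) 0 = g.1 0 0 := by
    change (g.1 *ᵥ e0) 0 = _
    simp [e0, Matrix.mulVec, dotProduct, Fin.sum_univ_two]
  have h1 : (g • (e0 : Fin 2 → F)) 1 = g.1 1 0 := by
    change (g.1 *ᵥ e0) 1 = _
    simp [e0, Matrix.mulVec, dotProduct, Fin.sum_univ_two]
  rw [h0, h1]

theorem mobPGL_some (g : GL (Fin 2) F) (x : F) :
    mobPGL (Matrix.ProjGenLinGroup.mk g) (some x) = if g.1 1 0 * x + g.1 1 1 = 0 then none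
      else some ((g.1 0 0 * x + g.1 0 1) / (g.1 1 0 * x + g.1 1 1)) := by
  rw [mobPGL_apply]
  change toOpt (Matrix.ProjGenLinGroup.mk g • Projectivization.mk F (vx x) (vx_ne x)) = _
  rw [Projectivization.PGL.mk_smul_mk, toOpt_mk]
  have h0 : (g • (vx x : Fin 2 → F)) 0 = g.1 0 0 * x + g.1 0 1 := by
    change (g.1 *ᵥ vx x) 0 = _
    simp [vx, Matrix.mulVec, dotProduct, Fin.sum_univ_two]
  have h1 : (g • (vx x : Fin 2 → F)) 1 = g.1 1 0 * x + g.1 1 1 := by
    change (g.1 *ᵥ vx x) 1 = _
    simp [vx, Matrix.mulVec, dotProduct, Fin.sum_univ_two]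
  rw [h0, h1]

/-- the matrix of an affine map -/
noncomputable def amat (k : Fˣ) (c : F) : GL (Fin 2) F :=
  Matrix.GeneralLinearGroup.mkOfDetNeZero !![(k : F), c; 0, 1] (by
    simp [Matrix.det_fin_two])

/-- the matrix of the inversion -/
noncomputable def wmat1 : GL (Fin 2) F :=
  Matrix.GeneralLinearGroup.mkOfDetNeZero !![0, 1; 1, 0] (by
    simp [Matrix.det_fin_two])

theorem mobPGL_amat (k : Fˣ) (c : F) :
    mobPGL (Matrix.ProjGenLinGroup.mk (amat k c)) = tr c * ml k := by
  ext o : 1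
  cases o with
  | none => rw [mobPGL_none]; simp [amat]
  | some x => rw [mobPGL_some]; simp [amat, Perm.mul_apply]

theorem mobPGL_wmat1 : mobPGL (Matrix.ProjGenLinGroup.mk (wmat1 : GL (Fin 2) F)) = inv1 := by
  ext o : 1
  cases o with
  | none => rw [mobPGL_none]; simp [wmat1]
  | some x =>
    rw [mobPGL_some]
    by_cases hx : x = 0
    · simp [wmat1, hx]
    · rw [inv1_some hx]
      simp [wmat1, hx]

/-- elements of the image fixing infinity are affine -/
theorem affine_of_mem_range {g : Perm (Option F)} (hg : g ∈ (mobPGL (F := F)).range)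
    (hnone : g none = none) : ∃ (k : Fˣ) (c : F), g = tr c * ml k := by
  obtain ⟨M, rfl⟩ := hg
  induction M using Matrix.ProjGenLinGroup.induction_on with | mk M =>
  rw [mobPGL_none] at hnone
  have hc : M.1 1 0 = 0 := by
    by_contra hc
    rw [if_neg hc] at hnone
    exact absurd hnone (by simp)
  have hdet : M.1.det ≠ 0 := by
    have := M.isUnit
    exact (Matrix.isUnit_iff_isUnit_det _).mp this |>.ne_zero
  rw [Matrix.det_fin_two, hc, mul_zero, sub_zero] at hdet
  have ha : M.1 0 0 ≠ 0 := left_ne_zero_of_mul hdet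
  have hd : M.1 1 1 ≠ 0 := right_ne_zero_of_mul hdet
  refine ⟨Units.mk0 (M.1 0 0 / M.1 1 1) (div_ne_zero ha hd), M.1 0 1 / M.1 1 1, ?_⟩
  ext o : 1
  cases o with
  | none =>
    rw [mobPGL_none, if_pos hc]
    simp [Perm.mul_apply]
  | some x =>
    rw [mobPGL_some, hc]
    simp only [zero_mul, zero_add, hd, if_false, Perm.mul_apply, ml_some, tr_some,
      Units.val_mk0, Option.some.injEq]
    field_simp

theorem mobPGL_injective : Function.Injective (mobPGL (F := F)) := by
  rw [injective_iff_map_eq_one]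
  intro M hM
  induction M using Matrix.ProjGenLinGroup.induction_on with | mk M =>
  have hnone := congrArg (fun f : Perm (Option F) => f none) hM
  have hzero := congrArg (fun f : Perm (Option F) => f (some 0)) hM
  have hone := congrArg (fun f : Perm (Option F) => f (some 1)) hM
  simp only [Perm.one_apply] at hnone hzero hone
  rw [mobPGL_none] at hnone
  have hc : M.1 1 0 = 0 := by
    by_contra hc
    rw [if_neg hc] at hnone
    exact absurd hnone (by simp)
  have hdet : M.1.det ≠ 0 := by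
    have := M.isUnit
    exact (Matrix.isUnit_iff_isUnit_det _).mp this |>.ne_zero
  rw [Matrix.det_fin_two, hc, mul_zero, sub_zero] at hdet
  have ha : M.1 0 0 ≠ 0 := left_ne_zero_of_mul hdet
  have hd : M.1 1 1 ≠ 0 := right_ne_zero_of_mul hdet
  rw [mobPGL_some, hc] at hzero hone
  simp only [zero_mul, zero_add, hd, if_false, mul_zero, Option.some.injEq, mul_one] at hzero hone
  have hb : M.1 0 1 = 0 := by
    rcases div_eq_zero_iff.mp hzero with h | h
    · exact h
    · exact absurd h hd
  rw [hb, add_zero, div_eq_one_iff_eq hd] at hone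
  rw [Matrix.ProjGenLinGroup.mk_eq_one,
    Matrix.GeneralLinearGroup.mem_center_iff_val_mem_range_scalar]
  refine ⟨M.1 0 0, ?_⟩
  ext i j
  fin_cases i <;> fin_cases j <;> simp [Matrix.scalar_apply, hc, hb, hone]

theorem inv1_inv : (inv1 : Perm (Option F))⁻¹ = inv1 :=
  inv_eq_of_mul_eq_one_left inv1_mul_self

theorem tr_neg_inv (y : F) : (tr (-y) : Perm (Option F))⁻¹ = tr y := by
  apply inv_eq_of_mul_eq_one_left
  ext o : 1
  cases o with
  | none => simp [Perm.mul_apply]
  | some x => simp [Perm.mul_apply]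

/-- comparison of two groups containing translations and the inversion in which the stabiliser of
infinity is affine -/
theorem le_of_affine (Δ Δ' : Subgroup (Perm (Option F))) (h1 : ∀ c : F, tr c ∈ Δ)
    (h2 : ∀ k : Fˣ, ml k ∈ Δ) (h3 : inv1 ∈ Δ) (h1' : ∀ c : F, tr c ∈ Δ') (h3' : inv1 ∈ Δ')
    (haff : ∀ g ∈ Δ', g none = none → ∃ (k : Fˣ) (c : F), g = tr c * ml k) : Δ' ≤ Δ := by
  intro g hg
  have key : ∀ g ∈ Δ', g none = none → g ∈ Δ := by
    intro g hg hnone
    obtain ⟨k, c, rfl⟩ := haff g hg hnone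
    exact Δ.mul_mem (h1 c) (h2 k)
  rcases h : g none with _ | y
  · exact key g hg h
  · have hg' : inv1 * tr (-y) * g ∈ Δ' := Δ'.mul_mem (Δ'.mul_mem h3' (h1' _)) hg
    have hnone : (inv1 * tr (-y) * g : Perm (Option F)) none = none := by
      simp only [Perm.mul_apply]
      rw [h, tr_some, add_neg_cancel, inv1_zero]
    have := key _ hg' hnone
    have e1 : (tr y * tr (-y) : Perm (Option F)) = 1 := by
      rw [← tr_neg_inv y, inv_mul_cancel]
    have h4 : g = tr y * inv1 * (inv1 * tr (-y) * g) := by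
      calc g = (tr y * tr (-y)) * g := by rw [e1, one_mul]
      _ = tr y * (inv1 * inv1) * tr (-y) * g := by rw [inv1_mul_self, mul_one]
      _ = _ := by simp only [mul_assoc]
    rw [h4]
    exact Δ.mul_mem (Δ.mul_mem (h1 y) h3) this

theorem tr_mem_range (c : F) : tr c ∈ (mobPGL (F := F)).range := by
  refine ⟨Matrix.ProjGenLinGroup.mk (amat 1 c), ?_⟩
  rw [mobPGL_amat]
  ext o : 1
  cases o with
  | none => simp [Perm.mul_apply]
  | some x => simp [Perm.mul_apply]

theorem ml_mem_range (k : Fˣ) : ml k ∈ (mobPGL (F := F)).range := by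
  refine ⟨Matrix.ProjGenLinGroup.mk (amat k 0), ?_⟩
  rw [mobPGL_amat]
  ext o : 1
  cases o with
  | none => simp [Perm.mul_apply]
  | some x => simp [Perm.mul_apply]

theorem inv1_mem_range : inv1 ∈ (mobPGL (F := F)).range :=
  ⟨_, mobPGL_wmat1⟩

/-- a `ZgGroup` containing the inversion is the image of `PGL(2,F)` -/
theorem ZgGroup.eq_range {Γ : Subgroup (Perm (Option F))} (hΓ : ZgGroup Γ) (hinv : inv1 ∈ Γ) :
    Γ = (mobPGL (F := F)).range := by
  apply le_antisymm
  · exact le_of_affine _ _ tr_mem_range ml_mem_range inv1_mem_range hΓ.tr_mem hinv hΓ.affine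
  · exact le_of_affine _ _ hΓ.tr_mem hΓ.ml_mem hinv tr_mem_range inv1_mem_range
      (fun g hg h => affine_of_mem_range hg h)

/-- a `ZgGroup` containing the inversion is isomorphic to `PGL(2,F)` -/
theorem ZgGroup.nonempty_mulEquiv {Γ : Subgroup (Perm (Option F))} (hΓ : ZgGroup Γ)
    (hinv : inv1 ∈ Γ) : Nonempty (Γ ≃* PGL(Fin 2, F)) := by
  rw [hΓ.eq_range hinv]
  exact ⟨(MonoidHom.ofInjective mobPGL_injective).symm⟩

end Cfsg.Agent.Helper61.Zg
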