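import Cfsg.Agent.Helper61.ZqPSL

set_option autoImplicit false
set_option linter.unusedSectionVars false

/-! The image of `SL(2,F)` in `Perm (Option F)` is a `ZqGroup`; hence every `ZqGroup` is
isomorphic to `PSL(2,F)`. -/

namespace Cfsg.Agent.Helper61.Zq

open Equiv MulAction Matrix
open scoped LinearAlgebra.Projectivization MatrixGroups

variable {F : Type*} [Field F] [Fintype F] [DecidableEq F]

theorem card_mobRange (hq : Fintype.card F % 4 = 1) :
    Nat.card (mobRange : Subgroup (Perm (Option F)))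
      = (Fintype.card F + 1) * Fintype.card F * ((Fintype.card F - 1) / 2) := by
  rw [← Nat.card_congr (pslEquivMobRange (F := F)).toEquiv]
  have hodd : Odd (Fintype.card F) := Nat.odd_iff.mpr (by omega)
  have hc := Cfsg.Agent.Helper5.card_PSL2_mul (F := F)
  rw [Cfsg.Agent.Helper5.card_center_SL2_of_two_ne_zero
    (Cfsg.Agent.Helper5.two_ne_zero_of_odd_card hodd)] at hc
  set q := Fintype.card F with hqdef
  have h1 : 1 ≤ q := by omega
  have hsq : q ^ 2 - 1 = (q + 1) * (q - 1) := by
    zify [h1, Nat.one_le_pow 2 q (by omega)]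
    ring
  have hhalf : 2 * ((q - 1) / 2) = q - 1 := by omega
  have : Nat.card (Matrix.ProjectiveSpecialLinearGroup (Fin 2) F) * 2
      = ((q + 1) * q * ((q - 1) / 2)) * 2 := by
    rw [hc, hsq]
    calc q * ((q + 1) * (q - 1)) = q * ((q + 1) * (2 * ((q - 1) / 2))) := by rw [hhalf]
      _ = ((q + 1) * q * ((q - 1) / 2)) * 2 := by ring
  exact Nat.eq_of_mul_eq_mul_right (by norm_num) this

theorem zqGroup_mobRange (hq : Fintype.card F % 4 = 1) :
    ZqGroup (mobRange : Subgroup (Perm (Option F))) where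
  mod4 := hq
  card := card_mobRange hq
  tr_mem := fun b => ⟨umat b, mob_umat b⟩
  affine := by
    rintro _ ⟨g, rfl⟩ hnone
    rw [mob_none] at hnone
    have hc : g.1 1 0 = 0 := by
      by_contra hc
      rw [if_neg hc] at hnone
      exact absurd hnone (by simp)
    have hdet := g.2
    rw [Matrix.det_fin_two, hc] at hdet
    have ha : g.1 0 0 ≠ 0 := by
      rintro h
      rw [h] at hdet
      simp at hdet
    have hd : g.1 1 1 ≠ 0 := by
      rintro h
      rw [h] at hdet
      simp at hdet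
    refine ⟨Units.mk0 (g.1 0 0 / g.1 1 1) (div_ne_zero ha hd), g.1 0 1 / g.1 1 1, ?_⟩
    ext o : 1
    cases o with
    | none => rw [mob_none, hc]; simp
    | some x =>
      rw [mob_some, hc]
      simp only [zero_mul, zero_add, hd, if_false, Perm.mul_apply, ml_some, tr_some,
        Units.val_mk0, Option.some.injEq]
      field_simp
  trans := by
    have key : ∀ x : Option F, ∃ g ∈ (mobRange : Subgroup (Perm (Option F))), g (some 0) = x := by
      intro x
      cases x with
      | none => exact ⟨mob wmat, ⟨wmat, rfl⟩, mob_wmat_zero⟩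
      | some b => exact ⟨mob (umat b), ⟨umat b, rfl⟩, by rw [mob_umat]; simp⟩
    intro x y
    obtain ⟨g₁, hg₁, h₁⟩ := key x
    obtain ⟨g₂, hg₂, h₂⟩ := key y
    refine ⟨g₂ * g₁⁻¹, Subgroup.mul_mem _ hg₂ (Subgroup.inv_mem _ hg₁), ?_⟩
    rw [Perm.mul_apply, ← h₁, Perm.inv_eq_iff_eq.mpr rfl, h₂]

/-- **Every `ZqGroup` is isomorphic to `PSL(2,F)`.** -/
theorem ZqGroup.iso_psl {Γ : Subgroup (Perm (Option F))} (hΓ : ZqGroup Γ) :
    Nonempty (Γ ≃* Matrix.ProjectiveSpecialLinearGroup (Fin 2) F) := by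
  have h := hΓ.unique (zqGroup_mobRange hΓ.mod4)
  exact ⟨(MulEquiv.subgroupCongr h).trans pslEquivMobRange.symm⟩

end Cfsg.Agent.Helper61.Zq
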