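import Cfsg.Agent.Helper61.ZsField
import Cfsg.Agent.Helper61.ZqPSL2

set_option autoImplicit false
set_option linter.unusedSectionVars false

/-! Zassenhaus data with two-point stabiliser of even order `d`, `2 d ≤ n - 1`: identification
of the permutation group with a `ZqGroup`, hence with `PSL(2, R)`. -/

namespace Cfsg.Agent.Helper61.Zs

open MulAction Equiv
open Cfsg.Agent.Helper61.Zq (tr ml ZqGroup)

universe u v

variable {G : Type u} {Ω : Type v} [Group G] [MulAction G Ω] {inf zero : Ω} {K : Subgroup G}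

section Embed

variable (D : ZData inf zero K) {R : Type u} [Field R] (ψ : R → K)
  (c : stabH G inf zero → R) (hψ : Function.Bijective ψ)
  (hadd : ∀ r s, ψ (r + s) = ψ r * ψ s) (hc : ∀ h, c h ≠ 0)
  (hconj : ∀ h r, ψ (c h * r) = D.conjAct h (ψ r))

/-- from extended field elements to points -/
def einv (inf zero : Ω) (ψ : R → K) (o : Option R) : Ω :=
  match o with
  | none => inf
  | some r => (ψ r : G) • zero

include D hψ in
theorem einv_bijective : Function.Bijective (einv inf zero ψ) := by
  constructor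
  · intro a b hab
    cases a with
    | none =>
      cases b with
      | none => rfl
      | some s =>
        exfalso
        exact D.K_smul_ne_inf (ψ s).2 D.zero_ne hab.symm
    | some r =>
      cases b with
      | none =>
        exfalso
        exact D.K_smul_ne_inf (ψ r).2 D.zero_ne hab
      | some s =>
        have h1 : ((ψ r : K) : G) = ψ s := D.K_unique (ψ r).2 (ψ s).2 D.zero_ne hab
        rw [hψ.1 (Subtype.ext h1)]
  · intro x
    by_cases hx : x = inf
    · exact ⟨none, hx.symm⟩
    · obtain ⟨k, hk, hkx⟩ := D.K_trans zero x D.zero_ne hx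
      obtain ⟨r, hr⟩ := hψ.2 ⟨k, hk⟩
      refine ⟨some r, ?_⟩
      change (ψ r : G) • zero = x
      rw [hr]
      exact hkx

/-- the identification of the points with `Option R` -/
noncomputable def eqv : Ω ≃ Option R := (Equiv.ofBijective _ (einv_bijective D ψ hψ)).symm

theorem eqv_symm_none : (eqv D ψ hψ).symm none = inf := rfl

theorem eqv_symm_some (r : R) : (eqv D ψ hψ).symm (some r) = (ψ r : G) • zero := rfl

theorem eqv_inf : eqv D ψ hψ inf = none := by
  have := (eqv D ψ hψ).apply_symm_apply none
  rwa [eqv_symm_none] at this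

theorem eqv_smul_zero (r : R) : eqv D ψ hψ ((ψ r : G) • zero) = some r := by
  have := (eqv D ψ hψ).apply_symm_apply (some r)
  rwa [eqv_symm_some] at this

/-- the permutation representation on `Option R` -/
noncomputable def rho : G →* Perm (Option R) :=
  ((eqv D ψ hψ).permCongrHom).toMonoidHom.comp (MulAction.toPermHom G Ω)

theorem rho_apply (g : G) (o : Option R) :
    rho D ψ hψ g o = eqv D ψ hψ (g • (eqv D ψ hψ).symm o) := rfl

theorem rho_injective : Function.Injective (rho D ψ hψ) := by
  rw [injective_iff_map_eq_one]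
  intro g hg
  apply D.eq_one_of_smul_eq
  intro x
  have := congrArg (fun f : Perm (Option R) => f (eqv D ψ hψ x)) hg
  simp only [rho_apply, Equiv.symm_apply_apply, Perm.coe_one, id_eq] at this
  exact (eqv D ψ hψ).injective this

include hadd in
theorem rho_K (b : R) : rho D ψ hψ (ψ b : G) = tr b := by
  ext o : 1
  cases o with
  | none =>
    rw [rho_apply, eqv_symm_none, D.K_fix _ (ψ b).2, eqv_inf]
    rfl
  | some r =>
    rw [rho_apply, eqv_symm_some, ← mul_smul]
    have : ((ψ b : K) : G) * (ψ r : K) = ((ψ (r + b) : K) : G) := by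
      rw [add_comm, hadd]
      rfl
    rw [this, eqv_smul_zero]
    rfl

include hconj in
theorem rho_H (h : stabH G inf zero) (u : Rˣ) (hu : (u : R) = c h) :
    rho D ψ hψ (h : G) = ml u := by
  ext o : 1
  cases o with
  | none =>
    rw [rho_apply, eqv_symm_none, (mem_stabH.mp h.2).1, eqv_inf]
    rfl
  | some r =>
    rw [rho_apply, eqv_symm_some, ← D.conj_smul_zero h.2]
    have : h.1 * (ψ r : K) * h.1⁻¹ = ((ψ (c h * r) : K) : G) := by
      rw [hconj]
      rfl
    rw [this, eqv_smul_zero, Zq.ml_some, hu]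

end Embed

section Main

variable [Finite G] [Fintype Ω]

omit [Fintype Ω] in
/-- the order of the point stabiliser -/
theorem ZData.card_stab (D : ZData inf zero K) :
    Nat.card (stabilizer G inf) = Nat.card K * Nat.card (stabH G inf zero) := by
  rw [← Nat.card_prod]
  symm
  apply Nat.card_congr
  refine Equiv.ofBijective (fun x : K × stabH G inf zero =>
    (⟨x.1.1 * x.2.1, by
      rw [mem_stabilizer_iff, mul_smul, (mem_stabH.mp x.2.2).1, D.K_fix _ x.1.2]⟩ :
        stabilizer G inf)) ⟨?_, ?_⟩
  · rintro ⟨⟨k, hk⟩, ⟨h, hh⟩⟩ ⟨⟨k', hk'⟩, ⟨h', hh'⟩⟩ heq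
    have h1 : k * h = k' * h' := congrArg Subtype.val heq
    have h2 : k • zero = k' • zero := by
      have := congrArg (· • zero) h1
      simp only [mul_smul, (mem_stabH.mp hh).2, (mem_stabH.mp hh').2] at this
      exact this
    have h3 : k = k' := D.K_unique hk hk' D.zero_ne h2
    subst h3
    have h4 : h = h' := mul_left_cancel h1
    subst h4
    rfl
  · rintro ⟨b, hb⟩
    obtain ⟨k, hk, h, hh, rfl⟩ := D.exists_K_mul_H (mem_stabilizer_iff.mp hb)
    exact ⟨(⟨k, hk⟩, ⟨h, hh⟩), rfl⟩

/-- the order of the group -/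
theorem ZData.card_G (D : ZData inf zero K) :
    Nat.card G = Fintype.card Ω * (Nat.card K * Nat.card (stabH G inf zero)) := by
  have h := Subgroup.card_mul_index (stabilizer G inf)
  rw [MulAction.index_stabilizer] at h
  have horb : orbit G inf = Set.univ := by
    ext y
    simp only [Set.mem_univ, iff_true]
    obtain ⟨g, hg⟩ := D.trans inf y
    exact ⟨g, hg⟩
  rw [horb, Set.ncard_univ, Nat.card_eq_fintype_card (α := Ω), D.card_stab] at h
  rw [← h, mul_comm]

/-- **Main theorem on Zassenhaus data.** -/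
theorem ZData.iso_psl (D : ZData inf zero K) (heven : Even (Nat.card (stabH G inf zero)))
    (hd : 2 * Nat.card (stabH G inf zero) ≤ Fintype.card Ω - 2) :
    ∃ (R : Type u) (_ : Field R) (_ : Fintype R), Fintype.card R + 1 = Fintype.card Ω ∧
      Nonempty (G ≃* Matrix.ProjectiveSpecialLinearGroup (Fin 2) R) := by
  classical
  obtain ⟨R, hRf, hRfin, ψ, c, hψ, hadd, hc, hconj⟩ := D.exists_field heven hd
  haveI : Fintype R := Fintype.ofFinite R
  have hcardR : Fintype.card R = Nat.card K := by
    rw [← Nat.card_eq_fintype_card]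
    exact Nat.card_congr (Equiv.ofBijective ψ hψ)
  have h2d := D.two_mul_card_H heven hd
  have hK := D.card_K
  have hpos : 0 < Nat.card K := Nat.card_pos
  refine ⟨R, hRf, inferInstance, by rw [hcardR, hK]; omega, ?_⟩
  set ρ := rho D ψ hψ with hρ
  have hinj : Function.Injective ρ := rho_injective D ψ hψ
  have hZ : ZqGroup ρ.range := by
    refine ⟨?_, ?_, ?_, ?_, ?_⟩
    · -- mod 4
      rw [hcardR, ← h2d]
      obtain ⟨m, hm⟩ := heven
      omega
    · -- card
      rw [← Nat.card_congr (MonoidHom.ofInjective hinj).toEquiv, D.card_G, hcardR, hK]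
      have hΩ : Fintype.card Ω - 1 + 1 = Fintype.card Ω := by omega
      rw [hΩ]
      have : Nat.card (stabH G inf zero) = (Fintype.card Ω - 1 - 1) / 2 := by omega
      rw [this]
      ring
    · -- translations
      intro b
      exact ⟨(ψ b : G), rho_K D ψ hψ hadd b⟩
    · -- affine
      rintro _ ⟨g, rfl⟩ hnone
      rw [rho_apply, eqv_symm_none] at hnone
      have hg : g • inf = inf := by
        have := congrArg (eqv D ψ hψ).symm hnone
        rwa [Equiv.symm_apply_apply, eqv_symm_none] at this
      obtain ⟨k, hk, h, hh, rfl⟩ := D.exists_K_mul_H hg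
      obtain ⟨b, hb⟩ := hψ.2 ⟨k, hk⟩
      refine ⟨Units.mk0 (c ⟨h, hh⟩) (hc _), b, ?_⟩
      rw [map_mul]
      have h1 : ρ k = tr b := by
        have := rho_K D ψ hψ hadd b
        rw [hb] at this
        exact this
      have h2 : ρ h = ml (Units.mk0 (c ⟨h, hh⟩) (hc _)) :=
        rho_H D ψ c hψ hconj ⟨h, hh⟩ _ (Units.val_mk0 _)
      rw [h1, h2]
    · -- transitivity
      intro x y
      obtain ⟨g, hg⟩ := D.trans ((eqv D ψ hψ).symm x) ((eqv D ψ hψ).symm y)
      refine ⟨ρ g, ⟨g, rfl⟩, ?_⟩
      rw [rho_apply, hg, Equiv.apply_symm_apply]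
  obtain ⟨e⟩ := hZ.iso_psl
  exact ⟨(MonoidHom.ofInjective hinj).trans e⟩

end Main

end Cfsg.Agent.Helper61.Zs
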