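import Mathlib
import Cfsg.Agent.Helper61.ZgAbelC
import Cfsg.Agent.Helper61.ZgPGL
import Cfsg.Agent.Helper61.ZsEmbed
import Cfsg.Agent.Helper14.AutTransport

set_option autoImplicit false
set_option linter.unusedSectionVars false

/-! **Zassenhaus' theorem** on sharply triply transitive groups of degree `p ^ f + 1`, `p` and `f`
odd: they are `PGL(2, p ^ f)`. -/

namespace Cfsg.Agent.Helper61.S3t

open Cfsg.Agent.Helper61.Zs MulAction Cfsg.Agent.Helper61.Zg Equiv
open scoped MatrixGroups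
open Cfsg.Agent.Helper61.Zq (tr ml)

universe u v

variable {G : Type u} {Ω : Type v} [Group G] [MulAction G Ω] {inf zero : Ω} {K : Subgroup G}
  {D : ZData inf zero K} {t : G} {c : Ω}

/-- **the two-point stabiliser is commutative** -/
theorem S3Data.H_comm_odd [Finite G] [Fintype Ω] (S : S3Data D t c) {p f : ℕ} (hp : p.Prime)
    (hp2 : p ≠ 2) (hf : Odd f) (hK : Nat.card K = p ^ f) {x y : G}
    (hx : x ∈ stabH G inf zero) (hy : y ∈ stabH G inf zero) : x * y = y * x := by
  obtain ⟨φ, hφ⟩ := S.exists_character_H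
  have hodd : Odd (Nat.card K) := by rw [hK]; exact (hp.odd_of_ne_two hp2).pow
  have hc1 := two_mul_card_H1 φ hφ
  have hc2 := S.card_K
  have hcard : 2 * Nat.card (H1 inf zero φ) + 1 = Nat.card K := by omega
  have hab : ∀ x y : G, x ∈ H1 inf zero φ → y ∈ H1 inf zero φ → x * y = y * x :=
    fun x y hx hy => S.H1_comm φ hφ hodd hx hy
  have hcen : ∀ h₀ s : G, h₀ ∈ stabH G inf zero → s ∈ H1 inf zero φ → h₀ * s = s * h₀ :=
    fun h₀ s hh₀ hs => central_of_index_two D S.heven φ hp hf hK hcard hab hh₀ hs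
  rcases Int.units_eq_one_or (φ x) with h1 | h1
  · exact (hcen y x hy (mem_H1.mpr ⟨hx, h1⟩)).symm
  rcases Int.units_eq_one_or (φ y) with h2 | h2
  · exact hcen x y hx (mem_H1.mpr ⟨hy, h2⟩)
  · have hs : x⁻¹ * y ∈ H1 inf zero φ := by
      refine mem_H1.mpr ⟨(stabH G inf zero).mul_mem ((stabH G inf zero).inv_mem hx) hy, ?_⟩
      rw [map_mul, map_inv, h1, h2]
      rfl
    have := hcen x (x⁻¹ * y) hx hs
    calc x * y = x * (x * (x⁻¹ * y)) * x⁻¹ * x := by group
      _ = x * ((x⁻¹ * y) * x) * x⁻¹ * x := by rw [this]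
      _ = y * x := by group

/-- **Zassenhaus' theorem**, abstract form -/
theorem S3Data.iso_pgl [Finite G] [Fintype Ω] (S : S3Data D t c) {p f : ℕ} (hp : p.Prime)
    (hp2 : p ≠ 2) (hf : Odd f) (hK : Nat.card K = p ^ f) :
    ∃ (R : Type u) (_ : Field R) (_ : Fintype R), Fintype.card R = p ^ f ∧
      Nonempty (G ≃* PGL(Fin 2, R)) := by
  classical
  have : Nontrivial K := by
    obtain ⟨k, hk, hk1⟩ := D.exists_K_ne_one
    exact ⟨⟨⟨k, hk⟩, 1, fun h => hk1 (congrArg Subtype.val h)⟩⟩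
  obtain ⟨R, hRf, hRfin, ψ, c, hψ, hadd, hc0, hconj⟩ :=
    exists_field_of_irreducible (K := K) (H := stabH G inf zero)
      (fun x y => Subtype.ext (D.K_comm S.heven x.2 y.2))
      (fun h k => D.conjAct h k)
      (by
        intro h x y
        apply Subtype.ext
        change h.1 * (x.1 * y.1) * h.1⁻¹ = (h.1 * x.1 * h.1⁻¹) * (h.1 * y.1 * h.1⁻¹)
        group)
      (by
        intro h x y hxy
        have : h.1 * x.1 * h.1⁻¹ = h.1 * y.1 * h.1⁻¹ := congrArg Subtype.val hxy
        exact Subtype.ext (mul_left_cancel (mul_right_cancel this)))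
      (by
        intro h h' x
        apply Subtype.ext
        change h.1 * (h'.1 * x.1 * h'.1⁻¹) * h.1⁻¹ = h'.1 * (h.1 * x.1 * h.1⁻¹) * h'.1⁻¹
        have hc := S.H_comm_odd hp hp2 hf hK h.2 h'.2
        calc h.1 * (h'.1 * x.1 * h'.1⁻¹) * h.1⁻¹ = (h.1 * h'.1) * x.1 * (h.1 * h'.1)⁻¹ := by group
          _ = (h'.1 * h.1) * x.1 * (h'.1 * h.1)⁻¹ := by rw [hc]
          _ = h'.1 * (h.1 * x.1 * h.1⁻¹) * h'.1⁻¹ := by group)
      (by
        intro W hW
        by_cases hbot : W = ⊥
        · exact Or.inl hbot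
        · right
          obtain ⟨⟨w0, hw0mem⟩, hw01⟩ := (Subgroup.ne_bot_iff_exists_ne_one).mp hbot
          have hw01' : (w0 : G) ≠ 1 := by
            intro h
            apply hw01
            apply Subtype.ext
            apply Subtype.ext
            exact h
          rw [eq_top_iff]
          intro k _
          by_cases hk1 : (k : G) = 1
          · have : k = 1 := Subtype.ext hk1
            rw [this]
            exact W.one_mem
          · obtain ⟨h, hh, hhk⟩ := S.trans_K w0.1 k.1 w0.2 k.2 hw01' hk1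
            have : k = D.conjAct ⟨h, hh⟩ w0 := Subtype.ext hhk.symm
            rw [this]
            exact hW ⟨h, hh⟩ w0 hw0mem)
  haveI : Fintype R := Fintype.ofFinite R
  have hcardR : Fintype.card R = p ^ f := by
    rw [← Nat.card_eq_fintype_card, Nat.card_congr (Equiv.ofBijective ψ hψ), hK]
  have hψ0 : ψ 0 = 1 := by
    have := hadd 0 0
    rw [add_zero] at this
    exact (left_eq_mul.mp this)
  have hψne : ∀ r : R, r ≠ 0 → (ψ r : G) ≠ 1 := by
    intro r hr h
    apply hr
    apply hψ.1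
    rw [hψ0]
    exact Subtype.ext h
  -- `c` is onto the nonzero elements
  have hcsurj : ∀ r : R, r ≠ 0 → ∃ h, c h = r := by
    intro r hr
    obtain ⟨h, hh, hhk⟩ := S.trans_K (ψ 1).1 (ψ r).1 (ψ 1).2 (ψ r).2 (hψne 1 one_ne_zero)
      (hψne r hr)
    refine ⟨⟨h, hh⟩, ?_⟩
    have h1 : D.conjAct ⟨h, hh⟩ (ψ 1) = ψ r := Subtype.ext hhk
    rw [← hconj, mul_one] at h1
    exact hψ.1 h1
  -- the swap
  have hx1 : (ψ 1 : G) • zero ≠ inf := D.K_smul_ne_inf (ψ 1).2 D.zero_ne
  have hx2 : (ψ 1 : G) • zero ≠ zero := by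
    intro h
    exact hψne 1 one_ne_zero (D.K_free _ (ψ 1).2 zero D.zero_ne h)
  obtain ⟨j, hj, hj1, hjj⟩ := D.exists_invol S.heven
  obtain ⟨i, hi1, hii, hix, -, hisw1, hisw2⟩ := D.exists_invol_swap hj hj1 hjj hx1 hx2
  -- the embedding
  have hzero : (eqv D ψ hψ) zero = some 0 := by
    have := eqv_smul_zero D ψ hψ 0
    rw [hψ0] at this
    simpa using this
  have hsymm0 : (eqv D ψ hψ).symm (some 0) = zero := by
    rw [Equiv.symm_apply_eq, hzero]
  have hΓ : ZgGroup (rho D ψ hψ).range :=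
    { tr_mem := fun b => ⟨(ψ b : G), rho_K D ψ hψ hadd b⟩
      ml_mem := by
        intro k
        obtain ⟨h, hh⟩ := hcsurj k k.ne_zero
        exact ⟨h.1, rho_H D ψ c hψ hconj h k hh.symm⟩
      affine := by
        rintro _ ⟨x, rfl⟩ hnone
        have hx : x • inf = inf := by
          rw [rho_apply, eqv_symm_none] at hnone
          have := congrArg (eqv D ψ hψ).symm hnone
          rwa [Equiv.symm_apply_apply, eqv_symm_none] at this
        obtain ⟨k, hk, h, hh, rfl⟩ := D.exists_K_mul_H hx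
        obtain ⟨b, hb⟩ := hψ.2 ⟨k, hk⟩
        refine ⟨Units.mk0 (c ⟨h, hh⟩) (hc0 _), b, ?_⟩
        rw [map_mul, ← rho_K D ψ hψ hadd b, hb, ← rho_H D ψ c hψ hconj ⟨h, hh⟩ _ rfl]
      three_fixed := by
        rintro _ ⟨x, rfl⟩ a b w hab hbw haw ha hb hw
        have key : ∀ o : Option R, rho D ψ hψ x o = o →
            x • (eqv D ψ hψ).symm o = (eqv D ψ hψ).symm o := by
          intro o ho
          rw [rho_apply] at ho
          have := congrArg (eqv D ψ hψ).symm ho
          rwa [Equiv.symm_apply_apply] at this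
        have hinj := (eqv D ψ hψ).symm.injective
        have := D.three_fixed x _ _ _ (fun h => hab (hinj h)) (fun h => hbw (hinj h))
          (fun h => haw (hinj h)) (key a ha) (key b hb) (key w hw)
        rw [this, map_one] }
  have hsw : GoodSwap (rho D ψ hψ).range (rho D ψ hψ i) :=
    { mem := ⟨i, rfl⟩
      t_none := by
        rw [rho_apply, eqv_symm_none, hisw1, hzero]
      t_zero := by
        rw [rho_apply, hsymm0, hisw2, eqv_inf]
      t_one := by
        rw [rho_apply, eqv_symm_some, hix, eqv_smul_zero]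
      sq := by
        rw [← map_mul, hii, map_one] }
  have hoddR : Fintype.card R % 2 = 1 := by
    rw [hcardR]
    exact Nat.odd_iff.mp (hp.odd_of_ne_two hp2).pow
  have hinv : (inv1 : Perm (Option R)) ∈ (rho D ψ hψ).range := by
    rw [← hsw.eq_inv1 hΓ hoddR]
    exact ⟨i, rfl⟩
  obtain ⟨E⟩ := hΓ.nonempty_mulEquiv hinv
  exact ⟨R, hRf, inferInstance, hcardR,
    ⟨(MonoidHom.ofInjective (rho_injective D ψ hψ)).trans E⟩⟩

/-- **Zassenhaus' theorem**, with the Galois field -/
theorem S3Data.iso_pgl_galois [Finite G] [Fintype Ω] (S : S3Data D t c) {p f : ℕ} (hp : p.Prime)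
    (hp2 : p ≠ 2) (hf : Odd f) (hK : Nat.card K = p ^ f) :
    ∃ (F : Type) (_ : Field F) (_ : Fintype F), Fintype.card F = p ^ f ∧
      Nonempty (G ≃* PGL(Fin 2, F)) := by
  obtain ⟨R, hRf, hRfin, hcard, ⟨E⟩⟩ := S.iso_pgl hp hp2 hf hK
  haveI : Fact p.Prime := ⟨hp⟩
  haveI : Fintype (GaloisField p f) := Fintype.ofFinite _
  have hf0 : f ≠ 0 := by
    rintro rfl
    exact absurd hf (by decide)
  have hcardG : Fintype.card (GaloisField p f) = p ^ f := by
    rw [← Nat.card_eq_fintype_card]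
    exact GaloisField.card p f hf0
  have er : R ≃+* GaloisField p f := FiniteField.ringEquivOfCardEq (hcard.trans hcardG.symm)
  exact ⟨GaloisField p f, inferInstance, inferInstance, hcardG,
    ⟨E.trans (Cfsg.Agent.Helper14.AutPSL.pglCongr er)⟩⟩

end Cfsg.Agent.Helper61.S3t
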