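import Mathlib
import Cfsg.Agent.Helper61.ZsEmbed

set_option autoImplicit false
set_option linter.unusedSectionVars false

/-! Transitive groups of degree `p + 1` and order `(p + 1) p d`, `d < p`: the point stabiliser has
a normal subgroup of order `p` regular on the remaining points, and the group carries Zassenhaus
data. -/

namespace Cfsg.Agent.Helper61.Zpo

open MulAction Cfsg.Agent.Helper61.Zs

universe u v

variable {G : Type u} {Ω : Type v} [Group G] [MulAction G Ω]

/-- the order of the point stabiliser -/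
theorem card_stabilizer [Finite G] [Fintype Ω] [IsPretransitive G Ω] {p d : ℕ}
    (hΩ : Fintype.card Ω = p + 1) (hG : Nat.card G = (p + 1) * p * d) (a : Ω) :
    Nat.card (stabilizer G a) = p * d := by
  have h1 := Subgroup.card_mul_index (stabilizer G a)
  rw [index_stabilizer_of_transitive, Nat.card_eq_fintype_card (α := Ω), hΩ, hG] at h1
  have h2 : Nat.card (stabilizer G a) * (p + 1) = (p * d) * (p + 1) := by
    rw [h1]; ring
  exact Nat.eq_of_mul_eq_mul_right (Nat.succ_pos p) h2

/-- the normal subgroup of order `p` of the point stabiliser -/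
theorem exists_P [Finite G] [Fintype Ω] [IsPretransitive G Ω] {p d : ℕ} (hp : p.Prime)
    (hΩ : Fintype.card Ω = p + 1) (hG : Nat.card G = (p + 1) * p * d) (hd : d < p) (a : Ω) :
    ∃ P : Subgroup G, Nat.card P = p ∧ P ≤ stabilizer G a ∧
      ∀ b : G, b • a = a → ∀ k ∈ P, b * k * b⁻¹ ∈ P := by
  classical
  haveI : Fact p.Prime := ⟨hp⟩
  have hS := card_stabilizer hΩ hG a
  have hd0 : d ≠ 0 := by
    rintro rfl
    rw [mul_zero] at hG
    exact Nat.card_pos.ne' hG
  have hpd : ¬ p ∣ d := fun h => absurd (Nat.le_of_dvd (Nat.pos_of_ne_zero hd0) h) (by omega)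
  let P₀ : Sylow p (stabilizer G a) := default
  have hP₀ : Nat.card P₀ = p := by
    rw [Sylow.card_eq_multiplicity, hS, Nat.factorization_mul hp.ne_zero hd0]
    simp [hp.factorization_self, Nat.factorization_eq_zero_of_not_dvd hpd]
  have hidx : (P₀ : Subgroup (stabilizer G a)).index = d := by
    have := Subgroup.card_mul_index (P₀ : Subgroup (stabilizer G a))
    rw [hS, hP₀] at this
    exact Nat.eq_of_mul_eq_mul_left hp.pos this
  have hn1 : Nat.card (Sylow p (stabilizer G a)) = 1 := by
    have h1 := card_sylow_modEq_one p (stabilizer G a)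
    have h2 := Sylow.card_dvd_index P₀
    rw [hidx] at h2
    have h3 : Nat.card (Sylow p (stabilizer G a)) ≤ d := Nat.le_of_dvd (Nat.pos_of_ne_zero hd0) h2
    have h4 : Nat.card (Sylow p (stabilizer G a)) % p = 1 % p := h1
    rw [Nat.mod_eq_of_lt (by omega), Nat.mod_eq_of_lt hp.one_lt] at h4
    exact h4
  haveI : Subsingleton (Sylow p (stabilizer G a)) :=
    (Nat.card_eq_one_iff_unique.mp hn1).1
  have hnorm : (P₀ : Subgroup (stabilizer G a)).Normal := Sylow.normal_of_subsingleton P₀
  refine ⟨(P₀ : Subgroup (stabilizer G a)).map (stabilizer G a).subtype, ?_, ?_, ?_⟩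
  · rw [Subgroup.card_map_of_injective (Subgroup.subtype_injective _)]
    exact hP₀
  · exact Subgroup.map_subtype_le _
  · rintro b hb _ ⟨k, hk, rfl⟩
    refine ⟨⟨b, hb⟩ * k * ⟨b, hb⟩⁻¹, hnorm.conj_mem k hk ⟨b, hb⟩, rfl⟩

section Props

variable [Finite G] [Fintype Ω] [FaithfulSMul G Ω] {p : ℕ} (hp : p.Prime)
  (hΩ : Fintype.card Ω = p + 1) {a : Ω} {P : Subgroup G} (hPcard : Nat.card P = p)
  (hPa : P ≤ stabilizer G a)
include hp hΩ hPcard hPa

/-- non-identity elements of `P` fix only one point -/
theorem P_fix {k : G} (hk : k ∈ P) (hk1 : k ≠ 1) {x : Ω} (hx : k • x = x) : x = a := by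
  classical
  haveI : Fact p.Prime := ⟨hp⟩
  by_contra hxa
  -- `P` fixes `x`
  have hgen : ∀ k' ∈ P, k' • x = x := by
    intro k' hk'
    have hk1' : (⟨k, hk⟩ : P) ≠ 1 := fun h => hk1 (congrArg Subtype.val h)
    have := mem_zpowers_of_prime_card hPcard hk1' (g' := ⟨k', hk'⟩)
    obtain ⟨n, hn⟩ := Subgroup.mem_zpowers_iff.mp this
    have hn' : k ^ n = k' := by
      have := congrArg Subtype.val hn
      simpa using this
    rw [← hn']
    have hstab : k ∈ stabilizer G x := mem_stabilizer_iff.mpr hx
    exact mem_stabilizer_iff.mp ((stabilizer G x).zpow_mem hstab n)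
  have hPG : IsPGroup p P := IsPGroup.of_card (n := 1) (by rw [hPcard, pow_one])
  have hmod := hPG.card_modEq_card_fixedPoints Ω
  rw [Nat.card_eq_fintype_card (α := Ω), hΩ] at hmod
  -- at least two fixed points
  have hxfix : x ∈ fixedPoints P Ω := fun k' => hgen k'.1 k'.2
  have hafix : a ∈ fixedPoints P Ω := fun k' => mem_stabilizer_iff.mp (hPa k'.2)
  have h2 : 2 ≤ Nat.card (fixedPoints P Ω) := by
    have : Nat.card (fixedPoints P Ω) = (fixedPoints P Ω).ncard := Nat.card_coe_set_eq _
    rw [this]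
    have hsub : ({x, a} : Set Ω) ⊆ fixedPoints P Ω := by
      intro y hy
      rcases hy with rfl | rfl
      · exact hxfix
      · exact hafix
    calc 2 = ({x, a} : Set Ω).ncard := (Set.ncard_pair hxa).symm
      _ ≤ (fixedPoints P Ω).ncard := Set.ncard_le_ncard hsub (Set.toFinite _)
  have hle : Nat.card (fixedPoints P Ω) ≤ p + 1 := by
    rw [← hΩ, ← Nat.card_eq_fintype_card (α := Ω)]
    exact Nat.card_le_card_of_injective _ Subtype.val_injective
  have hall : Nat.card (fixedPoints P Ω) = p + 1 := by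
    have h4 : (p + 1) % p = Nat.card (fixedPoints P Ω) % p := hmod
    have h5 : (p + 1) % p = 1 := by
      rw [Nat.add_mod_left, Nat.mod_eq_of_lt hp.one_lt]
    rw [h5] at h4
    -- the number of fixed points is `1` or `p + 1` modulo `p`
    by_contra hne
    have hlt : Nat.card (fixedPoints P Ω) ≤ p := by omega
    rcases Nat.lt_or_ge (Nat.card (fixedPoints P Ω)) p with h6 | h6
    · rw [Nat.mod_eq_of_lt h6] at h4
      omega
    · have h7 : Nat.card (fixedPoints P Ω) = p := le_antisymm hlt h6
      rw [h7, Nat.mod_self] at h4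
      omega
  -- so everything is fixed
  have htop : ∀ y : Ω, y ∈ fixedPoints P Ω := by
    have : (fixedPoints P Ω) = Set.univ := by
      rw [Set.eq_univ_iff_ncard, ← Nat.card_coe_set_eq, hall, Nat.card_eq_fintype_card, hΩ]
    intro y
    rw [this]
    trivial
  apply hk1
  apply FaithfulSMul.eq_of_smul_eq_smul (α := Ω)
  intro y
  rw [one_smul]
  exact htop y ⟨k, hk⟩

/-- `P` is transitive on the remaining points -/
theorem P_trans {x y : Ω} (hx : x ≠ a) (hy : y ≠ a) : ∃ k ∈ P, k • x = y := by
  classical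
  have hinj : Function.Injective (fun k : P => (⟨k.1 • x, by
      intro h
      apply hx
      have h1 : k.1 • x = k.1 • a := by rw [h, mem_stabilizer_iff.mp (hPa k.2)]
      exact smul_left_cancel _ h1⟩ : {z : Ω // z ≠ a})) := by
    intro k k' hkk'
    have h1 : k.1 • x = k'.1 • x := congrArg Subtype.val hkk'
    have h2 : (k'.1⁻¹ * k.1) • x = x := by rw [mul_smul, h1, inv_smul_smul]
    by_contra hne
    have h3 : k'.1⁻¹ * k.1 ≠ 1 := by
      intro h
      apply hne
      apply Subtype.ext
      exact (inv_mul_eq_one.mp h).symm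
    exact hx (P_fix hp hΩ hPcard hPa (P.mul_mem (P.inv_mem k'.2) k.2) h3 h2)
  have hcard : Nat.card {z : Ω // z ≠ a} = Nat.card P := by
    rw [hPcard, Nat.card_eq_fintype_card, Fintype.card_subtype_compl, Fintype.card_subtype_eq, hΩ]
    omega
  have hbij := (Nat.bijective_iff_injective_and_card _).mpr ⟨hinj, hcard.symm⟩
  obtain ⟨k, hk⟩ := hbij.2 ⟨y, hy⟩
  exact ⟨k.1, k.2, congrArg Subtype.val hk⟩

end Props

/-- **Zassenhaus data** for a transitive group of degree `p + 1` and order `(p + 1) p d`. -/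
theorem exists_ZData [Finite G] [Fintype Ω] [FaithfulSMul G Ω] [IsPretransitive G Ω] {p d : ℕ}
    (hp : p.Prime) (hp2 : p ≠ 2) (hΩ : Fintype.card Ω = p + 1)
    (hG : Nat.card G = (p + 1) * p * d)
    (hd : d < p) {inf zero : Ω} (hne : inf ≠ zero) :
    ∃ P : Subgroup G, Nat.card P = p ∧ ZData inf zero P := by
  classical
  obtain ⟨P, hPcard, hPa, hPn⟩ := exists_P hp hΩ hG hd inf
  haveI : Fact p.Prime := ⟨hp⟩
  have hfix : ∀ k ∈ P, k ≠ 1 → ∀ x : Ω, k • x = x → x = inf :=
    fun k hk hk1 x hx => P_fix hp hΩ hPcard hPa hk hk1 hx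
  have htr : ∀ x y : Ω, x ≠ inf → y ≠ inf → ∃ k ∈ P, k • x = y :=
    fun x y hx hy => P_trans hp hΩ hPcard hPa hx hy
  have hKfix : ∀ k ∈ P, k • inf = inf := fun k hk => mem_stabilizer_iff.mp (hPa hk)
  have hfree : ∀ k ∈ P, ∀ x : Ω, x ≠ inf → k • x = x → k = 1 := by
    intro k hk x hx hkx
    by_contra hk1
    exact hx (hfix k hk hk1 x hkx)
  refine ⟨P, hPcard,
    { ne := hne
      third := ?_
      two_trans := ?_
      three_fixed := ?_
      K_fix := hKfix
      K_norm := hPn
      K_trans := htr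
      K_free := hfree }⟩
  · -- a third point
    by_contra hcon
    push Not at hcon
    have : (Finset.univ : Finset Ω) ⊆ {inf, zero} := by
      intro x _
      rw [Finset.mem_insert, Finset.mem_singleton]
      by_cases hx : x = inf
      · exact Or.inl hx
      · exact Or.inr (hcon x hx)
    have := Finset.card_le_card this
    rw [Finset.card_univ, hΩ] at this
    have h2' : ({inf, zero} : Finset Ω).card ≤ 2 := Finset.card_le_two
    have := hp.two_le
    omega
  · -- double transitivity
    intro x y x' y' hxy hxy'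
    obtain ⟨g₁, h1⟩ := exists_smul_eq G x inf
    obtain ⟨g₂, h2⟩ := exists_smul_eq G x' inf
    have h1y : g₁ • y ≠ inf := by
      rw [← h1]
      intro h
      exact hxy (smul_left_cancel g₁ h).symm
    have h2y : g₂ • y' ≠ inf := by
      rw [← h2]
      intro h
      exact hxy' (smul_left_cancel g₂ h).symm
    obtain ⟨k, hk, hky⟩ := htr _ _ h1y h2y
    refine ⟨g₂⁻¹ * k * g₁, ?_, ?_⟩
    · rw [mul_smul, mul_smul, h1, hKfix k hk, inv_smul_eq_iff, h2]
    · rw [mul_smul, mul_smul, hky, inv_smul_smul]
  · -- three fixed points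
    intro g x y z hxy hyz hxz hx hy hz
    obtain ⟨g₁, h1⟩ := exists_smul_eq G x inf
    -- conjugate so that `x = inf`
    set g' := g₁ * g * g₁⁻¹ with hg'
    have hg'inf : g' • inf = inf := by
      rw [hg', mul_smul, mul_smul, ← h1, inv_smul_smul, hx]
    have hy' : g' • (g₁ • y) = g₁ • y := by
      rw [hg', mul_smul, mul_smul, inv_smul_smul, hy]
    have hz' : g' • (g₁ • z) = g₁ • z := by
      rw [hg', mul_smul, mul_smul, inv_smul_smul, hz]
    have hyinf : g₁ • y ≠ inf := by
      rw [← h1]; intro h; exact hxy (smul_left_cancel g₁ h).symm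
    have hzinf : g₁ • z ≠ inf := by
      rw [← h1]; intro h; exact hxz (smul_left_cancel g₁ h).symm
    have hyz' : g₁ • y ≠ g₁ • z := fun h => hyz (smul_left_cancel g₁ h)
    obtain ⟨u, hu, huy⟩ := htr _ _ hyinf hzinf
    have hu1 : u ≠ 1 := by
      rintro rfl
      rw [one_smul] at huy
      exact hyz' huy
    -- `g'` centralises `u`
    have hcu : g' * u * g'⁻¹ = u := by
      have hmem := hPn g' hg'inf u hu
      have h3 : (g' * u * g'⁻¹) • (g₁ • y) = g₁ • z := by
        rw [mul_smul, mul_smul, inv_smul_eq_iff.mpr hy'.symm, huy, hz']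
      have h4 : (u⁻¹ * (g' * u * g'⁻¹)) • (g₁ • y) = g₁ • y := by
        rw [mul_smul, h3, inv_smul_eq_iff, huy]
      have := hfree _ (P.mul_mem (P.inv_mem hu) hmem) _ hyinf h4
      exact (inv_mul_eq_one.mp this).symm
    have hcomm : g' * u = u * g' := by
      have := congrArg (· * g') hcu
      simpa [mul_assoc] using this
    -- hence all of `P`
    have hcommP : ∀ k ∈ P, g' * k = k * g' := by
      intro k hk
      have hu1' : (⟨u, hu⟩ : P) ≠ 1 := fun h => hu1 (congrArg Subtype.val h)
      have := mem_zpowers_of_prime_card hPcard hu1' (g' := ⟨k, hk⟩)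
      obtain ⟨n, hn⟩ := Subgroup.mem_zpowers_iff.mp this
      have hn' : u ^ n = k := by
        have := congrArg Subtype.val hn
        simpa using this
      rw [← hn']
      exact ((Commute.zpow_right (show Commute g' u from hcomm) n)).eq
    -- so `g'` fixes every point
    have hall : ∀ w : Ω, g' • w = w := by
      intro w
      by_cases hw : w = inf
      · rw [hw]; exact hg'inf
      · obtain ⟨k, hk, hkw⟩ := htr _ _ hyinf hw
        rw [← hkw, ← mul_smul, hcommP k hk, mul_smul, hy']
    have hg'1 : g' = 1 := by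
      apply FaithfulSMul.eq_of_smul_eq_smul (α := Ω)
      intro w
      rw [one_smul]
      exact hall w
    have : g = g₁⁻¹ * g' * g₁ := by rw [hg']; group
    rw [this, hg'1]; group

end Cfsg.Agent.Helper61.Zpo
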