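import Mathlib
import Cfsg.Agent.Helper61.ZpoStruct
import Cfsg.Agent.Helper61.ZgMain
import Cfsg.Agent.Helper61.PSLCongr

set_option autoImplicit false
set_option linter.unusedSectionVars false

/-! Transitive groups of degree `p + 1` and order `(p + 1) p d`, `d < p` even: `PGL(2,p)` or
`PSL(2,p)`. -/

namespace Cfsg.Agent.Helper61.Zpo

open MulAction Cfsg.Agent.Helper61.Zs Cfsg.Agent.Helper61.S3t
open scoped MatrixGroups

universe u v

variable {G : Type u} {Ω : Type v} [Group G] [MulAction G Ω] {inf zero : Ω} {K : Subgroup G}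

/-- the conjugation action of the two-point stabiliser on `K` as a homomorphism -/
def conjHom (D : ZData inf zero K) : ↥(stabH G inf zero) →* MulAut ↥K where
  toFun h :=
    { toFun := fun k => ⟨h.1 * k.1 * h.1⁻¹, D.conj_mem h.2 k.2⟩
      invFun := fun k => ⟨h.1⁻¹ * k.1 * h.1, by
        have := D.conj_mem ((stabH G inf zero).inv_mem h.2) k.2
        rwa [inv_inv] at this⟩
      left_inv := fun k => by
        apply Subtype.ext
        show h.1⁻¹ * (h.1 * k.1 * h.1⁻¹) * h.1 = k.1
        group
      right_inv := fun k => by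
        apply Subtype.ext
        show h.1 * (h.1⁻¹ * k.1 * h.1) * h.1⁻¹ = k.1
        group
      map_mul' := fun k k' => by
        apply Subtype.ext
        show h.1 * (k.1 * k'.1) * h.1⁻¹ = (h.1 * k.1 * h.1⁻¹) * (h.1 * k'.1 * h.1⁻¹)
        group }
  map_one' := by
    ext k
    show (1 : G) * k.1 * (1 : G)⁻¹ = k.1
    group
  map_mul' := fun h h' => by
    ext k
    show (h.1 * h'.1) * k.1 * (h.1 * h'.1)⁻¹ = h.1 * (h'.1 * k.1 * h'.1⁻¹) * h.1⁻¹
    group

theorem conjHom_apply (D : ZData inf zero K) (h : ↥(stabH G inf zero)) (k : ↥K) :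
    ((conjHom D h k : ↥K) : G) = h.1 * k.1 * h.1⁻¹ := rfl

theorem conjHom_injective (D : ZData inf zero K) : Function.Injective (conjHom D) := by
  rw [injective_iff_map_eq_one]
  intro h hh
  obtain ⟨k, hk, hk1⟩ := D.exists_K_ne_one
  have h1 : h.1 * k * h.1⁻¹ = k := by
    have := congrArg (fun f : MulAut ↥K => ((f ⟨k, hk⟩ : ↥K) : G)) hh
    exact this
  exact Subtype.ext (D.eq_one_of_conj_eq h.2 hk hk1 h1)

/-- the order of the two-point stabiliser divides `p - 1` -/
theorem card_stabH_dvd [Finite G] (D : ZData inf zero K) {p : ℕ} (hp : p.Prime)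
    (hK : Nat.card K = p) : Nat.card (stabH G inf zero) ∣ p - 1 := by
  haveI : Fact p.Prime := ⟨hp⟩
  haveI : IsCyclic ↥K := isCyclic_of_prime_card hK
  have h1 := Subgroup.card_dvd_of_injective (conjHom D) (conjHom_injective D)
  rw [IsCyclic.card_mulAut, hK, Nat.totient_prime hp] at h1
  exact h1

/-- the order of the two-point stabiliser -/
theorem card_stabH [Finite G] [Fintype Ω] (D : ZData inf zero K) {p d : ℕ} (hp : p.Prime)
    (hK : Nat.card K = p) (hΩ : Fintype.card Ω = p + 1) (hG : Nat.card G = (p + 1) * p * d) :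
    Nat.card (stabH G inf zero) = d := by
  have h1 := D.card_G
  rw [hG, hΩ, hK, mul_assoc] at h1
  have h2 := Nat.eq_of_mul_eq_mul_left (Nat.succ_pos p) h1
  exact (Nat.eq_of_mul_eq_mul_left hp.pos h2).symm

/-- **the even case** -/
theorem iso_of_even [Finite G] [Fintype Ω] [FaithfulSMul G Ω] [IsPretransitive G Ω] {p d : ℕ}
    (hp : p.Prime) (hp2 : p ≠ 2) (hΩ : Fintype.card Ω = p + 1)
    (hG : Nat.card G = (p + 1) * p * d) (hd : d < p) (heven : Even d) :
    (d = p - 1 ∧ Nonempty (G ≃* PGL(Fin 2, ZMod p))) ∨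
      (2 * d = p - 1 ∧ Nonempty (G ≃* Matrix.ProjectiveSpecialLinearGroup (Fin 2) (ZMod p))) := by
  classical
  haveI : Fact p.Prime := ⟨hp⟩
  have hp3 : 3 ≤ p := by
    have := hp.two_le
    omega
  obtain ⟨inf, zero, hne⟩ := Fintype.exists_pair_of_one_lt_card (α := Ω) (by omega)
  obtain ⟨P, hPcard, D⟩ := exists_ZData hp hp2 hΩ hG hd hne
  have hH := card_stabH D hp hPcard hΩ hG
  have hdvd := card_stabH_dvd D hp hPcard
  rw [hH] at hdvd
  have hd0 : d ≠ 0 := by
    rintro rfl
    rw [mul_zero] at hG
    exact Nat.card_pos.ne' hG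
  have hevenH : Even (Nat.card (stabH G inf zero)) := by rw [hH]; exact heven
  obtain ⟨m, hm⟩ := hdvd
  have hm0 : m ≠ 0 := by
    rintro rfl
    omega
  rcases Nat.lt_or_ge m 2 with hm2 | hm2
  · -- sharply triply transitive
    have hm1 : m = 1 := by omega
    rw [hm1, mul_one] at hm
    left
    refine ⟨hm.symm, ?_⟩
    -- transitivity of the two-point stabiliser
    have htr : ∀ w w' : Ω, w ≠ inf → w ≠ zero → w' ≠ inf → w' ≠ zero →
        ∃ h ∈ stabH G inf zero, h • w = w' := by
      intro w w' hw1 hw2 hw1' hw2'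
      have hinj : Function.Injective (fun h : ↥(stabH G inf zero) =>
          (⟨h.1 • w, by
            have hh := mem_stabH.mp h.2
            constructor
            · intro h1
              apply hw1
              have : h.1 • w = h.1 • inf := by rw [h1, hh.1]
              exact smul_left_cancel _ this
            · intro h1
              apply hw2
              have : h.1 • w = h.1 • zero := by rw [h1, hh.2]
              exact smul_left_cancel _ this⟩ : {z : Ω // z ≠ inf ∧ z ≠ zero})) := by
        intro h h' hhh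
        have h1 : h.1 • w = h'.1 • w := congrArg Subtype.val hhh
        have hh := mem_stabH.mp h.2
        have hh' := mem_stabH.mp h'.2
        have h2 : h'.1⁻¹ * h.1 = 1 := by
          apply D.three_fixed (h'.1⁻¹ * h.1) inf zero w D.ne hw2.symm hw1.symm
          · rw [mul_smul, hh.1, inv_smul_eq_iff, hh'.1]
          · rw [mul_smul, hh.2, inv_smul_eq_iff, hh'.2]
          · rw [mul_smul, h1, inv_smul_smul]
        exact Subtype.ext (inv_mul_eq_one.mp h2).symm
      have hcard : Nat.card {z : Ω // z ≠ inf ∧ z ≠ zero} = Nat.card (stabH G inf zero) := by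
        rw [hH, Nat.card_eq_fintype_card]
        have h1 : Fintype.card {z : Ω // z ≠ inf ∧ z ≠ zero} = Fintype.card Ω - 2 := by
          rw [Fintype.card_subtype]
          have : (Finset.univ.filter (fun z : Ω => z ≠ inf ∧ z ≠ zero))
              = (Finset.univ.erase inf).erase zero := by
            ext z
            simp only [Finset.mem_filter, Finset.mem_univ, true_and, Finset.mem_erase, and_true]
            tauto
          rw [this, Finset.card_erase_of_mem, Finset.card_erase_of_mem (Finset.mem_univ _),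
            Finset.card_univ]
          · omega
          · rw [Finset.mem_erase]
            exact ⟨D.zero_ne, Finset.mem_univ _⟩
        rw [h1, hΩ]
        omega
      have hbij := (Nat.bijective_iff_injective_and_card _).mpr ⟨hinj, hcard.symm⟩
      obtain ⟨h, hh⟩ := hbij.2 ⟨w', hw1', hw2'⟩
      exact ⟨h.1, h.2, congrArg Subtype.val hh⟩
    obtain ⟨j, hj, hj1, hjj⟩ := D.exists_invol hevenH
    obtain ⟨w, hw1, hw2⟩ := D.third
    obtain ⟨i, -, -, hiw, -, hi1, hi2⟩ := D.exists_invol_swap hj hj1 hjj hw1 hw2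
    have S : S3Data D i w :=
      { heven := hevenH
        htr := htr
        t_inf := hi1
        t_zero := hi2
        c_inf := hw1
        c_zero := hw2
        t_c := hiw }
    obtain ⟨R, hRf, hRfin, hcardR, ⟨E⟩⟩ := S.iso_pgl hp hp2 (f := 1) (by decide)
      (by rw [hPcard, pow_one])
    rw [pow_one] at hcardR
    have er : R ≃+* ZMod p := (ZMod.ringEquivOfPrime R hp hcardR).symm
    exact ⟨E.trans (Cfsg.Agent.Helper14.AutPSL.pglCongr er)⟩
  · -- the `PSL` case
    right
    have hd' : 2 * Nat.card (stabH G inf zero) ≤ Fintype.card Ω - 2 := by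
      rw [hH, hΩ]
      have : d * 2 ≤ d * m := Nat.mul_le_mul_left d hm2
      omega
    have h2d := D.two_mul_card_H hevenH hd'
    rw [hH, hPcard] at h2d
    refine ⟨by omega, ?_⟩
    obtain ⟨R, hRf, hRfin, hcardR, ⟨E⟩⟩ := D.iso_psl hevenH hd'
    have hcardR' : Fintype.card R = p := by omega
    have er : R ≃+* ZMod p := (ZMod.ringEquivOfPrime R hp hcardR').symm
    exact ⟨E.trans (Cfsg.Agent.Helper61.pslCongr er)⟩

end Cfsg.Agent.Helper61.Zpo
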