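import Mathlib
import Cfsg.Agent.Helper61.ZpoEven
import Cfsg.Agent.Helper61.ZpoAffA
import Cfsg.Agent.Helper61.FieldOfAction

set_option autoImplicit false
set_option linter.unusedSectionVars false
set_option maxHeartbeats 800000

/-! Transitive groups of degree `p + 1` and order `(p + 1) p d`, `d < p`, with a regular normal
subgroup: `p + 1 = 2 ^ q`, `d ∈ {1, q}` and the group consists of semi-affine maps. -/

namespace Cfsg.Agent.Helper61.Zpo

open MulAction Cfsg.Agent.Helper61.Zs

universe u v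

variable {G : Type u} {Ω : Type v} [Group G] [MulAction G Ω]

/-- **the regular normal subgroup case** -/
theorem semiaffine_of_regular_normal [Finite G] [Fintype Ω] [FaithfulSMul G Ω]
    [IsPretransitive G Ω] {p d : ℕ} (hp : p.Prime) (hp2 : p ≠ 2)
    (hΩ : Fintype.card Ω = p + 1) (hG : Nat.card G = (p + 1) * p * d) (hd : d < p)
    (N : Subgroup G) [hNn : N.Normal] (hNtr : ∀ x y : Ω, ∃ n ∈ N, n • x = y)
    (hNfree : ∀ n ∈ N, ∀ x : Ω, n • x = x → n = 1) :
    ∃ q : ℕ, q.Prime ∧ p + 1 = 2 ^ q ∧ (d = 1 ∨ d = q) ∧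
      ∃ (R : Type u) (_ : Field R) (_ : Finite R) (e : Ω ≃ R), Nat.card R = 2 ^ q ∧
        ∀ g : G, ∃ (a : R) (b : R) (θ : R ≃+* R), a ≠ 0 ∧
          ∀ y : R, e (g • e.symm y) = a * θ y + b := by
  classical
  haveI : Fact p.Prime := ⟨hp⟩
  have hp3 : 3 ≤ p := by
    have := hp.two_le
    omega
  obtain ⟨inf, zero₀, hne⟩ := Fintype.exists_pair_of_one_lt_card (α := Ω) (by omega)
  obtain ⟨P, hPcard, D₀⟩ := exists_ZData hp hp2 hΩ hG hd hne
  have hKfix := D₀.K_fix
  have hKnorm := D₀.K_norm
  have hKtrans := D₀.K_trans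
  -- uniqueness in `N`
  have hNuniq : ∀ n ∈ N, ∀ n' ∈ N, ∀ x : Ω, n • x = n' • x → n = n' := by
    intro n hn n' hn' x h
    have h1 : (n'⁻¹ * n) • x = x := by rw [mul_smul, h, inv_smul_smul]
    have := hNfree _ (N.mul_mem (N.inv_mem hn') hn) x h1
    exact (inv_mul_eq_one.mp this).symm
  -- the order of `N`
  have hNcard : Nat.card N = p + 1 := by
    rw [← hΩ, ← Nat.card_eq_fintype_card]
    apply Nat.card_congr
    refine Equiv.ofBijective (fun n : N => n.1 • inf) ⟨?_, ?_⟩
    · intro n n' h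
      exact Subtype.ext (hNuniq n.1 n.2 n'.1 n'.2 inf h)
    · intro x
      obtain ⟨n, hn, hnx⟩ := hNtr inf x
      exact ⟨⟨n, hn⟩, hnx⟩
  -- `P` is transitive on the non-identity elements of `N`
  have hPN : ∀ n ∈ N, ∀ n' ∈ N, n ≠ 1 → n' ≠ 1 → ∃ u ∈ P, u * n * u⁻¹ = n' := by
    intro n hn n' hn' hn1 hn'1
    have h1 : n • inf ≠ inf := fun h => hn1 (hNfree n hn inf h)
    have h1' : n' • inf ≠ inf := fun h => hn'1 (hNfree n' hn' inf h)
    obtain ⟨u, hu, hun⟩ := hKtrans _ _ h1 h1'
    refine ⟨u, hu, ?_⟩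
    apply hNuniq _ (hNn.conj_mem n hn u) _ hn' inf
    rw [mul_smul, mul_smul, inv_smul_eq_iff.mpr (hKfix u hu).symm, hun]
  -- exponent two
  have h2dvd : 2 ∣ Nat.card N := by
    rw [hNcard]
    rcases hp.eq_two_or_odd with h | h
    · exact absurd h hp2
    · omega
  obtain ⟨n₂, hn₂⟩ := exists_prime_orderOf_dvd_card' 2 h2dvd
  have hn₂1 : n₂.1 ≠ 1 := by
    intro h
    have : n₂ = 1 := Subtype.ext h
    rw [this, orderOf_one] at hn₂
    norm_num at hn₂
  have hn₂sq : n₂.1 * n₂.1 = 1 := by
    have := pow_orderOf_eq_one n₂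
    rw [hn₂, pow_two] at this
    exact congrArg Subtype.val this
  have hsq : ∀ n ∈ N, n * n = 1 := by
    intro n hn
    by_cases hn1 : n = 1
    · rw [hn1, one_mul]
    · obtain ⟨u, -, hu⟩ := hPN n₂.1 n₂.2 n hn hn₂1 hn1
      rw [← hu]
      have : u * n₂.1 * u⁻¹ * (u * n₂.1 * u⁻¹) = u * (n₂.1 * n₂.1) * u⁻¹ := by group
      rw [this, hn₂sq]; group
  have hNcomm : ∀ x y : N, x * y = y * x := by
    intro x y
    apply Subtype.ext
    have hx := hsq x.1 x.2
    have hy := hsq y.1 y.2
    have hxy := hsq (x.1 * y.1) (N.mul_mem x.2 y.2)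
    show x.1 * y.1 = y.1 * x.1
    have hxi : x.1⁻¹ = x.1 := inv_eq_of_mul_eq_one_left hx
    have hyi : y.1⁻¹ = y.1 := inv_eq_of_mul_eq_one_left hy
    have h1 : x.1 * y.1 = (x.1 * y.1)⁻¹ := (inv_eq_of_mul_eq_one_left hxy).symm
    rw [h1, mul_inv_rev, hxi, hyi]
  -- the order is a power of two with prime exponent
  have hPG : IsPGroup 2 N := by
    intro n
    refine ⟨1, ?_⟩
    rw [pow_one, pow_two]
    exact Subtype.ext (hsq n.1 n.2)
  obtain ⟨q, hq⟩ := IsPGroup.iff_card.mp hPG
  rw [hNcard] at hq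
  have hq1 : q ≠ 1 := by
    rintro rfl
    omega
  have hqprime : q.Prime := by
    have : (2 ^ q - 1).Prime := by
      rw [← hq]
      simpa using hp
    exact (Nat.prime_of_pow_sub_one_prime hq1 this).2
  -- the field
  haveI : Nontrivial N := by
    refine ⟨⟨n₂, 1, fun h => hn₂1 (congrArg Subtype.val h)⟩⟩
  haveI : IsCyclic P := isCyclic_of_prime_card hPcard
  have hPcomm : ∀ u u' : P, u.1 * u'.1 = u'.1 * u.1 := by
    intro u u'
    have := (IsCyclic.isMulCommutative (α := P)).is_comm.comm u u'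
    exact congrArg Subtype.val this
  let conjN : G → N → N := fun b n => ⟨b * n.1 * b⁻¹, hNn.conj_mem n.1 n.2 b⟩
  have hconjN : ∀ (b : G) (n : N), ((conjN b n : N) : G) = b * n.1 * b⁻¹ := fun b n => rfl
  obtain ⟨R, hRf, hRfin, ψ, c, hψ, hadd, hc0, hconj⟩ :=
    exists_field_of_irreducible (K := N) (H := P) hNcomm (fun u n => conjN u.1 n)
      (by
        intro h x y
        apply Subtype.ext
        show h.1 * (x.1 * y.1) * h.1⁻¹ = (h.1 * x.1 * h.1⁻¹) * (h.1 * y.1 * h.1⁻¹)
        group)
      (by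
        intro h x y hxy
        have : h.1 * x.1 * h.1⁻¹ = h.1 * y.1 * h.1⁻¹ := congrArg Subtype.val hxy
        exact Subtype.ext (mul_left_cancel (mul_right_cancel this)))
      (by
        intro h h' x
        apply Subtype.ext
        show h.1 * (h'.1 * x.1 * h'.1⁻¹) * h.1⁻¹ = h'.1 * (h.1 * x.1 * h.1⁻¹) * h'.1⁻¹
        have hc := hPcomm h h'
        calc h.1 * (h'.1 * x.1 * h'.1⁻¹) * h.1⁻¹ = (h.1 * h'.1) * x.1 * (h.1 * h'.1)⁻¹ := by group
          _ = (h'.1 * h.1) * x.1 * (h'.1 * h.1)⁻¹ := by rw [hc]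
          _ = h'.1 * (h.1 * x.1 * h.1⁻¹) * h'.1⁻¹ := by group)
      (by
        intro W hW
        by_cases hbot : W = ⊥
        · exact Or.inl hbot
        · right
          obtain ⟨⟨w0, hw0mem⟩, hw01⟩ := (Subgroup.ne_bot_iff_exists_ne_one).mp hbot
          have hw01' : (w0 : G) ≠ 1 := by
            intro h
            apply hw01
            apply Subtype.ext
            apply Subtype.ext
            exact h
          rw [eq_top_iff]
          intro k _
          by_cases hk1 : (k : G) = 1
          · have : k = 1 := Subtype.ext hk1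
            rw [this]
            exact W.one_mem
          · obtain ⟨u, hu, huk⟩ := hPN w0.1 w0.2 k.1 k.2 hw01' hk1
            have : k = conjN u w0 := Subtype.ext huk.symm
            rw [this]
            exact hW ⟨u, hu⟩ w0 hw0mem)
  -- coordinates
  let E : R ≃ N := Equiv.ofBijective ψ hψ
  have hE : ∀ r, E r = ψ r := fun r => rfl
  have hE0 : E 0 = 1 := by
    have := hadd 0 0
    rw [add_zero] at this
    rw [hE]
    exact (left_eq_mul.mp this)
  have hEadd : ∀ r s, E (r + s) = E r * E s := hadd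
  have hEsymm_mul : ∀ a b : N, E.symm (a * b) = E.symm a + E.symm b := by
    intro a b
    rw [Equiv.symm_apply_eq, hEadd, Equiv.apply_symm_apply, Equiv.apply_symm_apply]
  have hEsymm_one : E.symm 1 = 0 := by rw [Equiv.symm_apply_eq, hE0]
  have hcardR : Nat.card R = 2 ^ q := by rw [Nat.card_congr E, hNcard, hq]
  have hEne : ∀ r : R, r ≠ 0 → ((E r : N) : G) ≠ 1 := by
    intro r hr h
    apply hr
    apply E.injective
    rw [hE0]
    exact Subtype.ext h
  -- `c` is onto the nonzero elements
  have hcsurj : ∀ r : R, r ≠ 0 → ∃ u : P, c u = r := by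
    intro r hr
    obtain ⟨u, hu, hur⟩ := hPN (E 1).1 (E 1).2 (E r).1 (E r).2 (hEne 1 one_ne_zero) (hEne r hr)
    refine ⟨⟨u, hu⟩, ?_⟩
    have h1 : conjN u (ψ 1) = ψ r := Subtype.ext hur
    have h2 := hconj ⟨u, hu⟩ 1
    rw [mul_one] at h2
    exact hψ.1 (h2.trans h1)
  -- conjugation in coordinates
  let gh : G → R → R := fun b r => E.symm (conjN b (E r))
  have hgh : ∀ b r, E (gh b r) = conjN b (E r) := fun b r => Equiv.apply_symm_apply _ _
  have hconjN_mul : ∀ (b : G) (x y : N), conjN b (x * y) = conjN b x * conjN b y := by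
    intro b x y
    apply Subtype.ext
    show b * (x.1 * y.1) * b⁻¹ = (b * x.1 * b⁻¹) * (b * y.1 * b⁻¹)
    group
  have hgh_add : ∀ b x y, gh b (x + y) = gh b x + gh b y := by
    intro b x y
    show E.symm (conjN b (E (x + y))) = _
    rw [hEadd, hconjN_mul, hEsymm_mul]
  have hgh_inj : ∀ b, Function.Injective (gh b) := by
    intro b x y hxy
    have h1 : conjN b (E x) = conjN b (E y) := E.symm.injective hxy
    have h2 : b * (E x).1 * b⁻¹ = b * (E y).1 * b⁻¹ := congrArg Subtype.val h1
    exact E.injective (Subtype.ext (mul_left_cancel (mul_right_cancel h2)))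
  have hgh_zero : ∀ b, gh b 0 = 0 := by
    intro b
    show E.symm (conjN b (E 0)) = 0
    rw [hE0, Equiv.symm_apply_eq, hE0]
    apply Subtype.ext
    show b * 1 * b⁻¹ = 1
    group
  have hgh_mul : ∀ b b' r, gh (b * b') r = gh b (gh b' r) := by
    intro b b' r
    apply E.injective
    rw [hgh, hgh, hgh]
    apply Subtype.ext
    show (b * b') * (E r).1 * (b * b')⁻¹ = b * (b' * (E r).1 * b'⁻¹) * b⁻¹
    group
  have hgh_one : ∀ r, gh 1 r = r := by
    intro r
    apply E.injective
    rw [hgh]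
    apply Subtype.ext
    show 1 * (E r).1 * 1⁻¹ = (E r).1
    group
  -- semilinearity for elements of the point stabiliser
  have hsemi : ∀ h : G, h • inf = inf → ∃ θ : R →+* R, ∀ r x, gh h (r * x) = θ r * gh h x := by
    intro h hh
    apply exists_semilinear (gh h) (hgh_add h) (hgh_inj h)
    intro r
    by_cases hr : r = 0
    · refine ⟨0, fun x => ?_⟩
      rw [hr, zero_mul, zero_mul, hgh_zero]
    · obtain ⟨u, rfl⟩ := hcsurj r hr
      refine ⟨c ⟨h * u.1 * h⁻¹, hKnorm h hh u.1 u.2⟩, fun x => ?_⟩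
      apply E.injective
      rw [hgh, hE (c u * x), hconj, hE (c _ * gh h x), hconj, ← hE (gh h x), hgh, ← hE x]
      apply Subtype.ext
      show h * (u.1 * (E x).1 * u.1⁻¹) * h⁻¹
        = (h * u.1 * h⁻¹) * (h * (E x).1 * h⁻¹) * (h * u.1 * h⁻¹)⁻¹
      group
  -- the identification of the points with `R`
  have hbij : Function.Bijective (fun r : R => ((E r : N) : G) • inf) := by
    constructor
    · intro r s h
      exact E.injective (Subtype.ext (hNuniq _ (E r).2 _ (E s).2 inf h))
    · intro x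
      obtain ⟨n, hn, hnx⟩ := hNtr inf x
      refine ⟨E.symm ⟨n, hn⟩, ?_⟩
      show ((E (E.symm ⟨n, hn⟩) : N) : G) • inf = x
      rw [Equiv.apply_symm_apply]
      exact hnx
  let e : Ω ≃ R := (Equiv.ofBijective _ hbij).symm
  have he_symm : ∀ r, e.symm r = ((E r : N) : G) • inf := fun r => rfl
  have he_apply : ∀ r, e (((E r : N) : G) • inf) = r := by
    intro r
    rw [← he_symm, Equiv.apply_symm_apply]
  refine ⟨q, hqprime, hq, ?_, R, hRf, hRfin, e, hcardR, ?_⟩
  · -- the order of the two-point stabiliser divides `q`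
    set zero : Ω := ((E 1 : N) : G) • inf with hzero
    have hzne : inf ≠ zero := by
      intro h
      exact hEne 1 one_ne_zero (hNfree _ (E 1).2 inf h.symm)
    have D : ZData inf zero P :=
      { ne := hzne
        third := by
          by_contra hcon
          push Not at hcon
          have : (Finset.univ : Finset Ω) ⊆ {inf, zero} := by
            intro x _
            rw [Finset.mem_insert, Finset.mem_singleton]
            by_cases hx : x = inf
            · exact Or.inl hx
            · exact Or.inr (hcon x hx)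
          have := Finset.card_le_card this
          rw [Finset.card_univ, hΩ] at this
          have h2' : ({inf, zero} : Finset Ω).card ≤ 2 := Finset.card_le_two
          omega
        two_trans := D₀.two_trans
        three_fixed := D₀.three_fixed
        K_fix := D₀.K_fix
        K_norm := D₀.K_norm
        K_trans := D₀.K_trans
        K_free := D₀.K_free }
    have hH := card_stabH D hp hPcard hΩ hG
    -- elements of the two-point stabiliser act by ring automorphisms
    have hgh1 : ∀ h ∈ stabH G inf zero, gh h 1 = 1 := by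
      intro h hh
      have hh' := mem_stabH.mp hh
      apply E.injective
      rw [hgh]
      apply Subtype.ext
      apply hNuniq _ (hNn.conj_mem _ (E 1).2 h) _ (E 1).2 inf
      show (h * (E 1).1 * h⁻¹) • inf = (E 1).1 • inf
      rw [mul_smul, mul_smul, inv_smul_eq_iff.mpr hh'.1.symm, ← hzero, hh'.2]
    have hghmul : ∀ h ∈ stabH G inf zero, ∀ r x, gh h (r * x) = gh h r * gh h x := by
      intro h hh r x
      obtain ⟨θ, hθ⟩ := hsemi h (mem_stabH.mp hh).1
      have h1 := hθ r 1
      rw [mul_one, hgh1 h hh, mul_one] at h1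
      rw [hθ r x, h1]
    let Θ : ↥(stabH G inf zero) →* RingAut R :=
      { toFun := fun h =>
          { toFun := gh h.1
            invFun := gh h.1⁻¹
            left_inv := fun r => by rw [← hgh_mul, inv_mul_cancel, hgh_one]
            right_inv := fun r => by rw [← hgh_mul, mul_inv_cancel, hgh_one]
            map_mul' := hghmul h.1 h.2
            map_add' := hgh_add h.1 }
        map_one' := by
          ext r
          exact hgh_one r
        map_mul' := fun h h' => by
          ext r
          exact hgh_mul h.1 h'.1 r }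
    have hΘ : Function.Injective Θ := by
      rw [injective_iff_map_eq_one]
      intro h hh
      have h1 : ∀ r, gh h.1 r = r := by
        intro r
        have := congrArg (fun f : RingAut R => f r) hh
        exact this
      apply Subtype.ext
      apply FaithfulSMul.eq_of_smul_eq_smul (α := Ω)
      intro x
      rw [Subgroup.coe_one, one_smul]
      obtain ⟨n, hn, hnx⟩ := hNtr inf x
      have h2 : conjN h.1 ⟨n, hn⟩ = ⟨n, hn⟩ := by
        have := h1 (E.symm ⟨n, hn⟩)
        have h3 := hgh h.1 (E.symm ⟨n, hn⟩)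
        rw [this, Equiv.apply_symm_apply] at h3
        exact h3.symm
      have h3 : h.1 * n * h.1⁻¹ = n := congrArg Subtype.val h2
      have h4 : h.1 * n = n * h.1 := by
        have := congrArg (· * h.1) h3
        simpa [mul_assoc] using this
      rw [← hnx, ← mul_smul, h4, mul_smul, (mem_stabH.mp h.2).1]
    have hdvd := card_dvd_of_injective_ringAut Nat.prime_two hqprime.ne_zero hcardR Θ hΘ
    rw [hH] at hdvd
    exact (Nat.dvd_prime hqprime).mp hdvd
  · -- semi-affine form
    intro g
    obtain ⟨n, hn, hng⟩ := hNtr inf (g • inf)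
    have hhinf : (n⁻¹ * g) • inf = inf := by
      rw [mul_smul, inv_smul_eq_iff, hng]
    obtain ⟨θ, hθ⟩ := hsemi (n⁻¹ * g) hhinf
    have hθbij : Function.Bijective θ :=
      Finite.injective_iff_bijective.mp θ.injective
    have ha0 : gh (n⁻¹ * g) 1 ≠ 0 := by
      intro h
      exact one_ne_zero (hgh_inj _ (h.trans (hgh_zero _).symm))
    refine ⟨gh (n⁻¹ * g) 1, E.symm ⟨n, hn⟩, RingEquiv.ofBijective θ hθbij, ha0, fun y => ?_⟩
    have h1 : gh (n⁻¹ * g) y = gh (n⁻¹ * g) 1 * θ y := by
      have := hθ y 1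
      rw [mul_one] at this
      rw [this, mul_comm]
    rw [Equiv.apply_eq_iff_eq_symm_apply, he_symm, he_symm]
    show g • ((E y : N) : G) • inf = ((E (gh (n⁻¹ * g) 1 * θ y + E.symm ⟨n, hn⟩) : N) : G) • inf
    rw [← h1, hEadd, hgh, Equiv.apply_symm_apply, hNcomm]
    show g • ((E y : N) : G) • inf = (n * ((n⁻¹ * g) * (E y).1 * (n⁻¹ * g)⁻¹)) • inf
    have h2 : n * ((n⁻¹ * g) * (E y).1 * (n⁻¹ * g)⁻¹) = g * (E y).1 * (n⁻¹ * g)⁻¹ := by group
    rw [h2, mul_smul, mul_smul, inv_smul_eq_iff.mpr hhinf.symm]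

end Cfsg.Agent.Helper61.Zpo
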