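import Mathlib
import Cfsg.Prelude.Def_Perm
import Cfsg.Agent.Helper61.ZpoAffB
import Cfsg.Agent.Helper75.FrobeniusKernel

set_option autoImplicit false
set_option linter.unusedSectionVars false

/-! Transitive groups of degree `p + 1` and order `(p + 1) p d`, `d < p`: the regular normal subgroup
case over the Galois field, and the existence of a regular normal subgroup for `d = 1`. -/

namespace Cfsg.Agent.Helper61.Zpo

open MulAction Cfsg.Agent.Helper61.Zs

universe u v

variable {G : Type u} {Ω : Type v} [Group G] [MulAction G Ω]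

/-- **the regular normal subgroup case**, over the Galois field -/
theorem semiaffine_galois [Finite G] [Fintype Ω] [FaithfulSMul G Ω]
    [IsPretransitive G Ω] {p d : ℕ} (hp : p.Prime) (hp2 : p ≠ 2)
    (hΩ : Fintype.card Ω = p + 1) (hG : Nat.card G = (p + 1) * p * d) (hd : d < p)
    (N : Subgroup G) [hNn : N.Normal] (hNtr : ∀ x y : Ω, ∃ n ∈ N, n • x = y)
    (hNfree : ∀ n ∈ N, ∀ x : Ω, n • x = x → n = 1) :
    ∃ q : ℕ, q.Prime ∧ p + 1 = 2 ^ q ∧ (d = 1 ∨ d = q) ∧
      ∃ e : Ω ≃ GaloisField 2 q, ∀ g : G,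
        e.symm.trans ((MulAction.toPerm g).trans e) ∈ Cfsg.semiaffineGroup (GaloisField 2 q) := by
  classical
  obtain ⟨q, hq, hpq, hdq, R, hRf, hRfin, e, hcardR, hsemi⟩ :=
    semiaffine_of_regular_normal hp hp2 hΩ hG hd N hNtr hNfree
  refine ⟨q, hq, hpq, hdq, ?_⟩
  haveI : Fintype R := Fintype.ofFinite R
  haveI : Fintype (GaloisField 2 q) := Fintype.ofFinite _
  have hcardG : Fintype.card (GaloisField 2 q) = 2 ^ q := by
    rw [← Nat.card_eq_fintype_card]
    exact GaloisField.card 2 q hq.ne_zero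
  have hcardR' : Fintype.card R = 2 ^ q := by rw [← Nat.card_eq_fintype_card, hcardR]
  let ι : R ≃+* GaloisField 2 q := FiniteField.ringEquivOfCardEq (hcardR'.trans hcardG.symm)
  refine ⟨e.trans ι.toEquiv, fun g => ?_⟩
  obtain ⟨a, b, θ, ha, h⟩ := hsemi g
  refine ⟨Units.mk0 (ι a) ((map_ne_zero ι).mpr ha), ι b, ι.symm.trans (θ.trans ι), fun y => ?_⟩
  show ι (e (g • e.symm (ι.symm y))) = ι a * ι (θ (ι.symm y)) + ι b
  rw [h, map_add, map_mul]

/-- a regular normal subgroup when the group is sharply doubly transitive -/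
theorem exists_regular_normal [Finite G] [Fintype Ω] [FaithfulSMul G Ω]
    [IsPretransitive G Ω] {p : ℕ} (hp : p.Prime) (hp2 : p ≠ 2)
    (hΩ : Fintype.card Ω = p + 1) (hG : Nat.card G = (p + 1) * p * 1) :
    ∃ N : Subgroup G, N.Normal ∧ (∀ x y : Ω, ∃ n ∈ N, n • x = y) ∧
      ∀ n ∈ N, ∀ x : Ω, n • x = x → n = 1 := by
  classical
  have hp1 : 1 < p := hp.one_lt
  obtain ⟨inf, zero, hne⟩ := Fintype.exists_pair_of_one_lt_card (α := Ω) (by omega)
  obtain ⟨P, hPcard, D⟩ := exists_ZData hp hp2 hΩ hG hp1 hne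
  have hstab := card_stabilizer hΩ hG inf
  rw [mul_one] at hstab
  have hPle : P ≤ stabilizer G inf := fun k hk => mem_stabilizer_iff.mpr (D.K_fix k hk)
  have hPeq : P = stabilizer G inf :=
    Subgroup.eq_of_le_of_card_ge hPle (by rw [hstab, hPcard])
  -- `P` is a Frobenius complement
  have hfrob : Cfsg.IsFrobeniusComplement P := by
    refine ⟨?_, ?_, ?_⟩
    · intro h
      rw [h, Subgroup.card_bot] at hPcard
      omega
    · intro h
      rw [h, Subgroup.card_top, hG] at hPcard
      have : p < (p + 1) * p * 1 := by nlinarith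
      omega
    · intro g hg
      rw [eq_bot_iff]
      intro x hx
      rw [Subgroup.mem_inf] at hx
      obtain ⟨hx1, hx2⟩ := hx
      rw [Subgroup.mem_bot]
      by_contra hx1'
      obtain ⟨y, hy, hyx⟩ := Subgroup.mem_pointwise_smul_iff_inv_smul_mem.mp hx2 |> fun h =>
        (⟨_, h, rfl⟩ : ∃ y, y ∈ P ∧ y = (MulAut.conj g)⁻¹ • x)
      have hyx' : y = g⁻¹ * x * g := by
        rw [hyx]
        simp [MulAut.smul_def, MulAut.conj_apply]
      have hginf : g • inf ≠ inf := by
        intro h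
        apply hg
        rw [hPeq]
        exact mem_stabilizer_iff.mpr h
      -- `x` fixes `inf` and `g • inf`
      have h1 : x • inf = inf := D.K_fix x hx1
      have h2 : x • (g • inf) = g • inf := by
        have h3 : y • inf = inf := D.K_fix y hy
        rw [hyx', mul_smul, mul_smul, inv_smul_eq_iff] at h3
        exact h3
      exact hginf.symm ((fun h => h) (by
        by_contra hne'
        exact hx1' (D.K_free x hx1 (g • inf) hginf h2)))
  obtain ⟨N, -, hNn, hNc⟩ := Cfsg.Agent.Helper75.frobenius_kernel_theorem P hfrob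
  have hcardN : Nat.card N = p + 1 := by
    have h1 := hNc.card_mul_card
    rw [hPcard, hG] at h1
    have h2 : Nat.card N * p = (p + 1) * p := by rw [h1]; ring
    exact Nat.eq_of_mul_eq_mul_right hp.pos h2
  have hdisj : ∀ n ∈ N, n ∈ P → n = 1 := by
    intro n hn hnP
    have := hNc.disjoint.le_bot (Subgroup.mem_inf.mpr ⟨hn, hnP⟩)
    exact Subgroup.mem_bot.mp this
  have hfree : ∀ n ∈ N, ∀ x : Ω, n • x = x → n = 1 := by
    intro n hn x hx
    obtain ⟨g, hg⟩ := exists_smul_eq G inf x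
    have h1 : (g⁻¹ * n * g) • inf = inf := by
      rw [mul_smul, mul_smul, hg, hx, inv_smul_eq_iff, hg]
    have h2 : g⁻¹ * n * g ∈ N := by
      have := hNn.conj_mem n hn g⁻¹
      rwa [inv_inv] at this
    have h3 : g⁻¹ * n * g ∈ P := by
      rw [hPeq]
      exact mem_stabilizer_iff.mpr h1
    have h4 := hdisj _ h2 h3
    have : n = g * (g⁻¹ * n * g) * g⁻¹ := by group
    rw [this, h4]; group
  have hbij : Function.Bijective (fun n : N => n.1 • inf) := by
    rw [Nat.bijective_iff_injective_and_card]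
    refine ⟨?_, by rw [hcardN, Nat.card_eq_fintype_card, hΩ]⟩
    intro n n' h
    have h1 : (n'.1⁻¹ * n.1) • inf = inf := by
      show (n'.1⁻¹ * n.1) • inf = inf
      rw [mul_smul, show n.1 • inf = n'.1 • inf from h, inv_smul_smul]
    have := hfree _ (N.mul_mem (N.inv_mem n'.2) n.2) inf h1
    exact Subtype.ext (inv_mul_eq_one.mp this).symm
  refine ⟨N, hNn, ?_, hfree⟩
  intro x y
  obtain ⟨n, hn⟩ := hbij.2 x
  obtain ⟨n', hn'⟩ := hbij.2 y
  refine ⟨n'.1 * n.1⁻¹, N.mul_mem n'.2 (N.inv_mem n.2), ?_⟩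
  rw [mul_smul, ← hn, inv_smul_smul]
  exact hn'

end Cfsg.Agent.Helper61.Zpo
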