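import Cfsg.Agent.S0035
import Cfsg.Agent.S3383
import Cfsg.Agent.S4252

set_option autoImplicit false

/-! Frobenius kernel of a Frobenius action, packaged from S4252, S0035, S3383. -/

namespace Cfsg.Agent.Helper61.FrobAction

open MulAction
open scoped Pointwise

/-- A transitive, non-regular action in which only the identity fixes two points has a
characteristic, transitive subgroup consisting of the identity and the fixed-point-free elements,
which is comparable with every normal subgroup. -/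
theorem exists_kernel {H Ω : Type*} [Group H] [Finite H] [Finite Ω] [MulAction H Ω]
    (hΩ : 1 < Nat.card Ω)
    (htrans : ∀ α β : Ω, ∃ g : H, g • α = β) (hnreg : ∃ g : H, g ≠ 1 ∧ ∃ α : Ω, g • α = α)
    (hfix : ∀ g : H, g ≠ 1 → ∀ α β : Ω, g • α = α → g • β = β → α = β) :
    ∃ M : Subgroup H, M.Characteristic ∧ (∀ m : H, m ∈ M ↔ (m = 1 ∨ ∀ ω : Ω, m • ω ≠ ω)) ∧
      (∀ a b : Ω, ∃ m ∈ M, m • a = b) ∧
      (∀ N' : Subgroup H, N'.Normal → M ≤ N' ∨ N' ≤ M) := by
  classical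
  haveI : Fintype Ω := Fintype.ofFinite Ω
  have hΩ' : 1 < Fintype.card Ω := by rwa [← Nat.card_eq_fintype_card]
  have hne : Nonempty Ω := by
    rw [← Fintype.card_pos_iff]; omega
  obtain ⟨α⟩ := hne
  obtain ⟨hcomp, hker⟩ := Cfsg.Agent.S4252.result hΩ' htrans hnreg hfix α
  obtain ⟨M, hM, hMn, hMc⟩ := Cfsg.Agent.S0035.result _ hcomp
  obtain ⟨hchar, hcmp⟩ := Cfsg.Agent.S3383.result _ hcomp M hM
  have hmem : ∀ m : H, m ∈ M ↔ (m = 1 ∨ ∀ ω : Ω, m • ω ≠ ω) := by
    intro m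
    have : m ∈ (M : Set H) ↔ m ∈ {g : H | g = 1 ∨ ∀ ω : Ω, g • ω ≠ ω} := by rw [hM, hker]
    simpa using this
  refine ⟨M, hchar, hmem, ?_, hcmp⟩
  -- transitivity from the complement property
  have key : ∀ b : Ω, ∃ m ∈ M, m • α = b := by
    intro b
    obtain ⟨x, hx⟩ := htrans α b
    have hx' : x ∈ (M : Set H) * (stabilizer H α : Set H) := by
      have := hMc.mul_eq
      rw [this]; trivial
    obtain ⟨m, hm, h, hh, rfl⟩ := hx'
    refine ⟨m, hm, ?_⟩
    rw [mul_smul] at hx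
    rwa [mem_stabilizer_iff.mp hh] at hx
  intro a b
  obtain ⟨m1, hm1, h1⟩ := key a
  obtain ⟨m2, hm2, h2⟩ := key b
  refine ⟨m2 * m1⁻¹, M.mul_mem hm2 (M.inv_mem hm1), ?_⟩
  rw [mul_smul, ← h1, inv_smul_smul, h2]

end Cfsg.Agent.Helper61.FrobAction
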