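import Cfsg.Agent.Helper61.ZsEmbed
import Cfsg.Agent.Helper61.PSLCongr
import Cfsg.Agent.Helper60.Zass2Trans

set_option autoImplicit false
set_option linter.unusedSectionVars false

/-! **Zassenhaus' theorem** for two-point stabilisers of even order `d ≤ (n-1)/2`: a doubly
transitive group of degree `n + 1` in which only the identity fixes three points, with two-point
stabilisers of even order `d`, `2 d ≤ n - 1`, is `PSL(2, q)`, `q = n`. -/

namespace Cfsg.Agent.Helper61.Zs

open MulAction

universe u v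

/-- transport to a field in `Type` -/
theorem exists_galois_psl {R : Type u} [Field R] [Fintype R] {G : Type v} [Group G]
    (e : G ≃* Matrix.ProjectiveSpecialLinearGroup (Fin 2) R) :
    ∃ (p f : ℕ) (K : Type) (_ : Field K) (_ : Fintype K), p.Prime ∧ Fintype.card K = p ^ f ∧
      Fintype.card R = p ^ f ∧
      Nonempty (G ≃* Matrix.ProjectiveSpecialLinearGroup (Fin 2) K) := by
  obtain ⟨p, hchar⟩ := CharP.exists R
  obtain ⟨n, hp, hcard⟩ := FiniteField.card R p
  haveI : Fact p.Prime := ⟨hp⟩
  haveI : Fintype (GaloisField p n) := Fintype.ofFinite _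
  have hcardG : Fintype.card (GaloisField p n) = p ^ (n : ℕ) := by
    rw [← Nat.card_eq_fintype_card]
    exact GaloisField.card p n n.ne_zero
  have er : R ≃+* GaloisField p n := FiniteField.ringEquivOfCardEq (hcard.trans hcardG.symm)
  exact ⟨p, n, GaloisField p n, inferInstance, inferInstance, hp, hcardG, hcard,
    ⟨e.trans (pslCongr er)⟩⟩

variable {G : Type u} {Ω : Type v} [Group G] [MulAction G Ω]

/-- **Zassenhaus' theorem**, even case. -/
theorem zassenhaus_even [Finite G] [Fintype Ω]
    (h2 : IsMultiplyPretransitive G Ω 2)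
    (h3f : ∀ g : G, ∀ a b c : Ω, a ≠ b → b ≠ c → a ≠ c → g • a = a → g • b = b → g • c = c → g = 1)
    {a b : Ω} (hab : a ≠ b)
    (heven : Even (Nat.card ↥(stabilizer G a ⊓ stabilizer G b)))
    (hd : 2 * Nat.card ↥(stabilizer G a ⊓ stabilizer G b) ≤ Fintype.card Ω - 2) :
    ∃ (R : Type u) (_ : Field R) (_ : Fintype R), Fintype.card R + 1 = Fintype.card Ω ∧
      Fintype.card R % 2 = 1 ∧
      Nonempty (G ≃* Matrix.ProjectiveSpecialLinearGroup (Fin 2) R) := by
  classical
  have hpos : 0 < Nat.card ↥(stabilizer G a ⊓ stabilizer G b) := Nat.card_pos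
  have h2le : 2 ≤ Nat.card ↥(stabilizer G a ⊓ stabilizer G b) := by
    obtain ⟨m, hm⟩ := heven
    omega
  have h6 : 6 ≤ Fintype.card Ω := by omega
  -- a non-identity element of the two-point stabiliser
  obtain ⟨y1, hy11⟩ : ∃ y : ↥(stabilizer G a ⊓ stabilizer G b), y ≠ 1 := by
    haveI : Nontrivial ↥(stabilizer G a ⊓ stabilizer G b) :=
      Finite.one_lt_card_iff_nontrivial.mp (by omega)
    exact exists_ne 1
  have hy1a : y1.1 • a = a := mem_stabilizer_iff.mp (Subgroup.mem_inf.mp y1.2).1
  have hy1b : y1.1 • b = b := mem_stabilizer_iff.mp (Subgroup.mem_inf.mp y1.2).2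
  have h3c : 3 ≤ Nat.card Ω := by rw [Nat.card_eq_fintype_card]; omega
  obtain ⟨K, hK1, hK2, hK3, hK4⟩ :=
    Cfsg.Agent.Helper60.Zass2Trans.exists_kernel_of_two_trans h2 h3f hab h3c
      (y1 := y1.1) (fun h => hy11 (Subtype.ext h)) hy1a hy1b
  -- a third point
  obtain ⟨w, hw⟩ : ∃ w : Ω, w ≠ a ∧ w ≠ b := by
    by_contra hcon
    push Not at hcon
    have : (Finset.univ : Finset Ω) ⊆ {a, b} := by
      intro x _
      rw [Finset.mem_insert, Finset.mem_singleton]
      by_cases hx : x = a
      · exact Or.inl hx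
      · exact Or.inr (hcon x hx)
    have := Finset.card_le_card this
    rw [Finset.card_univ] at this
    have h2' : ({a, b} : Finset Ω).card ≤ 2 := Finset.card_le_two
    omega
  have D : ZData a b K :=
    { ne := hab
      third := ⟨w, hw⟩
      two_trans := fun x y x' y' hxy hxy' =>
        Cfsg.Agent.Helper60.Zassenhaus.exists_map2 h2 hxy hxy'
      three_fixed := h3f
      K_fix := fun k hk => mem_stabilizer_iff.mp (hK1 hk)
      K_norm := fun g hg k hk => hK2 g (mem_stabilizer_iff.mpr hg) k hk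
      K_trans := hK4
      K_free := hK3 }
  obtain ⟨R, hRf, hRfin, hcard, hiso⟩ := D.iso_psl heven hd
  refine ⟨R, hRf, hRfin, hcard, ?_, hiso⟩
  have h1 := (D.swap_invol heven hd).1
  have : Nat.card ↥(stabH G a b) = Nat.card ↥(stabilizer G a ⊓ stabilizer G b) := rfl
  omega

end Cfsg.Agent.Helper61.Zs
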