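import Cfsg.Agent.Helper61.G360c
import Cfsg.Agent.Helper61.ZsMain

set_option autoImplicit false

/-! # A simple group of order 360 is `PSL(2, 9)` -/

namespace Cfsg.Agent.Helper61.G360

open Subgroup MulAction Cfsg.Agent.Helper17

universe u

variable {G : Type u} [Group G] [Finite G] [IsSimpleGroup G]

local instance fact3''' : Fact (Nat.Prime 3) := ⟨by norm_num⟩

/-- the Zassenhaus data of a simple group of order 360 -/
theorem zdata (h : Nat.card G = 360) (P Q : Sylow 3 G) (hPQ : P ≠ Q) :
    Zs.ZData P Q (P : Subgroup G) := by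
  -- a nontrivial element of `P`
  obtain ⟨k0, hk0, hk01⟩ : ∃ k ∈ (P : Subgroup G), k ≠ 1 := by
    have hne : (P : Subgroup G) ≠ ⊥ := by
      intro hb
      have := card_sylow3 h P
      rw [hb, Subgroup.card_bot] at this
      omega
    obtain ⟨a, ha⟩ := (Subgroup.ne_bot_iff_exists_ne_one).mp hne
    exact ⟨a.1, a.2, fun h1 => ha (Subtype.ext h1)⟩
  refine
    { ne := hPQ
      third := ⟨k0 • Q, smul_ne P Q hPQ.symm hk0,
        fun hc => hk01 (free h P Q hPQ.symm hk0 hc)⟩
      two_trans := ?_
      three_fixed := three_fixed h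
      K_fix := fun k hk => smul_self P hk
      K_norm := ?_
      K_trans := fun x y hx hy => exists_smul_eq' h P x y hx hy
      K_free := fun k hk x hx hkx => free h P x hx hk hkx }
  · intro x y x' y' hxy hxy'
    obtain ⟨g1, hg1⟩ := MulAction.exists_smul_eq G x x'
    have hne : g1 • y ≠ x' := by
      intro hc
      apply hxy
      have : g1 • y = g1 • x := hc.trans hg1.symm
      exact (smul_left_cancel g1 this).symm
    obtain ⟨k, hk, hky⟩ := exists_smul_eq' h x' (g1 • y) y' hne hxy'.symm
    refine ⟨k * g1, ?_, ?_⟩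
    · rw [mul_smul, hg1, smul_self x' hk]
    · rw [mul_smul, hky]
  · intro b hb k hk
    have hbN : b ∈ normalizer ((P : Subgroup G) : Set G) := Sylow.smul_eq_iff_mem_normalizer.mp hb
    exact (mem_normalizer_iff.mp hbN k).mp hk

/-- a simple group of order 360 is `PSL(2, R)` for a field `R` with nine elements -/
theorem iso_psl (h : Nat.card G = 360) :
    ∃ (R : Type u) (_ : Field R) (_ : Fintype R), Fintype.card R = 9 ∧
      Nonempty (G ≃* Matrix.ProjectiveSpecialLinearGroup (Fin 2) R) := by
  classical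
  haveI : Fintype (Sylow 3 G) := Fintype.ofFinite _
  have h10 : Fintype.card (Sylow 3 G) = 10 := by rw [← Nat.card_eq_fintype_card, n3 h]
  obtain ⟨P⟩ : Nonempty (Sylow 3 G) := inferInstance
  obtain ⟨Q, hQ⟩ : ∃ Q : Sylow 3 G, Q ≠ P := by
    by_contra hcon
    push Not at hcon
    have : Nat.card (Sylow 3 G) = 1 :=
      Nat.card_eq_one_iff_unique.mpr ⟨⟨fun a b => (hcon a).trans (hcon b).symm⟩, ⟨P⟩⟩
    rw [n3 h] at this
    omega
  have D := zdata h P Q hQ.symm
  have hcard := D.card_G
  rw [h, h10, card_sylow3 h P] at hcard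
  have hH4 : Nat.card (Zs.stabH G P Q) = 4 := by omega
  obtain ⟨R, hRf, hRfin, hRcard, hiso⟩ := D.iso_psl (by rw [hH4]; decide) (by rw [hH4, h10])
  exact ⟨R, hRf, hRfin, by omega, hiso⟩

end Cfsg.Agent.Helper61.G360
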