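import Cfsg.Agent.Helper61.PsuM_AMAT

/-!
# S2089 block I-even, piece (AQ) (helper61): the subgroup `Qsub`
-/

set_option autoImplicit false

namespace Cfsg.Agent.Helper61.PsuM

open Matrix
open Cfsg.Agent.Helper43.PsuM.Ev

variable {F : Type*} [Field F] {m : ℕ} {σ : F →+* F}

/-- `[[1, B], [0, 1]] * [[1, B'], [0, 1]] = [[1, B + B'], [0, 1]]` -/
theorem AQ_qM_mul (B B' : Matrix (Fin m) (Fin m) F) : qM B * qM B' = qM (B + B') := by
  unfold qM
  rw [Matrix.fromBlocks_multiply]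
  simp only [Matrix.mul_zero, Matrix.zero_mul, Matrix.mul_one, Matrix.one_mul, add_zero, zero_add]
  rw [add_comm]

/-- unitarity of `[[1, B], [0, 1]]` is equivalent to skew-hermitianity of `B` -/
theorem AQ_skew_of_isU {B : Matrix (Fin m) (Fin m) F} (h : IsU σ (qM B)) : B.map σ + Bᵀ = 0 := by
  unfold IsU qM Hm at h
  rw [Matrix.fromBlocks_transpose, Matrix.fromBlocks_map, Matrix.fromBlocks_multiply,
    Matrix.fromBlocks_multiply] at h
  simp only [Matrix.transpose_one, Matrix.transpose_zero, Matrix.map_zero σ (map_zero σ),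
    Matrix.map_one σ (map_zero σ) (map_one σ), Matrix.mul_zero, Matrix.zero_mul, Matrix.mul_one,
    Matrix.one_mul, add_zero, zero_add] at h
  exact (Matrix.fromBlocks_inj.mp h).2.2.2

/-- (AQ1) -/
theorem qE_add {B B' : Matrix (Fin m) (Fin m) F} (hB : B ∈ SkewH m σ) (hB' : B' ∈ SkewH m σ) :
    qE σ (B + B') = qE σ B * qE σ B' := by
  apply mat_injective
  rw [mat_mul, mat_qE hB, mat_qE hB', mat_qE ((SkewH m σ).add_mem hB hB'), AQ_qM_mul]

/-- (AQ2) -/
theorem qE_zero : qE σ (0 : Matrix (Fin m) (Fin m) F) = 1 := by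
  apply mat_injective
  rw [mat_qE (SkewH m σ).zero_mem, mat_one]
  unfold qM
  exact Matrix.fromBlocks_one

/-- (AQ3) -/
theorem qE_neg {B : Matrix (Fin m) (Fin m) F} (hB : B ∈ SkewH m σ) : qE σ (-B) = (qE σ B)⁻¹ := by
  apply eq_inv_of_mul_eq_one_left
  rw [← qE_add ((SkewH m σ).neg_mem hB) hB, neg_add_cancel, qE_zero]

/-- (AQ4) -/
theorem qE_injOn {B B' : Matrix (Fin m) (Fin m) F} (hB : B ∈ SkewH m σ) (hB' : B' ∈ SkewH m σ)
    (h : qE σ B = qE σ B') : B = B' := by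
  have h1 : qM B = qM B' := by rw [← mat_qE hB, ← mat_qE hB', h]
  unfold qM at h1
  exact (Matrix.fromBlocks_inj.mp h1).2.1

/-- (AQ5) -/
theorem mem_Qsub_iff (g : SUe m σ) : g ∈ Qsub m σ ↔ ∃ B ∈ SkewH m σ, g = qE σ B := by
  constructor
  · rintro ⟨h1, h2, h3⟩
    have e : mat g = qM (mat g).toBlocks₁₂ := by
      have e0 := Matrix.fromBlocks_toBlocks (mat g)
      rw [h1, h2, h3] at e0
      exact e0.symm
    have hU : IsU σ (qM (mat g).toBlocks₁₂) := by rw [← e]; exact isU_mat g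
    have hS : (mat g).toBlocks₁₂ ∈ SkewH m σ := AQ_skew_of_isU hU
    refine ⟨(mat g).toBlocks₁₂, hS, ?_⟩
    apply mat_injective
    rw [mat_qE hS]
    exact e
  · rintro ⟨B, hB, rfl⟩
    have e : mat (qE σ B) = fromBlocks 1 B 0 1 := mat_qE hB
    refine ⟨?_, ?_, ?_⟩
    · rw [e, Matrix.toBlocks_fromBlocks₁₁]
    · rw [e, Matrix.toBlocks_fromBlocks₂₁]
    · rw [e, Matrix.toBlocks_fromBlocks₂₂]

/-- (AQ6) -/
theorem Qsub_comm (x y : SUe m σ) (hx : x ∈ Qsub m σ) (hy : y ∈ Qsub m σ) : Commute x y := by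
  obtain ⟨B, hB, rfl⟩ := (mem_Qsub_iff x).mp hx
  obtain ⟨B', hB', rfl⟩ := (mem_Qsub_iff y).mp hy
  change qE σ B * qE σ B' = qE σ B' * qE σ B
  rw [← qE_add hB hB', ← qE_add hB' hB, add_comm]

end Cfsg.Agent.Helper61.PsuM
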