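import Mathlib
import Cfsg.Prelude.Def_Characters
import Cfsg.Prelude.Def_Perm
import Cfsg.Agent.Helper12.Orbital
import Cfsg.Agent.Helper12.PermCharBasics

/-!
# Wielandt's theorem on primitive groups of degree `2p` (S0720): definitions

`Setup G Ω p`: the standing hypotheses after the Jordan reduction.
`Gam G Ω p x θ χ₁ χ₂ κ`: the rank four configuration `π = 1 + θ + χ₁ + χ₂` that has to be killed.
-/

set_option autoImplicit false

namespace Cfsg.Agent.Helper61.W2p

open Cfsg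
open scoped ComplexConjugate

/-- the permutation character -/
noncomputable abbrev pc (G : Type*) [Group G] (Ω : Type*) [MulAction G Ω] : G → ℂ :=
  fun g => (Nat.card (MulAction.fixedBy Ω g) : ℂ)

/-- standing hypotheses: `G` primitive and faithful on `2p` points, `p` odd, `p² ∤ |G|`, and no
`p`-singular element has a fixed point -/
structure Setup (G : Type*) [Group G] (Ω : Type*) [Fintype Ω] [MulAction G Ω] (p : ℕ) :
    Prop where
  hp : p.Prime
  hodd : p ≠ 2
  hcard : Fintype.card Ω = 2 * p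
  hprim : MulAction.IsPreprimitive G Ω
  hfaith : FaithfulSMul G Ω
  hsq : ¬ p ^ 2 ∣ Nat.card G
  hfix : ∀ g : G, p ∣ orderOf g → ∀ a : Ω, g • a ≠ a

/-- the rank four configuration: `π = 1 + θ + χ₁ + χ₂`, `θ(1) = p`, `χᵢ(1) = (p-1)/2`, `θ` vanishes
on `⟨x⟩ - 1`, `θ` is invariant under all power maps and the power map `κ` swaps `χ₁`, `χ₂` -/
structure Gam (G : Type*) [Group G] [Fintype G] (Ω : Type*) [Fintype Ω] [MulAction G Ω] (p : ℕ)
    (x : G) (θ χ₁ χ₂ : G → ℂ) (κ : ℕ) : Prop where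
  S : Setup G Ω p
  hx : orderOf x = p
  hθ : IsIrrCharacter G θ
  h₁ : IsIrrCharacter G χ₁
  h₂ : IsIrrCharacter G χ₂
  hθ1 : θ ≠ fun _ => 1
  h11 : χ₁ ≠ fun _ => 1
  h21 : χ₂ ≠ fun _ => 1
  hθ₁ : θ ≠ χ₁
  hθ₂ : θ ≠ χ₂
  h₁₂ : χ₁ ≠ χ₂
  hπ : pc G Ω = fun g => 1 + θ g + χ₁ g + χ₂ g
  dθ : θ 1 = p
  d₁ : 2 * χ₁ 1 + 1 = p
  d₂ : 2 * χ₂ 1 + 1 = p
  vθ : ∀ k : ℕ, ¬ p ∣ k → θ (x ^ k) = 0
  twθ : ∀ κ' : ℕ, κ'.Coprime (Nat.card G) → ∀ g : G, θ (g ^ κ') = θ g
  hκ : κ.Coprime (Nat.card G)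
  tw₁ : ∀ g : G, χ₁ (g ^ κ) = χ₂ g
  tw₂ : ∀ g : G, χ₂ (g ^ κ) = χ₁ g

section orbital

variable (G : Type*) [Group G] {Ω : Type*} [Fintype Ω] [DecidableEq Ω] [MulAction G Ω]

open Classical in
/-- the number of points `z` with `(z, y z)` in the orbital of `(a, b)`; by definition
`Helper12.Orbital.theta (orbRel G a b) y = (cnt G a b y : ℂ)` -/
noncomputable def cnt (a b : Ω) (y : G) : ℕ :=
  (Finset.univ.filter fun z => Helper12.Orbital.orbRel G a b z (y • z)).card

/-- the subdegree -/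
noncomputable def kk (a b : Ω) : ℕ := Nat.card (MulAction.orbit (MulAction.stabilizer G a) b)

open Classical in
/-- the eigenvalue of the orbital of `(a, b)` on `χ`: the inner product of the orbital class
function with `χ` -/
noncomputable def ev [Fintype G] (a b : Ω) (χ : G → ℂ) : ℂ :=
  classInner (Helper12.Orbital.theta (G := G) (Helper12.Orbital.orbRel G a b)) χ

open Classical in
theorem theta_eq_cnt (a b : Ω) (y : G) :
    Helper12.Orbital.theta (G := G) (Helper12.Orbital.orbRel G a b) y = (cnt G a b y : ℂ) := rfl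

end orbital

end Cfsg.Agent.Helper61.W2p
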