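import Cfsg.Agent.Helper61.DT_LA2core

/-!
# DT farm, piece (LA3), core (helper61)

A complex matrix representation of a finite group with algebraic entries is equivalent to one over
the local ring `Rloc M`, given the valuation property (LA1) as a hypothesis.
-/

set_option autoImplicit false
set_option linter.unusedSectionVars false

namespace Cfsg.Agent.Helper61.DT

open Cfsg Cfsg.Agent.Helper16 Cfsg.Agent.Helper16.DT Matrix

universe u

variable {M : Ideal AlgInt} [M.IsMaximal] {G : Type u} [Group G]

/-- A matrix whose conjugate has entries in the local ring, entrywise. -/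
theorem exists_Rloc_form_of (hV : ValProp M) [Finite G] {n : ℕ}
    (ρ : G →* Matrix (Fin n) (Fin n) ℂ) (halg : ∀ g i j, IsAlgebraic ℚ (ρ g i j)) :
    ∃ A : G →* Matrix (Fin n) (Fin n) (Rloc M), MatEquiv (cplxRep A) ρ := by
  classical
  have : Fintype G := Fintype.ofFinite G
  -- the finite family of all columns of all `ρ g`
  let m := Fintype.card (G × Fin n)
  let e : Fin m ≃ G × Fin n := (Fintype.equivFin (G × Fin n)).symm
  let v : Fin m → (Fin n → ℂ) := fun k r => ρ (e k).1 r (e k).2
  have hvalg : ∀ k r, IsAlgebraic ℚ (v k r) := fun k r => halg _ _ _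
  have hvspan : Submodule.span ℂ (Set.range v) = ⊤ := by
    rw [eq_top_iff, ← (Pi.basisFun ℂ (Fin n)).span_eq, Submodule.span_le]
    rintro _ ⟨i, rfl⟩
    apply Submodule.subset_span
    refine ⟨e.symm (1, i), ?_⟩
    funext r
    simp only [v, Equiv.apply_symm_apply, map_one, Pi.basisFun_apply]
    rw [Matrix.one_apply, Pi.single_apply]
  obtain ⟨w, hwli, hwspan⟩ := exists_Rloc_basis_of hV v hvalg hvspan
  -- the lattice is stable
  have hstab : ∀ g : G, ∀ x ∈ Submodule.span (Rloc M) (Set.range v),
      (ρ g).mulVec x ∈ Submodule.span (Rloc M) (Set.range v) := by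
    intro g
    let f : (Fin n → ℂ) →ₗ[Rloc M] (Fin n → ℂ) := (Matrix.mulVecLin (ρ g)).restrictScalars (Rloc M)
    have hf : Submodule.map f (Submodule.span (Rloc M) (Set.range v)) ≤
        Submodule.span (Rloc M) (Set.range v) := by
      rw [Submodule.map_span_le]
      rintro _ ⟨k, rfl⟩
      apply Submodule.subset_span
      refine ⟨e.symm (g * (e k).1, (e k).2), ?_⟩
      funext r
      simp only [v, Equiv.apply_symm_apply, map_mul, f, LinearMap.coe_restrictScalars,
        Matrix.mulVecLin_apply]
      rw [Matrix.mul_apply]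
      rfl
    intro x hx
    exact hf ⟨x, hx, rfl⟩
  -- the base change matrices
  let Q : Matrix (Fin n) (Fin n) ℂ := Matrix.of fun r k => w k r
  have hQcol : Q.col = w := by
    funext k r
    rfl
  have hQunit : IsUnit Q := by
    rw [← Matrix.linearIndependent_cols_iff_isUnit, hQcol]
    exact hwli
  have hQdet : IsUnit Q.det := (Matrix.isUnit_iff_isUnit_det Q).1 hQunit
  let P : Matrix (Fin n) (Fin n) ℂ := Q⁻¹
  have hPQ : P * Q = 1 := Matrix.nonsing_inv_mul Q hQdet
  have hQP : Q * P = 1 := Matrix.mul_nonsing_inv Q hQdet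
  have hQw : ∀ k, Q.mulVec (Pi.single k 1) = w k := by
    intro k
    funext r
    simp [Q]
  have hPw : ∀ k, P.mulVec (w k) = Pi.single k 1 := by
    intro k
    rw [← hQw k, Matrix.mulVec_mulVec, hPQ, Matrix.one_mulVec]
  -- the entries of the conjugates are local integers
  have hentry : ∀ g s k, (P * ρ g * Q) s k ∈ Rloc M := by
    intro g s k
    have h1 : (ρ g).mulVec (w k) ∈ Submodule.span (Rloc M) (Set.range w) := by
      rw [hwspan]
      apply hstab
      rw [← hwspan]
      exact Submodule.subset_span ⟨k, rfl⟩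
    obtain ⟨a, ha⟩ := (Submodule.mem_span_range_iff_exists_fun (Rloc M)).1 h1
    have h2 : (P * ρ g * Q) s k = (P.mulVec ((ρ g).mulVec (w k))) s := by
      rw [Matrix.mulVec_mulVec, ← hQw k, Matrix.mulVec_mulVec]
      simp
    rw [h2, ← ha]
    have h3 : P.mulVec (∑ i, a i • w i) = ∑ i, (a i : ℂ) • Pi.single i (1 : ℂ) := by
      rw [Matrix.mulVec_sum]
      refine Finset.sum_congr rfl fun i _ => ?_
      have : a i • w i = (a i : ℂ) • w i := rfl
      rw [this, Matrix.mulVec_smul, hPw]
    rw [h3]
    have h4 : (∑ i, (a i : ℂ) • Pi.single i (1 : ℂ)) s = (a s : ℂ) := by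
      simp [Finset.sum_apply, Pi.single_apply]
    rw [h4]
    exact (a s).2
  -- the representation over the local ring
  let A0 : G → Matrix (Fin n) (Fin n) (Rloc M) := fun g => Matrix.of fun s k =>
    (⟨(P * ρ g * Q) s k, hentry g s k⟩ : Rloc M)
  have hA0 : ∀ g, (A0 g).map (Rloc M).subtype = P * ρ g * Q := by
    intro g
    ext s k
    rfl
  have hinj : Function.Injective
      (fun X : Matrix (Fin n) (Fin n) (Rloc M) => X.map (Rloc M).subtype) :=
    Matrix.map_injective Subtype.val_injective
  let A : G →* Matrix (Fin n) (Fin n) (Rloc M) :=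
    { toFun := A0
      map_one' := by
        apply hinj
        show (A0 1).map (Rloc M).subtype = (1 : Matrix (Fin n) (Fin n) (Rloc M)).map (Rloc M).subtype
        rw [hA0, map_one, Matrix.mul_one, hPQ, Matrix.map_one _ (map_zero _) (map_one _)]
      map_mul' := by
        intro g h
        apply hinj
        show (A0 (g * h)).map (Rloc M).subtype = (A0 g * A0 h).map (Rloc M).subtype
        rw [Matrix.map_mul, hA0, hA0, hA0, map_mul]
        calc P * (ρ g * ρ h) * Q = P * ρ g * 1 * ρ h * Q := by
              simp only [Matrix.mul_one, Matrix.mul_assoc]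
          _ = P * ρ g * Q * (P * ρ h * Q) := by
              rw [← hQP]
              simp only [Matrix.mul_assoc] }
  refine ⟨A, P, Q, hPQ, hQP, fun g => ?_⟩
  show P * ρ g * Q = (A0 g).map (Rloc M).subtype
  rw [hA0]

end Cfsg.Agent.Helper61.DT
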