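import Cfsg.Agent.Helper61.DT_LA2
import Cfsg.Agent.Helper61.DT_LA3core

/-!
# DT farm, piece (LA3) (helper61)
-/

set_option autoImplicit false
set_option linter.unusedSectionVars false

namespace Cfsg.Agent.Helper61.DT

open Cfsg Cfsg.Agent.Helper16 Cfsg.Agent.Helper16.DT

universe u

variable {M : Ideal AlgInt} [M.IsMaximal] {G : Type u} [Group G]

/-- (LA3) a complex matrix representation of a finite group with algebraic entries is equivalent to
one with entries in the local ring. -/
theorem exists_Rloc_form [Finite G] {n : ℕ} (ρ : G →* Matrix (Fin n) (Fin n) ℂ)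
    (halg : ∀ g i j, IsAlgebraic ℚ (ρ g i j)) :
    ∃ A : G →* Matrix (Fin n) (Fin n) (Rloc M), MatEquiv (cplxRep A) ρ :=
  exists_Rloc_form_of (valProp M) ρ halg

end Cfsg.Agent.Helper61.DT
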