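import Mathlib
import Cfsg.Prelude.Def_Perm
import Cfsg.Agent.Helper12.PrimeDegree
import Cfsg.Agent.Helper17.PrimeDegree

set_option autoImplicit false

/-! (LABT) for S3612: the normaliser of a Sylow `p`-subgroup of a transitive group of prime degree
`p` acts by affine maps in a suitable labelling of the points by `ZMod p`, in which a generator of
the Sylow subgroup is the translation `j ↦ j + 1` (variant of `Helper75.Neu.exists_label`). -/

namespace Cfsg.Agent.Helper61.N2

open MulAction

/-- (LABT) affine labelling of the Sylow normaliser, with a translation -/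
theorem exists_label_trans {G : Type*} [Group G] [Finite G] {Ω : Type*} [Fintype Ω]
    [DecidableEq Ω] [MulAction G Ω] [FaithfulSMul G Ω] [IsPretransitive G Ω] {p : ℕ}
    [Fact p.Prime] (hΩ : Fintype.card Ω = p) (P : Sylow p G) :
    ∃ e : ZMod p ≃ Ω, (∃ t ∈ (P : Subgroup G), ∀ j, t • e j = e (j + 1)) ∧
      ∀ n ∈ Subgroup.normalizer ((P : Subgroup G) : Set G),
        ∃ k c : ZMod p, k ≠ 0 ∧ ∀ j, n • e j = e (k * j + c) := by
  classical
  have hp : p.Prime := Fact.out
  have hne0 : NeZero p := ⟨hp.ne_zero⟩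
  have hP : Nat.card (P : Subgroup G) = p := Cfsg.Agent.Helper17.card_sylow_of_prime_degree hΩ P
  -- a generator of P
  have hcyc : IsCyclic (P : Subgroup G) := isCyclic_of_prime_card hP
  obtain ⟨⟨σ, hσP⟩, hgen⟩ := hcyc.exists_generator
  have hσord : orderOf σ = p := by
    have h1 : orderOf (⟨σ, hσP⟩ : (P : Subgroup G)) = Nat.card (P : Subgroup G) :=
      orderOf_eq_card_of_forall_mem_zpowers hgen
    rw [hP] at h1
    rw [← h1]
    exact (Subgroup.orderOf_mk σ hσP).symm
  have hPz : ∀ x ∈ (P : Subgroup G), ∃ i : ℕ, x = σ ^ i := by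
    intro x hx
    have hx' := hgen ⟨x, hx⟩
    rw [← mem_powers_iff_mem_zpowers] at hx'
    obtain ⟨i, hi⟩ := hx'
    refine ⟨i, ?_⟩
    have := congrArg (Subtype.val) hi
    simpa using this.symm
  -- the permutation induced by σ has order p
  have hinj : Function.Injective (MulAction.toPermHom G Ω) := MulAction.toPerm_injective
  have hτord : orderOf (MulAction.toPermHom G Ω σ) = p := by
    rw [orderOf_injective _ hinj, hσord]
  obtain ⟨e, he⟩ := Cfsg.Agent.Helper12.PrimeDeg.exists_labelling hΩ (MulAction.toPermHom G Ω σ) hτord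
  have he' : ∀ j, σ • e j = e (j + 1) := fun j => (he j).symm
  -- powers of σ translate
  have hpow : ∀ (i : ℕ) (j : ZMod p), σ ^ i • e j = e (j + (i : ZMod p)) := by
    intro i
    induction i with
    | zero => intro j; simp
    | succ i ih =>
      intro j
      rw [pow_succ', mul_smul, ih, he']
      congr 1
      push_cast
      ring
  refine ⟨e, ⟨σ, hσP, he'⟩, fun n hn => ?_⟩
  have hconj : n * σ * n⁻¹ ∈ (P : Subgroup G) := by
    rw [Subgroup.mem_normalizer_iff] at hn
    exact (hn σ).mp hσP
  obtain ⟨k', hk'⟩ := hPz _ hconj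
  set c : ZMod p := e.symm (n • e 0) with hc
  have hnc : n • e 0 = e c := by rw [hc, Equiv.apply_symm_apply]
  -- conjugation of powers
  have hconjpow : ∀ i : ℕ, n * σ ^ i = σ ^ (k' * i) * n := by
    intro i
    have h1 : (n * σ * n⁻¹) ^ i = n * σ ^ i * n⁻¹ := by
      rw [← conj_pow]
    rw [hk', ← pow_mul] at h1
    rw [h1]
    group
  have hform : ∀ j : ZMod p, n • e j = e ((k' : ZMod p) * j + c) := by
    intro j
    have hj : e j = σ ^ j.val • e 0 := by
      rw [hpow, zero_add, ZMod.natCast_zmod_val]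
    rw [hj, ← mul_smul, hconjpow, mul_smul, hnc, hpow]
    congr 1
    push_cast
    rw [ZMod.natCast_zmod_val]
    ring
  refine ⟨(k' : ZMod p), c, ?_, hform⟩
  intro hk0
  have h0 := hform 0
  have h1 := hform 1
  rw [hk0] at h0 h1
  have : n • e 0 = n • e 1 := by rw [h0, h1]; simp
  have h01 : e 0 = e 1 := by
    have := congrArg (fun x => n⁻¹ • x) this
    simpa using this
  have h01' : (0 : ZMod p) = 1 := e.injective h01
  have hfact : Fact (1 < p) := ⟨hp.one_lt⟩
  exact zero_ne_one h01'

/-- powers of a translation -/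
theorem pow_smul_label {G : Type*} [Group G] {Ω : Type*} [MulAction G Ω] {p : ℕ}
    (e : ZMod p ≃ Ω) (t : G) (ht : ∀ j, t • e j = e (j + 1)) (i : ℕ) (j : ZMod p) :
    t ^ i • e j = e (j + (i : ZMod p)) := by
  induction i generalizing j with
  | zero => simp
  | succ i ih =>
    rw [pow_succ', mul_smul, ih, ht]
    congr 1
    push_cast
    ring

/-- every translation is realised by a power of `t` -/
theorem exists_pow_smul_label {G : Type*} [Group G] {Ω : Type*} [MulAction G Ω] {p : ℕ}
    [NeZero p] (e : ZMod p ≃ Ω) (t : G) (ht : ∀ j, t • e j = e (j + 1)) (c : ZMod p) :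
    ∃ i : ℕ, ∀ j, t ^ i • e j = e (j + c) := by
  refine ⟨c.val, fun j => ?_⟩
  rw [pow_smul_label e t ht, ZMod.natCast_zmod_val]

end Cfsg.Agent.Helper61.N2
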