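import Mathlib

/-!
# Orbitals of a transitive action: elementary combinatorics

`Orb G a b x y` says that `(x, y)` lies in the `G`-orbit of `(a, b)`.
-/

set_option autoImplicit false
set_option linter.unusedSectionVars false

namespace Cfsg.Agent.Helper61.Orbital

open MulAction
open scoped Classical

section basic
variable (G : Type*) [Group G] {Ω : Type*} [MulAction G Ω]

/-- The orbital of `(a, b)`. -/
def Orb (a b x y : Ω) : Prop := ∃ g : G, g • a = x ∧ g • b = y

variable {G}

theorem orb_self (a b : Ω) : Orb G a b a b := ⟨1, one_smul _ _, one_smul _ _⟩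

theorem orb_smul {a b x y : Ω} (h : G) : Orb G a b (h • x) (h • y) ↔ Orb G a b x y := by
  constructor
  · rintro ⟨g, h1, h2⟩
    refine ⟨h⁻¹ * g, ?_, ?_⟩
    · rw [mul_smul, h1, inv_smul_smul]
    · rw [mul_smul, h2, inv_smul_smul]
  · rintro ⟨g, rfl, rfl⟩
    exact ⟨h * g, mul_smul _ _ _, mul_smul _ _ _⟩

theorem orb_base_iff {a b y : Ω} : Orb G a b a y ↔ y ∈ orbit (stabilizer G a) b := by
  constructor
  · rintro ⟨g, h1, h2⟩
    exact ⟨⟨g, h1⟩, h2⟩
  · rintro ⟨⟨g, hg⟩, h2⟩
    exact ⟨g, hg, h2⟩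

theorem orb_congr {a b b' : Ω} (h : b' ∈ orbit (stabilizer G a) b) (x y : Ω) :
    Orb G a b' x y ↔ Orb G a b x y := by
  obtain ⟨⟨k, hk⟩, rfl⟩ := h
  have hk' : k • a = a := hk
  constructor
  · rintro ⟨g, h1, h2⟩
    refine ⟨g * k, ?_, ?_⟩
    · rw [mul_smul, hk', h1]
    · rw [mul_smul]; exact h2
  · rintro ⟨g, h1, h2⟩
    refine ⟨g * k⁻¹, ?_, ?_⟩
    · rw [mul_smul, inv_smul_eq_iff.mpr hk'.symm, h1]
    · change (g * k⁻¹) • (k • b) = y
      rw [mul_smul, inv_smul_smul, h2]

theorem orb_unique {a b b' x y : Ω} (h : Orb G a b x y) (h' : Orb G a b' x y) :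
    b' ∈ orbit (stabilizer G a) b := by
  obtain ⟨g, h1, h2⟩ := h
  obtain ⟨g', h1', h2'⟩ := h'
  refine ⟨⟨g'⁻¹ * g, ?_⟩, ?_⟩
  · change (g'⁻¹ * g) • a = a
    rw [mul_smul, h1, ← h1', inv_smul_smul]
  · change (g'⁻¹ * g) • b = b'
    rw [mul_smul, h2, ← h2', inv_smul_smul]

theorem orb_diag_iff {a b x : Ω} : Orb G a b x x → b = a := by
  rintro ⟨g, h1, h2⟩
  have := h2.trans h1.symm
  exact smul_left_cancel g this

theorem exists_orb [IsPretransitive G Ω] (a x y : Ω) : ∃ b, Orb G a b x y := by
  obtain ⟨g, hg⟩ := exists_smul_eq G a x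
  exact ⟨g⁻¹ • y, g, hg, smul_inv_smul g y⟩

/-- The paired orbital. -/
theorem exists_paired [IsPretransitive G Ω] (a b : Ω) :
    ∃ c, ∀ x y, Orb G a c x y ↔ Orb G a b y x := by
  obtain ⟨g, hg⟩ := exists_smul_eq G b a
  refine ⟨g • a, fun x y => ?_⟩
  constructor
  · rintro ⟨h, h1, h2⟩
    refine ⟨h * g, ?_, ?_⟩
    · rw [mul_smul]; exact h2
    · rw [mul_smul, hg, h1]
  · rintro ⟨h, h1, h2⟩
    refine ⟨h * g⁻¹, ?_, ?_⟩
    · rw [mul_smul, ← hg, inv_smul_smul, h2]
    · rw [mul_smul, inv_smul_smul, h1]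

end basic

section counting
variable {G : Type*} [Group G] {Ω : Type*} [MulAction G Ω] [Fintype Ω]

/-- Invariant relations. -/
def Inv (G : Type*) [Group G] {Ω : Type*} [MulAction G Ω] (R : Ω → Ω → Prop) : Prop :=
  ∀ (g : G) (x y : Ω), R (g • x) (g • y) ↔ R x y

theorem inv_orb (a b : Ω) : Inv G (Orb G a b) := fun g _ _ => orb_smul g

theorem card_out_smul {R : Ω → Ω → Prop} (hR : Inv G R) (g : G) (x : Ω) :
    (Finset.univ.filter (fun y => R (g • x) y)).card = (Finset.univ.filter (fun y => R x y)).card := by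
  symm
  apply Finset.card_bij (fun y _ => g • y)
  · intro y hy
    simp only [Finset.mem_filter, Finset.mem_univ, true_and] at hy ⊢
    exact (hR g x y).mpr hy
  · intro y _ y' _ h
    exact smul_left_cancel g h
  · intro y hy
    simp only [Finset.mem_filter, Finset.mem_univ, true_and] at hy
    refine ⟨g⁻¹ • y, ?_, smul_inv_smul g y⟩
    simp only [Finset.mem_filter, Finset.mem_univ, true_and]
    rw [← hR g, smul_inv_smul]
    exact hy

theorem card_in_smul {R : Ω → Ω → Prop} (hR : Inv G R) (g : G) (y : Ω) :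
    (Finset.univ.filter (fun x => R x (g • y))).card = (Finset.univ.filter (fun x => R x y)).card :=
  card_out_smul (R := fun x y => R y x) (fun g x y => hR g y x) g y

theorem card_out_eq [IsPretransitive G Ω] {R : Ω → Ω → Prop} (hR : Inv G R) (x x' : Ω) :
    (Finset.univ.filter (fun y => R x y)).card = (Finset.univ.filter (fun y => R x' y)).card := by
  obtain ⟨g, rfl⟩ := exists_smul_eq G x' x
  exact card_out_smul hR g x'

theorem card_in_eq [IsPretransitive G Ω] {R : Ω → Ω → Prop} (hR : Inv G R) (y y' : Ω) :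
    (Finset.univ.filter (fun x => R x y)).card = (Finset.univ.filter (fun x => R x y')).card :=
  card_out_eq (R := fun x y => R y x) (fun g x y => hR g y x) y y'

theorem card_out_eq_card_in [IsPretransitive G Ω] [Nonempty Ω] {R : Ω → Ω → Prop} (hR : Inv G R)
    (x y : Ω) :
    (Finset.univ.filter (fun z => R x z)).card = (Finset.univ.filter (fun z => R z y)).card := by
  have h1 : ∑ u : Ω, (Finset.univ.filter (fun z => R u z)).card
      = ∑ v : Ω, (Finset.univ.filter (fun z => R z v)).card := by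
    simp only [Finset.card_filter]
    rw [Finset.sum_comm]
  have h2 : ∑ u : Ω, (Finset.univ.filter (fun z => R u z)).card
      = Fintype.card Ω * (Finset.univ.filter (fun z => R x z)).card := by
    rw [Finset.sum_congr rfl (fun u _ => card_out_eq hR u x)]
    simp
  have h3 : ∑ v : Ω, (Finset.univ.filter (fun z => R z v)).card
      = Fintype.card Ω * (Finset.univ.filter (fun z => R z y)).card := by
    rw [Finset.sum_congr rfl (fun v _ => card_in_eq hR v y)]
    simp
  rw [h2, h3] at h1
  exact Nat.eq_of_mul_eq_mul_left Fintype.card_pos h1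

/-- Number of `z` with `R x z` and `S z y` is invariant. -/
theorem card_common_smul {R S : Ω → Ω → Prop} (hR : Inv G R) (hS : Inv G S) (g : G) (x y : Ω) :
    (Finset.univ.filter (fun z => R (g • x) z ∧ S z (g • y))).card
      = (Finset.univ.filter (fun z => R x z ∧ S z y)).card := by
  symm
  apply Finset.card_bij (fun z _ => g • z)
  · intro z hz
    simp only [Finset.mem_filter, Finset.mem_univ, true_and] at hz ⊢
    exact ⟨(hR g x z).mpr hz.1, (hS g z y).mpr hz.2⟩
  · intro z _ z' _ h
    exact smul_left_cancel g h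
  · intro z hz
    simp only [Finset.mem_filter, Finset.mem_univ, true_and] at hz
    refine ⟨g⁻¹ • z, ?_, smul_inv_smul g z⟩
    simp only [Finset.mem_filter, Finset.mem_univ, true_and]
    constructor
    · rw [← hR g, smul_inv_smul]; exact hz.1
    · rw [← hS g, smul_inv_smul]; exact hz.2

theorem card_nbrs_base (a b : Ω) :
    (Finset.univ.filter (fun y => Orb G a b a y)).card = Nat.card (orbit (stabilizer G a) b) := by
  rw [Nat.card_eq_fintype_card, ← Set.toFinset_card]
  congr 1
  ext y
  simp only [Finset.mem_filter, Finset.mem_univ, true_and, Set.mem_toFinset]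
  exact orb_base_iff

theorem card_nbrs [IsPretransitive G Ω] (a b x : Ω) :
    (Finset.univ.filter (fun y => Orb G a b x y)).card = Nat.card (orbit (stabilizer G a) b) := by
  rw [card_out_eq (inv_orb a b) x a, card_nbrs_base]

end counting

section rank3
variable {G : Type*} [Group G] {Ω : Type*} [MulAction G Ω]

/-- Rank three data: the point stabiliser of `a` has exactly the orbits `{a}`, `H b₁`, `H b₂`. -/
structure Rank3Data (G : Type*) [Group G] {Ω : Type*} [MulAction G Ω] (a b₁ b₂ : Ω) : Prop where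
  hb₁ : b₁ ≠ a
  hb₂ : b₂ ≠ a
  hdisj : b₂ ∉ orbit (stabilizer G a) b₁
  hcover : ∀ b, b ≠ a → b ∈ orbit (stabilizer G a) b₁ ∨ b ∈ orbit (stabilizer G a) b₂

theorem Rank3Data.swap {a b₁ b₂ : Ω} (h : Rank3Data G a b₁ b₂) : Rank3Data G a b₂ b₁ where
  hb₁ := h.hb₂
  hb₂ := h.hb₁
  hdisj := by
    intro hmem
    apply h.hdisj
    rw [← orbit_eq_iff] at hmem ⊢
    exact hmem.symm
  hcover := fun b hb => (h.hcover b hb).symm

variable {a b₁ b₂ : Ω} (h : Rank3Data G a b₁ b₂)
include h

theorem Rank3Data.irrefl (x : Ω) : ¬ Orb G a b₁ x x := fun hx => h.hb₁ (orb_diag_iff hx)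

theorem Rank3Data.not_both {x y : Ω} (h1 : Orb G a b₁ x y) (h2 : Orb G a b₂ x y) : False :=
  h.hdisj (orb_unique h1 h2)

theorem Rank3Data.adj_or [IsPretransitive G Ω] {x y : Ω} (hxy : x ≠ y) :
    Orb G a b₁ x y ∨ Orb G a b₂ x y := by
  obtain ⟨b, hb⟩ := exists_orb (G := G) a x y
  have hba : b ≠ a := by
    rintro rfl
    obtain ⟨g, h1, h2⟩ := hb
    exact hxy (h1.symm.trans h2)
  rcases h.hcover b hba with h1 | h1
  · left; exact (orb_congr h1 x y).mp hb
  · right; exact (orb_congr h1 x y).mp hb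

theorem Rank3Data.card_eq [Fintype Ω] [IsPretransitive G Ω] :
    Fintype.card Ω = 1 + Nat.card (orbit (stabilizer G a) b₁)
      + Nat.card (orbit (stabilizer G a) b₂) := by
  rw [← card_nbrs_base a b₁, ← card_nbrs_base a b₂]
  have hu : (Finset.univ : Finset Ω) = ({a} ∪ Finset.univ.filter (fun y => Orb G a b₁ a y))
      ∪ Finset.univ.filter (fun y => Orb G a b₂ a y) := by
    ext y
    simp only [Finset.mem_univ, Finset.mem_union, Finset.mem_singleton, Finset.mem_filter,
      true_and, true_iff]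
    by_cases hy : y = a
    · left; left; exact hy
    · rcases h.adj_or (Ne.symm hy) with h1 | h1
      · left; right; exact h1
      · right; exact h1
  have hc : Fintype.card Ω = ((({a} : Finset Ω) ∪ Finset.univ.filter (fun y => Orb G a b₁ a y))
      ∪ Finset.univ.filter (fun y => Orb G a b₂ a y)).card := by
    rw [← Finset.card_univ]
    exact congrArg Finset.card hu
  rw [hc, Finset.card_union_of_disjoint, Finset.card_union_of_disjoint,
    Finset.card_singleton]
  · rw [Finset.disjoint_left]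
    intro y hy hy'
    rw [Finset.mem_singleton] at hy
    subst hy
    simp only [Finset.mem_filter, Finset.mem_univ, true_and] at hy'
    exact h.irrefl y hy'
  · rw [Finset.disjoint_left]
    intro y hy hy'
    simp only [Finset.mem_filter, Finset.mem_univ, true_and] at hy'
    rw [Finset.mem_union, Finset.mem_singleton] at hy
    rcases hy with rfl | hy
    · exact h.swap.irrefl y hy'
    · simp only [Finset.mem_filter, Finset.mem_univ, true_and] at hy
      exact h.not_both hy hy'

/-- If the two nontrivial subdegrees differ, the orbitals are self-paired. -/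
theorem Rank3Data.symm [Fintype Ω] [IsPretransitive G Ω]
    (hne : Nat.card (orbit (stabilizer G a) b₁) ≠ Nat.card (orbit (stabilizer G a) b₂))
    {x y : Ω} (hxy : Orb G a b₁ x y) : Orb G a b₁ y x := by
  have : Nonempty Ω := ⟨a⟩
  obtain ⟨c, hc⟩ := exists_paired (G := G) a b₁
  have hca : c ≠ a := by
    intro hca'
    rw [hca'] at hc
    have := (hc a a).mp (orb_self a a)
    exact h.irrefl a this
  have hcard : Nat.card (orbit (stabilizer G a) c) = Nat.card (orbit (stabilizer G a) b₁) := by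
    rw [← card_nbrs_base a c, ← card_nbrs_base a b₁]
    rw [card_out_eq_card_in (inv_orb a b₁) a a]
    congr 1
    ext y
    simp only [Finset.mem_filter, Finset.mem_univ, true_and]
    exact hc a y
  rcases h.hcover c hca with h1 | h1
  · rw [← hc x y]
    exact (orb_congr h1 x y).mpr hxy
  · exfalso
    apply hne
    rw [← hcard]
    congr 1
    rw [orbit_eq_iff.mpr h1]

end rank3

section existence
variable {G : Type*} [Group G] {Ω : Type*} [MulAction G Ω]

theorem fin3_aux : ∀ i₀ : Fin 3, ∃ j₁ j₂ : Fin 3, j₁ ≠ i₀ ∧ j₂ ≠ i₀ ∧ j₁ ≠ j₂ ∧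
    ∀ i, i = i₀ ∨ i = j₁ ∨ i = j₂ := by decide

theorem exists_rank3Data (a : Ω)
    (hrank : Nat.card (orbitRel.Quotient (stabilizer G a) Ω) = 3) :
    ∃ b₁ b₂ : Ω, Rank3Data G a b₁ b₂ := by
  have hfin : Finite (orbitRel.Quotient (stabilizer G a) Ω) :=
    Nat.finite_of_card_ne_zero (by rw [hrank]; norm_num)
  let e : orbitRel.Quotient (stabilizer G a) Ω ≃ Fin 3 := Finite.equivFinOfCardEq hrank
  let q₀ : orbitRel.Quotient (stabilizer G a) Ω := Quotient.mk'' a
  obtain ⟨j₁, j₂, h1, h2, h12, hall⟩ := fin3_aux (e q₀)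
  obtain ⟨b₁, hb₁⟩ := Quotient.exists_rep (e.symm j₁)
  obtain ⟨b₂, hb₂⟩ := Quotient.exists_rep (e.symm j₂)
  have hmk : ∀ x y : Ω, (Quotient.mk'' x : orbitRel.Quotient (stabilizer G a) Ω) = Quotient.mk'' y ↔
      x ∈ orbit (stabilizer G a) y := by
    intro x y
    rw [Quotient.eq'']
    exact orbitRel_apply
  have hq₁ : (Quotient.mk'' b₁ : orbitRel.Quotient (stabilizer G a) Ω) = e.symm j₁ := hb₁
  have hq₂ : (Quotient.mk'' b₂ : orbitRel.Quotient (stabilizer G a) Ω) = e.symm j₂ := hb₂
  have horb_a : ∀ x, x ∈ orbit (stabilizer G a) a → x = a := by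
    rintro x ⟨⟨g, hg⟩, rfl⟩
    exact hg
  refine ⟨b₁, b₂, ?_, ?_, ?_, ?_⟩
  · intro hba
    apply h1
    have : (Quotient.mk'' b₁ : orbitRel.Quotient (stabilizer G a) Ω) = q₀ := by rw [hba]
    rw [hq₁] at this
    rw [← this, Equiv.apply_symm_apply]
  · intro hba
    apply h2
    have : (Quotient.mk'' b₂ : orbitRel.Quotient (stabilizer G a) Ω) = q₀ := by rw [hba]
    rw [hq₂] at this
    rw [← this, Equiv.apply_symm_apply]
  · intro hmem
    apply h12
    have := (hmk b₂ b₁).mpr hmem
    rw [hq₁, hq₂] at this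
    exact (e.symm.injective this).symm
  · intro b hb
    rcases hall (e (Quotient.mk'' b)) with h | h | h
    · exfalso
      have := e.injective h
      exact hb (horb_a b ((hmk b a).mp this))
    · left
      apply (hmk b b₁).mp
      rw [hq₁, ← h, Equiv.symm_apply_apply]
    · right
      apply (hmk b b₂).mp
      rw [hq₂, ← h, Equiv.symm_apply_apply]

end existence

end Cfsg.Agent.Helper61.Orbital
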