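import Mathlib
import Cfsg.Agent.Helper61.Orbital

/-!
# Rank three graphs: adjacency matrices and the strongly regular identity
-/

set_option autoImplicit false
set_option linter.unusedSectionVars false

namespace Cfsg.Agent.Helper61.Rank3

open MulAction Cfsg.Agent.Helper61.Orbital
open scoped Classical Pointwise

section matrices
variable {Ω : Type*} [Fintype Ω]

/-- Adjacency matrix of a relation. -/
noncomputable def adjM (R : Ω → Ω → Prop) : Matrix Ω Ω ℂ :=
  Matrix.of fun x y => if R x y then 1 else 0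

/-- The all-ones matrix. -/
def allOnes (Ω : Type*) : Matrix Ω Ω ℂ := Matrix.of fun _ _ => 1

theorem adjM_apply (R : Ω → Ω → Prop) (x y : Ω) : adjM R x y = if R x y then 1 else 0 := rfl

theorem allOnes_apply (x y : Ω) : allOnes Ω x y = 1 := rfl

theorem adjM_mul_adjM_apply (R S : Ω → Ω → Prop) (x y : Ω) :
    (adjM R * adjM S) x y = ((Finset.univ.filter (fun z => R x z ∧ S z y)).card : ℂ) := by
  rw [Matrix.mul_apply, Finset.card_filter]
  push_cast
  refine Finset.sum_congr rfl (fun z _ => ?_)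
  rw [adjM_apply, adjM_apply]
  by_cases h1 : R x z <;> by_cases h2 : S z y <;> simp [h1, h2]

theorem adjM_mul_allOnes (R : Ω → Ω → Prop) (k : ℕ)
    (hk : ∀ x, (Finset.univ.filter (fun z => R x z)).card = k) :
    adjM R * allOnes Ω = (k : ℂ) • allOnes Ω := by
  ext x y
  rw [Matrix.mul_apply, Matrix.smul_apply, allOnes_apply, smul_eq_mul, mul_one, ← hk x,
    Finset.card_filter]
  push_cast
  refine Finset.sum_congr rfl (fun z _ => ?_)
  rw [adjM_apply, allOnes_apply, mul_one]

theorem allOnes_mul_adjM (R : Ω → Ω → Prop) (k : ℕ)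
    (hk : ∀ y, (Finset.univ.filter (fun z => R z y)).card = k) :
    allOnes Ω * adjM R = (k : ℂ) • allOnes Ω := by
  ext x y
  rw [Matrix.mul_apply, Matrix.smul_apply, allOnes_apply, smul_eq_mul, mul_one, ← hk y,
    Finset.card_filter]
  push_cast
  refine Finset.sum_congr rfl (fun z _ => ?_)
  rw [adjM_apply, allOnes_apply, one_mul]

theorem allOnes_mul_allOnes :
    allOnes Ω * allOnes Ω = (Fintype.card Ω : ℂ) • allOnes Ω := by
  ext x y
  rw [Matrix.mul_apply, Matrix.smul_apply, allOnes_apply, smul_eq_mul, mul_one]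
  simp [allOnes_apply]

end matrices

section algebra
variable {Ω : Type*} [Fintype Ω]

/-- The spectral "projection" attached to the eigenvalue `r` (the other one being `s`). -/
noncomputable def specP (A : Matrix Ω Ω ℂ) (k N s : ℂ) : Matrix Ω Ω ℂ :=
  A - s • (1 : Matrix Ω Ω ℂ) - ((k - s) / N) • allOnes Ω

theorem specP_mul_self (A : Matrix Ω Ω ℂ) (k mu t N r s : ℂ) (hN : N ≠ 0)
    (hAA : A * A = (k - mu) • (1 : Matrix Ω Ω ℂ) + t • A + mu • allOnes Ω)
    (hAJ : A * allOnes Ω = k • allOnes Ω) (hJA : allOnes Ω * A = k • allOnes Ω)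
    (hJJ : allOnes Ω * allOnes Ω = N • allOnes Ω)
    (h1 : r + s = t) (h2 : r * s = mu - k) (h4 : k * k = (k - mu) + t * k + mu * N) :
    specP A k N s * specP A k N s = (r - s) • specP A k N s := by
  unfold specP
  have hc : (k - s) / N * N = k - s := div_mul_cancel₀ _ hN
  set c := (k - s) / N with hcdef
  have hmu : mu = c * (k - r) := by
    apply mul_left_cancel₀ hN
    have : N * (c * (k - r)) = (c * N) * (k - r) := by ring
    rw [this, hc]
    linear_combination (-1 : ℂ) * h4 + k * h1 - h2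
  simp only [sub_mul, mul_sub, smul_mul_assoc, mul_smul_comm, mul_one, one_mul, hAA, hAJ, hJA, hJJ]
  match_scalars
  · linear_combination h2
  · linear_combination (-1 : ℂ) * h1
  · linear_combination hmu + c * hc

theorem trace_adjM_irrefl (R : Ω → Ω → Prop) (hR : ∀ x, ¬ R x x) : (adjM R).trace = 0 := by
  rw [Matrix.trace]
  apply Finset.sum_eq_zero
  intro x _
  rw [Matrix.diag_apply, adjM_apply, if_neg (hR x)]

theorem trace_allOnes : (allOnes Ω).trace = (Fintype.card Ω : ℂ) := by
  rw [Matrix.trace]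
  simp [allOnes_apply]

theorem trace_specP (A : Matrix Ω Ω ℂ) (hA : A.trace = 0) (k N s : ℂ) (hN : N ≠ 0)
    (hcard : (Fintype.card Ω : ℂ) = N) :
    (specP A k N s).trace = -(s * N) - (k - s) := by
  unfold specP
  rw [Matrix.trace_sub, Matrix.trace_sub, Matrix.trace_smul, Matrix.trace_smul, hA, trace_allOnes,
    Matrix.trace_one, hcard, smul_eq_mul, smul_eq_mul, div_mul_cancel₀ _ hN]
  ring

end algebra

section srg
variable {G : Type*} [Group G] {Ω : Type*} [Fintype Ω] [MulAction G Ω] [IsPretransitive G Ω]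
  {a b₁ b₂ : Ω}

/-- number of `z` with `R x z` and `S z y` -/
noncomputable def cnt (R S : Ω → Ω → Prop) (x y : Ω) : ℕ :=
  (Finset.univ.filter (fun z => R x z ∧ S z y)).card

theorem cnt_smul {R S : Ω → Ω → Prop} (hR : Inv G R) (hS : Inv G S) (g : G) (x y : Ω) :
    cnt R S (g • x) (g • y) = cnt R S x y := card_common_smul hR hS g x y

theorem card_in_nbrs (y : Ω) :
    (Finset.univ.filter (fun z => Orb G a b₁ z y)).card = Nat.card (orbit (stabilizer G a) b₁) := by
  have : Nonempty Ω := ⟨a⟩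
  rw [← card_out_eq_card_in (inv_orb a b₁) a y, card_nbrs_base]

/-- The counting form of the strongly regular property. -/
theorem srg_count (h : Rank3Data G a b₁ b₂)
    (hsymm : ∀ x y, Orb G a b₁ x y → Orb G a b₁ y x) (x y : Ω) :
    cnt (Orb G a b₁) (Orb G a b₁) x y =
      if x = y then Nat.card (orbit (stabilizer G a) b₁)
      else if Orb G a b₁ x y then cnt (Orb G a b₁) (Orb G a b₁) a b₁
      else cnt (Orb G a b₁) (Orb G a b₁) a b₂ := by
  split_ifs with h1 h2
  · subst h1
    rw [← card_nbrs (G := G) a b₁ x]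
    unfold cnt
    congr 1
    ext z
    simp only [Finset.mem_filter, Finset.mem_univ, true_and]
    exact ⟨fun hz => hz.1, fun hz => ⟨hz, hsymm _ _ hz⟩⟩
  · obtain ⟨g, rfl, rfl⟩ := h2
    exact cnt_smul (inv_orb a b₁) (inv_orb a b₁) g a b₁
  · rcases h.adj_or h1 with h3 | h3
    · exact absurd h3 h2
    · obtain ⟨g, rfl, rfl⟩ := h3
      exact cnt_smul (inv_orb a b₁) (inv_orb a b₁) g a b₂

theorem srg_matrix (h : Rank3Data G a b₁ b₂)
    (hsymm : ∀ x y, Orb G a b₁ x y → Orb G a b₁ y x) :
    adjM (Orb G a b₁) * adjM (Orb G a b₁) =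
      ((Nat.card (orbit (stabilizer G a) b₁) : ℂ) - (cnt (Orb G a b₁) (Orb G a b₁) a b₂ : ℂ))
          • (1 : Matrix Ω Ω ℂ)
        + ((cnt (Orb G a b₁) (Orb G a b₁) a b₁ : ℂ) - (cnt (Orb G a b₁) (Orb G a b₁) a b₂ : ℂ))
          • adjM (Orb G a b₁)
        + (cnt (Orb G a b₁) (Orb G a b₁) a b₂ : ℂ) • allOnes Ω := by
  ext x y
  rw [adjM_mul_adjM_apply]
  have := srg_count h hsymm x y
  unfold cnt at this
  rw [this]
  simp only [Matrix.add_apply, Matrix.smul_apply, smul_eq_mul, allOnes_apply, adjM_apply, mul_one]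
  split_ifs with h1 h2
  · subst h1
    exact absurd h2 (h.irrefl x)
  · subst h1
    simp [cnt]
  · simp [Matrix.one_apply_ne h1, cnt]
  · simp [Matrix.one_apply_ne h1, cnt]

theorem adjM_add (h : Rank3Data G a b₁ b₂) :
    adjM (Orb G a b₁) + adjM (Orb G a b₂) + 1 = allOnes Ω := by
  ext x y
  simp only [Matrix.add_apply, adjM_apply, allOnes_apply]
  by_cases hxy : x = y
  · subst hxy
    simp [h.irrefl x, h.swap.irrefl x]
  · rw [Matrix.one_apply_ne hxy]
    rcases h.adj_or hxy with h1 | h1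
    · have h2 : ¬ Orb G a b₂ x y := fun h2 => h.not_both h1 h2
      simp [h1, h2]
    · have h2 : ¬ Orb G a b₁ x y := fun h2 => h.not_both h2 h1
      simp [h1, h2]

/-- Primitivity: non-adjacent distinct points have a common neighbour. -/
theorem mu_pos [hprim : IsPreprimitive G Ω] (h : Rank3Data G a b₁ b₂)
    (hsymm : ∀ x y, Orb G a b₁ x y → Orb G a b₁ y x) :
    0 < cnt (Orb G a b₁) (Orb G a b₁) a b₂ := by
  by_contra hmu
  have hmu0 : cnt (Orb G a b₁) (Orb G a b₁) a b₂ = 0 := by omega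
  -- transitivity of "equal or adjacent"
  have htrans : ∀ x y z, Orb G a b₁ x y → Orb G a b₁ y z → x ≠ z → Orb G a b₁ x z := by
    intro x y z hxy hyz hxz
    by_contra hnadj
    have hc := srg_count h hsymm x z
    rw [if_neg hxz, if_neg hnadj, hmu0] at hc
    unfold cnt at hc
    rw [Finset.card_eq_zero] at hc
    have : y ∈ Finset.univ.filter (fun w => Orb G a b₁ x w ∧ Orb G a b₁ w z) := by
      simp only [Finset.mem_filter, Finset.mem_univ, true_and]
      exact ⟨hxy, hyz⟩
    rw [hc] at this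
    exact absurd this (Finset.notMem_empty _)
  let E : Ω → Ω → Prop := fun x y => x = y ∨ Orb G a b₁ x y
  have hEsymm : ∀ x y, E x y → E y x := by
    rintro x y (rfl | hxy)
    · left; rfl
    · right; exact hsymm _ _ hxy
  have hEtrans : ∀ x y z, E x y → E y z → E x z := by
    rintro x y z (rfl | hxy) hyz
    · exact hyz
    · rcases hyz with rfl | hyz
      · right; exact hxy
      · by_cases hxz : x = z
        · left; exact hxz
        · right; exact htrans x y z hxy hyz hxz
  have hEsmul : ∀ (g : G) x y, E x y → E (g • x) (g • y) := by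
    rintro g x y (rfl | hxy)
    · left; rfl
    · right; exact (orb_smul g).mpr hxy
  let B : Set Ω := {x | E a x}
  have hsmulB : ∀ g : G, E a (g • a) → g • B = B := by
    intro g hg
    ext y
    rw [Set.mem_smul_set_iff_inv_smul_mem]
    change E a (g⁻¹ • y) ↔ E a y
    constructor
    · intro hy
      have := hEsmul g _ _ hy
      rw [smul_inv_smul] at this
      exact hEtrans _ _ _ hg this
    · intro hy
      have h1 : E (g • a) y := hEtrans _ _ _ (hEsymm _ _ hg) hy
      have := hEsmul g⁻¹ _ _ h1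
      rwa [inv_smul_smul] at this
  have hblock : IsBlock G B := by
    rw [isBlock_iff_smul_eq_of_mem]
    intro g x hx hgx
    apply hsmulB
    have h1 : E (g • a) (g • x) := hEsmul g _ _ hx
    exact hEtrans _ _ _ hgx (hEsymm _ _ h1)
  rcases hblock.subsingleton_or_eq_univ with hB | hB
  · have ha : a ∈ B := Or.inl rfl
    have hb : b₁ ∈ B := Or.inr (orb_self a b₁)
    exact h.hb₁ (hB hb ha)
  · have hb : b₂ ∈ B := by rw [hB]; trivial
    rcases hb with hb | hb
    · exact h.hb₂ hb.symm
    · exact h.not_both hb (orb_self a b₂)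

/-- The `μ`-parameter of the complementary graph. -/
theorem mu_compl (h : Rank3Data G a b₁ b₂)
    (hsymm : ∀ x y, Orb G a b₁ x y → Orb G a b₁ y x) :
    (cnt (Orb G a b₂) (Orb G a b₂) a b₁ : ℂ) =
      (Fintype.card Ω : ℂ) - 2 * (Nat.card (orbit (stabilizer G a) b₁) : ℂ)
        + (cnt (Orb G a b₁) (Orb G a b₁) a b₁ : ℂ) := by
  have hAA := srg_matrix h hsymm
  have hAJ := adjM_mul_allOnes (Orb G a b₁) _ (fun x => card_nbrs (G := G) a b₁ x)
  have hJA := allOnes_mul_adjM (Orb G a b₁) _ (fun y => card_in_nbrs (G := G) (a := a) (b₁ := b₁) y)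
  have hJJ := allOnes_mul_allOnes (Ω := Ω)
  have hA₂ : adjM (Orb G a b₂) = allOnes Ω - 1 - adjM (Orb G a b₁) := by
    rw [← adjM_add h]; abel
  have hsq : adjM (Orb G a b₂) * adjM (Orb G a b₂) =
      (1 + (Nat.card (orbit (stabilizer G a) b₁) : ℂ)
          - (cnt (Orb G a b₁) (Orb G a b₁) a b₂ : ℂ)) • (1 : Matrix Ω Ω ℂ)
      + (2 + ((cnt (Orb G a b₁) (Orb G a b₁) a b₁ : ℂ)
          - (cnt (Orb G a b₁) (Orb G a b₁) a b₂ : ℂ))) • adjM (Orb G a b₁)
      + ((Fintype.card Ω : ℂ) - 2 - 2 * (Nat.card (orbit (stabilizer G a) b₁) : ℂ)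
          + (cnt (Orb G a b₁) (Orb G a b₁) a b₂ : ℂ)) • allOnes Ω := by
    rw [hA₂]
    simp only [sub_mul, mul_sub, mul_one, one_mul, hAA, hAJ, hJA, hJJ]
    match_scalars <;> ring
  have hentry := congrFun (congrFun hsq a) b₁
  rw [adjM_mul_adjM_apply] at hentry
  unfold cnt
  rw [hentry]
  simp only [Matrix.add_apply, Matrix.smul_apply, smul_eq_mul, allOnes_apply, adjM_apply, mul_one,
    Matrix.one_apply_ne (Ne.symm h.hb₁), if_pos (orb_self (G := G) a b₁), mul_zero]
  unfold cnt
  ring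

end srg

end Cfsg.Agent.Helper61.Rank3
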