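import Mathlib
import Cfsg.Prelude.Def_Characters
import Cfsg.Prelude.Def_Perm
import Cfsg.Agent.Helper79.CharBasic
import Cfsg.Agent.Helper80.Irr
import Cfsg.Agent.Helper81.Schur

set_option autoImplicit false
set_option linter.unusedSectionVars false

namespace Cfsg.Agent.Helper61.MultFree

open Representation
open scoped ComplexConjugate

section irr
variable {k : Type*} [Field k] {G : Type*} [Monoid G] {V : Type*} [AddCommGroup V] [Module k V]
  [FiniteDimensional k V]

theorem subrep_ne_bot_iff {ρ : Representation k G V} (U : Subrepresentation ρ) :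
    U ≠ ⊥ ↔ U.toSubmodule ≠ ⊥ := by
  rw [Ne, Ne, not_iff_not]
  constructor
  · intro h; rw [h]; rfl
  · intro h; exact Subrepresentation.toSubmodule_injective h

/-- Every nonzero subrepresentation of a finite-dimensional representation contains an
irreducible subrepresentation. -/
theorem exists_irreducible_le (ρ : Representation k G V) :
    ∀ (n : ℕ) (U : Subrepresentation ρ), Module.finrank k U.toSubmodule = n → U.toSubmodule ≠ ⊥ →
      ∃ W : Subrepresentation ρ, W ≤ U ∧ W.toSubmodule ≠ ⊥ ∧ W.toRepresentation.IsIrreducible := by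
  intro n
  induction n using Nat.strong_induction_on with
  | _ n ih =>
    intro U hn hU
    by_cases hirr : U.toRepresentation.IsIrreducible
    · exact ⟨U, le_refl _, hU, hirr⟩
    · rw [Cfsg.Agent.Helper80.isIrreducible_iff] at hirr
      push Not at hirr
      have hnt : Nontrivial U.toSubmodule := by
        rw [Submodule.nontrivial_iff_ne_bot]; exact hU
      obtain ⟨X, hXinv, hX0, hX1⟩ := hirr hnt
      let X' : Subrepresentation ρ :=
        { toSubmodule := X.map U.toSubmodule.subtype
          apply_mem_toSubmodule := by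
            intro g v hv
            rw [Submodule.mem_map] at hv ⊢
            obtain ⟨x, hx, rfl⟩ := hv
            exact ⟨U.toRepresentation g x, hXinv g x hx, rfl⟩ }
      have hle : X' ≤ U := by
        intro v hv
        have hv' : v ∈ X.map U.toSubmodule.subtype := hv
        rw [Submodule.mem_map] at hv'
        obtain ⟨x, _, rfl⟩ := hv'
        exact x.2
      have hfr : Module.finrank k X'.toSubmodule = Module.finrank k X :=
        (Submodule.equivMapOfInjective U.toSubmodule.subtype
          U.toSubmodule.injective_subtype X).finrank_eq.symm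
      have hlt : Module.finrank k X < Module.finrank k U.toSubmodule :=
        Submodule.finrank_lt hX1
      have hX'0 : X'.toSubmodule ≠ ⊥ := by
        intro h
        apply hX0
        have h' : X.map U.toSubmodule.subtype = ⊥ := h
        rw [Submodule.eq_bot_iff] at h' ⊢
        intro x hx
        have := h' (U.toSubmodule.subtype x) (Submodule.mem_map_of_mem hx)
        exact Subtype.ext this
      obtain ⟨W, hWX, hW0, hWirr⟩ := ih _ (by rw [hfr, ← hn]; exact hlt) X' rfl hX'0
      exact ⟨W, le_trans hWX hle, hW0, hWirr⟩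

end irr

section maschke
variable {k : Type*} [Field k] {G : Type*} [Group G] [Finite G] [NeZero (Nat.card G : k)]
  {V : Type*} [AddCommGroup V] [Module k V] {W : Type*} [AddCommGroup W] [Module k W]

/-- Maschke: an injective intertwiner has an equivariant retraction. -/
theorem exists_retraction (ρ : Representation k G V) (σ : Representation k G W)
    (f : IntertwiningMap ρ σ) (hf : Function.Injective f) :
    ∃ p : IntertwiningMap σ ρ, ∀ v, p (f v) = v := by
  have hker : LinearMap.ker (IntertwiningMap.equivLinearMapAsModule ρ σ f) = ⊥ := by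
    rw [LinearMap.ker_eq_bot]
    exact hf
  obtain ⟨g', hg'⟩ := MonoidAlgebra.exists_leftInverse_of_injective _ hker
  refine ⟨(IntertwiningMap.equivLinearMapAsModule σ ρ).symm g', fun v => ?_⟩
  exact DFunLike.congr_fun hg' v

end maschke

section commutant
variable {k : Type*} [Field k] [IsAlgClosed k] {G : Type*} [Group G] [Finite G]
  [NeZero (Nat.card G : k)]
  {V : Type*} [AddCommGroup V] [Module k V] {W : Type*} [AddCommGroup W] [Module k W]

/-- If the commutant of `π` is commutative then every irreducible `ρ` has multiplicity at most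
one in `π`. -/
theorem finrank_le_one_of_comm [FiniteDimensional k W]
    (π : Representation k G V) (ρ : Representation k G W) [ρ.IsIrreducible]
    (hcomm : ∀ S T : V →ₗ[k] V, (∀ g, S ∘ₗ π g = π g ∘ₗ S) → (∀ g, T ∘ₗ π g = π g ∘ₗ T) →
      S ∘ₗ T = T ∘ₗ S) :
    Module.finrank k (IntertwiningMap ρ π) ≤ 1 := by
  by_cases h0 : ∀ f : IntertwiningMap ρ π, f = 0
  · have : Subsingleton (IntertwiningMap ρ π) := ⟨fun a b => by rw [h0 a, h0 b]⟩
    rw [Module.finrank_zero_of_subsingleton]
    exact Nat.zero_le _
  · push Not at h0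
    obtain ⟨f₁, hf₁⟩ := h0
    apply finrank_le_one f₁
    intro f₂
    have hinj : Function.Injective f₁ :=
      (IsIrreducible.injective_or_eq_zero f₁).resolve_right hf₁
    obtain ⟨p, hp⟩ := exists_retraction ρ π f₁ hinj
    obtain ⟨c, hc⟩ := Cfsg.Agent.Helper81.schur_scalar ρ (p.toLinearMap ∘ₗ f₂.toLinearMap) (by
      intro g
      rw [LinearMap.comp_assoc, f₂.isIntertwining', ← LinearMap.comp_assoc, p.isIntertwining',
        LinearMap.comp_assoc])
    refine ⟨c, ?_⟩
    have key := hcomm (f₁.toLinearMap ∘ₗ p.toLinearMap) (f₂.toLinearMap ∘ₗ p.toLinearMap)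
      (by
        intro g
        rw [LinearMap.comp_assoc, p.isIntertwining', ← LinearMap.comp_assoc, f₁.isIntertwining',
          LinearMap.comp_assoc])
      (by
        intro g
        rw [LinearMap.comp_assoc, p.isIntertwining', ← LinearMap.comp_assoc, f₂.isIntertwining',
          LinearMap.comp_assoc])
    ext v
    have h1 := LinearMap.congr_fun key (f₁ v)
    simp only [LinearMap.comp_apply, IntertwiningMap.toLinearMap_apply, hp] at h1
    have h2 := LinearMap.congr_fun hc v
    simp only [LinearMap.comp_apply, IntertwiningMap.toLinearMap_apply, LinearMap.smul_apply,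
      LinearMap.id_apply] at h2
    rw [h2, map_smul] at h1
    exact h1

/-- If every irreducible subrepresentation of `π` has multiplicity at most one in `π`, then the
commutant of `π` is commutative. -/
theorem comm_of_finrank_le_one [FiniteDimensional k V] (π : Representation k G V)
    (h : ∀ W : Subrepresentation π, W.toRepresentation.IsIrreducible →
      Module.finrank k (IntertwiningMap W.toRepresentation π) ≤ 1)
    (S T : V →ₗ[k] V) (hS : ∀ g, S ∘ₗ π g = π g ∘ₗ S) (hT : ∀ g, T ∘ₗ π g = π g ∘ₗ T) :
    S ∘ₗ T = T ∘ₗ S := by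
  by_contra hne
  have hSg : ∀ g v, S (π g v) = π g (S v) := fun g v => LinearMap.congr_fun (hS g) v
  have hTg : ∀ g v, T (π g v) = π g (T v) := fun g v => LinearMap.congr_fun (hT g) v
  let K : Subrepresentation π :=
    { toSubmodule := LinearMap.ker (S ∘ₗ T - T ∘ₗ S)
      apply_mem_toSubmodule := by
        intro g v hv
        rw [LinearMap.mem_ker] at hv ⊢
        simp only [LinearMap.sub_apply, LinearMap.comp_apply] at hv ⊢
        rw [hTg, hSg, hSg, hTg, ← map_sub, hv, map_zero] }
  obtain ⟨U, hU⟩ := exists_isCompl K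
  have hU0 : U.toSubmodule ≠ ⊥ := by
    intro hbot
    have hUb : U = ⊥ := Subrepresentation.toSubmodule_injective hbot
    rw [hUb] at hU
    have hK : K = ⊤ := eq_top_of_isCompl_bot hU
    apply hne
    ext v
    have hv : v ∈ K := by rw [hK]; trivial
    have hv' : v ∈ LinearMap.ker (S ∘ₗ T - T ∘ₗ S) := hv
    rw [LinearMap.mem_ker, LinearMap.sub_apply, sub_eq_zero] at hv'
    exact hv'
  obtain ⟨W, hWU, hW0, hWirr⟩ := exists_irreducible_le π _ U rfl hU0
  have hfr := h W hWirr
  -- the inclusion
  let ι : IntertwiningMap W.toRepresentation π :=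
    ⟨W.toSubmodule.subtype, fun g => by ext v; rfl⟩
  have hι0 : ι ≠ 0 := by
    intro h0
    apply hW0
    rw [Submodule.eq_bot_iff]
    intro w hw
    have := DFunLike.congr_fun h0 ⟨w, hw⟩
    exact this
  have hspan : ∀ f : IntertwiningMap W.toRepresentation π, ∃ c : k, c • ι = f := by
    have h1 : Module.finrank k (IntertwiningMap W.toRepresentation π) = 1 := by
      apply le_antisymm hfr
      rw [Nat.succ_le_iff, Module.finrank_pos_iff_exists_ne_zero]
      exact ⟨ι, hι0⟩
    exact (finrank_eq_one_iff_of_nonzero' ι hι0).mp h1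
  -- each intertwiner acts on W by a scalar
  have hscal : ∀ R : V →ₗ[k] V, (∀ g, R ∘ₗ π g = π g ∘ₗ R) →
      ∃ c : k, ∀ w ∈ W.toSubmodule, R w = c • w := by
    intro R hR
    let Rι : IntertwiningMap W.toRepresentation π :=
      ⟨R ∘ₗ W.toSubmodule.subtype, fun g => by
        ext v
        exact LinearMap.congr_fun (hR g) v.1⟩
    obtain ⟨c, hc⟩ := hspan Rι
    refine ⟨c, fun w hw => ?_⟩
    have := DFunLike.congr_fun hc ⟨w, hw⟩
    exact this.symm
  obtain ⟨a, ha⟩ := hscal S hS
  obtain ⟨b, hb⟩ := hscal T hT
  apply hW0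
  rw [Submodule.eq_bot_iff]
  intro w hw
  have hwK : w ∈ K := by
    change w ∈ LinearMap.ker (S ∘ₗ T - T ∘ₗ S)
    rw [LinearMap.mem_ker, LinearMap.sub_apply, LinearMap.comp_apply, LinearMap.comp_apply,
      hb w hw, ha w hw, map_smul, map_smul, ha w hw, hb w hw, smul_smul, smul_smul, mul_comm,
      sub_self]
  have hwU : w ∈ U := hWU hw
  have : w ∈ K ⊓ U := ⟨hwK, hwU⟩
  rw [hU.inf_eq_bot] at this
  exact this

end commutant

section
variable {G : Type*} [Group G] [Fintype G] {Ω : Type*} [Fintype Ω] [MulAction G Ω]

theorem permRep_character (g : G) :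
    (Cfsg.permRep ℂ G Ω).character g = (Nat.card (MulAction.fixedBy Ω g) : ℂ) := by
  classical
  rw [Representation.character, LinearMap.trace_eq_matrix_trace ℂ (Pi.basisFun ℂ Ω)]
  rw [Matrix.trace]
  simp only [Matrix.diag_apply, LinearMap.toMatrix_apply, Pi.basisFun_apply, Pi.basisFun_repr]
  have h1 : ∀ x : Ω, (Cfsg.permRep ℂ G Ω) g (Pi.single x (1:ℂ)) x
      = if g • x = x then 1 else 0 := by
    intro x
    change (Pi.single x (1:ℂ) : Ω → ℂ) (g⁻¹ • x) = _
    rw [Pi.single_apply]
    have : (g⁻¹ • x = x) ↔ (g • x = x) := by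
      rw [inv_smul_eq_iff]; exact eq_comm
    simp only [this]
  simp only [h1]
  rw [Finset.sum_boole, Nat.card_eq_fintype_card]
  congr 1
  rw [Fintype.card_subtype]
  rfl

/-- The multiplicity formula: inner product of the permutation character with the character
of `ρ` equals the dimension of the space of intertwiners `ρ → permRep`. -/
theorem classInner_perm_eq_finrank {V : Type*} [AddCommGroup V] [Module ℂ V]
    [FiniteDimensional ℂ V] (ρ : Representation ℂ G V) :
    Cfsg.classInner (fun g : G => (Nat.card (MulAction.fixedBy Ω g) : ℂ)) ρ.character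
      = (Module.finrank ℂ (IntertwiningMap ρ (Cfsg.permRep ℂ G Ω)) : ℂ) := by
  have hne : (Nat.card G : ℂ) ≠ 0 := by
    have : 0 < Nat.card G := Nat.card_pos
    exact_mod_cast this.ne'
  have : Invertible (Nat.card G : ℂ) := invertibleOfNonzero hne
  rw [← card_inv_mul_sum_char_mul_char_eq_finrank ρ (Cfsg.permRep ℂ G Ω)]
  unfold Cfsg.classInner
  congr 1
  refine Finset.sum_congr rfl (fun g _ => ?_)
  rw [permRep_character, Cfsg.Agent.Helper79.char_inv]

end

end Cfsg.Agent.Helper61.MultFree
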