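import Mathlib
import Cfsg.Agent.Helper61.MultFree
import Cfsg.Agent.Helper61.Rank3
import Cfsg.Agent.Helper79.Linear

/-!
# Rank three graphs: the representation-theoretic input
-/

set_option autoImplicit false
set_option linter.unusedSectionVars false

namespace Cfsg.Agent.Helper61.Rank3

open MulAction Cfsg.Agent.Helper61.Orbital Cfsg.Agent.Helper61.MultFree Representation
open scoped Classical

section rep
variable {G : Type*} [Group G] {Ω : Type*} [Fintype Ω] [MulAction G Ω]

/-- A matrix invariant under the diagonal action gives an intertwiner of the permutation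
representation. -/
theorem toLin'_comm (M : Matrix Ω Ω ℂ) (hM : ∀ (g : G) x y, M (g • x) (g • y) = M x y) (g : G) :
    Matrix.toLin' M ∘ₗ (Cfsg.permRep ℂ G Ω) g = (Cfsg.permRep ℂ G Ω) g ∘ₗ Matrix.toLin' M := by
  refine LinearMap.ext (fun f => ?_)
  funext x
  change (Matrix.toLin' M ((Cfsg.permRep ℂ G Ω) g f)) x = (Matrix.toLin' M f) (g⁻¹ • x)
  rw [Matrix.toLin'_apply, Matrix.toLin'_apply, Matrix.mulVec, Matrix.mulVec, dotProduct,
    dotProduct]
  rw [← Equiv.sum_comp (MulAction.toPerm g)]
  refine Finset.sum_congr rfl (fun y _ => ?_)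
  change M x (g • y) * f (g⁻¹ • (g • y)) = M (g⁻¹ • x) y * f y
  rw [inv_smul_smul, ← hM g (g⁻¹ • x) y, smul_inv_smul]

/-- The range of an invariant matrix, as a subrepresentation. -/
noncomputable def rangeSubrep (M : Matrix Ω Ω ℂ) (hM : ∀ (g : G) x y, M (g • x) (g • y) = M x y) :
    Subrepresentation (Cfsg.permRep ℂ G Ω) where
  toSubmodule := LinearMap.range (Matrix.toLin' M)
  apply_mem_toSubmodule := by
    rintro g _ ⟨f, rfl⟩
    refine ⟨(Cfsg.permRep ℂ G Ω) g f, ?_⟩
    exact LinearMap.congr_fun (toLin'_comm M hM g) f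

theorem finrank_range_of_idem (P : Matrix Ω Ω ℂ) (c : ℂ) (hc : c ≠ 0) (hP : P * P = c • P) :
    (Module.finrank ℂ (LinearMap.range (Matrix.toLin' P)) : ℂ) = c⁻¹ * P.trace := by
  set Q : (Ω → ℂ) →ₗ[ℂ] (Ω → ℂ) := c⁻¹ • Matrix.toLin' P with hQ
  have hrange : LinearMap.range Q = LinearMap.range (Matrix.toLin' P) := by
    apply le_antisymm
    · rintro _ ⟨f, rfl⟩
      exact ⟨c⁻¹ • f, by simp [hQ]⟩
    · rintro _ ⟨f, rfl⟩
      refine ⟨c • f, ?_⟩
      rw [hQ, LinearMap.smul_apply, map_smul, smul_smul, inv_mul_cancel₀ hc, one_smul]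
  have hPP : ∀ f, Matrix.toLin' P (Matrix.toLin' P f) = c • Matrix.toLin' P f := by
    intro f
    rw [← LinearMap.comp_apply, ← Matrix.toLin'_mul, hP, map_smul, LinearMap.smul_apply]
  have hproj : LinearMap.IsProj (LinearMap.range Q) Q := by
    refine ⟨fun x => ⟨x, rfl⟩, ?_⟩
    rintro _ ⟨f, rfl⟩
    simp only [hQ, LinearMap.smul_apply, map_smul, hPP, smul_smul]
    congr 1
    rw [inv_mul_cancel₀ hc, mul_one]
  have htr := hproj.trace
  rw [hrange] at htr
  rw [← htr, hQ, map_smul, Matrix.trace_toLin'_eq, smul_eq_mul]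

section constituents
variable [Fintype G] [IsPretransitive G Ω]

/-- An irreducible subrepresentation of the permutation module inside the sum-zero functions has
a non-principal irreducible character which is a constituent of the permutation character. -/
theorem char_of_irr_sub (W : Subrepresentation (Cfsg.permRep ℂ G Ω))
    (hW : W.toRepresentation.IsIrreducible) (hsum : ∀ f ∈ W.toSubmodule, ∑ x, f x = 0) :
    Cfsg.IsIrrCharacter G W.toRepresentation.character ∧
    Cfsg.classInner (fun g : G => (Nat.card (MulAction.fixedBy Ω g) : ℂ))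
      W.toRepresentation.character ≠ 0 ∧
    W.toRepresentation.character ≠ fun _ => 1 := by
  have hne : (Nat.card G : ℂ) ≠ 0 := by
    have : 0 < Nat.card G := Nat.card_pos
    exact_mod_cast this.ne'
  have : Invertible (Nat.card G : ℂ) := invertibleOfNonzero hne
  have hnt : Nontrivial W.toSubmodule :=
    Cfsg.Agent.Helper81.nontrivial_of_irreducible W.toRepresentation
  refine ⟨Cfsg.Agent.Helper80.isIrrCharacter_of_rep _ hW, ?_, ?_⟩
  · rw [classInner_perm_eq_finrank]
    let ι : IntertwiningMap W.toRepresentation (Cfsg.permRep ℂ G Ω) :=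
      ⟨W.toSubmodule.subtype, fun g => by ext v; rfl⟩
    have hι0 : ι ≠ 0 := by
      intro h0
      obtain ⟨w, hw⟩ := exists_ne (0 : W.toSubmodule)
      apply hw
      have := DFunLike.congr_fun h0 w
      exact Subtype.ext this
    have hpos : 0 < Module.finrank ℂ (IntertwiningMap W.toRepresentation (Cfsg.permRep ℂ G Ω)) := by
      rw [Module.finrank_pos_iff_exists_ne_zero]
      exact ⟨ι, hι0⟩
    exact_mod_cast hpos.ne'
  · intro hψ
    have h1 := card_inv_mul_sum_char_eq_finrank W.toRepresentation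
    rw [hψ] at h1
    simp only [Finset.sum_const, Finset.card_univ, nsmul_eq_mul, mul_one] at h1
    rw [← Nat.card_eq_fintype_card, inv_mul_cancel₀ hne] at h1
    have h2 : Module.finrank ℂ (invariants W.toRepresentation) = 1 := by exact_mod_cast h1.symm
    have hpos : 0 < Module.finrank ℂ (invariants W.toRepresentation) := by omega
    have hnt' : Nontrivial (invariants W.toRepresentation) := Module.nontrivial_of_finrank_pos hpos
    obtain ⟨⟨w, hwinv⟩, hw0⟩ := exists_ne (0 : invariants W.toRepresentation)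
    apply hw0
    apply Subtype.ext
    apply Subtype.ext
    -- w.1 is a G-invariant function, hence constant, hence zero
    have hconst : ∀ (g : G) (x : Ω), (w : Ω → ℂ) (g⁻¹ • x) = (w : Ω → ℂ) x := by
      intro g x
      have := hwinv g
      have h3 : ((W.toRepresentation g w : W.toSubmodule) : Ω → ℂ) = (w : Ω → ℂ) := by rw [this]
      exact congrFun h3 x
    have hsumw := hsum (w : Ω → ℂ) w.2
    funext x
    have hall : ∀ y, (w : Ω → ℂ) y = (w : Ω → ℂ) x := by
      intro y
      obtain ⟨g, hg⟩ := exists_smul_eq G x y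
      rw [← hconst g y, ← hg, inv_smul_smul]
    rw [Finset.sum_congr rfl (fun y _ => hall y)] at hsumw
    simp only [Finset.sum_const, Finset.card_univ, nsmul_eq_mul] at hsumw
    have hcard : (Fintype.card Ω : ℂ) ≠ 0 := by
      have : 0 < Fintype.card Ω := Fintype.card_pos_iff.mpr ⟨x⟩
      exact_mod_cast this.ne'
    rcases mul_eq_zero.mp hsumw with h4 | h4
    · exact absurd h4 hcard
    · exact h4

/-- Under the hypotheses of the Wielandt-type statement, a nonzero invariant matrix with zero
column sums has rank at least `m - 1`. -/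
theorem le_finrank_range {m : ℕ} (χ₁ χ₂ : G → ℂ) (h₁ : Cfsg.IsIrrCharacter G χ₁)
    (h₂ : Cfsg.IsIrrCharacter G χ₂)
    (hπ : (fun g : G => (Nat.card (MulAction.fixedBy Ω g) : ℂ)) = fun g => 1 + χ₁ g + χ₂ g)
    (hd₁ : χ₁ 1 = (m : ℂ) - 1) (hd₂ : χ₂ 1 = m)
    (P : Matrix Ω Ω ℂ) (hP : ∀ (g : G) x y, P (g • x) (g • y) = P x y) (hP0 : P ≠ 0)
    (hcol : ∀ y, ∑ x, P x y = 0) :
    m ≤ Module.finrank ℂ (LinearMap.range (Matrix.toLin' P)) + 1 := by
  have hW₀ : (rangeSubrep P hP).toSubmodule ≠ ⊥ := by
    intro hbot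
    apply hP0
    have h1 : LinearMap.range (Matrix.toLin' P) = ⊥ := hbot
    rw [LinearMap.range_eq_bot] at h1
    exact (LinearEquiv.map_eq_zero_iff _).mp h1
  obtain ⟨W, hWle, hW0, hWirr⟩ :=
    exists_irreducible_le (Cfsg.permRep ℂ G Ω) _ (rangeSubrep P hP) rfl hW₀
  have hsum : ∀ f ∈ W.toSubmodule, ∑ x, f x = 0 := by
    intro f hf
    have hf' : f ∈ LinearMap.range (Matrix.toLin' P) := hWle hf
    obtain ⟨u, rfl⟩ := hf'
    simp only [Matrix.toLin'_apply, Matrix.mulVec, dotProduct]
    rw [Finset.sum_comm]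
    apply Finset.sum_eq_zero
    intro y _
    rw [← Finset.sum_mul, hcol y, zero_mul]
  obtain ⟨hirr, hne0, hne1⟩ := char_of_irr_sub W hWirr hsum
  have hψ : W.toRepresentation.character = χ₁ ∨ W.toRepresentation.character = χ₂ := by
    by_contra hcon
    push Not at hcon
    apply hne0
    have hπ' : (fun g : G => (Nat.card (MulAction.fixedBy Ω g) : ℂ))
        = ((fun _ => 1 : G → ℂ) + χ₁) + χ₂ := by
      rw [hπ]; funext g; simp [Pi.add_apply]
    rw [hπ', Cfsg.Agent.Helper79.classInner_add_left, Cfsg.Agent.Helper79.classInner_add_left]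
    have e0 := Cfsg.Agent.Helper79.classInner_irr_ne
      (χ := ⟨fun _ => 1, Cfsg.Agent.Helper79.isIrrCharacter_one⟩)
      (ψ := ⟨W.toRepresentation.character, hirr⟩)
      (fun h => hne1 (congrArg Subtype.val h).symm)
    have e1 := Cfsg.Agent.Helper79.classInner_irr_ne (χ := ⟨χ₁, h₁⟩)
      (ψ := ⟨W.toRepresentation.character, hirr⟩)
      (fun h => hcon.1 (congrArg Subtype.val h).symm)
    have e2 := Cfsg.Agent.Helper79.classInner_irr_ne (χ := ⟨χ₂, h₂⟩)
      (ψ := ⟨W.toRepresentation.character, hirr⟩)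
      (fun h => hcon.2 (congrArg Subtype.val h).symm)
    simp only at e0 e1 e2
    rw [e0, e1, e2]
    ring
  have hdim : (Module.finrank ℂ W.toSubmodule : ℂ) = W.toRepresentation.character 1 :=
    (Representation.char_one W.toRepresentation).symm
  have hmono : Module.finrank ℂ W.toSubmodule
      ≤ Module.finrank ℂ (LinearMap.range (Matrix.toLin' P)) :=
    Submodule.finrank_mono (fun f hf => hWle hf)
  rcases hψ with hψ | hψ
  · rw [hψ, hd₁] at hdim
    have : (Module.finrank ℂ W.toSubmodule : ℂ) + 1 = m := by rw [hdim]; ring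
    have : Module.finrank ℂ W.toSubmodule + 1 = m := by exact_mod_cast this
    omega
  · rw [hψ, hd₂] at hdim
    have : Module.finrank ℂ W.toSubmodule = m := by exact_mod_cast hdim
    omega

end constituents

end rep

end Cfsg.Agent.Helper61.Rank3
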