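import Mathlib

/-!
# The arithmetic of strongly regular graphs on `2m` points with eigenvalue multiplicities
`m - 1` and `m`
-/

set_option autoImplicit false

namespace Cfsg.Agent.Helper61.Rank3

theorem srg_arith (m k l lam mu r s : ℤ) (hk : 1 ≤ k) (hl : 1 ≤ l)
    (hkl : k + l + 1 = 2 * m)
    (h1 : r + s = lam - mu) (h2 : r * s = mu - k) (h3 : k + (m - 1) * r + m * s = 0)
    (h4 : k * (k - lam - 1) = l * mu) (hmu : 1 ≤ mu) (hmu' : 1 ≤ 2 * m - 2 * k + lam) :
    ∃ a : ℤ, 1 ≤ a ∧ m = 2 * a ^ 2 + 2 * a + 1 ∧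
      ((k = a * (2 * a + 1) ∧ l = (a + 1) * (2 * a + 1)) ∨
        (k = (a + 1) * (2 * a + 1) ∧ l = a * (2 * a + 1))) := by
  have hm : 2 ≤ m := by omega
  obtain ⟨t, ht⟩ : ∃ t, t = lam - mu := ⟨_, rfl⟩
  have hr : r = k + m * t := by
    rw [ht]; linear_combination (-1 : ℤ) * h3 + m * h1
  have hs : s = -k - (m - 1) * t := by
    rw [ht]; linear_combination h3 - (m - 1) * h1
  -- t ≤ -1
  have ht1 : t ≤ -1 := by
    by_contra hcon
    push Not at hcon
    have ht0 : 0 ≤ t := by omega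
    have hr' : k ≤ r := by rw [hr]; nlinarith
    have hs' : k ≤ -s := by rw [hs]; nlinarith
    have hprod : k * k ≤ r * (-s) := by nlinarith
    have : r * (-s) = k - mu := by linear_combination (-1 : ℤ) * h2
    nlinarith
  -- t ≥ -1
  have ht2 : -1 ≤ t := by
    by_contra hcon
    push Not at hcon
    have ht0 : t ≤ -2 := by omega
    have hr' : l ≤ -1 - r := by rw [hr]; nlinarith
    have hs' : l ≤ 1 + s := by rw [hs]; nlinarith
    have hprod : l * l ≤ (-1 - r) * (1 + s) := by nlinarith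
    have : (-1 - r) * (1 + s) = k - 1 - lam := by linear_combination (-1 : ℤ) * h2 - h1
    nlinarith
  have htm : t = -1 := by omega
  subst htm
  have hlam : lam = mu - 1 := by omega
  subst hlam
  obtain ⟨a₀, ha₀⟩ : ∃ a₀, a₀ = k - m := ⟨_, rfl⟩
  have hk' : k = m + a₀ := by omega
  have hmu2 : mu = m - a₀ ^ 2 := by
    have : r * s = mu - k := h2
    rw [hr, hs, hk'] at this
    linear_combination (-1 : ℤ) * this
  have hl' : l = m - 1 - a₀ := by omega
  have hmm : m * (m - (2 * a₀ ^ 2 + 2 * a₀ + 1)) = 0 := by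
    have := h4
    rw [hk', hmu2, hl'] at this
    linear_combination (-1 : ℤ) * this
  have hm2 : m = 2 * a₀ ^ 2 + 2 * a₀ + 1 := by
    rcases mul_eq_zero.mp hmm with h | h
    · omega
    · omega
  have ha₀ne : a₀ ≠ 0 ∧ a₀ ≠ -1 := by
    constructor
    · rintro rfl
      have : k * (k - (mu - 1) - 1) = l * mu := h4
      rw [hk', hmu2, hl'] at this
      nlinarith
    · rintro rfl
      have : k * (k - (mu - 1) - 1) = l * mu := h4
      rw [hk', hmu2, hl'] at this
      nlinarith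
  rcases le_or_gt 1 a₀ with hpos | hneg
  · refine ⟨a₀, hpos, hm2, Or.inr ⟨?_, ?_⟩⟩
    · rw [hk', hm2]; ring
    · rw [hl', hm2]; ring
  · have hle : a₀ ≤ -2 := by omega
    refine ⟨-a₀ - 1, by omega, ?_, Or.inl ⟨?_, ?_⟩⟩
    · rw [hm2]; ring
    · rw [hk', hm2]; ring
    · rw [hl', hm2]; ring

end Cfsg.Agent.Helper61.Rank3
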