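import Mathlib
import Cfsg.Agent.Helper61.Rank3Rep
import Cfsg.Agent.Helper61.SrgArith

/-!
# Wielandt's theorem on rank 3 groups of degree `2m` with constituents of degrees `m - 1`, `m`
-/

set_option autoImplicit false
set_option linter.unusedSectionVars false
set_option linter.overlappingInstances false

namespace Cfsg.Agent.Helper61.Rank3

open MulAction Cfsg.Agent.Helper61.Orbital Cfsg.Agent.Helper61.MultFree Representation
open scoped Classical

section main
variable {G : Type*} [Group G] [Fintype G] {Ω : Type*} [Fintype Ω] [MulAction G Ω]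

theorem adjM_inv {R : Ω → Ω → Prop} (hR : Inv G R) (g : G) (x y : Ω) :
    adjM R (g • x) (g • y) = adjM R x y := by
  rw [adjM_apply, adjM_apply]
  simp only [hR g x y]

theorem specP_inv {R : Ω → Ω → Prop} (hR : Inv G R) (k N s : ℂ) (g : G) (x y : Ω) :
    specP (adjM R) k N s (g • x) (g • y) = specP (adjM R) k N s x y := by
  unfold specP
  simp only [Matrix.sub_apply, Matrix.smul_apply, allOnes_apply, adjM_inv hR]
  congr 2
  by_cases hxy : x = y
  · subst hxy; simp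
  · rw [Matrix.one_apply_ne hxy, Matrix.one_apply_ne (fun h => hxy (smul_left_cancel g h))]

theorem specP_col_sum (R : Ω → Ω → Prop) (k : ℕ)
    (hk : ∀ y, (Finset.univ.filter (fun z => R z y)).card = k) (N s : ℂ) (hN : N ≠ 0)
    (hcard : (Fintype.card Ω : ℂ) = N) (y : Ω) :
    ∑ x, specP (adjM R) k N s x y = 0 := by
  unfold specP
  simp only [Matrix.sub_apply, Matrix.smul_apply, allOnes_apply, smul_eq_mul, mul_one,
    Finset.sum_sub_distrib, Finset.sum_const, Finset.card_univ, nsmul_eq_mul]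
  have h1 : ∑ x, adjM R x y = (k : ℂ) := by
    rw [← hk y, Finset.card_filter]
    push_cast
    rfl
  have h2 : ∑ x, s * (1 : Matrix Ω Ω ℂ) x y = s := by
    rw [← Finset.mul_sum]
    simp [Matrix.one_apply]
  rw [h1, h2, hcard, mul_div_cancel₀ _ hN]
  ring

section params
variable [IsPretransitive G Ω] {a b₁ b₂ : Ω}

/-- The row-sum identity `k² = (k - μ) + (λ - μ) k + μ n`. -/
theorem srg_rowsum (h : Rank3Data G a b₁ b₂)
    (hsymm : ∀ x y, Orb G a b₁ x y → Orb G a b₁ y x) :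
    (Nat.card (orbit (stabilizer G a) b₁) : ℂ) * (Nat.card (orbit (stabilizer G a) b₁) : ℂ) =
      ((Nat.card (orbit (stabilizer G a) b₁) : ℂ) - (cnt (Orb G a b₁) (Orb G a b₁) a b₂ : ℂ))
      + ((cnt (Orb G a b₁) (Orb G a b₁) a b₁ : ℂ) - (cnt (Orb G a b₁) (Orb G a b₁) a b₂ : ℂ))
          * (Nat.card (orbit (stabilizer G a) b₁) : ℂ)
      + (cnt (Orb G a b₁) (Orb G a b₁) a b₂ : ℂ) * (Fintype.card Ω : ℂ) := by
  have hAA := srg_matrix h hsymm
  have hAJ := adjM_mul_allOnes (Orb G a b₁) _ (fun x => card_nbrs (G := G) a b₁ x)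
  have hJJ := allOnes_mul_allOnes (Ω := Ω)
  have h1 := congrArg (fun M => M * allOnes Ω) hAA
  simp only [Matrix.mul_assoc, hAJ, add_mul, smul_mul_assoc, Matrix.one_mul, hJJ,
    Matrix.mul_smul] at h1
  have h2 := congrFun (congrFun h1 a) a
  simp only [Matrix.add_apply, Matrix.smul_apply, allOnes_apply, smul_eq_mul, mul_one] at h2
  exact h2

variable {m : ℕ} (χ₁ χ₂ : G → ℂ) (h₁ : Cfsg.IsIrrCharacter G χ₁) (h₂ : Cfsg.IsIrrCharacter G χ₂)
    (hπ : (fun g : G => (Nat.card (MulAction.fixedBy Ω g) : ℂ)) = fun g => 1 + χ₁ g + χ₂ g)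
    (hd₁ : χ₁ 1 = (m : ℂ) - 1) (hd₂ : χ₂ 1 = m)
include h₁ h₂ hπ hd₁ hd₂

/-- The dimension of the `r`-eigenspace. -/
theorem spectral_dim (h : Rank3Data G a b₁ b₂)
    (hsymm : ∀ x y, Orb G a b₁ x y → Orb G a b₁ y x) (r s : ℂ)
    (hrs1 : r + s = (cnt (Orb G a b₁) (Orb G a b₁) a b₁ : ℂ)
      - (cnt (Orb G a b₁) (Orb G a b₁) a b₂ : ℂ))
    (hrs2 : r * s = (cnt (Orb G a b₁) (Orb G a b₁) a b₂ : ℂ)
      - (Nat.card (orbit (stabilizer G a) b₁) : ℂ))
    (hne : r ≠ s) :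
    ∃ d : ℕ, m ≤ d + 1 ∧ (d : ℂ) = (r - s)⁻¹ * (-(s * (Fintype.card Ω : ℂ))
      - ((Nat.card (orbit (stabilizer G a) b₁) : ℂ) - s)) := by
  have hN : (Fintype.card Ω : ℂ) ≠ 0 := by
    have : 0 < Fintype.card Ω := Fintype.card_pos_iff.mpr ⟨a⟩
    exact_mod_cast this.ne'
  have hAA := srg_matrix h hsymm
  have hAJ := adjM_mul_allOnes (Orb G a b₁) _ (fun x => card_nbrs (G := G) a b₁ x)
  have hJA := allOnes_mul_adjM (Orb G a b₁) _ (fun y => card_in_nbrs (G := G) (a := a) (b₁ := b₁) y)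
  have hJJ := allOnes_mul_allOnes (Ω := Ω)
  have h4 := srg_rowsum h hsymm
  set P := specP (adjM (Orb G a b₁)) (Nat.card (orbit (stabilizer G a) b₁) : ℂ)
    (Fintype.card Ω : ℂ) s with hPdef
  have hPP : P * P = (r - s) • P :=
    specP_mul_self _ _ _ _ _ r s hN hAA hAJ hJA hJJ hrs1 hrs2 h4
  have hPinv : ∀ (g : G) x y, P (g • x) (g • y) = P x y := specP_inv (inv_orb a b₁) _ _ _
  have hPcol : ∀ y, ∑ x, P x y = 0 :=
    specP_col_sum _ _ (fun y => card_in_nbrs (G := G) (a := a) (b₁ := b₁) y) _ _ hN rfl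
  have hP0 : P ≠ 0 := by
    intro h0
    have e1 := congrFun (congrFun h0 a) b₁
    have e2 := congrFun (congrFun h0 a) b₂
    simp only [hPdef, specP, Matrix.sub_apply, Matrix.smul_apply, allOnes_apply, smul_eq_mul,
      mul_one, Matrix.zero_apply, adjM_apply, Matrix.one_apply_ne (Ne.symm h.hb₁),
      Matrix.one_apply_ne (Ne.symm h.hb₂), if_pos (orb_self (G := G) a b₁), mul_zero] at e1 e2
    have hnadj : ¬ Orb G a b₁ a b₂ := fun hc => h.not_both hc (orb_self a b₂)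
    rw [if_neg hnadj] at e2
    have : (1 : ℂ) = 0 := by linear_combination e1 - e2
    exact one_ne_zero this
  have hrs : r - s ≠ 0 := sub_ne_zero.mpr hne
  refine ⟨Module.finrank ℂ (LinearMap.range (Matrix.toLin' P)),
    le_finrank_range χ₁ χ₂ h₁ h₂ hπ hd₁ hd₂ P hPinv hP0 hPcol, ?_⟩
  rw [finrank_range_of_idem P (r - s) hrs hPP, hPdef,
    trace_specP _ (trace_adjM_irrefl _ (fun x => h.irrefl x)) _ _ _ hN rfl]

omit h₁ h₂ hπ hd₁ hd₂ in
theorem cnt_le (R S : Ω → Ω → Prop) (x y : Ω) :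
    cnt R S x y ≤ (Finset.univ.filter (fun z => R x z)).card := by
  unfold cnt
  apply Finset.card_le_card
  intro z hz
  simp only [Finset.mem_filter, Finset.mem_univ, true_and] at hz ⊢
  exact hz.1

theorem wielandt_rank3 [hprim : IsPreprimitive G Ω] (hm : Fintype.card Ω = 2 * m)
    (h : Rank3Data G a b₁ b₂) :
    ∃ t : ℤ, 1 ≤ t ∧ (m : ℤ) = 2 * t ^ 2 + 2 * t + 1 ∧
      (((Nat.card (orbit (stabilizer G a) b₁) : ℤ) = t * (2 * t + 1) ∧
        (Nat.card (orbit (stabilizer G a) b₂) : ℤ) = (t + 1) * (2 * t + 1)) ∨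
       ((Nat.card (orbit (stabilizer G a) b₁) : ℤ) = (t + 1) * (2 * t + 1) ∧
        (Nat.card (orbit (stabilizer G a) b₂) : ℤ) = t * (2 * t + 1))) := by
  have hcard := h.card_eq
  have hk1 : 1 ≤ Nat.card (orbit (stabilizer G a) b₁) := by
    have : Nonempty (orbit (stabilizer G a) b₁) := ⟨⟨b₁, mem_orbit_self b₁⟩⟩
    exact Nat.card_pos
  have hl1 : 1 ≤ Nat.card (orbit (stabilizer G a) b₂) := by
    have : Nonempty (orbit (stabilizer G a) b₂) := ⟨⟨b₂, mem_orbit_self b₂⟩⟩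
    exact Nat.card_pos
  have hkl : Nat.card (orbit (stabilizer G a) b₁) ≠ Nat.card (orbit (stabilizer G a) b₂) := by
    omega
  have hsymm₁ : ∀ x y, Orb G a b₁ x y → Orb G a b₁ y x := fun x y => h.symm hkl
  have hsymm₂ : ∀ x y, Orb G a b₂ x y → Orb G a b₂ y x := fun x y => h.swap.symm (Ne.symm hkl)
  have hmu := mu_pos h hsymm₁
  have hmu₂ := mu_pos h.swap hsymm₂
  have hmuc := mu_compl h hsymm₁
  have h4 := srg_rowsum h hsymm₁
  have hmule : cnt (Orb G a b₁) (Orb G a b₁) a b₂ ≤ Nat.card (orbit (stabilizer G a) b₁) := by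
    rw [← card_nbrs (G := G) a b₁ a]
    exact cnt_le _ _ _ _
  generalize hkdef : Nat.card (orbit (stabilizer G a) b₁) = k at *
  generalize hldef : Nat.card (orbit (stabilizer G a) b₂) = l at *
  generalize hlamdef : cnt (Orb G a b₁) (Orb G a b₁) a b₁ = lam at *
  generalize hmudef : cnt (Orb G a b₁) (Orb G a b₁) a b₂ = mu at *
  generalize hmu₂def : cnt (Orb G a b₂) (Orb G a b₂) a b₁ = mu₂ at *
  rw [hm] at hcard h4 hmuc
  -- integer versions
  have h4z : (k : ℤ) * k = (k - mu) + ((lam : ℤ) - mu) * k + mu * (2 * m) := by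
    have : ((k : ℤ) * k : ℂ) = (((k - mu) + ((lam : ℤ) - mu) * k + mu * (2 * m) : ℤ) : ℂ) := by
      push_cast
      push_cast at h4
      exact h4
    exact_mod_cast this
  have hmucz : (mu₂ : ℤ) = 2 * m - 2 * k + lam := by
    have : ((mu₂ : ℤ) : ℂ) = ((2 * m - 2 * k + lam : ℤ) : ℂ) := by
      push_cast
      push_cast at hmuc
      exact hmuc
    exact_mod_cast this
  have hcardz : (k : ℤ) + l + 1 = 2 * m := by omega
  -- mu < k
  have hmult : mu < k := by
    rcases Nat.lt_or_ge mu k with hlt | hge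
    · exact hlt
    · exfalso
      have hmk : mu = k := le_antisymm hmule hge
      subst hmk
      have hk0 : (mu : ℤ) ≠ 0 := by omega
      have : (mu : ℤ) * ((lam : ℤ) - 2 * mu + 2 * m) = 0 := by linear_combination (-1 : ℤ) * h4z
      rcases mul_eq_zero.mp this with h0 | h0
      · exact hk0 h0
      · omega
  -- the eigenvalues
  obtain ⟨z, hz⟩ := IsAlgClosed.exists_eq_mul_self
    ((((lam : ℤ) - mu) ^ 2 + 4 * ((k : ℤ) - mu) : ℤ) : ℂ)
  have hz0 : z ≠ 0 := by
    rintro rfl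
    rw [mul_zero] at hz
    have : (((lam : ℤ) - mu) ^ 2 + 4 * ((k : ℤ) - mu) : ℤ) = 0 := by exact_mod_cast hz
    have hsq : 0 ≤ ((lam : ℤ) - mu) ^ 2 := sq_nonneg _
    omega
  set r : ℂ := (((lam : ℤ) - mu : ℤ) + z) / 2 with hrdef
  set s : ℂ := (((lam : ℤ) - mu : ℤ) - z) / 2 with hsdef
  have hrs1 : r + s = (lam : ℂ) - (mu : ℂ) := by
    rw [hrdef, hsdef]; push_cast; ring
  have hrs2 : r * s = (mu : ℂ) - (k : ℂ) := by
    rw [hrdef, hsdef]
    have hz' := hz
    push_cast at hz' ⊢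
    linear_combination (1 / 4 : ℂ) * hz'
  have hne : r ≠ s := by
    intro heq
    apply hz0
    have : r - s = z := by rw [hrdef, hsdef]; ring
    rw [← this, heq, sub_self]
  obtain ⟨dr, hdr1, hdr2⟩ := spectral_dim χ₁ χ₂ h₁ h₂ hπ hd₁ hd₂ h hsymm₁ r s
    (by rw [hlamdef, hmudef]; exact hrs1) (by rw [hmudef, hkdef]; exact hrs2) hne
  obtain ⟨ds, hds1, hds2⟩ := spectral_dim χ₁ χ₂ h₁ h₂ hπ hd₁ hd₂ h hsymm₁ s r
    (by rw [hlamdef, hmudef, add_comm]; exact hrs1)
    (by rw [hmudef, hkdef, mul_comm]; exact hrs2) (Ne.symm hne)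
  rw [hkdef, hm] at hdr2 hds2
  have hrs : r - s ≠ 0 := sub_ne_zero.mpr hne
  have hsr : s - r ≠ 0 := sub_ne_zero.mpr (Ne.symm hne)
  have hsum : (dr : ℂ) + ds = 2 * m - 1 := by
    rw [hdr2, hds2]
    field_simp
    push_cast
    ring
  have hsumn : dr + ds + 1 = 2 * m := by
    have : ((dr + ds + 1 : ℕ) : ℂ) = ((2 * m : ℕ) : ℂ) := by
      push_cast
      linear_combination hsum
    exact_mod_cast this
  -- the trace identity, in one of two forms
  have hdr3 : (dr : ℂ) * (r - s) = -(s * (2 * m : ℕ)) - (k - s) := by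
    rw [hdr2]; field_simp
  have hds3 : (ds : ℂ) * (s - r) = -(r * (2 * m : ℕ)) - (k - r) := by
    rw [hds2]; field_simp
  have key : ∀ (r' s' : ℂ), r' + s' = (lam : ℂ) - (mu : ℂ) → r' * s' = (mu : ℂ) - (k : ℂ) →
      (k : ℂ) + ((m : ℂ) - 1) * r' + m * s' = 0 →
      ∃ t : ℤ, 1 ≤ t ∧ (m : ℤ) = 2 * t ^ 2 + 2 * t + 1 ∧
        (((k : ℤ) = t * (2 * t + 1) ∧ (l : ℤ) = (t + 1) * (2 * t + 1)) ∨
         ((k : ℤ) = (t + 1) * (2 * t + 1) ∧ (l : ℤ) = t * (2 * t + 1))) := by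
    intro r' s' e1 e2 e3
    -- r', s' are integers
    have hs' : s' = ((-(k : ℤ) - ((m : ℤ) - 1) * ((lam : ℤ) - mu) : ℤ) : ℂ) := by
      push_cast
      linear_combination e3 - ((m : ℂ) - 1) * e1
    have hr' : r' = (((k : ℤ) + (m : ℤ) * ((lam : ℤ) - mu) : ℤ) : ℂ) := by
      push_cast
      linear_combination (-1 : ℂ) * e3 + (m : ℂ) * e1
    apply srg_arith (m : ℤ) k l lam mu ((k : ℤ) + (m : ℤ) * ((lam : ℤ) - mu))
      (-(k : ℤ) - ((m : ℤ) - 1) * ((lam : ℤ) - mu)) (by omega) (by omega) hcardz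
    · ring
    · have : ((((k : ℤ) + (m : ℤ) * ((lam : ℤ) - mu)) *
          (-(k : ℤ) - ((m : ℤ) - 1) * ((lam : ℤ) - mu)) : ℤ) : ℂ) = (((mu : ℤ) - k : ℤ) : ℂ) := by
        rw [Int.cast_mul, ← hr', ← hs', e2]
        push_cast
        ring
      exact_mod_cast this
    · ring
    · have : (l : ℤ) = 2 * m - 1 - k := by omega
      rw [this]
      linear_combination h4z
    · omega
    · omega
  rcases Nat.lt_or_ge dr m with hlt | hge
  · -- dr = m - 1
    have hdrm : dr + 1 = m := by omega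
    apply key r s hrs1 hrs2
    have : (dr : ℂ) = (m : ℂ) - 1 := by
      have : ((dr + 1 : ℕ) : ℂ) = (m : ℂ) := by rw [hdrm]
      push_cast at this
      linear_combination this
    rw [this] at hdr3
    push_cast at hdr3
    linear_combination hdr3
  · -- dr = m, ds = m - 1
    have hdsm : ds + 1 = m := by omega
    apply key s r (by rw [add_comm]; exact hrs1) (by rw [mul_comm]; exact hrs2)
    have : (ds : ℂ) = (m : ℂ) - 1 := by
      have : ((ds + 1 : ℕ) : ℂ) = (m : ℂ) := by rw [hdsm]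
      push_cast at this
      linear_combination this
    rw [this] at hds3
    push_cast at hds3
    linear_combination hds3

end params

end main

end Cfsg.Agent.Helper61.Rank3
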