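import Mathlib

set_option autoImplicit false

namespace Cfsg.Agent.Helper61.Bochert

open Equiv

/-- If the supports of two permutations meet in exactly one point, their commutator is a 3-cycle. -/
theorem apply_inv_self' {α : Type*} (f : Perm α) (a : α) : f (f⁻¹ a) = a := by
  rw [← Perm.mul_apply, mul_inv_cancel, Perm.one_apply]

theorem inv_apply_self' {α : Type*} (f : Perm α) (a : α) : f⁻¹ (f a) = a := by
  rw [← Perm.mul_apply, inv_mul_cancel, Perm.one_apply]

theorem isThreeCycle_commutator {α : Type*} [DecidableEq α] [Fintype α] (x y : Perm α) (γ : α)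
    (hx : x γ ≠ γ) (hy : y γ ≠ γ) (hxy : ∀ ω, x ω ≠ ω → y ω ≠ ω → ω = γ) :
    (x * y * x⁻¹ * y⁻¹).IsThreeCycle := by
  have hxfix : ∀ ω, y ω ≠ ω → ω ≠ γ → x ω = ω := by
    intro ω h1 h2
    by_contra h
    exact h2 (hxy ω h h1)
  have hyfix : ∀ ω, x ω ≠ ω → ω ≠ γ → y ω = ω := by
    intro ω h1 h2
    by_contra h
    exact h2 (hxy ω h1 h)
  have hxinv : ∀ ω, x ω = ω → x⁻¹ ω = ω := fun ω h => by rw [Perm.inv_eq_iff_eq, h]
  have hyinv : ∀ ω, y ω = ω → y⁻¹ ω = ω := fun ω h => by rw [Perm.inv_eq_iff_eq, h]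
  have hxγ : x (x γ) ≠ x γ := fun h => hx (x.injective h)
  have hyγ : y (y γ) ≠ y γ := fun h => hy (y.injective h)
  have hne : y γ ≠ x γ := by
    intro h
    have h1 : x (y γ) ≠ y γ := by rw [h]; exact hxγ
    exact hy (hxy _ h1 hyγ)
  have key : x * y * x⁻¹ * y⁻¹ = swap γ (y γ) * swap γ (x γ) := by
    ext ω
    simp only [Perm.mul_apply]
    by_cases h1 : ω = γ
    · subst h1
      -- `ω = γ`
      have hu : y⁻¹ ω ≠ ω := by
        intro h
        rw [Perm.inv_eq_iff_eq] at h
        exact hy h.symm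
      have hyu : y (y⁻¹ ω) ≠ y⁻¹ ω := by
        rw [apply_inv_self']
        exact fun h => hu h.symm
      have hxu : x (y⁻¹ ω) = y⁻¹ ω := hxfix _ hyu hu
      rw [hxinv _ hxu, apply_inv_self', swap_apply_left,
        swap_apply_of_ne_of_ne hx (Ne.symm hne)]
    by_cases h2 : ω = x γ
    · subst h2
      have hyx : y (x γ) = x γ := hyfix _ hxγ hx
      rw [hyinv _ hyx, inv_apply_self', hxfix _ hyγ hy, swap_apply_right, swap_apply_left]
    by_cases h3 : ω = y γ
    · subst h3
      have hδ : x⁻¹ γ ≠ γ := by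
        intro h
        rw [Perm.inv_eq_iff_eq] at h
        exact hx h.symm
      have hxδ : x (x⁻¹ γ) ≠ x⁻¹ γ := by
        rw [apply_inv_self']
        exact fun h => hδ h.symm
      rw [inv_apply_self', hyfix _ hxδ hδ, apply_inv_self',
        swap_apply_of_ne_of_ne hy hne, swap_apply_right]
    rw [swap_apply_of_ne_of_ne h1 h2, swap_apply_of_ne_of_ne h1 h3]
    by_cases h4 : y ω = ω
    · rw [hyinv _ h4]
      by_cases h5 : x ω = ω
      · rw [hxinv _ h5, h4, h5]
      · have hv : x (x⁻¹ ω) ≠ x⁻¹ ω := by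
          rw [apply_inv_self']
          intro h
          rw [eq_comm, Perm.inv_eq_iff_eq] at h
          exact h5 h.symm
        have hvγ : x⁻¹ ω ≠ γ := by
          intro h
          rw [Perm.inv_eq_iff_eq] at h
          exact h2 h
        rw [hyfix _ hv hvγ, apply_inv_self']
    · have hxω : x ω = ω := hxfix _ h4 h1
      have hu : y (y⁻¹ ω) ≠ y⁻¹ ω := by
        rw [apply_inv_self']
        intro h
        rw [eq_comm, Perm.inv_eq_iff_eq] at h
        exact h4 h.symm
      have huγ : y⁻¹ ω ≠ γ := by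
        intro h
        rw [Perm.inv_eq_iff_eq] at h
        exact h3 h
      rw [hxinv _ (hxfix _ hu huγ), apply_inv_self', hxω]
  rw [key]
  exact Perm.isThreeCycle_swap_mul_swap_same (Ne.symm hy) (Ne.symm hx) hne

variable {Ω : Type*} [Fintype Ω] [DecidableEq Ω]

/-- If no non-identity element of `G` has support inside `Δ`, then `|G| · |Δ|! ≤ n!`. -/
theorem card_mul_factorial_le (G : Subgroup (Perm Ω)) (Δ : Finset Ω)
    (hP : ∀ g ∈ G, (∀ ω, ω ∉ Δ → g ω = ω) → g = 1) :
    Nat.card G * Nat.factorial Δ.card ≤ Nat.factorial (Fintype.card Ω) := by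
  classical
  let φ : Perm {ω // ω ∈ Δ} →* Perm Ω := Perm.ofSubtype
  have hφ : Function.Injective φ := Perm.ofSubtype_injective
  let f : G × Perm {ω // ω ∈ Δ} → Perm Ω := fun p => (p.1 : Perm Ω) * φ p.2
  have hf : Function.Injective f := by
    rintro ⟨g, σ⟩ ⟨g', σ'⟩ h
    change (g : Perm Ω) * φ σ = (g' : Perm Ω) * φ σ' at h
    have h1 : ((g' : Perm Ω))⁻¹ * (g : Perm Ω) = φ σ' * (φ σ)⁻¹ := by
      rw [inv_mul_eq_iff_eq_mul, ← mul_assoc, ← h, mul_assoc, mul_inv_cancel, mul_one]
    have h2 : ((g' : Perm Ω))⁻¹ * (g : Perm Ω) = 1 := by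
      apply hP _ (G.mul_mem (G.inv_mem g'.2) g.2)
      intro ω hω
      rw [h1, ← map_inv, ← map_mul]
      exact Perm.ofSubtype_apply_of_not_mem _ hω
    have h3 : (g : Perm Ω) = g' := by
      rw [inv_mul_eq_one] at h2
      exact h2.symm
    have h4 : φ σ = φ σ' := by
      rw [h3] at h
      exact mul_left_cancel h
    exact Prod.ext (Subtype.ext h3) (hφ h4)
  have h5 := Nat.card_le_card_of_injective f hf
  rw [Nat.card_prod, Nat.card_perm, Nat.card_perm] at h5
  have e1 : Nat.card Ω = Fintype.card Ω := Nat.card_eq_fintype_card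
  have e2 : Nat.card {ω // ω ∈ Δ} = Δ.card := by rw [Nat.card_eq_fintype_card, Fintype.card_coe]
  rw [e1, e2] at h5
  exact h5

/-- **Bochert's bound** for primitive permutation groups not containing the alternating group. -/
theorem bochert (G : Subgroup (Perm Ω)) (hprim : MulAction.IsPreprimitive G Ω)
    (hA : ¬ alternatingGroup Ω ≤ G) :
    Nat.card G * Nat.factorial ((Fintype.card Ω + 1) / 2) ≤ Nat.factorial (Fintype.card Ω) := by
  classical
  let P : Finset Ω → Prop := fun Δ => ∀ g ∈ G, (∀ ω, ω ∉ Δ → g ω = ω) → g = 1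
  have hP0 : P ∅ := by
    intro g _ hg
    ext ω
    exact hg ω (Finset.notMem_empty ω)
  obtain ⟨Δ, hΔ, hmax⟩ := Finset.exists_max_image (Finset.univ.filter P) Finset.card
    ⟨∅, Finset.mem_filter.2 ⟨Finset.mem_univ _, hP0⟩⟩
  have hPΔ : P Δ := (Finset.mem_filter.1 hΔ).2
  have hmax' : ∀ Δ' : Finset Ω, P Δ' → Δ'.card ≤ Δ.card := fun Δ' h =>
    hmax Δ' (Finset.mem_filter.2 ⟨Finset.mem_univ _, h⟩)
  -- the complement also has the property
  have hPc : P Δᶜ := by
    intro y hy hyfix
    by_contra hy1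
    obtain ⟨γ, hγ⟩ : ∃ γ, y γ ≠ γ := by
      by_contra hall
      push Not at hall
      exact hy1 (Perm.ext hall)
    have hγΔ : γ ∉ Δ := by
      intro h
      apply hγ
      apply hyfix
      rw [Finset.mem_compl]
      exact fun h' => h' h
    have hnP : ¬ P (insert γ Δ) := by
      intro h
      have := hmax' _ h
      rw [Finset.card_insert_of_notMem hγΔ] at this
      omega
    obtain ⟨x, hxG, hxfix, hx1⟩ : ∃ x ∈ G, (∀ ω, ω ∉ insert γ Δ → x ω = ω) ∧ x ≠ 1 := by
      by_contra hall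
      push Not at hall
      exact hnP (fun g hg hfix => hall g hg hfix)
    have hxγ : x γ ≠ γ := by
      intro h
      apply hx1
      apply hPΔ x hxG
      intro ω hω
      by_cases hωγ : ω = γ
      · rw [hωγ, h]
      · apply hxfix
        rw [Finset.mem_insert]
        push Not
        exact ⟨hωγ, hω⟩
    have h3 : (x * y * x⁻¹ * y⁻¹).IsThreeCycle := by
      apply isThreeCycle_commutator x y γ hxγ hγ
      intro ω h1 h2
      by_contra hωγ
      have hωΔ : ω ∈ Δ := by
        by_contra hω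
        apply h1
        apply hxfix
        rw [Finset.mem_insert]
        push Not
        exact ⟨hωγ, hω⟩
      apply h2
      apply hyfix
      rw [Finset.mem_compl]
      exact fun h' => h' hωΔ
    have hmem : x * y * x⁻¹ * y⁻¹ ∈ G :=
      G.mul_mem (G.mul_mem (G.mul_mem hxG hy) (G.inv_mem hxG)) (G.inv_mem hy)
    exact hA (Perm.alternatingGroup_le_of_isPreprimitive_of_isThreeCycle_mem hprim h3 hmem)
  by_cases hcase : (Fintype.card Ω + 1) / 2 ≤ Δ.card
  · calc Nat.card G * Nat.factorial ((Fintype.card Ω + 1) / 2)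
        ≤ Nat.card G * Nat.factorial Δ.card := Nat.mul_le_mul_left _ (Nat.factorial_le hcase)
      _ ≤ Nat.factorial (Fintype.card Ω) := card_mul_factorial_le G Δ hPΔ
  · have hc : (Fintype.card Ω + 1) / 2 ≤ Δᶜ.card := by
      rw [Finset.card_compl]
      have : Δ.card ≤ Fintype.card Ω := Finset.card_le_univ Δ
      omega
    calc Nat.card G * Nat.factorial ((Fintype.card Ω + 1) / 2)
        ≤ Nat.card G * Nat.factorial Δᶜ.card := Nat.mul_le_mul_left _ (Nat.factorial_le hc)
      _ ≤ Nat.factorial (Fintype.card Ω) := card_mul_factorial_le G Δᶜ hPc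

end Cfsg.Agent.Helper61.Bochert
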