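import Mathlib

set_option autoImplicit false

namespace Cfsg.Agent.Helper61

open MulAction

section Abstract

variable {G α : Type*} [Group G] [MulAction G α]

/-- An abelian minimal normal subgroup of a finite group has prime exponent. -/
theorem exists_prime_exponent_of_minimal_abelian [Finite G] (N : Subgroup G) [hNn : N.Normal]
    (hN : N ≠ ⊥) (hmin : ∀ M : Subgroup G, M.Normal → M ≤ N → M = ⊥ ∨ M = N)
    (hcomm : ∀ a ∈ N, ∀ b ∈ N, a * b = b * a) :
    ∃ p : ℕ, p.Prime ∧ ∀ x ∈ N, x ^ p = 1 := by
  classical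
  have hcard : Nat.card N ≠ 1 := by
    intro h
    exact hN (Subgroup.card_eq_one.mp h)
  obtain ⟨p, hp, hpd⟩ := Nat.exists_prime_and_dvd hcard
  haveI : Fact p.Prime := ⟨hp⟩
  obtain ⟨x, hx⟩ := exists_prime_orderOf_dvd_card' p hpd
  refine ⟨p, hp, ?_⟩
  let M : Subgroup G :=
    { carrier := {y | y ∈ N ∧ y ^ p = 1}
      one_mem' := ⟨N.one_mem, one_pow p⟩
      mul_mem' := by
        rintro a b ⟨ha, ha'⟩ ⟨hb, hb'⟩
        refine ⟨N.mul_mem ha hb, ?_⟩
        have hc : Commute a b := hcomm a ha b hb
        rw [hc.mul_pow, ha', hb', one_mul]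
      inv_mem' := by
        rintro a ⟨ha, ha'⟩
        exact ⟨N.inv_mem ha, by rw [inv_pow, ha', inv_one]⟩ }
  have hMn : M.Normal := by
    refine ⟨fun y hy g => ?_⟩
    obtain ⟨hy1, hy2⟩ := hy
    refine ⟨hNn.conj_mem y hy1 g, ?_⟩
    rw [conj_pow, hy2, mul_one, mul_inv_cancel]
  have hMle : M ≤ N := fun y hy => hy.1
  rcases hmin M hMn hMle with h | h
  · exfalso
    have hxM : (x : G) ∈ M := by
      refine ⟨x.2, ?_⟩
      have := pow_orderOf_eq_one x
      rw [hx] at this
      have h2 := congrArg (Subtype.val) this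
      simpa using h2
    rw [h, Subgroup.mem_bot] at hxM
    have : x = 1 := Subtype.ext hxM
    rw [this, orderOf_one] at hx
    exact hp.one_lt.ne hx
  · intro y hy
    have : y ∈ M := by rw [h]; exact hy
    exact this.2

/-- A permutation centralizing a transitive subgroup and fixing a point is trivial. -/
theorem perm_eq_one_of_commute_of_fixed (M : Subgroup G) [IsPretransitive M α]
    (c : Equiv.Perm α) (hc : ∀ m ∈ M, ∀ x : α, c (m • x) = m • c x) (a : α) (ha : c a = a) :
    c = 1 := by
  ext b
  obtain ⟨m, rfl⟩ := MulAction.exists_smul_eq M a b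
  rw [Subgroup.smul_def, hc m m.2, ha]
  rfl

variable [FaithfulSMul G α]

/-- If `N` centralizes a transitive subgroup `M`, then `N` acts semiregularly. -/
theorem stabilizer_eq_bot_of_commute (M N : Subgroup G) [IsPretransitive M α]
    (hcomm : ∀ m ∈ M, ∀ n ∈ N, m * n = n * m) (a : α) : MulAction.stabilizer N a = ⊥ := by
  rw [Subgroup.eq_bot_iff_forall]
  intro n hn
  rw [MulAction.mem_stabilizer_iff, Subgroup.smul_def] at hn
  have h1 : MulAction.toPerm (n : G) = (1 : Equiv.Perm α) := by
    apply perm_eq_one_of_commute_of_fixed M _ _ a hn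
    intro m hm x
    simp only [MulAction.toPerm_apply]
    rw [← mul_smul, ← hcomm m hm n n.2, mul_smul]
  have h2 : (n : G) = 1 := by
    apply MulAction.toPerm_injective (α := G) (β := α)
    rw [h1, MulAction.toPerm_one]
  exact Subtype.ext h2

/-- If `M` and `N` are transitive and commute elementwise, the centralizer of `M` in the symmetric
group is (the image of) `N`. -/
theorem centralizer_map_toPermHom_eq (M N : Subgroup G) [IsPretransitive M α] [IsPretransitive N α]
    [Nonempty α] (hcomm : ∀ m ∈ M, ∀ n ∈ N, m * n = n * m) :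
    Subgroup.centralizer ((M.map (MulAction.toPermHom G α) : Subgroup (Equiv.Perm α)) : Set (Equiv.Perm α)) =
      N.map (MulAction.toPermHom G α) := by
  apply le_antisymm
  · intro c hc
    obtain ⟨a⟩ := ‹Nonempty α›
    obtain ⟨n, hn⟩ := MulAction.exists_smul_eq N a (c a)
    have hc' : ∀ m ∈ M, ∀ x : α, c (m • x) = m • c x := by
      intro m hm x
      have := Subgroup.mem_centralizer_iff.1 hc (MulAction.toPermHom G α m) ⟨m, hm, rfl⟩
      have h2 := congrArg (fun p : Equiv.Perm α => p x) this
      simp only [Equiv.Perm.coe_mul, Function.comp_apply, MulAction.toPermHom_apply,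
        MulAction.toPerm_apply] at h2
      exact h2.symm
    -- `(toPerm n)⁻¹ * c` centralizes `M` and fixes `a`
    have h1 : (MulAction.toPerm (n : G))⁻¹ * c = 1 := by
      apply perm_eq_one_of_commute_of_fixed M _ _ a
      · simp only [Equiv.Perm.coe_mul, Function.comp_apply]
        rw [← hn, Subgroup.smul_def]
        simp
      · intro m hm x
        simp only [Equiv.Perm.coe_mul, Function.comp_apply]
        rw [hc' m hm x]
        have h3 : ∀ y : α, (MulAction.toPerm (n : G))⁻¹ y = (n : G)⁻¹ • y := by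
          intro y
          rw [Equiv.Perm.inv_eq_iff_eq, MulAction.toPerm_apply, smul_inv_smul]
        rw [h3, h3, ← mul_smul, ← mul_smul]
        have h4 : (n : G)⁻¹ * m = m * (n : G)⁻¹ := by
          have := hcomm m hm n n.2
          calc (n : G)⁻¹ * m = (n : G)⁻¹ * (m * n) * (n : G)⁻¹ := by group
            _ = (n : G)⁻¹ * (n * m) * (n : G)⁻¹ := by rw [this]
            _ = m * (n : G)⁻¹ := by group
        rw [h4]
    refine ⟨n, n.2, ?_⟩
    have : c = MulAction.toPerm (n : G) := by
      have := congrArg (fun p => MulAction.toPerm (n : G) * p) h1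
      simpa using this
    rw [this]
    rfl
  · rintro _ ⟨n, hn, rfl⟩
    rw [Subgroup.mem_centralizer_iff]
    rintro _ ⟨m, hm, rfl⟩
    rw [← map_mul, ← map_mul, hcomm m hm n hn]

/-- Two regular, elementwise commuting subgroups are isomorphic. -/
theorem nonempty_mulEquiv_of_regular_commute (M N : Subgroup G) [IsPretransitive M α]
    [IsPretransitive N α] [Nonempty α] (hcomm : ∀ m ∈ M, ∀ n ∈ N, m * n = n * m) :
    Nonempty (M ≃* N) := by
  classical
  obtain ⟨a⟩ := ‹Nonempty α›
  have hMfree : ∀ b : α, MulAction.stabilizer M b = ⊥ := fun b =>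
    stabilizer_eq_bot_of_commute N M (fun n hn m hm => (hcomm m hm n hn).symm) b
  have hNfree : ∀ b : α, MulAction.stabilizer N b = ⊥ := fun b =>
    stabilizer_eq_bot_of_commute M N hcomm b
  -- uniqueness
  have huniqN : ∀ (b : α) (n1 n2 : N), n1 • b = n2 • b → n1 = n2 := by
    intro b n1 n2 h
    have : n2⁻¹ * n1 ∈ MulAction.stabilizer N b := by
      rw [MulAction.mem_stabilizer_iff, mul_smul, h, inv_smul_smul]
    rw [hNfree, Subgroup.mem_bot] at this
    exact (inv_mul_eq_one.1 this).symm
  have huniqM : ∀ (b : α) (m1 m2 : M), m1 • b = m2 • b → m1 = m2 := by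
    intro b m1 m2 h
    have : m2⁻¹ * m1 ∈ MulAction.stabilizer M b := by
      rw [MulAction.mem_stabilizer_iff, mul_smul, h, inv_smul_smul]
    rw [hMfree, Subgroup.mem_bot] at this
    exact (inv_mul_eq_one.1 this).symm
  have hex : ∀ m : M, ∃ n : N, n • (m • a) = a := fun m => MulAction.exists_smul_eq N (m • a) a
  choose φ hφ using hex
  have hsw : ∀ (m : M) (n : N) (x : α), n • (m • x) = m • (n • x) := by
    intro m n x
    rw [Subgroup.smul_def, Subgroup.smul_def, Subgroup.smul_def, Subgroup.smul_def, ← mul_smul,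
      ← mul_smul, hcomm m m.2 n n.2]
  have hmul : ∀ m1 m2 : M, φ (m1 * m2) = φ m1 * φ m2 := by
    intro m1 m2
    apply huniqN ((m1 * m2) • a)
    rw [hφ, mul_smul, mul_smul, hsw m1 (φ m2), hφ m2, hφ m1]
  refine ⟨MulEquiv.ofBijective (MonoidHom.mk' φ hmul) ⟨?_, ?_⟩⟩
  · intro m1 m2 h
    simp only [MonoidHom.mk'_apply] at h
    apply huniqM a
    have h1 := hφ m1
    have h2 := hφ m2
    rw [h] at h1
    have : φ m2 • (m1 • a) = φ m2 • (m2 • a) := by rw [h1, h2]
    exact smul_left_cancel _ this
  · intro n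
    obtain ⟨m, hm⟩ := MulAction.exists_smul_eq M (n • a) a
    refine ⟨m, ?_⟩
    simp only [MonoidHom.mk'_apply]
    apply huniqN (m • a)
    rw [hφ, hsw, hm]

end Abstract

end Cfsg.Agent.Helper61
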