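import Cfsg.Agent.Helper43.PsuM.EvDefs

/-!
# S2089 block I-even, piece (AMAT) (helper61): the matrices of `qE`, `iE`, `tE`
-/

set_option autoImplicit false

namespace Cfsg.Agent.Helper61.PsuM

open Matrix
open Cfsg.Agent.Helper43.PsuM.Ev

variable {F : Type*} [Field F] {m : ℕ} {σ : F →+* F}

/-- `det [[1, B], [0, 1]] = 1` -/
theorem AMAT_det_qM (B : Matrix (Fin m) (Fin m) F) : (qM B).det = 1 := by
  unfold qM
  rw [Matrix.det_fromBlocks_zero₂₁, Matrix.det_one, mul_one]

/-- unitarity of `[[1, B], [0, 1]]` -/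
theorem AMAT_isU_qM {B : Matrix (Fin m) (Fin m) F} (hB : B.map σ + Bᵀ = 0) : IsU σ (qM B) := by
  unfold IsU qM Hm
  rw [Matrix.fromBlocks_transpose, Matrix.fromBlocks_map, Matrix.fromBlocks_multiply,
    Matrix.fromBlocks_multiply]
  simp only [Matrix.transpose_one, Matrix.transpose_zero, Matrix.map_zero σ (map_zero σ),
    Matrix.map_one σ (map_zero σ) (map_one σ), Matrix.mul_zero, Matrix.zero_mul, Matrix.mul_one,
    Matrix.one_mul, add_zero, zero_add]
  rw [hB]

/-- (AMAT1) -/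
theorem mat_qE {B : Matrix (Fin m) (Fin m) F} (hB : B ∈ SkewH m σ) : mat (qE σ B) = qM B := by
  unfold qE
  exact mat_ofMat σ (AMAT_det_qM B) (AMAT_isU_qM hB)

/-- `det [[A, 0], [0, D]] = det A * det D` -/
theorem AMAT_det_iM (A D : Matrix (Fin m) (Fin m) F) : (iM A D).det = A.det * D.det := by
  unfold iM
  rw [Matrix.det_fromBlocks_zero₂₁]

/-- unitarity of `[[A, 0], [0, D]]` -/
theorem AMAT_isU_iM {A D : Matrix (Fin m) (Fin m) F} (h1 : Aᵀ * D.map σ = 1)
    (h2 : Dᵀ * A.map σ = 1) : IsU σ (iM A D) := by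
  unfold IsU iM Hm
  rw [Matrix.fromBlocks_transpose, Matrix.fromBlocks_map, Matrix.fromBlocks_multiply,
    Matrix.fromBlocks_multiply]
  simp only [Matrix.transpose_zero, Matrix.map_zero σ (map_zero σ), Matrix.mul_zero,
    Matrix.zero_mul, Matrix.mul_one, add_zero, zero_add]
  rw [h1, h2]

/-- (AMAT2) -/
theorem mat_iE (hσ : ∀ x, σ (σ x) = x) (A : SpecialLinearGroup (Fin m) F) :
    mat (iE σ A) = iM A.1 ((A⁻¹).1.map σ)ᵀ := by
  unfold iE
  have hAinv : A.1 * (A⁻¹).1 = 1 := by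
    have h : (A * A⁻¹).1 = 1 := by rw [mul_inv_cancel]; rfl
    exact h
  have hinvA : (A⁻¹).1 * A.1 = 1 := by
    have h : (A⁻¹ * A).1 = 1 := by rw [inv_mul_cancel]; rfl
    exact h
  have hmm : ∀ M : Matrix (Fin m) (Fin m) F, (M.map σ).map σ = M := by
    intro M
    ext i j
    simp [hσ]
  apply mat_ofMat
  · have hdet : ((A⁻¹).1.map σ).det = σ ((A⁻¹).1.det) := (RingHom.map_det σ (A⁻¹).1).symm
    rw [AMAT_det_iM, A.2, one_mul, Matrix.det_transpose, hdet, (A⁻¹).2, map_one]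
  · apply AMAT_isU_iM
    · rw [Matrix.transpose_map, hmm, ← Matrix.transpose_mul, hinvA, Matrix.transpose_one]
    · rw [Matrix.transpose_transpose, ← Matrix.map_mul, hinvA,
        Matrix.map_one σ (map_zero σ) (map_one σ)]

/-- (AMAT3) -/
theorem mat_tE (hσ : ∀ x, σ (σ x) = x) (d : Fin m → F) (hd : ∀ i, d i ≠ 0)
    (hdet : σ (∏ i, d i) = ∏ i, d i) :
    mat (tE σ d) = iM (Matrix.diagonal d) (Matrix.diagonal fun i => (σ (d i))⁻¹) := by
  unfold tE
  have hσd : ∀ i, σ (d i) ≠ 0 := fun i h0 => hd i (by rw [← hσ (d i), h0, map_zero])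
  apply mat_ofMat
  · rw [AMAT_det_iM, Matrix.det_diagonal, Matrix.det_diagonal, Finset.prod_inv_distrib,
      ← map_prod, hdet]
    exact mul_inv_cancel₀ (Finset.prod_ne_zero_iff.mpr fun i _ => hd i)
  · apply AMAT_isU_iM
    · rw [Matrix.diagonal_transpose, Matrix.diagonal_map (map_zero σ), Matrix.diagonal_mul_diagonal,
        ← Matrix.diagonal_one]
      congr 1
      funext i
      rw [map_inv₀, hσ]
      exact mul_inv_cancel₀ (hd i)
    · rw [Matrix.diagonal_transpose, Matrix.diagonal_map (map_zero σ), Matrix.diagonal_mul_diagonal,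
        ← Matrix.diagonal_one]
      congr 1
      funext i
      exact inv_mul_cancel₀ (hσd i)

end Cfsg.Agent.Helper61.PsuM
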