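import Mathlib

set_option autoImplicit false

namespace Cfsg.Agent.Helper61.TwoTrans

open MulAction Pointwise

variable {G α : Type*} [Group G] [MulAction G α]

/-- Concrete transitivity of a subgroup. -/
def Trans (α : Type*) [MulAction G α] (T : Subgroup G) : Prop := ∀ a b : α, ∃ t ∈ T, t • a = b

/-- Concrete double transitivity. -/
def DblTrans (G α : Type*) [Group G] [MulAction G α] : Prop :=
  ∀ a b c d : α, a ≠ b → c ≠ d → ∃ g : G, g • a = c ∧ g • b = d

theorem twoTrans_of_isMultiplyPretransitive (h : IsMultiplyPretransitive G α 2) : DblTrans G α := by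
  intro a b c d hab hcd
  exact (is_two_pretransitive_iff.1 h) hab hcd

/-- An element centralizing a transitive subgroup and fixing a point is trivial. -/
theorem eq_one_of_commute_of_fixed [FaithfulSMul G α] {T : Subgroup G} (hT : Trans α T) {c : G}
    (hc : ∀ t ∈ T, c * t = t * c) {a : α} (ha : c • a = a) : c = 1 := by
  apply FaithfulSMul.eq_of_smul_eq_smul (α := α)
  intro b
  obtain ⟨t, ht, rfl⟩ := hT a b
  rw [← mul_smul, hc t ht, mul_smul, ha, one_smul]

/-- In a doubly transitive group, a regular normal subgroup has all its non-identity elements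
conjugate. -/
theorem conj_of_regular [FaithfulSMul G α] (h2 : DblTrans G α) (N : Subgroup G) [hNn : N.Normal]
    (hreg : ∀ a : α, ∀ n ∈ N, n • a = a → n = 1) {x y : G} (hx : x ∈ N) (hy : y ∈ N)
    (hx1 : x ≠ 1) (hy1 : y ≠ 1) : ∃ g : G, g * x * g⁻¹ = y := by
  -- a point
  have hex : ∃ a : α, x • a ≠ a := by
    by_contra hall
    push Not at hall
    apply hx1
    apply FaithfulSMul.eq_of_smul_eq_smul (α := α)
    intro b
    rw [hall b, one_smul]
  obtain ⟨a, -⟩ := hex
  have hxa : a ≠ x • a := fun h => hx1 (hreg a x hx h.symm)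
  have hya : a ≠ y • a := fun h => hy1 (hreg a y hy h.symm)
  obtain ⟨g, hga, hgx⟩ := h2 a (x • a) a (y • a) hxa hya
  refine ⟨g, ?_⟩
  have hmem : y⁻¹ * (g * x * g⁻¹) ∈ N := N.mul_mem (N.inv_mem hy) (hNn.conj_mem x hx g)
  have hfix : (y⁻¹ * (g * x * g⁻¹)) • a = a := by
    have hg' : g⁻¹ • a = a := by rw [inv_smul_eq_iff, hga]
    rw [mul_smul, mul_smul, mul_smul, hg', hgx, inv_smul_smul]
  have := hreg a _ hmem hfix
  rw [inv_mul_eq_one] at this
  exact this.symm

/-- The regular case of Burnside's theorem. -/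
theorem regular_case [FaithfulSMul G α] [Finite G] (h2 : DblTrans G α) (N : Subgroup G)
    [hNn : N.Normal] (hN : N ≠ ⊥)
    (hmin : ∀ M : Subgroup G, M.Normal → M ≤ N → M = ⊥ ∨ M = N)
    (hreg : ∀ a : α, ∀ n ∈ N, n • a = a → n = 1) :
    (∀ x ∈ N, ∀ y ∈ N, x * y = y * x) ∧ ∃ p : ℕ, p.Prime ∧ ∀ x ∈ N, x ^ p = 1 := by
  classical
  have hcard : Nat.card N ≠ 1 := fun h => hN (Subgroup.card_eq_one.mp h)
  obtain ⟨p, hp, hpd⟩ := Nat.exists_prime_and_dvd hcard
  haveI : Fact p.Prime := ⟨hp⟩
  obtain ⟨x0, hx0⟩ := exists_prime_orderOf_dvd_card' p hpd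
  have hx01 : (x0 : G) ≠ 1 := by
    intro h
    have : x0 = 1 := Subtype.ext h
    rw [this, orderOf_one] at hx0
    exact hp.one_lt.ne hx0
  have hx0p : (x0 : G) ^ p = 1 := by
    have := pow_orderOf_eq_one x0
    rw [hx0] at this
    exact_mod_cast congrArg Subtype.val this
  have hexp : ∀ x ∈ N, x ^ p = 1 := by
    intro x hx
    by_cases hx1 : x = 1
    · rw [hx1, one_pow]
    · obtain ⟨g, hg⟩ := conj_of_regular h2 N hreg x0.2 hx hx01 hx1
      rw [← hg, conj_pow, hx0p, mul_one, mul_inv_cancel]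
  refine ⟨?_, p, hp, hexp⟩
  -- `N` is a `p`-group, hence has non-trivial centre
  have hpg : IsPGroup p N := by
    intro x
    refine ⟨1, ?_⟩
    rw [pow_one]
    exact Subtype.ext (hexp x x.2)
  haveI : Nontrivial N := (Subgroup.nontrivial_iff_ne_bot N).mpr hN
  have hZ : Nontrivial (Subgroup.center N) := hpg.center_nontrivial
  have hZn : ((Subgroup.center N).map N.subtype).Normal := inferInstance
  have hZle : (Subgroup.center N).map N.subtype ≤ N := by
    rintro _ ⟨z, -, rfl⟩
    exact z.2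
  rcases hmin _ hZn hZle with h | h
  · exfalso
    rw [Subgroup.map_eq_bot_iff_of_injective _ N.subtype_injective] at h
    rw [← Subgroup.nontrivial_iff_ne_bot] at *
    exact (Subgroup.nontrivial_iff_ne_bot _).1 hZ h
  · intro x hx y hy
    have hx' : x ∈ (Subgroup.center N).map N.subtype := by rw [h]; exact hx
    obtain ⟨z, hz, rfl⟩ := hx'
    have := Subgroup.mem_center_iff.1 hz ⟨y, hy⟩
    exact (congrArg Subtype.val this).symm

/-- A translate of a block of a normal subgroup by an element of the big group is a block. -/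
theorem isBlock_smul_of_normal (N : Subgroup G) [hNn : N.Normal] {B : Set α} (hB : IsBlock N B)
    (g : G) : IsBlock N (g • B) := by
  rw [isBlock_iff_smul_eq_or_disjoint] at hB ⊢
  intro n
  have hmem : g⁻¹ * (n : G) * g ∈ N := by
    have := hNn.conj_mem (n : G) n.2 g⁻¹
    simpa using this
  have key : n • g • B = g • ((⟨g⁻¹ * (n : G) * g, hmem⟩ : N) • B) := by
    change (n : G) • g • B = g • ((g⁻¹ * (n : G) * g) • B)
    rw [smul_smul, smul_smul]
    congr 1
    group
  rw [key]
  rcases hB ⟨g⁻¹ * (n : G) * g, hmem⟩ with h | h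
  · left
    rw [h]
  · right
    exact Set.disjoint_image_of_injective (MulAction.injective g) h

/-- If a normal transitive subgroup `N` of a doubly transitive group is not primitive, then no
non-identity element of `N` fixes two points. -/
theorem frobenius_of_not_preprimitive [FaithfulSMul G α] [Finite α] (h2 : DblTrans G α)
    (N : Subgroup G) [hNn : N.Normal] [htr : IsPretransitive N α]
    (hnp : ¬ IsPreprimitive N α) :
    ∀ a b : α, a ≠ b → ∀ n ∈ N, n • a = a → n • b = b → n = 1 := by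
  classical
  -- a non-trivial block of minimal size
  have hex : ∃ B : Set α, IsBlock N B ∧ B.Nontrivial ∧ B ≠ Set.univ := by
    by_contra hall
    push Not at hall
    apply hnp
    refine ⟨fun {B} hB => ?_⟩
    rcases B.subsingleton_or_nontrivial with h | h
    · exact Or.inl h
    · exact Or.inr (hall B hB h)
  have hex' : ∃ k : ℕ, ∃ B : Set α, (IsBlock N B ∧ B.Nontrivial ∧ B ≠ Set.univ) ∧ B.ncard = k := by
    obtain ⟨B, hB⟩ := hex
    exact ⟨_, B, hB, rfl⟩
  obtain ⟨Δ, ⟨hΔb, hΔn, hΔu⟩, hΔk⟩ := Nat.find_spec hex'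
  have hΔmin : ∀ B : Set α, IsBlock N B → B.Nontrivial → B ≠ Set.univ → Δ.ncard ≤ B.ncard := by
    intro B h1 h2 h3
    rw [hΔk]
    exact Nat.find_min' hex' ⟨B, ⟨h1, h2, h3⟩, rfl⟩
  -- lines
  let L : Set (Set α) := {B | ∃ g : G, B = g • Δ}
  have hL1 : ∀ B ∈ L, IsBlock N B ∧ B.ncard = Δ.ncard ∧ B ≠ Set.univ := by
    rintro B ⟨g, rfl⟩
    refine ⟨isBlock_smul_of_normal N hΔb g, Set.ncard_smul_set g Δ, ?_⟩
    intro h
    apply hΔu
    have := congrArg (fun S : Set α => g⁻¹ • S) h
    simpa using this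
  have hL2 : ∀ a b : α, a ≠ b → ∃ B ∈ L, a ∈ B ∧ b ∈ B := by
    intro a b hab
    obtain ⟨a0, ha0, b0, hb0, hab0⟩ := hΔn
    obtain ⟨g, hga, hgb⟩ := h2 a0 b0 a b hab0 hab
    refine ⟨g • Δ, ⟨g, rfl⟩, ?_, ?_⟩
    · rw [← hga]; exact Set.smul_mem_smul_set ha0
    · rw [← hgb]; exact Set.smul_mem_smul_set hb0
  have hL3 : ∀ B ∈ L, ∀ B' ∈ L, ∀ a b : α, a ≠ b → a ∈ B → b ∈ B → a ∈ B' → b ∈ B' → B = B' := by
    intro B hB B' hB' a b hab haB hbB haB' hbB'
    obtain ⟨hb1, hc1, hu1⟩ := hL1 B hB
    obtain ⟨hb2, hc2, hu2⟩ := hL1 B' hB'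
    have hint : IsBlock N (B ∩ B') := hb1.inter hb2
    have hnt : (B ∩ B').Nontrivial := ⟨a, ⟨haB, haB'⟩, b, ⟨hbB, hbB'⟩, hab⟩
    have hnu : B ∩ B' ≠ Set.univ := by
      intro h
      apply hu1
      rw [Set.eq_univ_iff_forall] at h ⊢
      exact fun x => (h x).1
    have hle := hΔmin _ hint hnt hnu
    have e1 : B ∩ B' = B :=
      Set.eq_of_subset_of_ncard_le Set.inter_subset_left (by rw [hc1]; exact hle) (Set.toFinite _)
    have e2 : B ∩ B' = B' :=
      Set.eq_of_subset_of_ncard_le Set.inter_subset_right (by rw [hc2]; exact hle) (Set.toFinite _)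
    rw [← e1, e2]
  have hL4 : ∀ B ∈ L, ∀ n ∈ N, ∀ a ∈ B, n • a = a → ∀ c ∈ B, n • c ∈ B := by
    intro B hB n hn a ha hna c hc
    have hb := (hL1 B hB).1
    have h1 : (⟨n, hn⟩ : N) • B = B := by
      apply hb.smul_eq_of_mem ha
      change n • a ∈ B
      rw [hna]; exact ha
    rw [← h1]
    exact Set.smul_mem_smul_set (a := (⟨n, hn⟩ : N)) hc
  -- the key claim
  have claim : ∀ n ∈ N, ∀ a b : α, a ≠ b → n • a = a → n • b = b → ∀ B0 ∈ L, a ∈ B0 → b ∈ B0 →
      ∀ c, c ∉ B0 → n • c = c := by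
    intro n hn a b hab hna hnb B0 hB0 haB0 hbB0 c hc
    have hca : a ≠ c := fun h => hc (h ▸ haB0)
    have hcb : b ≠ c := fun h => hc (h ▸ hbB0)
    obtain ⟨B1, hB1, haB1, hcB1⟩ := hL2 a c hca
    obtain ⟨B2, hB2, hbB2, hcB2⟩ := hL2 b c hcb
    have hne : B1 ≠ B2 := by
      intro h
      have hbB1 : b ∈ B1 := h ▸ hbB2
      have := hL3 B1 hB1 B0 hB0 a b hab haB1 hbB1 haB0 hbB0
      exact hc (this ▸ hcB1)
    by_contra hnc
    have h1 : n • c ∈ B1 := hL4 B1 hB1 n hn a haB1 hna c hcB1
    have h2' : n • c ∈ B2 := hL4 B2 hB2 n hn b hbB2 hnb c hcB2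
    exact hne (hL3 B1 hB1 B2 hB2 c (n • c) (fun h => hnc h.symm) hcB1 h1 hcB2 h2')
  intro a b hab n hn hna hnb
  obtain ⟨B0, hB0, haB0, hbB0⟩ := hL2 a b hab
  have hu0 := (hL1 B0 hB0).2.2
  obtain ⟨c, hc⟩ : ∃ c, c ∉ B0 := by
    by_contra hall
    push Not at hall
    exact hu0 (Set.eq_univ_iff_forall.2 hall)
  have hnc : n • c = c := claim n hn a b hab hna hnb B0 hB0 haB0 hbB0 c hc
  have hac : a ≠ c := fun h => hc (h ▸ haB0)
  obtain ⟨B0', hB0', haB0', hcB0'⟩ := hL2 a c hac
  apply FaithfulSMul.eq_of_smul_eq_smul (α := α)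
  intro d
  rw [one_smul]
  by_cases hd : d ∈ B0
  · by_cases hda : d = a
    · rw [hda, hna]
    · have hd' : d ∉ B0' := by
        intro hd'
        have := hL3 B0 hB0 B0' hB0' a d (fun h => hda h.symm) haB0 hd haB0' hd'
        exact hc (this ▸ hcB0')
      exact claim n hn a c hac hna hnc B0' hB0' haB0' hcB0' d hd'
  · exact claim n hn a b hab hna hnb B0 hB0 haB0 hbB0 d hd

/-- The Frobenius kernel in the doubly transitive situation: if `N` is a transitive normal
subgroup of a doubly transitive group in which only the identity fixes two points, and `N` is not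
regular, then the derangements of `N` together with `1` form a proper non-trivial normal subgroup. -/
theorem exists_normal_of_frobenius [FaithfulSMul G α] [Finite G] [Finite α] (h2 : DblTrans G α)
    (N : Subgroup G) [hNn : N.Normal] [htr : IsPretransitive N α]
    (hfrob : ∀ a b : α, a ≠ b → ∀ n ∈ N, n • a = a → n • b = b → n = 1)
    (hnr : ∃ a : α, ∃ n ∈ N, n ≠ 1 ∧ n • a = a) :
    ∃ K : Subgroup G, K.Normal ∧ K ≤ N ∧ K ≠ ⊥ ∧ K ≠ N := by
  classical
  haveI : Fintype α := Fintype.ofFinite α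
  haveI : Fintype N := Fintype.ofFinite N
  obtain ⟨a0, n0, hn0, hn01, hn0a⟩ := hnr
  let isD : N → Prop := fun x => ∀ a : α, x • a ≠ a
  have hB := MulAction.sum_card_fixedBy_eq_card_orbits_mul_card_group N α
  have horb : Fintype.card (Quotient (orbitRel N α)) = 1 := by
    rw [Fintype.card_eq_one_iff]
    refine ⟨Quotient.mk'' a0, fun y => ?_⟩
    induction y using Quotient.inductionOn' with
    | h b =>
      apply Quotient.sound'
      obtain ⟨n, hn⟩ := MulAction.exists_smul_eq N a0 b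
      exact ⟨n, hn⟩
  rw [horb, one_mul] at hB
  have hf1 : Fintype.card (fixedBy α (1 : N)) = Fintype.card α :=
    Fintype.card_congr (Equiv.subtypeUnivEquiv (fun a => by simp))
  have hfD : ∀ x : N, isD x → Fintype.card (fixedBy α x) = 0 := by
    intro x hx
    rw [Fintype.card_eq_zero_iff]
    exact ⟨fun ⟨a, ha⟩ => hx a ha⟩
  have hfO : ∀ x : N, x ≠ 1 → ¬ isD x → Fintype.card (fixedBy α x) = 1 := by
    intro x hx1 hxD
    have hex : ∃ a : α, x • a = a := by
      by_contra h
      push Not at h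
      exact hxD h
    obtain ⟨a, ha⟩ := hex
    rw [Fintype.card_eq_one_iff]
    refine ⟨⟨a, ha⟩, ?_⟩
    rintro ⟨b, hb⟩
    apply Subtype.ext
    by_contra hne
    apply hx1
    apply Subtype.ext
    exact hfrob b a hne x x.2 hb ha
  have hcardpos : 1 ≤ Fintype.card α := Fintype.card_pos_iff.2 ⟨a0⟩
  have hnotD1 : ¬ isD (1 : N) := fun h => h a0 (one_smul _ _)
  have key : ∀ x : N, Fintype.card (fixedBy α x) + (if isD x then 1 else 0) =
      1 + (if x = 1 then Fintype.card α - 1 else 0) := by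
    intro x
    by_cases hx1 : x = 1
    · subst hx1
      rw [hf1, if_neg hnotD1, if_pos rfl]
      omega
    · by_cases hxD : isD x
      · rw [hfD x hxD, if_pos hxD, if_neg hx1]
      · rw [hfO x hx1 hxD, if_neg hxD, if_neg hx1]
  have hsum := Finset.sum_congr (s₁ := (Finset.univ : Finset N)) rfl (fun x _ => key x)
  rw [Finset.sum_add_distrib, Finset.sum_add_distrib, hB, Finset.sum_boole, Finset.sum_ite_eq',
    Finset.sum_const, Finset.card_univ, smul_eq_mul, mul_one, if_pos (Finset.mem_univ _)] at hsum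
  have hD : (Finset.univ.filter isD).card = Fintype.card α - 1 := by
    have := Nat.add_left_cancel hsum
    exact_mod_cast this
  -- at least two points
  have hcard2 : 2 ≤ Fintype.card α := by
    have hex : ∃ b : α, n0 • b ≠ b := by
      by_contra hall
      push Not at hall
      apply hn01
      apply FaithfulSMul.eq_of_smul_eq_smul (α := α)
      intro b
      rw [hall b, one_smul]
    obtain ⟨b, hb⟩ := hex
    have hba : b ≠ a0 := fun h => hb (h ▸ hn0a)
    have := Fintype.one_lt_card_iff.2 ⟨b, a0, hba⟩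
    omega
  have hDne : (Finset.univ.filter isD).Nonempty := by
    rw [← Finset.card_pos, hD]
    omega
  obtain ⟨x0, hx0⟩ := hDne
  rw [Finset.mem_filter] at hx0
  have hx0D : isD x0 := hx0.2
  -- conjugates of derangements
  have hconjD : ∀ (x : G) (g : G), (∀ c : α, x • c ≠ c) → ∀ c : α, (g * x * g⁻¹) • c ≠ c := by
    intro x g hx c hc
    apply hx (g⁻¹ • c)
    rw [mul_smul, mul_smul] at hc
    exact (smul_eq_iff_eq_inv_smul g).1 hc
  -- surjectivity
  have hsurj : ∀ a b : α, b ≠ a → ∃ x : N, isD x ∧ x • a = b := by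
    intro a b hba
    have hx0a : a ≠ x0 • a := fun h => hx0D a h.symm
    obtain ⟨g, hga, hgx⟩ := h2 a (x0 • a) a b hx0a (Ne.symm hba)
    refine ⟨⟨g * x0 * g⁻¹, hNn.conj_mem x0 x0.2 g⟩, ?_, ?_⟩
    · intro c
      exact hconjD (x0 : G) g hx0D c
    · change (g * (x0 : G) * g⁻¹) • a = b
      have hg' : g⁻¹ • a = a := by rw [inv_smul_eq_iff, hga]
      rw [mul_smul, mul_smul, hg']
      exact hgx
  -- injectivity
  have hinj : ∀ a : α, ∀ x y : N, isD x → isD y → x • a = y • a → x = y := by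
    intro a x y hx hy hxy
    let ψ : {x : N // isD x} → {b : α // ¬ (b = a)} := fun x => ⟨x.1 • a, x.2 a⟩
    have hψs : Function.Surjective ψ := by
      rintro ⟨b, hb⟩
      obtain ⟨z, hz, hza⟩ := hsurj a b hb
      exact ⟨⟨z, hz⟩, Subtype.ext hza⟩
    have hcard : Fintype.card {x : N // isD x} = Fintype.card {b : α // ¬ (b = a)} := by
      rw [Fintype.card_subtype_compl, Fintype.card_subtype_eq, Fintype.card_subtype, hD]
    have hψb : Function.Bijective ψ := (Fintype.bijective_iff_surjective_and_card ψ).2 ⟨hψs, hcard⟩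
    have := hψb.1 (a₁ := ⟨x, hx⟩) (a₂ := ⟨y, hy⟩) (Subtype.ext hxy)
    exact congrArg Subtype.val this
  -- the kernel
  let K : Subgroup G :=
    { carrier := {x | x ∈ N ∧ (x = 1 ∨ ∀ a : α, x • a ≠ a)}
      one_mem' := ⟨N.one_mem, Or.inl rfl⟩
      inv_mem' := by
        rintro x ⟨hxN, hx⟩
        refine ⟨N.inv_mem hxN, ?_⟩
        rcases hx with rfl | hx
        · left; exact inv_one
        · right
          intro a ha
          apply hx a
          rw [inv_smul_eq_iff] at ha
          exact ha.symm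
      mul_mem' := by
        rintro x y ⟨hxN, hx⟩ ⟨hyN, hy⟩
        refine ⟨N.mul_mem hxN hyN, ?_⟩
        by_cases hxy : x * y = 1
        · exact Or.inl hxy
        right
        intro c hc
        rw [mul_smul] at hc
        rcases hx with rfl | hx
        · rcases hy with rfl | hy
          · exact hxy (one_mul 1)
          · rw [one_smul] at hc
            exact hy c hc
        · rcases hy with rfl | hy
          · rw [one_smul] at hc
            exact hx c hc
          · have hxinv : ∀ a : α, x⁻¹ • a ≠ a := by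
              intro a ha
              apply hx a
              rw [inv_smul_eq_iff] at ha
              exact ha.symm
            have h1 : (⟨x⁻¹, N.inv_mem hxN⟩ : N) • c = (⟨y, hyN⟩ : N) • c := by
              change x⁻¹ • c = y • c
              rw [inv_smul_eq_iff, hc]
            have := hinj c ⟨x⁻¹, N.inv_mem hxN⟩ ⟨y, hyN⟩ hxinv hy h1
            have h2' : x⁻¹ = y := congrArg Subtype.val this
            apply hxy
            rw [← h2', mul_inv_cancel] }
  refine ⟨K, ?_, ?_, ?_, ?_⟩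
  · refine ⟨fun x hx g => ?_⟩
    obtain ⟨hxN, hx⟩ := hx
    refine ⟨hNn.conj_mem x hxN g, ?_⟩
    rcases hx with rfl | hx
    · left; simp
    · right
      exact hconjD x g hx
  · exact fun x hx => hx.1
  · intro h
    have hmem : (x0 : G) ∈ K := ⟨x0.2, Or.inr hx0D⟩
    rw [h, Subgroup.mem_bot] at hmem
    apply hx0D a0
    change (x0 : G) • a0 = a0
    rw [hmem, one_smul]
  · intro h
    have hmem : n0 ∈ K := by rw [h]; exact hn0
    rcases hmem.2 with h1 | h1
    · exact hn01 h1
    · exact h1 a0 hn0a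

end Cfsg.Agent.Helper61.TwoTrans
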