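import Cfsg.Agent.Helper61.FrobAction
import Cfsg.Agent.Helper61.TwoTrans
import Cfsg.Prelude.Def_LieExceptional

set_option autoImplicit false

/-! Normal subgroups of Zassenhaus groups. -/

namespace Cfsg.Agent.Helper61.Zassenhaus

open MulAction Cfsg.Agent.Helper61.TwoTrans

variable {G Ω : Type*} [Group G] [MulAction G Ω]

theorem finite_of_faithful [FaithfulSMul G Ω] [Finite Ω] : Finite G :=
  Finite.of_injective (MulAction.toPermHom G Ω) MulAction.toPerm_injective

/-- In a Zassenhaus group there are at least three points. -/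
theorem three_le_card [Finite Ω] (hZ : Cfsg.IsZassenhausGroup G Ω) : 3 ≤ Nat.card Ω := by
  classical
  obtain ⟨hf, _, _, ⟨g, hg1, a, b, hab, hga, hgb⟩, _⟩ := hZ
  have hex : ∃ c : Ω, g • c ≠ c := by
    by_contra hall
    push Not at hall
    apply hg1
    apply hf.eq_of_smul_eq_smul
    intro c
    rw [hall c, one_smul]
  obtain ⟨c, hc⟩ := hex
  have hca : c ≠ a := fun h => hc (h ▸ hga)
  have hcb : c ≠ b := fun h => hc (h ▸ hgb)
  haveI : Fintype Ω := Fintype.ofFinite Ω
  rw [Nat.card_eq_fintype_card]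
  have h3 : ({a, b, c} : Finset Ω).card = 3 := by
    rw [Finset.card_insert_of_notMem, Finset.card_insert_of_notMem, Finset.card_singleton]
    · simpa using hcb.symm
    · simp only [Finset.mem_insert, Finset.mem_singleton, not_or]
      exact ⟨hab, hca.symm⟩
  calc 3 = ({a, b, c} : Finset Ω).card := h3.symm
    _ ≤ Fintype.card Ω := Finset.card_le_univ _

/-- A non-trivial normal subgroup of a Zassenhaus group is transitive. -/
theorem trans_of_normal (hZ : Cfsg.IsZassenhausGroup G Ω) (N : Subgroup G) [N.Normal]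
    (hN : N ≠ ⊥) : Trans Ω N := by
  obtain ⟨hf, h2, _, _, _⟩ := hZ
  haveI : IsPreprimitive G Ω := isPreprimitive_of_is_two_pretransitive h2
  have htr : IsPretransitive N Ω := by
    apply MulAction.IsQuasiPreprimitive.isPretransitive_of_normal (G := G)
    intro hfix
    apply hN
    rw [Subgroup.eq_bot_iff_forall]
    intro t ht
    apply hf.eq_of_smul_eq_smul
    intro a
    have ha : a ∈ MulAction.fixedPoints N Ω := by rw [hfix]; trivial
    rw [one_smul]
    exact ha ⟨t, ht⟩
  intro a b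
  obtain ⟨⟨t, ht⟩, h⟩ := MulAction.exists_smul_eq N a b
  exact ⟨t, ht, h⟩

/-- Claim A: a non-trivial normal subgroup of a Zassenhaus group contains a non-identity element
fixing two points. -/
theorem exists_two_fixed [Finite Ω] (hZ : Cfsg.IsZassenhausGroup G Ω) (N : Subgroup G) [hNn : N.Normal]
    (hN : N ≠ ⊥) : ∃ g ∈ N, g ≠ 1 ∧ ∃ a b : Ω, a ≠ b ∧ g • a = a ∧ g • b = b := by
  classical
  have htrN := trans_of_normal hZ N hN
  have h3 := three_le_card hZ
  obtain ⟨hf, h2, h3f, h4, h5⟩ := hZ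
  haveI : Finite G := finite_of_faithful (Ω := Ω)
  by_contra hcon
  push Not at hcon
  -- the action of N
  have hΩ : 1 < Nat.card Ω := by omega
  have htrans : ∀ α β : Ω, ∃ g : N, g • α = β := by
    intro α β
    obtain ⟨t, ht, h⟩ := htrN α β
    exact ⟨⟨t, ht⟩, h⟩
  have hnreg : ∃ g : N, g ≠ 1 ∧ ∃ α : Ω, g • α = α := by
    haveI : IsPretransitive N Ω := ⟨htrans⟩
    obtain ⟨a, ha⟩ := h5 N hNn inferInstance
    obtain ⟨x, hx⟩ := (Subgroup.ne_bot_iff_exists_ne_one).mp ha
    refine ⟨x.1, ?_, a, x.2⟩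
    intro h
    apply hx
    exact Subtype.ext h
  have hfix : ∀ g : N, g ≠ 1 → ∀ α β : Ω, g • α = α → g • β = β → α = β := by
    intro g hg α β hα hβ
    by_contra hne
    have hg1 : (g : G) ≠ 1 := fun h => hg (Subtype.ext h)
    exact hcon g.1 g.2 hg1 α β hne hα hβ
  obtain ⟨M, hchar, hmem, htr, _⟩ := FrobAction.exists_kernel hΩ htrans hnreg hfix
  haveI := hchar
  have hMn : (M.map N.subtype).Normal := inferInstance
  have hMtr : IsPretransitive (M.map N.subtype) Ω := by
    refine ⟨fun a b => ?_⟩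
    obtain ⟨m, hm, h⟩ := htr a b
    exact ⟨⟨m.1, ⟨m, hm, rfl⟩⟩, h⟩
  obtain ⟨a, ha⟩ := h5 _ hMn hMtr
  obtain ⟨x, hx⟩ := (Subgroup.ne_bot_iff_exists_ne_one).mp ha
  obtain ⟨⟨x0, m, hm, hmx⟩, hxa⟩ := x
  have hx01 : x0 ≠ 1 := by
    intro h
    apply hx
    apply Subtype.ext
    apply Subtype.ext
    exact h
  rcases (hmem m).mp hm with h | h
  · apply hx01
    rw [← hmx, h]; rfl
  · apply h a
    have : x0 • a = a := hxa
    rw [← hmx] at this
    exact this

/-- Claim A at a prescribed point. -/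
theorem exists_two_fixed_at [Finite Ω] (hZ : Cfsg.IsZassenhausGroup G Ω) (N : Subgroup G)
    [hNn : N.Normal] (hN : N ≠ ⊥) (α : Ω) :
    ∃ g ∈ N, g ≠ 1 ∧ g • α = α ∧ ∃ b : Ω, b ≠ α ∧ g • b = b := by
  obtain ⟨g, hgN, hg1, a, b, hab, hga, hgb⟩ := exists_two_fixed hZ N hN
  obtain ⟨t, htN, hta⟩ := trans_of_normal hZ N hN a α
  refine ⟨t * g * t⁻¹, N.mul_mem (N.mul_mem htN hgN) (N.inv_mem htN), ?_, ?_, t • b, ?_, ?_⟩
  · intro h
    apply hg1
    have : g = t⁻¹ * (t * g * t⁻¹) * t := by group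
    rw [this, h]; group
  · rw [mul_smul, mul_smul, ← hta, inv_smul_smul, hga]
  · rw [← hta]
    intro h
    exact hab (smul_left_cancel t h).symm
  · rw [mul_smul, mul_smul, inv_smul_smul, hgb]

/-- The point stabilizer of a non-trivial normal subgroup of a Zassenhaus group is transitive on
the remaining points. -/
theorem stabilizer_trans [Finite Ω] (hZ : Cfsg.IsZassenhausGroup G Ω) (N : Subgroup G)
    [hNn : N.Normal] (hN : N ≠ ⊥) (α : Ω) :
    ∀ b c : Ω, b ≠ α → c ≠ α → ∃ n ∈ N, n • α = α ∧ n • b = c := by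
  classical
  obtain ⟨g1, hg1N, hg11, hg1α, β, hβ, hg1β⟩ := exists_two_fixed_at hZ N hN α
  have h3 := three_le_card hZ
  obtain ⟨hf, h2, h3f, h4, h5⟩ := hZ
  haveI : Finite G := finite_of_faithful (Ω := Ω)
  have h2' : DblTrans G Ω := twoTrans_of_isMultiplyPretransitive h2
  -- the action of the stabilizer on the other points
  have hΩ : 1 < Nat.card (SubMulAction.ofStabilizer G α) := by
    rw [SubMulAction.nat_card_ofStabilizer_eq]; omega
  have hval : ∀ (g : stabilizer G α) (x : SubMulAction.ofStabilizer G α),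
      ((g • x : SubMulAction.ofStabilizer G α) : Ω) = (g : G) • (x : Ω) := fun g x => rfl
  have htrans : ∀ x y : SubMulAction.ofStabilizer G α, ∃ g : stabilizer G α, g • x = y := by
    intro x y
    have hx : (x : Ω) ≠ α := (SubMulAction.mem_ofStabilizer_iff G α).mp x.2
    have hy : (y : Ω) ≠ α := (SubMulAction.mem_ofStabilizer_iff G α).mp y.2
    obtain ⟨g, hgα, hgx⟩ := h2' α x α y hx.symm hy.symm
    refine ⟨⟨g, hgα⟩, ?_⟩
    apply Subtype.ext
    rw [hval]
    exact hgx
  have hnreg : ∃ g : stabilizer G α, g ≠ 1 ∧ ∃ x : SubMulAction.ofStabilizer G α, g • x = x := by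
    refine ⟨⟨g1, hg1α⟩, ?_, ⟨β, (SubMulAction.mem_ofStabilizer_iff G α).mpr hβ⟩, ?_⟩
    · intro h
      apply hg11
      exact congrArg Subtype.val h
    · apply Subtype.ext
      rw [hval]
      exact hg1β
  have hfix : ∀ g : stabilizer G α, g ≠ 1 → ∀ x y : SubMulAction.ofStabilizer G α,
      g • x = x → g • y = y → x = y := by
    intro g hg x y hx hy
    by_contra hne
    have hx' : (x : Ω) ≠ α := (SubMulAction.mem_ofStabilizer_iff G α).mp x.2
    have hy' : (y : Ω) ≠ α := (SubMulAction.mem_ofStabilizer_iff G α).mp y.2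
    have hxy : (x : Ω) ≠ y := fun h => hne (Subtype.ext h)
    apply hg
    apply Subtype.ext
    refine h3f g.1 α x y hx'.symm hxy hy'.symm g.2 ?_ ?_
    · have := congrArg Subtype.val hx
      rwa [hval] at this
    · have := congrArg Subtype.val hy
      rwa [hval] at this
  obtain ⟨K, _, hmem, htr, hcmp⟩ := FrobAction.exists_kernel hΩ htrans hnreg hfix
  rcases hcmp (N.subgroupOf (stabilizer G α)) inferInstance with hKN | hNK
  · intro b c hb hc
    obtain ⟨k, hk, hkb⟩ := htr ⟨b, (SubMulAction.mem_ofStabilizer_iff G α).mpr hb⟩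
      ⟨c, (SubMulAction.mem_ofStabilizer_iff G α).mpr hc⟩
    have hkN : (k : G) ∈ N := Subgroup.mem_subgroupOf.mp (hKN hk)
    refine ⟨k.1, hkN, k.2, ?_⟩
    have := congrArg Subtype.val hkb
    rwa [hval] at this
  · exfalso
    have hmemK : (⟨g1, hg1α⟩ : stabilizer G α) ∈ K := hNK (Subgroup.mem_subgroupOf.mpr hg1N)
    rcases (hmem _).mp hmemK with h | h
    · apply hg11
      exact congrArg Subtype.val h
    · apply h ⟨β, (SubMulAction.mem_ofStabilizer_iff G α).mpr hβ⟩
      apply Subtype.ext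
      rw [hval]
      exact hg1β

/-- A non-trivial normal subgroup of a Zassenhaus group is doubly transitive. -/
theorem dblTrans_of_normal [Finite Ω] (hZ : Cfsg.IsZassenhausGroup G Ω) (N : Subgroup G)
    [hNn : N.Normal] (hN : N ≠ ⊥) :
    ∀ a b c d : Ω, a ≠ b → c ≠ d → ∃ n ∈ N, n • a = c ∧ n • b = d := by
  intro a b c d hab hcd
  obtain ⟨x, hxN, hxa⟩ := trans_of_normal hZ N hN a c
  have hxb : x • b ≠ c := by
    rw [← hxa]
    intro h
    exact hab (smul_left_cancel x h).symm
  obtain ⟨k, hkN, hkc, hkb⟩ := stabilizer_trans hZ N hN c (x • b) d hxb hcd.symm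
  refine ⟨k * x, N.mul_mem hkN hxN, ?_, ?_⟩
  · rw [mul_smul, hxa, hkc]
  · rw [mul_smul, hkb]

/-- A transitive subgroup of a semiregular subgroup is the whole subgroup. -/
theorem eq_of_le_of_trans {H Ω : Type*} [Group H] [MulAction H Ω] [Nonempty Ω] {X Y : Subgroup H}
    (hXY : X ≤ Y) (hX : Trans Ω X) (hY : ∀ a : Ω, ∀ n ∈ Y, n • a = a → n = 1) : X = Y := by
  apply le_antisymm hXY
  intro y hy
  obtain ⟨a⟩ := ‹Nonempty Ω›
  obtain ⟨x, hx, hxa⟩ := hX a (y • a)
  have h1 : (x⁻¹ * y) • a = a := by rw [mul_smul, ← hxa, inv_smul_smul]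
  have h2 := hY a (x⁻¹ * y) (Y.mul_mem (Y.inv_mem (hXY hx)) hy) h1
  have : y = x := by
    have := congrArg (fun z => x * z) h2
    simpa using this
  rw [this]; exact hx

/-- In a faithful doubly transitive group there is at most one regular normal subgroup. -/
theorem regular_normal_unique {H Ω : Type*} [Group H] [MulAction H Ω] [FaithfulSMul H Ω]
    [Finite H] [Finite Ω] [Nontrivial Ω]
    (h2 : DblTrans H Ω) (A B : Subgroup H) [hAn : A.Normal] [hBn : B.Normal]
    (hAtr : Trans Ω A) (hAreg : ∀ a : Ω, ∀ n ∈ A, n • a = a → n = 1)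
    (hBtr : Trans Ω B) (hBreg : ∀ a : Ω, ∀ n ∈ B, n • a = a → n = 1) : A = B := by
  classical
  have h2m : IsMultiplyPretransitive H Ω 2 :=
    is_two_pretransitive_iff.mpr (fun {a b c d} hab hcd => h2 a b c d hab hcd)
  haveI : IsPreprimitive H Ω := isPreprimitive_of_is_two_pretransitive h2m
  have hne_bot : ∀ X : Subgroup H, Trans Ω X → X ≠ ⊥ := by
    intro X hX h0
    obtain ⟨a, b, hab⟩ := exists_pair_ne Ω
    obtain ⟨t, ht, hta⟩ := hX a b
    rw [h0, Subgroup.mem_bot] at ht
    rw [ht, one_smul] at hta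
    exact hab hta
  have htrans_of_normal : ∀ M : Subgroup H, M.Normal → M ≠ ⊥ → Trans Ω M := by
    intro M hMn hM0
    have htr : IsPretransitive M Ω := by
      apply MulAction.IsQuasiPreprimitive.isPretransitive_of_normal (G := H)
      intro hfix
      apply hM0
      rw [Subgroup.eq_bot_iff_forall]
      intro t ht
      apply FaithfulSMul.eq_of_smul_eq_smul (α := Ω)
      intro a
      have ha : a ∈ MulAction.fixedPoints M Ω := by rw [hfix]; trivial
      rw [one_smul]
      exact ha ⟨t, ht⟩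
    intro a b
    obtain ⟨⟨t, ht⟩, h⟩ := MulAction.exists_smul_eq M a b
    exact ⟨t, ht, h⟩
  have hminA : ∀ M : Subgroup H, M.Normal → M ≤ A → M = ⊥ ∨ M = A := by
    intro M hMn hMA
    by_cases hM0 : M = ⊥
    · exact Or.inl hM0
    · exact Or.inr (eq_of_le_of_trans hMA (htrans_of_normal M hMn hM0) hAreg)
  have hA0 : A ≠ ⊥ := hne_bot A hAtr
  obtain ⟨hab, _⟩ := regular_case h2 A hA0 hminA hAreg
  have hinf : (A ⊓ B).Normal := inferInstance
  rcases hminA (A ⊓ B) hinf inf_le_left with h | h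
  · exfalso
    apply hne_bot B hBtr
    rw [Subgroup.eq_bot_iff_forall]
    intro b hb
    obtain ⟨ω⟩ : Nonempty Ω := inferInstance
    obtain ⟨a', ha', haω⟩ := hAtr ω (b • ω)
    have hcomm : ∀ t ∈ A, b * t = t * b := by
      intro t ht
      have := Subgroup.commute_of_normal_of_disjoint A B hAn hBn (disjoint_iff.mpr h) t b ht hb
      exact this.eq.symm
    have hc : ∀ t ∈ A, (a'⁻¹ * b) * t = t * (a'⁻¹ * b) := by
      intro t ht
      have h1 : a'⁻¹ * t = t * a'⁻¹ := hab _ (A.inv_mem ha') _ ht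
      rw [mul_assoc, hcomm t ht, ← mul_assoc, h1, mul_assoc]
    have hfixω : (a'⁻¹ * b) • ω = ω := by rw [mul_smul, ← haω, inv_smul_smul]
    have h1 := eq_one_of_commute_of_fixed hAtr hc hfixω
    have hba : b = a' := by
      have := congrArg (fun z => a' * z) h1
      simpa using this
    have hbA : b ∈ A ⊓ B := Subgroup.mem_inf.mpr ⟨hba ▸ ha', hb⟩
    rw [h, Subgroup.mem_bot] at hbA
    exact hbA
  · have hAB : A ≤ B := le_of_eq_of_le h.symm inf_le_right
    exact eq_of_le_of_trans hAB hAtr hBreg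

/-- A non-trivial normal subgroup of a Zassenhaus group is a Zassenhaus group. -/
theorem isZassenhausGroup_of_normal [Finite Ω] (hZ : Cfsg.IsZassenhausGroup G Ω) (N : Subgroup G)
    [hNn : N.Normal] (hN : N ≠ ⊥) : Cfsg.IsZassenhausGroup N Ω := by
  classical
  have h3 := three_le_card hZ
  have hdbl := dblTrans_of_normal hZ N hN
  have h4N := exists_two_fixed hZ N hN
  obtain ⟨hf, h2, h3f, h4, h5⟩ := hZ
  haveI : Finite G := finite_of_faithful (Ω := Ω)
  haveI hfN : FaithfulSMul N Ω :=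
    ⟨fun {n n'} h => Subtype.ext (hf.eq_of_smul_eq_smul (fun a => h a))⟩
  have hdblN : DblTrans N Ω := by
    intro a b c d hab hcd
    obtain ⟨n, hn, h1, h2⟩ := hdbl a b c d hab hcd
    exact ⟨⟨n, hn⟩, h1, h2⟩
  haveI : Nontrivial Ω := by
    rw [← Finite.one_lt_card_iff_nontrivial]; omega
  refine ⟨hfN, is_two_pretransitive_iff.mpr (fun {a b c d} hab hcd => hdblN a b c d hab hcd),
    ?_, ?_, ?_⟩
  · intro g a b c hab hbc hac ha hb hc
    exact Subtype.ext (h3f g.1 a b c hab hbc hac ha hb hc)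
  · obtain ⟨g, hgN, hg1, a, b, hab, hga, hgb⟩ := h4N
    exact ⟨⟨g, hgN⟩, fun h => hg1 (congrArg Subtype.val h), a, b, hab, hga, hgb⟩
  · intro M hMn hMtr
    by_contra hcon
    push Not at hcon
    have hMtr' : Trans Ω M := by
      intro a b
      obtain ⟨⟨t, ht⟩, h⟩ := MulAction.exists_smul_eq M a b
      exact ⟨t, ht, h⟩
    have hMreg : ∀ a : Ω, ∀ n ∈ M, n • a = a → n = 1 := by
      intro a n hn hna
      have hmem : (⟨n, hn⟩ : M) ∈ stabilizer M a := hna
      rw [hcon a, Subgroup.mem_bot] at hmem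
      exact congrArg Subtype.val hmem
    -- conjugates of M
    have hconj : ∀ g : G, M.map (MulAut.conjNormal g : N ≃* N).toMonoidHom = M := by
      intro g
      haveI hn' : (M.map (MulAut.conjNormal g : N ≃* N).toMonoidHom).Normal :=
        Subgroup.Normal.map hMn _ (MulEquiv.surjective _)
      have hval : ∀ m : N, (((MulAut.conjNormal g : N ≃* N) m : N) : G) = g * m * g⁻¹ :=
        fun m => MulAut.conjNormal_apply g m
      have hsm : ∀ (m : N) (a : Ω), ((MulAut.conjNormal g : N ≃* N) m) • a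
          = g • ((m : G) • (g⁻¹ • a)) := by
        intro m a
        change (((MulAut.conjNormal g : N ≃* N) m : N) : G) • a = _
        rw [hval, mul_smul, mul_smul]
      apply regular_normal_unique hdblN
      · intro a b
        obtain ⟨m, hm, hmab⟩ := hMtr' (g⁻¹ • a) (g⁻¹ • b)
        refine ⟨(MulAut.conjNormal g : N ≃* N) m, ⟨m, hm, rfl⟩, ?_⟩
        rw [hsm]
        have : (m : G) • (g⁻¹ • a) = g⁻¹ • b := hmab
        rw [this, smul_inv_smul]
      · rintro a x ⟨m, hm, rfl⟩ hxa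
        have h1 : ((MulAut.conjNormal g : N ≃* N) m) • a = a := hxa
        rw [hsm] at h1
        have h2 : m • (g⁻¹ • a) = g⁻¹ • a := by
          change (m : G) • (g⁻¹ • a) = g⁻¹ • a
          exact eq_inv_smul_iff.mpr h1
        have := hMreg _ m hm h2
        rw [this]
        simp
      · exact hMtr'
      · exact hMreg
    have hMsn : (M.map N.subtype).Normal := by
      refine ⟨fun x hx g => ?_⟩
      obtain ⟨m, hm, rfl⟩ := hx
      have hmem : (MulAut.conjNormal g : N ≃* N) m ∈ M := by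
        rw [← hconj g]
        exact ⟨m, hm, rfl⟩
      refine ⟨_, hmem, ?_⟩
      exact MulAut.conjNormal_apply g m
    have hMstr : IsPretransitive (M.map N.subtype) Ω := by
      refine ⟨fun a b => ?_⟩
      obtain ⟨m, hm, h⟩ := hMtr' a b
      exact ⟨⟨m.1, ⟨m, hm, rfl⟩⟩, h⟩
    obtain ⟨a, ha⟩ := h5 _ hMsn hMstr
    obtain ⟨x, hx⟩ := (Subgroup.ne_bot_iff_exists_ne_one).mp ha
    obtain ⟨⟨x0, m, hm, hmx⟩, hxa⟩ := x
    apply hx
    apply Subtype.ext
    apply Subtype.ext
    have hxa' : x0 • a = a := hxa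
    have hma : m • a = a := by
      change (m : G) • a = a
      have : (m : G) = x0 := hmx
      rw [this]; exact hxa'
    have := hMreg a m hm hma
    change x0 = 1
    rw [← hmx, this]; rfl

end Cfsg.Agent.Helper61.Zassenhaus
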