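import Cfsg.Agent.Helper2.SC3R.Basic

/-!
helper2 SC3R farm (S3331 block R), piece (TRANSP) (helper61): transport an invariant subgroup along an
isomorphism and conjugate it to `y`.  Name + statement verbatim from `tools/helper2_sc3r/Skel.lean.txt`.
-/

set_option autoImplicit false

namespace Cfsg.Agent.Helper61.SC3R

open Cfsg.Agent.Helper62.SC3 Cfsg.Agent.Helper2.SC3R

universe u v

variable {G : Type u} [Group G]

/-- conjugation by `g` maps a subgroup normalised by `z` to one normalised by `g * z * g⁻¹` -/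
theorem TRANSP_conj {H : Type*} [Group H] (V : Subgroup H) (z g : H)
    (hV : ∀ v ∈ V, z * v * z⁻¹ ∈ V) :
    ∀ w ∈ V.map (MulAut.conj g).toMonoidHom,
      (g * z * g⁻¹) * w * (g * z * g⁻¹)⁻¹ ∈ V.map (MulAut.conj g).toMonoidHom := by
  rintro _ ⟨v, hv, rfl⟩
  refine ⟨z * v * z⁻¹, hV v hv, ?_⟩
  simp only [MulEquiv.coe_toMonoidHom, MulAut.conj_apply]
  group

/-- (TRANSP) transport an invariant subgroup along an isomorphism and conjugate it to `y`. -/
theorem exists_invariant_of_equiv {H : Type u} [Group H] [Finite H] {y : H} (hy : SC H y)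
    {A : Type v} [Group A] (e : H ≃* A) (z : A) (hz : orderOf z = 3) (V : Subgroup A)
    (hV : ∀ v ∈ V, z * v * z⁻¹ ∈ V) :
    ∃ Y : Subgroup H, Nat.card Y = Nat.card V ∧ ∀ w ∈ Y, y * w * y⁻¹ ∈ Y := by
  -- transport to `H`
  have hz' : orderOf (e.symm z) = 3 := by rw [MulEquiv.orderOf_eq, hz]
  obtain ⟨V', hV'def⟩ : ∃ V' : Subgroup H, V' = V.map e.symm.toMonoidHom := ⟨_, rfl⟩
  have hcard' : Nat.card V' = Nat.card V := by
    rw [hV'def]
    exact Subgroup.card_map_of_injective e.symm.injective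
  have hV'1 : ∀ v ∈ V', e.symm z * v * (e.symm z)⁻¹ ∈ V' := by
    intro v hv
    rw [hV'def] at hv ⊢
    obtain ⟨a, ha, rfl⟩ := hv
    refine ⟨z * a * z⁻¹, hV a ha, ?_⟩
    simp only [MulEquiv.coe_toMonoidHom, map_mul, map_inv]
  -- the inverse normalises `V'` too, being the square
  have hinv : (e.symm z)⁻¹ = e.symm z * e.symm z := by
    have h3 : e.symm z ^ 3 = 1 := by rw [← hz']; exact pow_orderOf_eq_one _
    have : e.symm z * (e.symm z * e.symm z) = 1 := by
      rw [← h3, pow_succ, pow_two, mul_assoc]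
    exact inv_eq_of_mul_eq_one_right this
  have hV'2 : ∀ v ∈ V', (e.symm z)⁻¹ * v * ((e.symm z)⁻¹)⁻¹ ∈ V' := by
    intro v hv
    have h1 := hV'1 _ (hV'1 v hv)
    have e1 : (e.symm z)⁻¹ * v * ((e.symm z)⁻¹)⁻¹ =
        e.symm z * (e.symm z * v * (e.symm z)⁻¹) * (e.symm z)⁻¹ := by
      conv_lhs => rw [hinv]
      group
    rw [e1]
    exact h1
  obtain ⟨g, hg⟩ := conj_of_order_three hy hz'
  refine ⟨V'.map (MulAut.conj g⁻¹).toMonoidHom, ?_, ?_⟩
  · rw [← hcard']
    exact Subgroup.card_map_of_injective (MulAut.conj g⁻¹).injective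
  · rcases hg with hg | hg
    · have hyg : y = g⁻¹ * e.symm z * (g⁻¹)⁻¹ := by rw [← hg]; group
      rw [hyg]
      exact TRANSP_conj V' (e.symm z) g⁻¹ hV'1
    · have hyg : y = g⁻¹ * (e.symm z)⁻¹ * (g⁻¹)⁻¹ := by rw [← hg]; group
      rw [hyg]
      exact TRANSP_conj V' (e.symm z)⁻¹ g⁻¹ hV'2

end Cfsg.Agent.Helper61.SC3R
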