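import Cfsg.Agent.Helper61.ZpEmbed
import Cfsg.Agent.Helper5.PSL2
import Cfsg.Agent.Helper5.PSL2Simple

set_option autoImplicit false

/-! **Recognition of `PSL(2,p)` by its order**: a simple group of order `p (p² - 1) / 2`
(`p ≥ 5` prime) is isomorphic to `PSL(2, F)` for any field `F` with `p` elements. -/

namespace Cfsg.Agent.Helper61.Zp

open Equiv MulAction

universe u v

/-- Any two simple groups of order `p (p² - 1) / 2` are isomorphic. -/
theorem simple_iso_of_card {G₁ : Type u} {G₂ : Type v} [Group G₁] [Group G₂] [Finite G₁]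
    [Finite G₂] [IsSimpleGroup G₁] [IsSimpleGroup G₂] (p : ℕ) [Fact p.Prime] (hp3 : 3 ≤ p)
    (h₁ : 2 * Nat.card G₁ = p * (p ^ 2 - 1)) (h₂ : 2 * Nat.card G₂ = p * (p ^ 2 - 1)) :
    Nonempty (G₁ ≃* G₂) := by
  have hp := (Fact.out : p.Prime)
  -- the order is not a prime
  have hnotprime : ∀ n : ℕ, 2 * n = p * (p ^ 2 - 1) → ¬ n.Prime := by
    intro n hn hnp
    have hodd : p % 2 = 1 := by
      rcases hp.eq_two_or_odd with h | h
      · omega
      · exact h
    have h8 : 8 ≤ p ^ 2 - 1 := by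
      have : 9 ≤ p ^ 2 := by nlinarith
      omega
    -- `p ∣ n`
    have hpn : p ∣ n := by
      have h1 : p ∣ 2 * n := by rw [hn]; exact dvd_mul_right _ _
      rcases (Nat.Prime.dvd_mul hp).mp h1 with h | h
      · have := Nat.le_of_dvd (by norm_num) h
        omega
      · exact h
    have hnp' : n = p := ((Nat.prime_dvd_prime_iff_eq hp hnp).mp hpn).symm
    rw [hnp'] at hn
    have : 2 = p ^ 2 - 1 := by
      have h2 : p * 2 = p * (p ^ 2 - 1) := by rw [← hn]; ring
      exact Nat.eq_of_mul_eq_mul_left hp.pos h2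
    omega
  obtain ⟨ρ₁, hinj₁, hZ₁⟩ := exists_zgroup_embedding (G := G₁) hp3 h₁
  obtain ⟨ρ₂, hinj₂, hZ₂⟩ := exists_zgroup_embedding (G := G₂) hp3 h₂
  have e₁ : G₁ ≃* ρ₁.range := MonoidHom.ofInjective hinj₁
  have e₂ : G₂ ≃* ρ₂.range := MonoidHom.ofInjective hinj₂
  haveI : IsSimpleGroup ρ₁.range := e₁.symm.isSimpleGroup
  haveI : IsSimpleGroup ρ₂.range := e₂.symm.isSimpleGroup
  have hna₁ : ¬ IsMulCommutative ρ₁.range := by
    intro hc
    apply Cfsg.Agent.Helper17.not_comm_of_simple_of_not_prime (G := G₁) (hnotprime _ h₁)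
    refine ⟨⟨fun a b => e₁.injective ?_⟩⟩
    rw [map_mul, map_mul]
    exact hc.is_comm.comm _ _
  have hna₂ : ¬ IsMulCommutative ρ₂.range := by
    intro hc
    apply Cfsg.Agent.Helper17.not_comm_of_simple_of_not_prime (G := G₂) (hnotprime _ h₂)
    refine ⟨⟨fun a b => e₂.injective ?_⟩⟩
    rw [map_mul, map_mul]
    exact hc.is_comm.comm _ _
  have heq : ρ₁.range = ρ₂.range := hZ₁.unique hZ₂ hna₁ hna₂
  exact ⟨e₁.trans ((MulEquiv.subgroupCongr heq).trans e₂.symm)⟩

/-- A simple group of order `p (p² - 1) / 2`, `p ≥ 5`, is `PSL(2, F)` for `|F| = p`. -/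
theorem simple_iso_psl {G : Type u} [Group G] [Finite G] [IsSimpleGroup G] (p : ℕ)
    [Fact p.Prime] (hp5 : 5 ≤ p) (h : 2 * Nat.card G = p * (p ^ 2 - 1)) {F : Type v} [Field F]
    [Fintype F] (hF : Fintype.card F = p) :
    Nonempty (G ≃* Matrix.ProjectiveSpecialLinearGroup (Fin 2) F) := by
  have hp := (Fact.out : p.Prime)
  haveI : IsSimpleGroup (Matrix.ProjectiveSpecialLinearGroup (Fin 2) F) :=
    Cfsg.Agent.Helper5.isSimpleGroup_PSL2_of_card (by omega)
  have hodd : Odd (Fintype.card F) := by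
    rw [hF]
    rcases hp.eq_two_or_odd' with h2 | h2
    · omega
    · exact h2
  have hc := Cfsg.Agent.Helper5.card_PSL2_mul (F := F)
  rw [Cfsg.Agent.Helper5.card_center_SL2_of_two_ne_zero
    (Cfsg.Agent.Helper5.two_ne_zero_of_odd_card hodd), hF] at hc
  haveI : Finite (Matrix.ProjectiveSpecialLinearGroup (Fin 2) F) := by
    apply Nat.finite_of_card_ne_zero
    intro h0
    rw [h0, zero_mul] at hc
    have : 0 < p * (p ^ 2 - 1) := by
      apply Nat.mul_pos hp.pos
      have : 25 ≤ p ^ 2 := by nlinarith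
      omega
    omega
  exact simple_iso_of_card p (by omega) h (by rw [mul_comm]; exact hc)

end Cfsg.Agent.Helper61.Zp
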