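import Mathlib
import Cfsg.Agent.Helper61.S3tMain
import Cfsg.Agent.Helper60.Zass2Trans

set_option autoImplicit false
set_option linter.unusedSectionVars false

/-! Sharply triply transitive groups as Zassenhaus data. -/

namespace Cfsg.Agent.Helper61.S3t

open Cfsg.Agent.Helper61.Zs MulAction

variable {G Ω : Type*} [Group G] [MulAction G Ω]

/-- Zassenhaus data from a doubly transitive group in which only the identity fixes three
points and the two-point stabilisers have even order -/
theorem exists_ZData [Finite G] [Finite Ω]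
    (h2 : IsMultiplyPretransitive G Ω 2)
    (h3f : ∀ g : G, ∀ a b c : Ω, a ≠ b → b ≠ c → a ≠ c → g • a = a → g • b = b → g • c = c → g = 1)
    {a b : Ω} (hab : a ≠ b) (h3c : 3 ≤ Nat.card Ω)
    (heven : Even (Nat.card (stabH G a b))) : ∃ K : Subgroup G, ZData a b K := by
  classical
  haveI : Fintype Ω := Fintype.ofFinite Ω
  have hpos : 0 < Nat.card (stabH G a b) := Nat.card_pos
  have h2le : 2 ≤ Nat.card (stabH G a b) := by
    obtain ⟨m, hm⟩ := heven
    omega
  obtain ⟨y1, hy11⟩ : ∃ y : ↥(stabH G a b), y ≠ 1 := by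
    haveI : Nontrivial ↥(stabH G a b) := Finite.one_lt_card_iff_nontrivial.mp (by omega)
    exact exists_ne 1
  have hy1a : y1.1 • a = a := (mem_stabH.mp y1.2).1
  have hy1b : y1.1 • b = b := (mem_stabH.mp y1.2).2
  obtain ⟨K, hK1, hK2, hK3, hK4⟩ :=
    Cfsg.Agent.Helper60.Zass2Trans.exists_kernel_of_two_trans h2 h3f hab h3c
      (y1 := y1.1) (fun h => hy11 (Subtype.ext h)) hy1a hy1b
  obtain ⟨w, hw⟩ : ∃ w : Ω, w ≠ a ∧ w ≠ b := by
    by_contra hcon
    push Not at hcon
    have : (Finset.univ : Finset Ω) ⊆ {a, b} := by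
      intro x _
      rw [Finset.mem_insert, Finset.mem_singleton]
      by_cases hx : x = a
      · exact Or.inl hx
      · exact Or.inr (hcon x hx)
    have := Finset.card_le_card this
    rw [Finset.card_univ] at this
    have h2' : ({a, b} : Finset Ω).card ≤ 2 := Finset.card_le_two
    rw [Nat.card_eq_fintype_card] at h3c
    omega
  exact ⟨K,
    { ne := hab
      third := ⟨w, hw⟩
      two_trans := fun x y x' y' hxy hxy' =>
        Cfsg.Agent.Helper60.Zassenhaus.exists_map2 h2 hxy hxy'
      three_fixed := h3f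
      K_fix := fun k hk => mem_stabilizer_iff.mp (hK1 hk)
      K_norm := fun g hg k hk => hK2 g (mem_stabilizer_iff.mpr hg) k hk
      K_trans := hK4
      K_free := hK3 }⟩

/-- **A sharply triply transitive group of even degree has a nontrivial character of order
two.** -/
theorem exists_character_of_sharp [Finite G] [Finite Ω]
    (h2 : IsMultiplyPretransitive G Ω 2)
    (h3f : ∀ g : G, ∀ a b c : Ω, a ≠ b → b ≠ c → a ≠ c → g • a = a → g • b = b → g • c = c → g = 1)
    {a b : Ω} (hab : a ≠ b) (h3c : 3 ≤ Nat.card Ω)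
    (heven : Even (Nat.card (stabH G a b)))
    (htr : ∀ w w' : Ω, w ≠ a → w ≠ b → w' ≠ a → w' ≠ b → ∃ h ∈ stabH G a b, h • w = w') :
    ∃ φ : G →* ℤˣ, φ ≠ 1 := by
  obtain ⟨K, D⟩ := exists_ZData h2 h3f hab h3c heven
  obtain ⟨j, hj, hj1, hjj⟩ := D.exists_invol heven
  obtain ⟨w, hw1, hw2⟩ := D.third
  obtain ⟨i, -, -, hiw, -, hi1, hi2⟩ := D.exists_invol_swap hj hj1 hjj hw1 hw2
  have S : S3Data D i w :=
    { heven := heven
      htr := htr
      t_inf := hi1
      t_zero := hi2
      c_inf := hw1
      c_zero := hw2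
      t_c := hiw }
  exact S.exists_character

end Cfsg.Agent.Helper61.S3t
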