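import Mathlib
import Cfsg.Agent.Helper3.S3S3Defs

/-!
# S3805 piece (G5c) for helper3: fusion and realness facts from `NData`
-/

set_option autoImplicit false

namespace Cfsg.Agent.Helper61.S3S3

open Cfsg.Agent.Helper3.S3S3

universe u

variable {G : Type u} [Group G]

theorem inv_eq_sq_of_pow_three {z : G} (hz : z ^ 3 = 1) : z⁻¹ = z ^ 2 := by
  rw [inv_eq_iff_mul_eq_one, ← pow_succ']
  exact hz

/-- (G5c) fusion and realness. -/
theorem fusion_facts (T : Subgroup G) (x y a b : G) (hd : NData T x y a b)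
    (hTI : ∀ g t : G, t ∈ T → t ≠ 1 → g * t * g⁻¹ ∈ T → g ∈ Subgroup.normalizer (T : Set G)) :
    x * y ≠ 1 ∧ IsConj x x⁻¹ ∧ IsConj y y⁻¹ ∧ IsConj (x * y) (x * y)⁻¹ ∧
      ¬ IsConj x y ∧ ¬ IsConj x (x * y) ∧ ¬ IsConj y (x * y) := by
  have hx1 := hd.x1
  have hy1 := hd.y1
  have hxinv : x⁻¹ = x ^ 2 := inv_eq_sq_of_pow_three hd.x3
  have hyinv : y⁻¹ = y ^ 2 := inv_eq_sq_of_pow_three hd.y3
  -- `x = y ^ j` is impossible
  have hxy_ne : ∀ j : ℕ, x ≠ y ^ j := by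
    intro j h
    have := hd.indep 1 j (by rw [pow_one]; exact h)
    rw [pow_one] at this
    exact hx1 this
  have hx2y_ne : ∀ j : ℕ, x ^ 2 ≠ y ^ j := by
    intro j h
    have h2 := hd.indep 2 j h
    apply hx1
    have h3 := hd.x3
    calc x = x ^ 3 * (x ^ 2)⁻¹ := by group
      _ = 1 := by rw [h3, h2]; simp
  refine ⟨?_, ?_, ?_, ?_, ?_, ?_, ?_⟩
  · intro h
    have : x = y⁻¹ := eq_inv_of_mul_eq_one_left h
    rw [hyinv] at this
    exact hxy_ne 2 this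
  · rw [isConj_iff]
    exact ⟨a, hd.ax⟩
  · rw [isConj_iff]
    exact ⟨b, hd.by_⟩
  · rw [isConj_iff]
    refine ⟨a * b, ?_⟩
    have e1 : a * b * (x * y) * (a * b)⁻¹ =
        (a * (b * x * b⁻¹) * a⁻¹) * (a * (b * y * b⁻¹) * a⁻¹) := by group
    have hay' : a * y⁻¹ * a⁻¹ = y⁻¹ := by
      have : a * y⁻¹ * a⁻¹ = (a * y * a⁻¹)⁻¹ := by group
      rw [this, hd.ay]
    rw [e1, hd.bx, hd.by_, hd.ax, hay', mul_inv_rev]
    have : x⁻¹ * y⁻¹ = (y * x)⁻¹ := by group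
    rw [this, ← hd.comm]
    group
  · intro h
    rw [isConj_iff] at h
    obtain ⟨g, hg⟩ := h
    have hgN := hTI g x hd.xT hx1 (by rw [hg]; exact hd.yT)
    rcases hd.conj_in_N hgN with ⟨h1, _⟩ | ⟨h1, _⟩ | ⟨h1, _⟩ | ⟨h1, _⟩
    · rw [hg] at h1
      exact hxy_ne 1 (by rw [pow_one]; exact h1.symm)
    · rw [hg, hxinv] at h1
      exact hx2y_ne 1 (by rw [pow_one]; exact h1.symm)
    · rw [hg] at h1
      exact hxy_ne 1 (by rw [pow_one]; exact h1.symm)
    · rw [hg, hxinv] at h1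
      exact hx2y_ne 1 (by rw [pow_one]; exact h1.symm)
  · intro h
    rw [isConj_iff] at h
    obtain ⟨g, hg⟩ := h
    have hgN := hTI g x hd.xT hx1 (by rw [hg]; exact T.mul_mem hd.xT hd.yT)
    have key : x * y = x ∨ x * y = x⁻¹ := by
      rcases hd.conj_in_N hgN with ⟨h1, _⟩ | ⟨h1, _⟩ | ⟨h1, _⟩ | ⟨h1, _⟩
      · left; rw [← hg, h1]
      · right; rw [← hg, h1]
      · left; rw [← hg, h1]
      · right; rw [← hg, h1]
    rcases key with h1 | h1
    · exact hy1 (mul_eq_left.mp h1)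
    · -- `y = x⁻¹ * x⁻¹ = x`
      have hyx : y = x := by
        have : y = x⁻¹ * x⁻¹ := by
          calc y = x⁻¹ * (x * y) := by group
            _ = x⁻¹ * x⁻¹ := by rw [h1]
        rw [this, hxinv, ← pow_add]
        calc x ^ (2 + 2) = x ^ 3 * x := by rw [← pow_succ]
          _ = x := by rw [hd.x3, one_mul]
      exact hxy_ne 1 (by rw [pow_one]; exact hyx.symm)
  · intro h
    rw [isConj_iff] at h
    obtain ⟨g, hg⟩ := h
    have hgN := hTI g y hd.yT hy1 (by rw [hg]; exact T.mul_mem hd.xT hd.yT)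
    have key : x * y = y ∨ x * y = y⁻¹ := by
      rcases hd.conj_in_N hgN with ⟨_, h1⟩ | ⟨_, h1⟩ | ⟨_, h1⟩ | ⟨_, h1⟩
      · left; rw [← hg, h1]
      · left; rw [← hg, h1]
      · right; rw [← hg, h1]
      · right; rw [← hg, h1]
    rcases key with h1 | h1
    · exact hx1 (mul_eq_right.mp h1)
    · have hxy' : x = y ^ 4 := by
        have : x = y⁻¹ * y⁻¹ := by
          calc x = (x * y) * y⁻¹ := by group
            _ = y⁻¹ * y⁻¹ := by rw [h1]
        rw [this, hyinv, ← pow_add]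
      exact hxy_ne 4 hxy'

end Cfsg.Agent.Helper61.S3S3
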