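import Cfsg.Agent.Helper25.FSwan.Defs
import Cfsg.Agent.Helper23.DT_MN4
import Cfsg.Agent.Helper87.DT_DEC

/-!
helper25 FS farm (S4440), piece (BLK), core (helper61): a Brauer constituent of `χ°` is an integral
combination of the `χ'°`, `χ'` in the block of `χ` -- with (PERM) as an explicit hypothesis.
-/

set_option autoImplicit false
set_option linter.unusedSectionVars false
set_option linter.unusedVariables false

namespace Cfsg.Agent.Helper61.FS

open Cfsg Cfsg.Agent.Helper16 Cfsg.Agent.Helper16.DT Cfsg.Agent.Helper25.FS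

universe u

variable {p : ℕ} [Fact p.Prime] {M : Ideal AlgInt} [M.IsMaximal] {G : Type u} [Group G]

/-- members of `IBrIn` are irreducible Brauer characters -/
theorem BLK_IBrIn_subset [Fintype G] (B : Set (IrrCharacter G)) {φ : G → ℂ}
    (h : φ ∈ IBrIn p M B) : φ ∈ IBr p M G := by
  obtain ⟨n, ρ, hirr, rfl, -⟩ := h
  exact ⟨n, ρ, hirr, rfl⟩

/-- (BLK), with (PERM) as a hypothesis -/
theorem exists_int_comb_of_brConst_of
    (hperm : ∀ l l' : List (G → ℂ), (∀ ψ ∈ l, ψ ∈ IBr p M G) → (∀ ψ ∈ l', ψ ∈ IBr p M G) →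
      l.sum = l'.sum → l.Perm l')
    (hM : IsPModular p M) [Fintype G] {φ : G → ℂ}
    {χ : IrrCharacter G} (h : BrConst p M φ (χ : G → ℂ)) :
    ∃ a : IrrCharacter G → ℤ,
      φ = ∑ᶠ χ' ∈ blockOf M (χ : G → ℂ), (a χ' : ℂ) • pRegularPart p (χ' : G → ℂ) := by
  have hpM : (p : AlgInt) ∈ M := hM.2.2
  obtain ⟨l, hl, hφl, hsum⟩ := h
  obtain ⟨l', hl', hsum'⟩ := Cfsg.Agent.Helper87.DT.decomposition hpM χ
  have hl'' : ∀ ψ ∈ l', ψ ∈ IBr p M G := fun ψ hψ => BLK_IBrIn_subset _ (hl' ψ hψ)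
  have hp := hperm l l' hl hl'' (by rw [← hsum, ← hsum'])
  have hφl' : φ ∈ l' := hp.mem_iff.mp hφl
  have hφB : φ ∈ IBrIn p M (blockOf M (χ : G → ℂ)) := hl' φ hφl'
  obtain ⟨S, hS, -, -, -, h4, -⟩ :=
    Cfsg.Agent.Helper23.DT.dt_main_canon hM (blockOf M (χ : G → ℂ)) ⟨χ, rfl⟩
  have hφS : φ ∈ S := by
    have : φ ∈ (↑S : Set (G → ℂ)) := by rw [hS]; exact hφB
    exact this
  exact h4 φ hφS

end Cfsg.Agent.Helper61.FS
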