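import Cfsg.Agent.Helper25.FSwan.Defs
import Cfsg.Agent.Helper15.IndFun
import Cfsg.Agent.Helper15.CliffordCorr
import Cfsg.Agent.S0921
import Cfsg.Agent.Helper61.FS_BLKcore

/-!
helper25 FS farm (S4440), piece (S2e), core (helper61): a Brauer constituent `φ` of `χ°`, `χ` over `θ`, is
induced from the `θ`-part of its restriction to `T` -- with (PERM), (S2b) `thetaProj_pRegularPart`, (S2c) and
(S2d) as explicit hypotheses.
-/

set_option autoImplicit false
set_option linter.unusedSectionVars false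
set_option linter.unusedVariables false

namespace Cfsg.Agent.Helper61.FS

open Cfsg Cfsg.Agent.Helper16 Cfsg.Agent.Helper16.DT Cfsg.Agent.Helper25.FS

universe u

variable {p : ℕ} [Fact p.Prime] {M : Ideal AlgInt} [M.IsMaximal] {G : Type u} [Group G]

section ST2

variable [Fintype G] (N : Subgroup G) [hN : N.Normal] [Fintype N]

/-- the `θ`-part of a finite linear combination -/
theorem S2e_thetaProj_sum (T : Subgroup G) (hNT : N ≤ T) (θ : N → ℂ) {ι : Type*} (s : Finset ι)
    (c : ι → ℂ) (g : ι → T → ℂ) :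
    thetaProj N T hNT θ (∑ i ∈ s, c i • g i) = ∑ i ∈ s, c i • thetaProj N T hNT θ (g i) := by
  funext t
  simp only [thetaProj, Finset.sum_apply, Pi.smul_apply, smul_eq_mul, Finset.mul_sum]
  rw [Finset.sum_comm]
  refine Finset.sum_congr rfl (fun i _ => Finset.sum_congr rfl (fun n _ => ?_))
  ring

/-- restriction to a subgroup commutes with the restriction to the `p`-regular elements -/
theorem S2e_restrict_pRegularPart (T : Subgroup G) (f : G → ℂ) :
    (fun t : T => pRegularPart p f t) = pRegularPart p (fun t : T => f t) := by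
  classical
  funext t
  have hiff : IsPRegular p t ↔ IsPRegular p (t : G) := by
    unfold IsPRegular
    rw [Subgroup.orderOf_coe]
  unfold pRegularPart
  by_cases ht : IsPRegular p t
  · rw [if_pos ht, if_pos (hiff.mp ht)]
  · rw [if_neg ht, if_neg (fun h => ht (hiff.mpr h))]

/-- (S2e), with (PERM), (S2b), (S2c), (S2d) as hypotheses -/
theorem indFun_thetaProj_of_brConst_of
    (hperm : ∀ l l' : List (G → ℂ), (∀ ψ ∈ l, ψ ∈ IBr p M G) → (∀ ψ ∈ l', ψ ∈ IBr p M G) →
      l.sum = l'.sum → l.Perm l')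
    (hM : IsPModular p M) (hNp : ¬ p ∣ Nat.card N)
    (T : Subgroup G) [Fintype T] (θ : IrrCharacter N)
    (hT : T = Helper15.inertia N (θ : N → ℂ)) (hNT : N ≤ T)
    (hS2b : ∀ f : T → ℂ, thetaProj N T hNT (θ : N → ℂ) (pRegularPart p f) =
      pRegularPart p (thetaProj N T hNT (θ : N → ℂ) f))
    (hS2c : ∀ χ' : IrrCharacter G, classInner (fun n : N => (χ' : G → ℂ) n) (θ : N → ℂ) ≠ 0 →
      indFun T (thetaProj N T hNT (θ : N → ℂ) (fun t : T => (χ' : G → ℂ) t)) = (χ' : G → ℂ))
    (hS2d : ∀ f : T → ℂ, indFun T (pRegularPart p f) = pRegularPart p (indFun T f))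
    (χ : IrrCharacter G)
    (hχθ : classInner (fun n : N => (χ : G → ℂ) n) (θ : N → ℂ) ≠ 0) {φ : G → ℂ}
    (hφ : BrConst p M φ (χ : G → ℂ)) :
    indFun T (thetaProj N T hNT (θ : N → ℂ) (fun t : T => φ t)) = φ := by
  classical
  obtain ⟨a, ha⟩ := exists_int_comb_of_brConst_of hperm hM hφ
  have hBf : (blockOf M (χ : G → ℂ)).Finite := Set.toFinite _
  rw [finsum_mem_eq_finite_toFinset_sum _ hBf] at ha
  set s : Finset (IrrCharacter G) := hBf.toFinset with hs
  -- every member of the block lies over `θ`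
  have hover : ∀ χ' ∈ s, classInner (fun n : N => (χ' : G → ℂ) n) (θ : N → ℂ) ≠ 0 := by
    intro χ' hχ'
    have hsb : SameBlock M (χ : G → ℂ) (χ' : G → ℂ) := hBf.mem_toFinset.mp hχ'
    exact (Cfsg.Agent.S0921.main p M hM N hNp χ χ' hsb θ).mp hχθ
  -- the operator on one member of the block
  have hone : ∀ χ' ∈ s,
      indFun T (thetaProj N T hNT (θ : N → ℂ) (fun t : T => pRegularPart p (χ' : G → ℂ) t)) =
        pRegularPart p (χ' : G → ℂ) := by
    intro χ' hχ'
    rw [S2e_restrict_pRegularPart, hS2b, hS2d, hS2c χ' (hover χ' hχ')]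
  -- restriction of the linear combination
  have hres : (fun t : T => φ t) =
      ∑ χ' ∈ s, (a χ' : ℂ) • (fun t : T => pRegularPart p (χ' : G → ℂ) t) := by
    funext t
    rw [ha]
    simp only [Finset.sum_apply, Pi.smul_apply]
  rw [hres, S2e_thetaProj_sum, Helper15.indFun_finset_sum]
  conv_rhs => rw [ha]
  refine Finset.sum_congr rfl (fun χ' hχ' => ?_)
  rw [Helper15.indFun_smul, hone χ' hχ']

end ST2

end Cfsg.Agent.Helper61.FS
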