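import Cfsg.Agent.Helper61.FS_S2gcore
import Cfsg.Agent.Helper48.FS_BRC

/-!
helper25 FS farm (S4440), piece (S2g) (helper61): the restriction of an irreducible Brauer character
to a subgroup is a sum of irreducible Brauer characters.  Verbatim statement of the skeleton; closes
the core `restrict_IBr_list_of` with helper48's (BRC) for the subgroup.
-/

set_option autoImplicit false
set_option linter.unusedSectionVars false
set_option linter.unusedVariables false

namespace Cfsg.Agent.Helper61.FS

open Cfsg Cfsg.Agent.Helper16 Cfsg.Agent.Helper16.DT Cfsg.Agent.Helper25.FS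

universe u

variable {p : ℕ} [Fact p.Prime] {M : Ideal AlgInt} [M.IsMaximal] {G : Type u} [Group G]

section ST2

variable [Fintype G] (N : Subgroup G) [hN : N.Normal] [Fintype N]

omit [Fintype G] hN [Fintype N] in
/-- (S2g) the restriction of an irreducible Brauer character to a subgroup is a sum of irreducible
Brauer characters. -/
theorem restrict_IBr_list (T : Subgroup G) {φ : G → ℂ} (hφ : φ ∈ IBr p M G) :
    ∃ l : List (T → ℂ), (∀ ψ ∈ l, ψ ∈ IBr p M T) ∧ (fun t : T => φ t) = l.sum :=
  restrict_IBr_list_of T
    (fun ρ => Cfsg.Agent.Helper48.FS.brauerChar_eq_list_sum (p := p) (M := M) (G := T) ρ) hφ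

end ST2

end Cfsg.Agent.Helper61.FS
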