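import Cfsg.Agent.Helper61.FS_BLKcore
import Cfsg.Agent.Helper75.FS_PERM

/-!
helper25 FS farm (S4440), piece (BLK) (helper61): a Brauer constituent of `χ°` is an integral
combination of the `χ'°`, `χ'` in the block of `χ`.  Verbatim statement of the skeleton; closes the
core `exists_int_comb_of_brConst_of` with helper75's (PERM).
-/

set_option autoImplicit false
set_option linter.unusedSectionVars false
set_option linter.unusedVariables false

namespace Cfsg.Agent.Helper61.FS

open Cfsg Cfsg.Agent.Helper16 Cfsg.Agent.Helper16.DT Cfsg.Agent.Helper25.FS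

universe u

variable {p : ℕ} [Fact p.Prime] {M : Ideal AlgInt} [M.IsMaximal] {G : Type u} [Group G]

/-- (BLK) a Brauer constituent of `χ°` is an integral combination of the `χ'°`, `χ'` in the block of
`χ`. -/
theorem exists_int_comb_of_brConst (hM : IsPModular p M) [Fintype G] {φ : G → ℂ}
    {χ : IrrCharacter G} (h : BrConst p M φ (χ : G → ℂ)) :
    ∃ a : IrrCharacter G → ℤ,
      φ = ∑ᶠ χ' ∈ blockOf M (χ : G → ℂ), (a χ' : ℂ) • pRegularPart p (χ' : G → ℂ) :=
  exists_int_comb_of_brConst_of
    (fun l l' hl hl' hs => Cfsg.Agent.Helper75.FS.perm_of_sum_eq hM.2.2 l l' hl hl' hs) hM h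

end Cfsg.Agent.Helper61.FS
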