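import Mathlib

set_option autoImplicit false

/-! Definitions for S3612 (P. M. Neumann: in an insoluble transitive group of prime degree `p > 7`
with `|N(P)| = p (p-1)/2` a point stabiliser is primitive on the remaining points).

If the point stabiliser is imprimitive, the blocks have size two and the fixed point sets of the
two-point stabilisers are the lines of a `G`-invariant Steiner triple system on which `G` is
transitive on ordered triangles. -/

namespace Cfsg.Agent.Helper61.N2

/-- a `G`-invariant Steiner triple system (given by its "third point" function) on which `G` is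
transitive on ordered triangles -/
structure STS (G : Type*) [Group G] (Ω : Type*) [MulAction G Ω] where
  /-- the third point on the line through two distinct points -/
  T : Ω → Ω → Ω
  ne_left : ∀ x y, x ≠ y → T x y ≠ x
  ne_right : ∀ x y, x ≠ y → T x y ≠ y
  symm : ∀ x y, x ≠ y → T x y = T y x
  invol : ∀ x y, x ≠ y → T x (T x y) = y
  equiv : ∀ (g : G) x y, x ≠ y → g • T x y = T (g • x) (g • y)
  tri : ∀ a b d a' b' d', a ≠ b → d ≠ a → d ≠ b → d ≠ T a b → a' ≠ b' → d' ≠ a' → d' ≠ b' →
    d' ≠ T a' b' → ∃ g : G, g • a = a' ∧ g • b = b' ∧ g • d = d'

end Cfsg.Agent.Helper61.N2
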