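import Mathlib
import Cfsg.Prelude.Def_Perm

set_option autoImplicit false

/-! Definitions for S3611 (P. M. Neumann's bound: in an insoluble transitive group of prime degree
`p` with `|N(P)| = p e`, a two-point stabiliser has at most `(p-1)/e` orbits on the other points). -/

namespace Cfsg.Agent.Helper61.Neu

open MulAction

/-- functions constant on the orbits of a subgroup -/
def invSub (K : Type*) [Field K] {G : Type*} [Group G] {Ω : Type*} [MulAction G Ω]
    (X : Subgroup G) : Submodule K (Ω → K) where
  carrier := {f | ∀ x ∈ X, ∀ ω, f (x • ω) = f ω}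
  add_mem' := by
    intro f g hf hg x hx ω
    simp only [Pi.add_apply, hf x hx ω, hg x hx ω]
  zero_mem' := by intro x _ ω; rfl
  smul_mem' := by
    intro c f hf x hx ω
    simp only [Pi.smul_apply, hf x hx ω]

theorem mem_invSub {K : Type*} [Field K] {G : Type*} [Group G] {Ω : Type*} [MulAction G Ω]
    {X : Subgroup G} {f : Ω → K} : f ∈ invSub K X ↔ ∀ x ∈ X, ∀ ω, f (x • ω) = f ω := Iff.rfl

theorem permRep_apply {K : Type*} [Field K] {G : Type*} [Group G] {Ω : Type*} [MulAction G Ω]
    (g : G) (f : Ω → K) (ω : Ω) : Cfsg.permRep K G Ω g f ω = f (g⁻¹ • ω) := rfl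

/-- an `X`-invariant function is fixed by `X` under the permutation representation -/
theorem permRep_of_mem_invSub {K : Type*} [Field K] {G : Type*} [Group G] {Ω : Type*}
    [MulAction G Ω] {X : Subgroup G} {f : Ω → K} (hf : f ∈ invSub K X) {x : G} (hx : x ∈ X) :
    Cfsg.permRep K G Ω x f = f := by
  funext ω
  rw [permRep_apply]
  exact hf x⁻¹ (X.inv_mem hx) ω

end Cfsg.Agent.Helper61.Neu
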