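import Mathlib
import Cfsg.Agent.Helper61.ZpoEven
import Cfsg.Agent.Helper61.ZpMain
import Cfsg.Agent.Helper95.ZassNormal
import Cfsg.Agent.S0885

set_option autoImplicit false
set_option linter.unusedSectionVars false

/-! Transitive groups of degree `p + 1` and order `(p + 1) p d`, `1 < d < p` odd, without regular
normal subgroup: `PSL(2,p)` (by Feit's theorem). -/

namespace Cfsg.Agent.Helper61.Zpo

open MulAction Cfsg.Agent.Helper61.Zs Cfsg.Agent.Helper61.S3t

universe u v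

variable {G : Type u} {Ω : Type v} [Group G] [MulAction G Ω]

/-- **the odd case without regular normal subgroup** -/
theorem iso_of_odd_zassenhaus [Finite G] [Fintype Ω] [FaithfulSMul G Ω] [IsPretransitive G Ω]
    {p d : ℕ} (hp : p.Prime) (hp2 : p ≠ 2) (hΩ : Fintype.card Ω = p + 1)
    (hG : Nat.card G = (p + 1) * p * d) (hd : d < p) (hodd : Odd d) (hd1 : d ≠ 1)
    (hnoreg : ¬ ∃ N : Subgroup G, N.Normal ∧ (∀ x y : Ω, ∃ n ∈ N, n • x = y) ∧
      ∀ n ∈ N, ∀ x : Ω, n • x = x → n = 1) :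
    2 * d = p - 1 ∧
      Nonempty (G ≃* Matrix.ProjectiveSpecialLinearGroup (Fin 2) (ZMod p)) := by
  classical
  haveI : Fact p.Prime := ⟨hp⟩
  have hp3 : 3 ≤ p := by
    have := hp.two_le
    omega
  obtain ⟨inf, zero, hne⟩ := Fintype.exists_pair_of_one_lt_card (α := Ω) (by omega)
  obtain ⟨P, hPcard, D⟩ := exists_ZData hp hp2 hΩ hG hd hne
  have hH := card_stabH D hp hPcard hΩ hG
  have hdvd := card_stabH_dvd D hp hPcard
  rw [hH] at hdvd
  have hd0 : d ≠ 0 := by
    rintro rfl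
    exact absurd hodd (by decide)
  -- the group is a Zassenhaus group
  have hZ : Cfsg.IsZassenhausGroup G Ω := by
    refine ⟨inferInstance, ?_, D.three_fixed, ?_, ?_⟩
    · rw [is_two_pretransitive_iff]
      intro a b c e hab hce
      exact D.two_trans a b c e hab hce
    · have h1 : 1 < Nat.card (stabH G inf zero) := by rw [hH]; omega
      haveI : Nontrivial ↥(stabH G inf zero) := Finite.one_lt_card_iff_nontrivial.mp h1
      obtain ⟨h, hh1⟩ := exists_ne (1 : ↥(stabH G inf zero))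
      have hh := mem_stabH.mp h.2
      exact ⟨h.1, fun h1 => hh1 (Subtype.ext h1), inf, zero, D.ne, hh.1, hh.2⟩
    · intro N hNn hNtr
      by_contra hcon
      push Not at hcon
      apply hnoreg
      refine ⟨N, hNn, ?_, ?_⟩
      · intro x y
        obtain ⟨n, hn⟩ := exists_smul_eq N x y
        exact ⟨n.1, n.2, hn⟩
      · intro n hn x hx
        have h1 : (⟨n, hn⟩ : N) ∈ stabilizer N x := mem_stabilizer_iff.mpr hx
        rw [hcon x, Subgroup.mem_bot] at h1
        exact congrArg Subtype.val h1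
  have hPa : P ≤ stabilizer G inf := fun k hk => mem_stabilizer_iff.mpr (D.K_fix k hk)
  have hPcard' : Nat.card P + 1 = Fintype.card Ω := by rw [hPcard, hΩ]
  have hPfix : ∀ u ∈ P, u ≠ 1 → ∀ c : Ω, u • c = c → c = inf := by
    intro u hu hu1 c hc
    by_contra hcinf
    exact hu1 (D.K_free u hu c hcinf hc)
  obtain ⟨N₀, hN₀n, hN₀ne, hPN₀, hZN₀, hN₀s⟩ :=
    Cfsg.Agent.Helper95.ZassNormal.exists_simple_normal hZ P hPa hPcard' hPfix
  -- Feit's theorem in `N₀`
  have hcardPN : Nat.card (P.subgroupOf N₀) = p := by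
    rw [Nat.card_congr (Subgroup.subgroupOfEquivOfLe hPN₀).toEquiv, hPcard]
  have hd'dvd := Cfsg.Agent.Helper95.ZassNormal.card_stab2_dvd N₀ inf zero
  have hstabH_eq : Nat.card ↥(stabilizer G inf ⊓ stabilizer G zero : Subgroup G) = d := hH
  rw [hstabH_eq] at hd'dvd
  set d' := Nat.card ↥(stabilizer N₀ inf ⊓ stabilizer N₀ zero : Subgroup N₀) with hd'
  have hodd' : Odd d' := by
    obtain ⟨m, hm⟩ := hd'dvd
    rw [hm] at hodd
    exact (Nat.odd_mul.mp hodd).1
  have hfeit := Cfsg.Agent.S0885.result hZN₀ (a := inf) (b := zero) D.ne p d' hΩ rfl hodd'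
    (P.subgroupOf N₀)
    (by
      intro k hk
      rw [mem_stabilizer_iff]
      exact D.K_fix k.1 (Subgroup.mem_subgroupOf.mp hk))
    (by rw [hcardPN, hΩ])
    (by
      intro u hu hu1 c hc
      exact hPfix u.1 (Subgroup.mem_subgroupOf.mp hu) (fun h => hu1 (Subtype.ext h)) c hc)
  have hbound : p - 1 ≤ 2 * d' := by
    rcases hfeit with h | ⟨-, ⟨u, v, huv⟩, -⟩
    · exact h
    · exfalso
      haveI : IsCyclic ↥(P.subgroupOf N₀) := isCyclic_of_prime_card hcardPN
      exact huv ((IsCyclic.isMulCommutative (α := ↥(P.subgroupOf N₀))).is_comm.comm u v)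
  -- arithmetic
  have h2dvd : 2 ∣ p - 1 := by
    rcases hp.eq_two_or_odd with h | h
    · exact absurd h hp2
    · omega
  have h2d : 2 * d ∣ p - 1 :=
    Nat.Coprime.mul_dvd_of_dvd_of_dvd ((Nat.coprime_two_left).mpr hodd) h2dvd hdvd
  have h2dle : 2 * d ≤ p - 1 := Nat.le_of_dvd (by omega) h2d
  have hd'le : d' ≤ d := Nat.le_of_dvd (Nat.pos_of_ne_zero hd0) hd'dvd
  have hdd' : d' = d := by omega
  have h2deq : 2 * d = p - 1 := by omega
  refine ⟨h2deq, ?_⟩
  -- the order of `N₀`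
  have D' := ZData.restrict D N₀ hPN₀
  have hcardN₀ : Nat.card N₀ = (p + 1) * (p * d) := by
    have h1 := D'.card_G
    have h2 : Nat.card ↥(stabH ↥N₀ inf zero) = d' := rfl
    rw [hΩ, hcardPN, h2, hdd'] at h1
    exact h1
  have htop : N₀ = ⊤ := by
    rw [← Subgroup.card_eq_iff_eq_top, hcardN₀, hG]
    ring
  have hp5 : 5 ≤ p := by omega
  have hord : 2 * Nat.card N₀ = p * (p ^ 2 - 1) := by
    rw [hcardN₀]
    obtain ⟨k, rfl⟩ : ∃ k, p = k + 1 := ⟨p - 1, by omega⟩
    have hk : k = 2 * d := by omega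
    have h1 : (k + 1) ^ 2 - 1 = k * (k + 2) := by
      have : (k + 1) ^ 2 = k * (k + 2) + 1 := by ring
      omega
    rw [h1, hk]
    ring
  obtain ⟨E⟩ := Cfsg.Agent.Helper61.Zp.simple_iso_psl (G := ↥N₀) p hp5 hord (F := ZMod p)
    (ZMod.card p)
  have e1 : G ≃* ↥N₀ := ((MulEquiv.subgroupCongr htop).trans Subgroup.topEquiv).symm
  exact ⟨e1.trans E⟩

end Cfsg.Agent.Helper61.Zpo
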