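import Mathlib
import Cfsg.Agent.Helper61.ZgPGL

set_option autoImplicit false
set_option linter.unusedSectionVars false

/-! A faithful group of order `6` on three points is `PGL(2, 2)`. -/

namespace Cfsg.Agent.Helper61.Zpo

open MulAction Equiv Cfsg.Agent.Helper61.Zg Cfsg.Agent.Helper61.Zq
open scoped MatrixGroups

universe u v

theorem affine_two : ∀ g : Perm (Option (ZMod 2)), g none = none →
    ∃ (k : (ZMod 2)ˣ) (c : ZMod 2), g = tr c * ml k := by
  decide

theorem card_option_zmod_two : Fintype.card (Option (ZMod 2)) = 3 := by
  rw [Fintype.card_option, ZMod.card]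

/-- `PGL(2, 2)` is the symmetric group on the projective line -/
theorem mobPGL_two_bijective : Function.Bijective (mobPGL (F := ZMod 2)) := by
  refine ⟨mobPGL_injective, ?_⟩
  have hΓ : ZgGroup (⊤ : Subgroup (Perm (Option (ZMod 2)))) :=
    { tr_mem := fun _ => Subgroup.mem_top _
      ml_mem := fun _ => Subgroup.mem_top _
      affine := fun g _ hg => affine_two g hg
      three_fixed := by
        intro g _ x y w hxy hyw hxw hx hy hw
        have huniv : ({x, y, w} : Finset (Option (ZMod 2))) = Finset.univ := by
          apply Finset.eq_univ_of_card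
          rw [card_option_zmod_two, Finset.card_insert_of_notMem, Finset.card_insert_of_notMem,
            Finset.card_singleton]
          · simpa using hyw
          · simp only [Finset.mem_insert, Finset.mem_singleton]
            push Not
            exact ⟨hxy, hxw⟩
        ext z : 1
        have hz : z ∈ ({x, y, w} : Finset (Option (ZMod 2))) := by
          rw [huniv]; exact Finset.mem_univ _
        simp only [Finset.mem_insert, Finset.mem_singleton] at hz
        rcases hz with rfl | rfl | rfl
        · simpa using hx
        · simpa using hy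
        · simpa using hw }
  have hrange := hΓ.eq_range (Subgroup.mem_top _)
  intro g
  have : g ∈ (mobPGL (F := ZMod 2)).range := by
    rw [← hrange]
    exact Subgroup.mem_top _
  exact this

/-- **the case `p = 2`** -/
theorem iso_pgl_two {G : Type u} {Ω : Type v} [Group G] [MulAction G Ω] [Finite G] [Fintype Ω]
    [FaithfulSMul G Ω] (hΩ : Fintype.card Ω = 3) (hG : Nat.card G = 6) :
    Nonempty (G ≃* PGL(Fin 2, ZMod 2)) := by
  classical
  have h1 : Function.Bijective (MulAction.toPermHom G Ω) := by
    rw [Nat.bijective_iff_injective_and_card]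
    refine ⟨MulAction.toPerm_injective, ?_⟩
    rw [hG, Nat.card_eq_fintype_card, Fintype.card_perm, hΩ]
    rfl
  let e1 : G ≃* Perm Ω := MulEquiv.ofBijective _ h1
  let e0 : Ω ≃ Option (ZMod 2) :=
    Fintype.equivOfCardEq (by rw [hΩ, card_option_zmod_two])
  let e2 : Perm Ω ≃* Perm (Option (ZMod 2)) := e0.permCongrHom
  let e3 : PGL(Fin 2, ZMod 2) ≃* Perm (Option (ZMod 2)) :=
    MulEquiv.ofBijective _ mobPGL_two_bijective
  exact ⟨(e1.trans e2).trans e3.symm⟩

end Cfsg.Agent.Helper61.Zpo
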