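import Mathlib

set_option autoImplicit false

namespace Cfsg.Agent.Helper61

open Subgroup

section Basic

variable {H : Type*} [Group H]

/-- `T` is a subgroup of `N` normalized by `N`. -/
def NN (N T : Subgroup H) : Prop := T ≤ N ∧ N ≤ Subgroup.normalizer (T : Set H)

/-- conjugate subgroup -/
abbrev cjs (h : H) (T : Subgroup H) : Subgroup H := T.map (MulAut.conj h).toMonoidHom

theorem mem_cjs {h : H} {T : Subgroup H} {x : H} : x ∈ cjs h T ↔ h⁻¹ * x * h ∈ T := by
  constructor
  · rintro ⟨y, hy, rfl⟩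
    simpa [mul_assoc] using hy
  · intro hx
    exact ⟨h⁻¹ * x * h, hx, by simp [mul_assoc]⟩

theorem cjs_one (T : Subgroup H) : cjs 1 T = T := by
  ext x; simp [mem_cjs]

theorem cjs_cjs (g h : H) (T : Subgroup H) : cjs g (cjs h T) = cjs (g * h) T := by
  ext x
  simp only [mem_cjs]
  simp [mul_assoc]

theorem cjs_mono {h : H} {S T : Subgroup H} (hST : S ≤ T) : cjs h S ≤ cjs h T :=
  Subgroup.map_mono hST

theorem cjs_eq_bot {h : H} {T : Subgroup H} : cjs h T = ⊥ ↔ T = ⊥ :=
  (Subgroup.map_eq_bot_iff_of_injective T (MulAut.conj h).injective)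

theorem cjs_sup (h : H) (S T : Subgroup H) : cjs h (S ⊔ T) = cjs h S ⊔ cjs h T :=
  Subgroup.map_sup _ _ _

theorem cjs_iSup {ι : Sort*} (g : H) (f : ι → Subgroup H) : cjs g (⨆ i, f i) = ⨆ i, cjs g (f i) :=
  Subgroup.map_iSup _ _

theorem cjs_bot (h : H) : cjs h (⊥ : Subgroup H) = ⊥ := Subgroup.map_bot _

theorem mem_normalizer_iff_cjs {h : H} {T : Subgroup H} :
    h ∈ Subgroup.normalizer (T : Set H) ↔ cjs h T = T := by
  rw [Subgroup.mem_normalizer_iff]
  constructor
  · intro hh
    ext x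
    rw [mem_cjs, hh (h⁻¹ * x * h)]
    simp [mul_assoc]
  · intro hh x
    have : h * x * h⁻¹ ∈ cjs h T ↔ x ∈ T := by
      rw [mem_cjs]
      simp [mul_assoc]
    rw [← this, hh]

theorem NN.cjs {N T : Subgroup H} [hN : N.Normal] (h : H) (hT : NN N T) : NN N (cjs h T) := by
  constructor
  · intro x hx
    rw [mem_cjs] at hx
    have := hT.1 hx
    have h2 := hN.conj_mem _ this h
    simpa [mul_assoc] using h2
  · intro n hn
    rw [mem_normalizer_iff_cjs, cjs_cjs]
    have h1 : h⁻¹ * n * h ∈ N := by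
      have := hN.conj_mem n hn h⁻¹
      simpa using this
    have h2 := mem_normalizer_iff_cjs.1 (hT.2 h1)
    have h3 : n * h = h * (h⁻¹ * n * h) := by group
    rw [h3, ← cjs_cjs, h2]

theorem NN.inf {N S T : Subgroup H} (hS : NN N S) (hT : NN N T) : NN N (S ⊓ T) := by
  constructor
  · exact inf_le_left.trans hS.1
  · intro n hn
    rw [mem_normalizer_iff_cjs]
    have h1 := mem_normalizer_iff_cjs.1 (hS.2 hn)
    have h2 := mem_normalizer_iff_cjs.1 (hT.2 hn)
    ext x
    rw [mem_cjs, Subgroup.mem_inf, Subgroup.mem_inf, ← mem_cjs, ← mem_cjs, h1, h2]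

theorem NN.sup {N S T : Subgroup H} (hS : NN N S) (hT : NN N T) : NN N (S ⊔ T) := by
  constructor
  · exact sup_le hS.1 hT.1
  · intro n hn
    rw [mem_normalizer_iff_cjs]
    have h1 := mem_normalizer_iff_cjs.1 (hS.2 hn)
    have h2 := mem_normalizer_iff_cjs.1 (hT.2 hn)
    rw [cjs_sup, h1, h2]

theorem NN.bot (N : Subgroup H) : NN N ⊥ := by
  constructor
  · exact bot_le
  · intro n _
    rw [mem_normalizer_iff_cjs]
    exact cjs_bot n

/-- Disjoint subgroups normalized by a common overgroup commute elementwise. -/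
theorem NN.commute {N S T : Subgroup H} (hS : NN N S) (hT : NN N T) (hd : S ⊓ T = ⊥)
    {s t : H} (hs : s ∈ S) (ht : t ∈ T) : s * t = t * s := by
  have hmem : s * t * s⁻¹ * t⁻¹ ∈ S ⊓ T := by
    constructor
    · have h1 : t * s⁻¹ * t⁻¹ ∈ S := by
        have := (Subgroup.mem_normalizer_iff.1 (hS.2 (hT.1 ht)) s⁻¹).1 (S.inv_mem hs)
        exact this
      have : s * t * s⁻¹ * t⁻¹ = s * (t * s⁻¹ * t⁻¹) := by group
      rw [this]
      exact S.mul_mem hs h1
    · have h1 : s * t * s⁻¹ ∈ T := (Subgroup.mem_normalizer_iff.1 (hT.2 (hS.1 hs)) t).1 ht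
      exact T.mul_mem h1 (T.inv_mem ht)
  rw [hd, Subgroup.mem_bot] at hmem
  have : s * t = (s * t * s⁻¹ * t⁻¹) * (t * s) := by group
  rw [this, hmem, one_mul]

/-- Elements of a join of two elementwise commuting subgroups are products. -/
theorem mem_sup_of_commute {S T : Subgroup H} (hc : ∀ s ∈ S, ∀ t ∈ T, s * t = t * s) {x : H}
    (hx : x ∈ S ⊔ T) : ∃ s ∈ S, ∃ t ∈ T, x = s * t := by
  let P : Subgroup H :=
    { carrier := {x | ∃ s ∈ S, ∃ t ∈ T, x = s * t}
      mul_mem' := by
        rintro _ _ ⟨s1, hs1, t1, ht1, rfl⟩ ⟨s2, hs2, t2, ht2, rfl⟩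
        refine ⟨s1 * s2, S.mul_mem hs1 hs2, t1 * t2, T.mul_mem ht1 ht2, ?_⟩
        have := hc s2 hs2 t1 ht1
        calc s1 * t1 * (s2 * t2) = s1 * (t1 * s2) * t2 := by group
          _ = s1 * (s2 * t1) * t2 := by rw [this]
          _ = s1 * s2 * (t1 * t2) := by group
      one_mem' := ⟨1, S.one_mem, 1, T.one_mem, by simp⟩
      inv_mem' := by
        rintro _ ⟨s, hs, t, ht, rfl⟩
        refine ⟨s⁻¹, S.inv_mem hs, t⁻¹, T.inv_mem ht, ?_⟩
        rw [mul_inv_rev, hc s⁻¹ (S.inv_mem hs) t⁻¹ (T.inv_mem ht)] }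
  have hle : S ⊔ T ≤ P := by
    apply sup_le
    · intro s hs
      exact ⟨s, hs, 1, T.one_mem, by simp⟩
    · intro t ht
      exact ⟨1, S.one_mem, t, ht, by simp⟩
  exact hle hx

/-- Internal direct product of two commuting disjoint subgroups. -/
noncomputable def supEquivProd {S T : Subgroup H} (hc : ∀ s ∈ S, ∀ t ∈ T, s * t = t * s)
    (hd : S ⊓ T = ⊥) : ↥(S ⊔ T) ≃* S × T := by
  have comm : ∀ (s : S) (t : T), Commute (S.subtype s) (T.subtype t) := fun s t => hc s s.2 t t.2
  have hinj : Function.Injective (MonoidHom.noncommCoprod S.subtype T.subtype comm) := by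
    rw [MonoidHom.noncommCoprod_injective]
    refine ⟨S.subtype_injective, T.subtype_injective, ?_⟩
    rw [Subgroup.range_subtype, Subgroup.range_subtype, disjoint_iff, hd]
  have hrange : (MonoidHom.noncommCoprod S.subtype T.subtype comm).range = S ⊔ T := by
    rw [MonoidHom.noncommCoprod_range, Subgroup.range_subtype, Subgroup.range_subtype]
  exact ((MonoidHom.ofInjective hinj).trans (MulEquiv.subgroupCongr hrange)).symm

end Basic

/-- `(Fin (k+1) → T) ≃* T × (Fin k → T)`. -/
def piFinSuccMulEquiv (k : ℕ) (T : Type*) [Mul T] : (Fin (k + 1) → T) ≃* T × (Fin k → T) where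
  toEquiv := Fin.consEquiv (fun _ => T) |>.symm
  map_mul' := by
    intro f g
    rfl

section Main

variable {H : Type*} [Group H] [Finite H]

/-- Structure of a minimal normal subgroup: it is the internal direct product of a subgroup `T`,
simple as a group, and of a group isomorphic to a power of `T`. -/
theorem exists_simple_pow_equiv (N : Subgroup H) [hNn : N.Normal] (hN : N ≠ ⊥)
    (hmin : ∀ M : Subgroup H, M.Normal → M ≤ N → M = ⊥ ∨ M = N) :
    ∃ (T : Subgroup H) (k : ℕ), T ≤ N ∧ IsSimpleGroup T ∧ Nonempty (N ≃* (Fin (k + 1) → T)) := by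
  classical
  -- Step 1: a minimal non-trivial `N`-normalized subgroup `T` of `N`
  have hwf : WellFounded ((· < ·) : Subgroup H → Subgroup H → Prop) := wellFounded_lt
  have hS : ({T : Subgroup H | T ≠ ⊥ ∧ NN N T}).Nonempty :=
    ⟨N, hN, le_rfl, Subgroup.le_normalizer⟩
  obtain ⟨T, ⟨hT0, hTN⟩, hTmin⟩ := hwf.has_min _ hS
  have hTmin' : ∀ T' : Subgroup H, T' ≠ ⊥ → NN N T' → T' ≤ T → T' = T := by
    intro T' h0 hNN hle
    by_contra hne
    exact hTmin T' ⟨h0, hNN⟩ (lt_of_le_of_ne hle hne)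
  -- conjugates of `T` are minimal too
  have hCmin : ∀ (h : H) (T' : Subgroup H), T' ≠ ⊥ → NN N T' → T' ≤ cjs h T → T' = cjs h T := by
    intro h T' h0 hNN hle
    have h1 : cjs h⁻¹ T' ≤ T := by
      have := cjs_mono (h := h⁻¹) hle
      rwa [cjs_cjs, inv_mul_cancel, cjs_one] at this
    have h2 := hTmin' (cjs h⁻¹ T') (by rwa [Ne, cjs_eq_bot]) (hNN.cjs h⁻¹) h1
    rw [← h2, cjs_cjs, mul_inv_cancel, cjs_one]
  -- Step 2: a maximal complement-like `D`
  have hwf' : WellFounded ((· > ·) : Subgroup H → Subgroup H → Prop) := wellFounded_gt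
  have hS' : ({D : Subgroup H | NN N D ∧ D ⊓ T = ⊥ ∧ ∃ k : ℕ, Nonempty (D ≃* (Fin k → T))}).Nonempty := by
    refine ⟨⊥, NN.bot N, bot_inf_eq _, 0, ⟨?_⟩⟩
    exact MulEquiv.ofUnique
  obtain ⟨D, ⟨hDN, hDT, k, ⟨eD⟩⟩, hDmax⟩ := hwf'.has_min _ hS'
  -- Step 3: `T ⊔ D = N`
  have hTD : T ⊔ D = N := by
    by_contra hne
    -- some conjugate of `T` is not contained in `T ⊔ D`
    have hex : ∃ h : H, ¬ cjs h T ≤ T ⊔ D := by
      by_contra hall
      push Not at hall
      apply hne
      apply le_antisymm (sup_le hTN.1 hDN.1)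
      -- the normal closure of `T`
      have hK : (⨆ h : H, cjs h T).Normal := by
        constructor
        intro x hx g
        have : cjs g (⨆ h : H, cjs h T) ≤ ⨆ h : H, cjs h T := by
          rw [cjs_iSup]
          apply iSup_le
          intro h
          rw [cjs_cjs]
          exact le_iSup (fun h : H => cjs h T) (g * h)
        apply this
        exact ⟨x, hx, rfl⟩
      have hKle : (⨆ h : H, cjs h T) ≤ N := iSup_le fun h => (hTN.cjs h).1
      have hKT : T ≤ ⨆ h : H, cjs h T := by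
        have := le_iSup (fun h : H => cjs h T) 1
        rwa [cjs_one] at this
      rcases hmin _ hK hKle with h0 | h0
      · exfalso
        apply hT0
        rw [eq_bot_iff, ← h0]
        exact hKT
      · rw [← h0]
        exact iSup_le hall
    obtain ⟨h, hh⟩ := hex
    obtain ⟨C, hC⟩ : ∃ C : Subgroup H, C = cjs h T := ⟨_, rfl⟩
    rw [← hC] at hh
    have hCN : NN N C := hC ▸ hTN.cjs h
    have hC0 : C ≠ ⊥ := by rw [hC, Ne, cjs_eq_bot]; exact hT0
    have hTDN : NN N (T ⊔ D) := hTN.sup hDN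
    have hCd : C ⊓ (T ⊔ D) = ⊥ := by
      by_contra h0
      have := hCmin h (C ⊓ (T ⊔ D)) h0 (hCN.inf hTDN) (hC ▸ inf_le_left)
      apply hh
      rw [hC, ← this]
      exact inf_le_right
    -- the new `D`
    have hCD : C ⊓ D = ⊥ := by
      rw [eq_bot_iff, ← hCd]
      exact inf_le_inf_left _ le_sup_right
    have hcomm : ∀ c ∈ C, ∀ d ∈ D, c * d = d * c := fun c hc d hd => hCN.commute hDN hCD hc hd
    have hnew : (C ⊔ D) ⊓ T = ⊥ := by
      rw [eq_bot_iff]
      intro x ⟨hx1, hx2⟩
      obtain ⟨c, hc, d, hd, rfl⟩ := mem_sup_of_commute hcomm hx1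
      have hc' : c ∈ C ⊓ (T ⊔ D) := by
        refine ⟨hc, ?_⟩
        have : c = (c * d) * d⁻¹ := by group
        rw [this]
        exact (T ⊔ D).mul_mem (Subgroup.mem_sup_left hx2) (Subgroup.mem_sup_right (D.inv_mem hd))
      rw [hCd, Subgroup.mem_bot] at hc'
      rw [hc', one_mul] at hx2 ⊢
      have : d ∈ D ⊓ T := ⟨hd, hx2⟩
      rwa [hDT] at this
    have eC : C ≃* T := (MulEquiv.subgroupCongr hC).trans
      (Subgroup.equivMapOfInjective T _ (MulAut.conj h).injective).symm
    have enew : ↥(C ⊔ D) ≃* (Fin (k + 1) → T) :=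
      ((supEquivProd hcomm hCD).trans (MulEquiv.prodCongr eC eD)).trans
        (piFinSuccMulEquiv k T).symm
    have hlt : C ⊔ D > D := by
      apply lt_of_le_of_ne le_sup_right
      intro heq
      apply hC0
      rw [eq_bot_iff, ← hCD]
      exact le_inf le_rfl (by rw [heq]; exact le_sup_left)
    exact hDmax (C ⊔ D) ⟨hCN.sup hDN, hnew, k + 1, ⟨enew⟩⟩ hlt
  -- Step 4: assemble
  have hcommTD : ∀ t ∈ T, ∀ d ∈ D, t * d = d * t := fun t ht d hd =>
    hTN.commute hDN (by rwa [inf_comm]) ht hd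
  refine ⟨T, k, hTN.1, ?_, ⟨?_⟩⟩
  · -- simplicity of `T`
    haveI : Nontrivial T := by
      rw [Subgroup.nontrivial_iff_ne_bot]
      exact hT0
    refine ⟨fun A hA => ?_⟩
    by_cases hA0 : A = ⊥
    · exact Or.inl hA0
    right
    have hAT : ∀ y : H, y ∈ A.map T.subtype ↔ ∃ hy : y ∈ T, (⟨y, hy⟩ : T) ∈ A := by
      intro y
      constructor
      · rintro ⟨a, ha, rfl⟩
        exact ⟨a.2, ha⟩
      · rintro ⟨hy, ha⟩
        exact ⟨⟨y, hy⟩, ha, rfl⟩
    have hA' : NN N (A.map T.subtype) := by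
      constructor
      · rintro x ⟨a, _, rfl⟩
        exact hTN.1 a.2
      · rw [← hTD]
        apply sup_le
        · intro t ht
          rw [Subgroup.mem_normalizer_iff]
          intro x
          rw [hAT, hAT]
          constructor
          · rintro ⟨hx, hxA⟩
            refine ⟨T.mul_mem (T.mul_mem ht hx) (T.inv_mem ht), ?_⟩
            exact hA.conj_mem ⟨x, hx⟩ hxA ⟨t, ht⟩
          · rintro ⟨hx, hxA⟩
            have hxT : x ∈ T := by
              have : x = t⁻¹ * (t * x * t⁻¹) * t := by group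
              rw [this]
              exact T.mul_mem (T.mul_mem (T.inv_mem ht) hx) ht
            refine ⟨hxT, ?_⟩
            have := hA.conj_mem ⟨t * x * t⁻¹, hx⟩ hxA ⟨t⁻¹, T.inv_mem ht⟩
            have heq : (⟨t⁻¹, T.inv_mem ht⟩ : T) * ⟨t * x * t⁻¹, hx⟩ * (⟨t⁻¹, T.inv_mem ht⟩ : T)⁻¹ =
                ⟨x, hxT⟩ := by
              apply Subtype.ext
              simp only [Subgroup.coe_mul, Subgroup.coe_inv]
              group
            rwa [heq] at this
        · intro d hd
          rw [Subgroup.mem_normalizer_iff]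
          intro x
          constructor
          · intro hx
            have hxT : x ∈ T := ((hAT x).1 hx).1
            have : d * x * d⁻¹ = x := by
              rw [← hcommTD x hxT d hd, mul_inv_cancel_right]
            rwa [this]
          · intro hx
            have hyT : d * x * d⁻¹ ∈ T := ((hAT _).1 hx).1
            have : d * x * d⁻¹ = x := by
              have h1 := hcommTD _ hyT d hd
              -- (d x d⁻¹) d = d (d x d⁻¹)
              have h2 : d * x = d * (d * x * d⁻¹) := by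
                rw [← h1]; group
              have h3 := mul_left_cancel h2
              exact h3.symm
            rwa [this] at hx
    have hne : A.map T.subtype ≠ ⊥ := by
      rwa [Ne, Subgroup.map_eq_bot_iff_of_injective A T.subtype_injective]
    have hle : A.map T.subtype ≤ T := by
      rintro x ⟨a, _, rfl⟩
      exact a.2
    have := hTmin' _ hne hA' hle
    rw [eq_top_iff]
    intro a _
    have ha : (a : H) ∈ A.map T.subtype := by rw [this]; exact a.2
    obtain ⟨b, hb, hba⟩ := ha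
    have : b = a := Subtype.ext hba
    rwa [← this]
  · exact ((MulEquiv.subgroupCongr hTD.symm).trans
      ((supEquivProd hcommTD (by rwa [inf_comm])).trans (MulEquiv.prodCongr (MulEquiv.refl T) eD))).trans
        (piFinSuccMulEquiv k T).symm

end Main

end Cfsg.Agent.Helper61
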