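import Cfsg.Agent.Helper61.TwoTrans
import Cfsg.Agent.Helper61.MinNormal

set_option autoImplicit false

namespace Cfsg.Agent.Helper61.TwoTrans

open MulAction Pointwise

variable {G α : Type*} [Group G] [MulAction G α]

/-- criterion for `N ≤ N_G(T)` -/
theorem le_normalizer_of_conj_mem {N T : Subgroup G}
    (h : ∀ n ∈ N, ∀ x ∈ T, n * x * n⁻¹ ∈ T) : N ≤ Subgroup.normalizer (T : Set G) := by
  intro n hn
  rw [Subgroup.mem_normalizer_iff]
  intro x
  constructor
  · exact h n hn x
  · intro hx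
    have := h n⁻¹ (N.inv_mem hn) _ hx
    simpa [mul_assoc] using this

/-- the image in `G` of a normal subgroup of `N` is `N`-normalized -/
theorem NN_map_subtype (N : Subgroup G) (A : Subgroup N) [hA : A.Normal] :
    NN N (A.map N.subtype) := by
  constructor
  · rintro x ⟨a, _, rfl⟩
    exact a.2
  · apply le_normalizer_of_conj_mem
    rintro n hn _ ⟨a, ha, rfl⟩
    exact ⟨⟨n, hn⟩ * a * ⟨n, hn⟩⁻¹, hA.conj_mem a ha ⟨n, hn⟩, rfl⟩

/-- A non-trivial `N`-normalized subgroup of a faithful primitive `N` is transitive. -/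
theorem trans_of_NN [FaithfulSMul G α] (N : Subgroup G) [hprim : IsPreprimitive N α]
    {T : Subgroup G} (hT : NN N T) (hT0 : T ≠ ⊥) : Trans α T := by
  haveI : (T.subgroupOf N).Normal := (Subgroup.normal_subgroupOf_iff_le_normalizer hT.1).2 hT.2
  have htr : IsPretransitive (T.subgroupOf N) α := by
    apply MulAction.IsQuasiPreprimitive.isPretransitive_of_normal (G := N)
    intro hfix
    apply hT0
    rw [Subgroup.eq_bot_iff_forall]
    intro t ht
    apply FaithfulSMul.eq_of_smul_eq_smul (α := α)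
    intro a
    have ha : a ∈ MulAction.fixedPoints (T.subgroupOf N) α := by rw [hfix]; trivial
    rw [one_smul]
    exact ha ⟨⟨t, hT.1 ht⟩, ht⟩
  intro a b
  obtain ⟨⟨⟨t, htN⟩, ht⟩, h⟩ := MulAction.exists_smul_eq (T.subgroupOf N) a b
  exact ⟨t, ht, h⟩

/-- A regular subgroup has as many elements as points. -/
theorem card_eq_of_regular' {T : Subgroup G} (hT : Trans α T)
    (hreg : ∀ t ∈ T, ∀ a : α, t • a = a → t = 1) (a : α) : Nat.card T = Nat.card α := by
  apply Nat.card_congr
  refine Equiv.ofBijective (fun t : T => (t : G) • a) ⟨?_, ?_⟩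
  · intro t t' h
    have h' : ((t' : G)⁻¹ * (t : G)) • a = a := by
      rw [mul_smul, inv_smul_eq_iff]
      exact h
    have := hreg _ (T.mul_mem (T.inv_mem t'.2) t.2) a h'
    rw [inv_mul_eq_one] at this
    exact Subtype.ext this.symm
  · intro b
    obtain ⟨t, ht, h⟩ := hT a b
    exact ⟨⟨t, ht⟩, h⟩

/-- A primitive, non-regular minimal normal subgroup of a doubly transitive group is simple. -/
theorem isSimpleGroup_of_preprimitive [FaithfulSMul G α] [Finite G] [Finite α]
    (h2 : DblTrans G α) (N : Subgroup G) [hNn : N.Normal] (hN : N ≠ ⊥)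
    (hmin : ∀ M : Subgroup G, M.Normal → M ≤ N → M = ⊥ ∨ M = N) [hprim : IsPreprimitive N α]
    (hnr : ∃ a : α, ∃ n ∈ N, n ≠ 1 ∧ n • a = a) : IsSimpleGroup N := by
  classical
  haveI : Nontrivial N := (Subgroup.nontrivial_iff_ne_bot N).mpr hN
  haveI htrN : IsPretransitive N α := hprim.toIsPretransitive
  by_contra hns
  obtain ⟨a0, n0, hn0, hn01, hn0a⟩ := hnr
  -- a proper non-trivial `N`-normalized subgroup
  have hex : ∃ T : Subgroup G, T ≠ ⊥ ∧ NN N T ∧ T ≠ N := by
    by_contra hall
    push Not at hall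
    apply hns
    refine ⟨fun A hA => ?_⟩
    by_cases hA0 : A = ⊥
    · exact Or.inl hA0
    right
    have h1 : A.map N.subtype ≠ ⊥ := by
      rwa [Ne, Subgroup.map_eq_bot_iff_of_injective _ N.subtype_injective]
    have h2' := hall _ h1 (NN_map_subtype N A)
    rw [eq_top_iff]
    intro x _
    have hx : (x : G) ∈ A.map N.subtype := by rw [h2']; exact x.2
    obtain ⟨y, hy, hyx⟩ := hx
    have : y = x := Subtype.ext hyx
    rwa [← this]
  have hwf : WellFounded ((· < ·) : Subgroup G → Subgroup G → Prop) := wellFounded_lt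
  obtain ⟨T, ⟨hT0, hTN, hTne⟩, hTmin⟩ := hwf.has_min {T : Subgroup G | T ≠ ⊥ ∧ NN N T ∧ T ≠ N} hex
  have hTmin' : ∀ T' : Subgroup G, T' ≠ ⊥ → NN N T' → T' ≤ T → T' = T := by
    intro T' h0 hNN hle
    by_contra hne
    refine hTmin T' ⟨h0, hNN, ?_⟩ (lt_of_le_of_ne hle hne)
    intro h
    apply hTne
    exact le_antisymm hTN.1 (h ▸ hle)
  have hCmin : ∀ (h : G) (T' : Subgroup G), T' ≠ ⊥ → NN N T' → T' ≤ cjs h T → T' = cjs h T := by
    intro h T' h0 hNN hle
    have h1 : cjs h⁻¹ T' ≤ T := by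
      have := cjs_mono (h := h⁻¹) hle
      rwa [cjs_cjs, inv_mul_cancel, cjs_one] at this
    have h2' := hTmin' (cjs h⁻¹ T') (by rwa [Ne, cjs_eq_bot]) (hNN.cjs h⁻¹) h1
    rw [← h2', cjs_cjs, mul_inv_cancel, cjs_one]
  have hTtr : Trans α T := trans_of_NN N hTN hT0
  -- a conjugate different from `T`
  have hexg : ∃ g : G, cjs g T ≠ T := by
    by_contra hall
    push Not at hall
    have hTnormal : T.Normal := by
      refine ⟨fun x hx g => ?_⟩
      rw [← hall g, mem_cjs]
      simpa [mul_assoc] using hx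
    rcases hmin T hTnormal hTN.1 with h | h
    · exact hT0 h
    · exact hTne h
  obtain ⟨g, hg⟩ := hexg
  have hdisj : ∀ h : G, cjs h T ≠ T → T ⊓ cjs h T = ⊥ := by
    intro h hh
    by_contra h0
    have h1 := hTmin' (T ⊓ cjs h T) h0 (hTN.inf (hTN.cjs h)) inf_le_left
    have h2' : T ≤ cjs h T := le_of_eq_of_le h1.symm inf_le_right
    exact hh (hCmin h T hT0 hTN h2').symm
  have hcomm : ∀ h : G, cjs h T ≠ T → ∀ s ∈ T, ∀ t ∈ cjs h T, s * t = t * s := fun h hh s hs t ht =>
    hTN.commute (hTN.cjs h) (hdisj h hh) hs ht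
  have hT2N : NN N (cjs g T) := hTN.cjs g
  have hT20 : cjs g T ≠ ⊥ := by rwa [Ne, cjs_eq_bot]
  have hT2tr : Trans α (cjs g T) := trans_of_NN N hT2N hT20
  -- every conjugate is `T` or `cjs g T`
  have hconj : ∀ h : G, cjs h T = T ∨ cjs h T = cjs g T := by
    intro h
    by_cases hh : cjs h T = T
    · exact Or.inl hh
    right
    have h30 : cjs h T ≠ ⊥ := by rwa [Ne, cjs_eq_bot]
    apply hCmin g (cjs h T) h30 (hTN.cjs h)
    intro x hx
    obtain ⟨s, hs, hsa⟩ := hT2tr a0 (x • a0)
    have hc : ∀ t ∈ T, (s⁻¹ * x) * t = t * (s⁻¹ * x) := by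
      intro t ht
      have e1 : t * x = x * t := hcomm h hh t ht x hx
      have e2 : t * s = s * t := hcomm g hg t ht s hs
      have e3 : s⁻¹ * t = t * s⁻¹ := by
        rw [inv_mul_eq_iff_eq_mul, ← mul_assoc, ← e2, mul_assoc, mul_inv_cancel, mul_one]
      rw [mul_assoc, ← e1, ← mul_assoc, e3, mul_assoc]
    have hfix : (s⁻¹ * x) • a0 = a0 := by
      rw [mul_smul, inv_smul_eq_iff, hsa]
    have := eq_one_of_commute_of_fixed hTtr hc hfix
    rw [inv_mul_eq_one] at this
    rw [← this]
    exact hs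
  -- `N = T ⊔ cjs g T`
  have hK : (⨆ h : G, cjs h T).Normal := by
    constructor
    intro x hx k
    have : cjs k (⨆ h : G, cjs h T) ≤ ⨆ h : G, cjs h T := by
      rw [cjs_iSup]
      apply iSup_le
      intro h
      rw [cjs_cjs]
      exact le_iSup (fun h : G => cjs h T) (k * h)
    apply this
    exact ⟨x, hx, rfl⟩
  have hKle : (⨆ h : G, cjs h T) ≤ N := iSup_le fun h => (hTN.cjs h).1
  have hKT : T ≤ ⨆ h : G, cjs h T := by
    have := le_iSup (fun h : G => cjs h T) 1
    rwa [cjs_one] at this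
  have hNsup : N = T ⊔ cjs g T := by
    apply le_antisymm
    · rcases hmin _ hK hKle with h0 | h0
      · exfalso
        apply hT0
        rw [eq_bot_iff, ← h0]
        exact hKT
      · rw [← h0]
        apply iSup_le
        intro h
        rcases hconj h with h1 | h1
        · rw [h1]; exact le_sup_left
        · rw [h1]; exact le_sup_right
    · exact sup_le hTN.1 hT2N.1
  -- regularity
  have hTreg : ∀ t ∈ T, ∀ a : α, t • a = a → t = 1 := by
    intro t ht a hta
    exact eq_one_of_commute_of_fixed hT2tr (fun s hs => hcomm g hg t ht s hs) hta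
  have hT2reg : ∀ t ∈ cjs g T, ∀ a : α, t • a = a → t = 1 := by
    intro t ht a hta
    exact eq_one_of_commute_of_fixed hTtr (fun s hs => (hcomm g hg s hs t ht).symm) hta
  have hcT : Nat.card T = Nat.card α := card_eq_of_regular' hTtr hTreg a0
  have hcT2 : Nat.card (cjs g T) = Nat.card α := card_eq_of_regular' hT2tr hT2reg a0
  have hcN : Nat.card N = Nat.card α * Nat.card α := by
    rw [hNsup, Nat.card_congr (supEquivProd (hcomm g hg) (hdisj g hg)).toEquiv, Nat.card_prod,
      hcT, hcT2]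
  -- the point stabilizer `H`
  let H : Subgroup G := (stabilizer N a0).map N.subtype
  have hHmem : ∀ x : G, x ∈ H ↔ x ∈ N ∧ x • a0 = a0 := by
    intro x
    constructor
    · rintro ⟨y, hy, rfl⟩
      exact ⟨y.2, hy⟩
    · rintro ⟨hx, hxa⟩
      exact ⟨⟨x, hx⟩, hxa, rfl⟩
  have hnpos : 0 < Nat.card α := Nat.card_pos_iff.2 ⟨⟨a0⟩, inferInstance⟩
  have hcH : Nat.card H = Nat.card α := by
    have h1 : Nat.card H = Nat.card (stabilizer N a0) :=
      Subgroup.card_map_of_injective N.subtype_injective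
    have h2' := Subgroup.card_mul_index (stabilizer N a0)
    rw [MulAction.index_stabilizer_of_transitive, hcN] at h2'
    rw [h1]
    exact Nat.eq_of_mul_eq_mul_right hnpos h2'
  -- the two point stabilizers
  let S : α → Subgroup G := fun b => H ⊓ stabilizer G b
  have hSconj : ∀ b b' : α, b ≠ a0 → b' ≠ a0 → Nat.card (S b) ∣ Nat.card (S b') := by
    intro b b' hb hb'
    obtain ⟨k, hka, hkb⟩ := h2 a0 b a0 b' (Ne.symm hb) (Ne.symm hb')
    have hle : cjs k (S b) ≤ S b' := by
      intro x hx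
      rw [mem_cjs] at hx
      obtain ⟨hx1, hx2⟩ := Subgroup.mem_inf.1 hx
      rw [hHmem] at hx1
      rw [mem_stabilizer_iff] at hx2
      have hk' : k⁻¹ • a0 = a0 := by rw [inv_smul_eq_iff, hka]
      refine Subgroup.mem_inf.2 ⟨(hHmem x).2 ⟨?_, ?_⟩, ?_⟩
      · have := hNn.conj_mem _ hx1.1 k
        simpa [mul_assoc] using this
      · have := hx1.2
        rw [mul_smul, mul_smul, inv_smul_eq_iff, hka] at this
        exact this
      · rw [mem_stabilizer_iff]
        rw [mul_smul, mul_smul, inv_smul_eq_iff, hkb] at hx2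
        exact hx2
    have hc : Nat.card (cjs k (S b)) = Nat.card (S b) :=
      Subgroup.card_map_of_injective (MulAut.conj k).injective
    rw [← hc]
    exact Subgroup.card_dvd_of_le hle
  -- a second point
  have hexb : ∃ b0 : α, b0 ≠ a0 := by
    by_contra hall
    push Not at hall
    apply hn01
    apply FaithfulSMul.eq_of_smul_eq_smul (α := α)
    intro b
    rw [hall b, one_smul, hall (n0 • a0)]
  -- `H` fixes every point
  have hHfix : ∀ b0 : α, b0 ≠ a0 → H ≤ stabilizer G b0 := by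
    intro b0 hb0
    have hdvd : Nat.card α ∣ Nat.card (S b0) := by
      rw [Nat.dvd_iff_prime_pow_dvd_dvd]
      intro p k hp hpk
      haveI : Fact p.Prime := ⟨hp⟩
      rcases Nat.eq_zero_or_pos k with hk0 | hkpos
      · rw [hk0, pow_zero]; exact one_dvd _
      have hpn : p ∣ Nat.card α := dvd_trans (dvd_pow_self p hkpos.ne') hpk
      obtain ⟨Q0, hQ0⟩ := Sylow.exists_subgroup_card_pow_prime p (hcH.symm ▸ hpk : p ^ k ∣ Nat.card H)
      let Q : Subgroup G := Q0.map H.subtype
      have hcQ : Nat.card Q = p ^ k := by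
        rw [← hQ0]
        exact Subgroup.card_map_of_injective H.subtype_injective
      have hQH : Q ≤ H := by
        rintro _ ⟨y, -, rfl⟩
        exact y.2
      have hQp : IsPGroup p Q := IsPGroup.of_card hcQ
      have hmod := hQp.card_modEq_card_fixedPoints α
      have ha0fix : a0 ∈ fixedPoints Q α := by
        intro q
        exact ((hHmem q).1 (hQH q.2)).2
      have hexb : ∃ b ∈ fixedPoints Q α, b ≠ a0 := by
        by_contra hall
        push Not at hall
        have h1 : Nat.card (fixedPoints Q α) = 1 := by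
          rw [Nat.card_eq_one_iff_unique]
          refine ⟨⟨fun x y => Subtype.ext ?_⟩, ⟨⟨a0, ha0fix⟩⟩⟩
          rw [hall x x.2, hall y y.2]
        rw [h1] at hmod
        have h3 : p ∣ 1 := (Nat.modEq_zero_iff_dvd.1 (hmod.symm.trans (Nat.modEq_zero_iff_dvd.2 hpn)))
        exact hp.one_lt.ne' (Nat.dvd_one.1 h3)
      obtain ⟨b, hbfix, hba⟩ := hexb
      have hQS : Q ≤ S b := by
        intro q hq
        exact Subgroup.mem_inf.2 ⟨hQH hq, by rw [mem_stabilizer_iff]; exact hbfix ⟨q, hq⟩⟩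
      have h4 : p ^ k ∣ Nat.card (S b) := hcQ ▸ Subgroup.card_dvd_of_le hQS
      exact dvd_trans h4 (hSconj b b0 hba hb0)
    have hSH : S b0 ≤ H := inf_le_left
    have hSpos : 0 < Nat.card (S b0) := Nat.card_pos
    have heq : S b0 = H := Subgroup.eq_of_le_of_card_ge hSH (by
      rw [hcH]; exact Nat.le_of_dvd hSpos hdvd)
    rw [← heq]
    exact inf_le_right
  apply hn01
  apply FaithfulSMul.eq_of_smul_eq_smul (α := α)
  intro b
  rw [one_smul]
  by_cases hb : b = a0
  · rw [hb, hn0a]
  · exact hHfix b hb ((hHmem n0).2 ⟨hn0, hn0a⟩)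

/-- **Burnside's theorem** on minimal normal subgroups of doubly transitive groups. -/
theorem burnside_two_transitive [FaithfulSMul G α] [Finite G] [Finite α]
    (hG : IsMultiplyPretransitive G α 2) (N : Subgroup G) [hNn : N.Normal] (hN : N ≠ ⊥)
    (hmin : ∀ M : Subgroup G, M.Normal → M ≤ N → M = ⊥ ∨ M = N) :
    (IsMulCommutative N ∧ (∃ p : ℕ, p.Prime ∧ ∀ n ∈ N, n ^ p = 1) ∧
      ∀ a : α, stabilizer N a = ⊥) ∨ (IsSimpleGroup N ∧ IsPreprimitive N α) := by
  classical
  have h2 : DblTrans G α := twoTrans_of_isMultiplyPretransitive hG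
  haveI hprimG : IsPreprimitive G α := isPreprimitive_of_is_two_pretransitive hG
  haveI htr : IsPretransitive N α := by
    apply MulAction.IsQuasiPreprimitive.isPretransitive_of_normal (G := G)
    intro hfix
    apply hN
    rw [Subgroup.eq_bot_iff_forall]
    intro m hm
    apply FaithfulSMul.eq_of_smul_eq_smul (α := α)
    intro a
    have : a ∈ MulAction.fixedPoints N α := by rw [hfix]; trivial
    rw [one_smul]
    exact this ⟨m, hm⟩
  by_cases hreg : ∀ a : α, ∀ n ∈ N, n • a = a → n = 1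
  · left
    obtain ⟨hc, p, hp, hexp⟩ := regular_case h2 N hN hmin hreg
    refine ⟨⟨⟨fun a b => Subtype.ext (hc a a.2 b b.2)⟩⟩, ⟨p, hp, hexp⟩, fun a => ?_⟩
    rw [Subgroup.eq_bot_iff_forall]
    intro n hn
    exact Subtype.ext (hreg a n n.2 hn)
  · right
    push Not at hreg
    obtain ⟨a, n, hn, hna, hn1⟩ := hreg
    have hnr : ∃ a : α, ∃ n ∈ N, n ≠ 1 ∧ n • a = a := ⟨a, n, hn, hn1, hna⟩
    have hprimN : IsPreprimitive N α := by
      by_contra hnp
      have hfrob := frobenius_of_not_preprimitive h2 N hnp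
      obtain ⟨K, hKn, hKle, hK0, hKN⟩ := exists_normal_of_frobenius h2 N hfrob hnr
      rcases hmin K hKn hKle with h | h
      · exact hK0 h
      · exact hKN h
    exact ⟨isSimpleGroup_of_preprimitive h2 N hN hmin hnr, hprimN⟩

end Cfsg.Agent.Helper61.TwoTrans
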