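import Cfsg.Agent.Helper61.SharpM11

set_option autoImplicit false

/-! Sylow `p`-subgroups of faithful transitive groups of prime degree `p`. -/

namespace Cfsg.Agent.Helper61.PrimeDegree

open MulAction Subgroup Cfsg.Agent.Helper61.TwoTrans Cfsg.Agent.Helper61.SharpM

variable {G Ω : Type*} [Group G] [MulAction G Ω]

/-- Elements of a subgroup of prime order commute. -/
theorem comm_of_card_prime (P : Subgroup G) {p : ℕ} [Fact p.Prime] (hP : Nat.card P = p) :
    ∀ x ∈ P, ∀ y ∈ P, x * y = y * x := by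
  have hcyc : IsCyclic P := isCyclic_of_prime_card hP
  intro x hx y hy
  obtain ⟨g, hg⟩ := hcyc.exists_generator
  obtain ⟨i, hi⟩ := Subgroup.mem_zpowers_iff.mp (hg ⟨x, hx⟩)
  obtain ⟨j, hj⟩ := Subgroup.mem_zpowers_iff.mp (hg ⟨y, hy⟩)
  have h1 : (⟨x, hx⟩ : P) * ⟨y, hy⟩ = ⟨y, hy⟩ * ⟨x, hx⟩ := by
    rw [← hi, ← hj, ← zpow_add, ← zpow_add, add_comm]
  exact congrArg Subtype.val h1

/-- Data of a Sylow `p`-subgroup of order `p` in a faithful group of degree `p`. -/
theorem sylow_data [Finite Ω] [FaithfulSMul G Ω] [Finite G] {p : ℕ} [Fact p.Prime]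
    (hΩ : Nat.card Ω = p) (P : Sylow p G) (hP : Nat.card (P : Subgroup G) = p) :
    ∃ d : ℕ, d ∣ p - 1 ∧ Nat.card (normalizer ((P : Subgroup G) : Set G)) = p * d ∧
      p * d * Nat.card (Sylow p G) = Nat.card G ∧ Nat.card (Sylow p G) % p = 1 % p ∧
      centralizer ((P : Subgroup G) : Set G) = P := by
  have hp : p.Prime := Fact.out
  haveI : Nonempty Ω := by
    rw [← Finite.card_pos_iff, hΩ]; exact hp.pos
  have htr : Trans Ω (P : Subgroup G) := trans_of_card_prime (P : Subgroup G) hp hP hΩ
  have hab := comm_of_card_prime (P : Subgroup G) hP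
  have hC : centralizer ((P : Subgroup G) : Set G) = P := centralizer_eq_of_trans _ htr hab
  have h1 := Cfsg.Agent.Helper17.card_centralizer_mul_relIndex (P : Subgroup G)
  have h2 := (Cfsg.Agent.Helper17.relIndex_dvd_of_card_sylow_prime P hP).1
  have h3 := Cfsg.Agent.Helper17.card_normalizer_mul_card_sylow P
  have h4 : Nat.card (Sylow p G) ≡ 1 [MOD p] := card_sylow_modEq_one p G
  have hC' : Nat.card (centralizer ((P : Subgroup G) : Set G)) = p := by rw [hC, hP]
  rw [hC'] at h1
  refine ⟨_, h2, h1.symm, ?_, h4, hC⟩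
  rw [h1]; exact h3

/-- If a Sylow `p`-subgroup of prime order is self-normalizing, there is a normal `p`-complement. -/
theorem exists_normal_complement [Finite G] {p : ℕ} [Fact p.Prime] (P : Sylow p G)
    (hP : Nat.card (P : Subgroup G) = p)
    (hN : Nat.card (normalizer ((P : Subgroup G) : Set G)) = p) :
    ∃ K : Subgroup G, K.Normal ∧ Nat.card K * p = Nat.card G := by
  have hab := comm_of_card_prime (P : Subgroup G) hP
  have hNP : normalizer ((P : Subgroup G) : Set G) = P := by
    symm
    apply Subgroup.eq_of_le_of_card_ge Subgroup.le_normalizer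
    rw [hN, hP]
  have hle : normalizer ((P : Subgroup G) : Set G) ≤ centralizer ((P : Subgroup G) : Set G) := by
    rw [hNP]
    intro x hx
    rw [Subgroup.mem_centralizer_iff]
    intro y hy
    exact hab y hy x hx
  have hc := MonoidHom.ker_transferSylow_isComplement' P hle
  have hcard := hc.card_mul_card
  rw [hP] at hcard
  exact ⟨_, inferInstance, hcard⟩

/-- Existence of minimal normal subgroups below a non-trivial normal subgroup. -/
theorem exists_minimal_normal [Finite G] (N : Subgroup G) (hNn : N.Normal) (hN : N ≠ ⊥) :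
    ∃ M : Subgroup G, M.Normal ∧ M ≠ ⊥ ∧ M ≤ N ∧
      ∀ M' : Subgroup G, M'.Normal → M' ≤ M → M' = ⊥ ∨ M' = M := by
  induction h : Nat.card N using Nat.strong_induction_on generalizing N with
  | _ n ih =>
    by_cases hmin : ∀ M' : Subgroup G, M'.Normal → M' ≤ N → M' = ⊥ ∨ M' = N
    · exact ⟨N, hNn, hN, le_refl N, hmin⟩
    · push Not at hmin
      obtain ⟨M', hM'n, hM'le, hM'0, hM'N⟩ := hmin
      have hlt : Nat.card M' < n := by
        rw [← h]
        have hle' : Nat.card M' ≤ Nat.card N := Subgroup.card_le_of_le hM'le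
        rcases Nat.lt_or_ge (Nat.card M') (Nat.card N) with hlt' | hge
        · exact hlt'
        · exact absurd (Subgroup.eq_of_le_of_card_ge hM'le hge) hM'N
      obtain ⟨M, hMn, hM0, hMle, hMmin⟩ := ih _ hlt M' hM'n hM'0 rfl
      exact ⟨M, hMn, hM0, hMle.trans hM'le, hMmin⟩

end Cfsg.Agent.Helper61.PrimeDegree
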