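import Cfsg.Agent.Helper43.PsuM.EvDefs
import Cfsg.Agent.Helper41.PsuM_AROOTb
import Cfsg.Agent.Helper33.PsuM_AI
import Cfsg.Agent.Helper31.PsuM_KILL

/-!
# S2089 block I-even, piece (E3K) (helper61): lifts of `xE σ i j a` commute with lifts of the long root
group of a third index
-/

set_option autoImplicit false

namespace Cfsg.Agent.Helper61.PsuM

open Matrix
open scoped commutatorElement
open Cfsg.Agent.Helper96.StLift
open Cfsg.Agent.Helper43.PsuM.Ev

universe u

variable {K : Type u} [Field K] [Fintype K] {q : ℕ} {σ : K →+* K} {m : ℕ}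

/-- the `q`-power map of the field with `q ^ 2` elements is an involution -/
theorem E3K_sigma_sigma (hK : Fintype.card K = q ^ 2) (hσq : ∀ x, σ x = x ^ q) (x : K) :
    σ (σ x) = x := by
  rw [hσq, hσq, ← pow_mul, ← sq, ← hK, FiniteField.pow_card]

/-- an element `μ ≠ 1` of norm one -/
theorem E3K_exists_norm_one (hK : Fintype.card K = q ^ 2) (hσq : ∀ x, σ x = x ^ q) :
    ∃ μ : K, μ ≠ 1 ∧ μ * σ μ = 1 := by
  classical
  have hq2 : 2 ≤ q := by
    by_contra hlt
    have hq1 : q ≤ 1 := by omega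
    have h1 : 1 < Fintype.card K := Fintype.one_lt_card
    have h2 : q ^ 2 ≤ 1 := by
      calc q ^ 2 ≤ 1 ^ 2 := Nat.pow_le_pow_left hq1 2
        _ = 1 := by norm_num
    omega
  have hex : ∃ a : Kˣ, a ^ (q - 1) ≠ 1 := by
    by_contra hall
    push Not at hall
    have hle := IsCyclic.card_pow_eq_one_le (α := Kˣ) (n := q - 1) (by omega)
    have hfil : (Finset.univ.filter fun a : Kˣ => a ^ (q - 1) = 1) = Finset.univ := by
      ext a
      simp [hall a]
    rw [hfil, Finset.card_univ, Fintype.card_units, hK] at hle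
    have : q ^ 2 = q * q := sq q
    have h3 : q * q ≥ 2 * q := Nat.mul_le_mul_right q hq2
    omega
  obtain ⟨a, ha⟩ := hex
  refine ⟨((a ^ (q - 1) : Kˣ) : K), ?_, ?_⟩
  · intro h1
    exact ha (Units.ext h1)
  · rw [hσq, ← pow_succ', Units.val_pow_eq_pow_val, ← pow_mul]
    have hexp : (q - 1) * (q + 1) = Fintype.card K - 1 := by
      rw [hK]
      have h4 : q ^ 2 = (q - 1) * (q + 1) + 1 := by
        obtain ⟨r, rfl⟩ : ∃ r, q = r + 1 := ⟨q - 1, by omega⟩
        simp only [Nat.add_sub_cancel]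
        ring
      omega
    rw [hexp]
    exact FiniteField.pow_card_sub_one_eq_one (a : K) a.ne_zero

section ext

variable {Γ : Type u} [Group Γ] (τ : Γ →* SUe m σ) (hτ : Function.Surjective τ)
  (hc : τ.ker ≤ Subgroup.center Γ)

include hc

/-- (E3K) -/
theorem lc_xE_Xl (hK : Fintype.card K = q ^ 2) (hσq : ∀ x, σ x = x ^ q) (i j c : Fin m)
    (hij : i ≠ j) (hci : c ≠ i) (hcj : c ≠ j) (a : K) (y : SUe m σ) (hy : y ∈ Xl σ c) :
    lc hτ (xE σ i j a) y = 1 := by
  classical
  have hσ : ∀ x, σ (σ x) = x := E3K_sigma_sigma hK hσq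
  obtain ⟨μ, hμ1, hμN⟩ := E3K_exists_norm_one (σ := σ) hK hσq
  have hμ0 : μ ≠ 0 := by
    intro h0
    rw [h0, zero_mul] at hμN
    exact zero_ne_one hμN
  have hμ1' : μ - 1 ≠ 0 := sub_ne_zero.mpr hμ1
  -- the torus element
  let d : Fin m → K := fun k => if k = i then μ else if k = c then μ⁻¹ else 1
  have hdi : d i = μ := if_pos rfl
  have hdc : d c = μ⁻¹ := by
    change (if c = i then μ else if c = c then μ⁻¹ else 1) = μ⁻¹
    rw [if_neg hci, if_pos rfl]
  have hdj : d j = 1 := by
    change (if j = i then μ else if j = c then μ⁻¹ else 1) = 1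
    rw [if_neg hij.symm, if_neg hcj.symm]
  have hd : ∀ k, d k ≠ 0 := by
    intro k
    change (if k = i then μ else if k = c then μ⁻¹ else 1) ≠ 0
    split_ifs
    · exact hμ0
    · exact inv_ne_zero hμ0
    · exact one_ne_zero
  have hprod : ∏ k, d k = 1 := by
    rw [Finset.prod_eq_mul_of_mem i c (Finset.mem_univ _) (Finset.mem_univ _) hci.symm, hdi, hdc,
      mul_inv_cancel₀ hμ0]
    intro k _ hk
    change (if k = i then μ else if k = c then μ⁻¹ else 1) = 1
    rw [if_neg hk.1, if_neg hk.2]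
  have hdet : σ (∏ k, d k) = ∏ k, d k := by rw [hprod, map_one]
  -- the root group
  have hx0 : xE σ i j (0 : K) = 1 := by
    have h := Cfsg.Agent.Helper33.PsuM.xE_add hσ i j (0 : K) 0
    rw [add_zero] at h
    exact (mul_eq_left.mp h.symm)
  let f : Multiplicative K →* SUe m σ :=
    { toFun := fun b => xE σ i j (Multiplicative.toAdd b)
      map_one' := hx0
      map_mul' := fun b b' => Cfsg.Agent.Helper33.PsuM.xE_add hσ i j _ _ }
  have hfX : ∀ b : K, xE σ i j b ∈ f.range := fun b => ⟨Multiplicative.ofAdd b, rfl⟩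
  have hXf : ∀ x ∈ f.range, ∃ b : K, x = xE σ i j b := by
    rintro x ⟨b, rfl⟩
    exact ⟨Multiplicative.toAdd b, rfl⟩
  have hxneg : ∀ b : K, (xE σ i j b)⁻¹ = xE σ i j (-b) := by
    intro b
    apply inv_eq_of_mul_eq_one_right
    rw [← Cfsg.Agent.Helper33.PsuM.xE_add hσ, add_neg_cancel, hx0]
  -- conjugation by the torus element
  have hconjx : ∀ b : K, tE σ d * xE σ i j b * (tE σ d)⁻¹ = xE σ i j (μ * b) := by
    intro b
    rw [Cfsg.Agent.Helper41.PsuM.tE_conj_xE hσ d hd hdet i j b, hdi, hdj, inv_one, mul_one]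
  have hconjz : ∀ c' : K, σ c' + c' = 0 →
      tE σ d * zE σ c c' * (tE σ d)⁻¹ = zE σ c c' := by
    intro c' hc'
    rw [Cfsg.Agent.Helper41.PsuM.tE_conj_zE hσ d hd hdet c hc', hdc]
    have h1 : μ⁻¹ * σ μ⁻¹ = 1 := by
      rw [map_inv₀, ← mul_inv, hμN, inv_one]
    rw [h1, one_mul]
  -- apply (KILL)
  refine Cfsg.Agent.Helper31.PsuM.lc_eq_one_of_torus τ hτ hc (tE σ d) f.range (Xl σ c) ?_ ?_ ?_ ?_
    (xE σ i j a) (hfX a) y hy
  · -- the root group commutes with the long root group
    intro x hx y' hy'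
    obtain ⟨b, rfl⟩ := hXf x hx
    have hle : Xl σ c ≤ Subgroup.centralizer {xE σ i j b} := by
      unfold Xl
      rw [Subgroup.closure_le]
      rintro g ⟨c', hc', rfl⟩
      rw [SetLike.mem_coe, Subgroup.mem_centralizer_iff]
      intro g' hg'
      rw [Set.mem_singleton_iff] at hg'
      subst hg'
      exact (Cfsg.Agent.Helper41.PsuM.commute_xE_zE hσ hij hcj.symm b hc').eq
    have h1 := hle hy'
    rw [Subgroup.mem_centralizer_iff] at h1
    exact h1 _ (Set.mem_singleton _)
  · -- the torus element centralises the long root group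
    intro y' hy'
    have hle : Xl σ c ≤ Subgroup.centralizer {tE σ d} := by
      unfold Xl
      rw [Subgroup.closure_le]
      rintro g ⟨c', hc', rfl⟩
      rw [SetLike.mem_coe, Subgroup.mem_centralizer_iff]
      intro g' hg'
      rw [Set.mem_singleton_iff] at hg'
      subst hg'
      have h2 := hconjz c' hc'
      rw [mul_inv_eq_iff_eq_mul] at h2
      exact h2
    have h1 := hle hy'
    rw [Subgroup.mem_centralizer_iff] at h1
    have h2 := h1 _ (Set.mem_singleton _)
    rw [mul_inv_eq_iff_eq_mul]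
    exact h2
  · -- the torus element normalises the root group
    intro x' hx'
    obtain ⟨b, rfl⟩ := hXf x' hx'
    rw [hconjx]
    exact hfX _
  · -- surjectivity of the commutator map
    intro x hx
    obtain ⟨b, rfl⟩ := hXf x hx
    refine ⟨xE σ i j (b / (μ - 1)), hfX _, ?_⟩
    rw [hconjx, hxneg, ← Cfsg.Agent.Helper33.PsuM.xE_add hσ]
    congr 1
    field_simp
    ring

end ext

end Cfsg.Agent.Helper61.PsuM
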