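import Cfsg.Agent.Helper43.PsuM.EvDefs
import Cfsg.Agent.Helper5.PsuM_AISO
import Cfsg.Agent.Helper35.SuBNZETA
import Cfsg.Agent.Helper35.SuBNLAM
import Cfsg.Agent.Helper55.SuBNTR1
import Cfsg.Agent.Helper55.SuBNTR2
import Cfsg.Agent.S0278

/-!
# S2089 block I-even, piece (EIDX2) (helper61): the index of the Borel subgroup is prime to `p`
-/

set_option autoImplicit false

namespace Cfsg.Agent.Helper61.PsuM

open Matrix
open Cfsg.Agent.Helper43.PsuM.Ev

universe u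

variable {K : Type u} [Field K] [Fintype K] {q : ℕ} {σ : K →+* K} {m : ℕ}

/-- the `q`-power map of the field with `q ^ 2` elements is an involution -/
theorem EIDX2_sigma_sigma (hK : Fintype.card K = q ^ 2) (hσq : ∀ x, σ x = x ^ q) (x : K) :
    σ (σ x) = x := by
  rw [hσq, hσq, ← pow_mul, ← sq, ← hK, FiniteField.pow_card]

/-- the order of `SUe m σ` -/
theorem EIDX2_card (hK : Fintype.card K = q ^ 2) (hσq : ∀ x, σ x = x ^ q) (hm : 1 ≤ m) :
    (q + 1) * Nat.card (SUe m σ) = q ^ (m * (2 * m - 1)) *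
      ∏ i ∈ Finset.range (m + m), (if Even i then q ^ (i + 1) + 1 else q ^ (i + 1) - 1) := by
  have hσ : ∀ x, σ (σ x) = x := EIDX2_sigma_sigma hK hσq
  obtain ⟨ζ, hζ⟩ := Cfsg.Agent.Helper35.SuBNZETA.exists_zeta q hK
  obtain ⟨l, hl⟩ := Cfsg.Agent.Helper35.SuBNLAM.exists_lambda q hK
  rw [← hσq] at hζ hl
  obtain ⟨C, hC⟩ := Cfsg.Agent.Helper55.SuBNTR1.exists_basis_change (σ := σ) ζ l hζ hl (m + m)
  obtain ⟨e2⟩ := Cfsg.Agent.Helper55.SuBNTR2.nonempty_mulEquiv_SU q hσq C hC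
  obtain ⟨e1⟩ := Cfsg.Agent.Helper5.PsuM.nonempty_mulEquiv_UG (m := m) hσ
  have hcard : Nat.card (SUe m σ) = Nat.card (Cfsg.SU (m + m) K q) :=
    Nat.card_congr (e1.trans e2).toEquiv
  have h278 := Cfsg.Agent.S0278.result hK (m + m) (by omega)
  have hexp : (m + m) * (m + m - 1) / 2 = m * (2 * m - 1) := by
    have h1 : (m + m) * (m + m - 1) = 2 * (m * (2 * m - 1)) := by
      have h2 : m + m - 1 = 2 * m - 1 := by omega
      rw [h2]
      ring
    rw [h1, Nat.mul_div_cancel_left _ (by norm_num : 0 < 2)]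
  rw [hexp] at h278
  rw [hcard]
  exact h278

/-- (EIDX2) -/
theorem not_dvd_index (hK : Fintype.card K = q ^ 2) (hσq : ∀ x, σ x = x ^ q) (p : ℕ)
    [Fact p.Prime] [CharP K p] (hm : 1 ≤ m)
    (hU : q ^ (m * (2 * m - 1)) ∣ Nat.card (Usub m σ)) :
    ¬ p ∣ (Usub m σ ⊔ Tsub m σ).index := by
  have hp : p.Prime := Fact.out
  intro hdvd
  have hcardG := EIDX2_card (σ := σ) hK hσq hm
  -- `p ∣ q`
  have hpq : p ∣ q := by
    obtain ⟨n, -, hn⟩ := FiniteField.card K p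
    have h1 : p ∣ q ^ 2 := by
      rw [← hK, hn]
      exact dvd_pow_self p n.pos.ne'
    exact hp.dvd_of_dvd_pow h1
  have hq0 : 0 < q := by
    rcases Nat.eq_zero_or_pos q with h | h
    · exfalso
      have h0 : Fintype.card K = 0 := by rw [hK, h]; norm_num
      exact Fintype.card_ne_zero h0
    · exact h
  set B : Subgroup (SUe m σ) := Usub m σ ⊔ Tsub m σ with hB
  set N : ℕ := m * (2 * m - 1) with hN
  have h1 : Nat.card (Usub m σ) ∣ Nat.card B := Subgroup.card_dvd_of_le le_sup_left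
  have h2 : q ^ N ∣ Nat.card B := hU.trans h1
  have h3 : p * q ^ N ∣ Nat.card (SUe m σ) := by
    rw [← Subgroup.index_mul_card B]
    exact mul_dvd_mul hdvd h2
  have h4 : q ^ N * ((q + 1) * p) ∣ q ^ N *
      ∏ i ∈ Finset.range (m + m), (if Even i then q ^ (i + 1) + 1 else q ^ (i + 1) - 1) := by
    rw [← hcardG]
    have : q ^ N * ((q + 1) * p) = (q + 1) * (p * q ^ N) := by ring
    rw [this]
    exact mul_dvd_mul_left _ h3
  have h5 : (q + 1) * p ∣
      ∏ i ∈ Finset.range (m + m), (if Even i then q ^ (i + 1) + 1 else q ^ (i + 1) - 1) :=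
    Nat.dvd_of_mul_dvd_mul_left (pow_pos hq0 N) h4
  have h6 : p ∣
      ∏ i ∈ Finset.range (m + m), (if Even i then q ^ (i + 1) + 1 else q ^ (i + 1) - 1) :=
    (dvd_mul_left p (q + 1)).trans h5
  obtain ⟨i, -, hi⟩ := (Prime.dvd_finsetProd_iff hp.prime _).mp h6
  have hqi : p ∣ q ^ (i + 1) := dvd_pow hpq (Nat.succ_ne_zero i)
  have hone : p ∣ 1 := by
    by_cases hev : Even i
    · rw [if_pos hev] at hi
      exact (Nat.dvd_add_right hqi).mp hi
    · rw [if_neg hev] at hi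
      have hpos : 1 ≤ q ^ (i + 1) := Nat.one_le_pow _ _ hq0
      have : q ^ (i + 1) = (q ^ (i + 1) - 1) + 1 := by omega
      rw [this] at hqi
      exact (Nat.dvd_add_right hi).mp hqi
  exact hp.one_lt.ne' (Nat.dvd_one.mp hone)

end Cfsg.Agent.Helper61.PsuM
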