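import Cfsg.Agent.Helper61.DihPieces

/-!
# The rank three case of Wielandt's theorem on dihedral groups (twice odd order)

There is no strongly regular Cayley graph on the dihedral group of order `2e`, `e > 1` odd, which
is primitive (`0 < μ` for the graph and its complement).
-/

set_option autoImplicit false

namespace Cfsg.Agent.Helper61.Dih

open DihedralGroup Finset

variable {e : ℕ} [NeZero e]

theorem coeff_ind {D : Type*} [DecidableEq D] (S : Finset D) (d : D) :
    (ind S : MonoidAlgebra ℤ D).coeff d = if d ∈ S then 1 else 0 := by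
  unfold ind
  simp only [MonoidAlgebra.coeff_sum, Finsupp.coe_finsetSum, Finset.sum_apply,
    MonoidAlgebra.coeff_single, Finsupp.single_apply]
  rw [Finset.sum_ite_eq']

theorem card_compB (B : Finset (ZMod e)) : ((compB B).card : ℤ) = e - B.card := by
  have h1 : compB B = univ \ B := by
    ext i
    simp [compB]
  rw [h1, Finset.card_sdiff_of_subset (Finset.subset_univ B), Finset.card_univ, ZMod.card,
    Nat.cast_sub]
  calc B.card ≤ (univ : Finset (ZMod e)).card := Finset.card_le_card (Finset.subset_univ B)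
    _ = e := by rw [Finset.card_univ, ZMod.card]

theorem card_compA {A : Finset (ZMod e)} (h0 : (0 : ZMod e) ∉ A) :
    ((compA A).card : ℤ) = e - 1 - A.card := by
  have h1 : compA A = univ \ (insert 0 A) := by
    ext i
    simp [compA]
  rw [h1, Finset.card_sdiff_of_subset (Finset.subset_univ _), Finset.card_univ, ZMod.card,
    Nat.cast_sub, Finset.card_insert_of_notMem h0]
  · push_cast
    ring
  · calc (insert 0 A).card ≤ (univ : Finset (ZMod e)).card :=
        Finset.card_le_card (Finset.subset_univ _)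
      _ = e := by rw [Finset.card_univ, ZMod.card]

theorem sgn_compl {A B : Finset (ZMod e)} (h0 : (0 : ZMod e) ∉ A) :
    sgn (compA A) (compB B) = -1 - sgn A B := by
  unfold sgn
  rw [card_compA h0, card_compB]
  ring

theorem sgn_sub_compl {A B : Finset (ZMod e)} (h0 : (0 : ZMod e) ∉ A) (k lam mu : ℤ) :
    sgn (compA A) (compB B) - sgn' (compA A) (compB B) (2 * e - 2 - 2 * k + mu) (2 * e - 2 * k + lam)
      = -(sgn A B - sgn' A B lam mu) := by
  unfold sgn'
  rw [sgn_compl h0]
  ring


/-- `-(s s') = k - μ` -/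
theorem DihData.sgn_mul {A B : Finset (ZMod e)} {k lam mu : ℤ} (h : DihData e A B k lam mu) :
    -(sgn A B * sgn' A B lam mu) = k - mu := by
  have := h.sgn_sq
  unfold sgn'
  linear_combination this

theorem sgn_add (A B : Finset (ZMod e)) (lam mu : ℤ) : sgn A B + sgn' A B lam mu = lam - mu := by
  unfold sgn'
  ring

/-- The Frobenius congruence. -/
theorem frob {T : Finset (DihedralGroup e)} {k lam mu : ℕ} (h : IsSrgSet T k lam mu) (q : ℕ)
    [Fact q.Prime] (hq2 : q ≠ 2) :
    ∃ κ : ZMod q, ∀ x : ZMod e, x ≠ 0 →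
      (((rotPart T).filter (fun i => q • i = x)).card : ZMod q) =
        ((sgn (rotPart T) (refPart T) - sgn' (rotPart T) (refPart T) lam mu : ℤ) : ZMod q) ^ (q - 1)
          * (if x ∈ rotPart T then 1 else 0) + κ := by
  have hD := dihData_of_isSrgSet h
  obtain ⟨h1, h2⟩ := ind_mul_ind h
  set s := sgn (rotPart T) (refPart T) with hs
  set s' := sgn' (rotPart T) (refPart T) lam mu with hs'
  have hα : ((k : ℤ) - mu) = -(s * s') := (hD.sgn_mul).symm
  have hβ : ((lam : ℤ) - mu) = s + s' := (sgn_add _ _ _ _).symm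
  rw [hα, hβ] at h1
  obtain ⟨κ, hκ⟩ := pow_eq_luc (ind T : MonoidAlgebra ℤ (DihedralGroup e)) (ind univ)
    (-(s * s')) (s + s') mu k h1 h2 q
  refine ⟨(κ : ZMod q), fun x hx => ?_⟩
  rw [← coeff_pow_rot T h.inv_mem q hq2 x, hκ, ← luc_fst_prime s s' q]
  have hne : (r x : DihedralGroup e) ≠ 1 := by
    rw [one_def]
    intro hh
    exact hx (r.inj hh)
  have hc1 : ((1 : MonoidAlgebra ℤ (DihedralGroup e))).coeff (r x) = 0 := by
    rw [MonoidAlgebra.one_def, MonoidAlgebra.coeff_single, Finsupp.single_apply, if_neg hne.symm]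
  have hcu : (ind (univ : Finset (DihedralGroup e)) : MonoidAlgebra ℤ _).coeff (r x) = 1 := by
    rw [coeff_ind, if_pos (Finset.mem_univ _)]
  have hcT : (ind T : MonoidAlgebra ℤ _).coeff (r x) = if x ∈ rotPart T then 1 else 0 := by
    rw [coeff_ind]
    simp only [mem_rotPart]
  have : ((luc (-(s * s')) (s + s') q).1 • (ind T : MonoidAlgebra ℤ (DihedralGroup e))
      + (luc (-(s * s')) (s + s') q).2 • (1 : MonoidAlgebra ℤ (DihedralGroup e))
      + κ • ind univ).coeff (r x) =
      (luc (-(s * s')) (s + s') q).1 * (if x ∈ rotPart T then 1 else 0) + κ := by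
    simp only [MonoidAlgebra.coeff_add, MonoidAlgebra.coeff_smul, Finsupp.coe_add, Finsupp.coe_smul,
      Pi.add_apply, Pi.smul_apply, smul_eq_mul, hc1, hcu, hcT, mul_zero, add_zero, mul_one]
  rw [this]
  push_cast
  split_ifs <;> simp


/-- (P4) the final contradiction: periodic `A` disjoint from the subgroup of order `q`. -/
theorem P4 {A B : Finset (ZMod e)} {k lam mu : ℤ} (h : DihData e A B k lam mu) (hmu : 0 < mu)
    (hmu' : 0 < 2 * (e : ℤ) - 2 * k + lam) (q : ℕ) [Fact q.Prime] (hqe : q ∣ e) (hq2 : q ≠ 2)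
    (hdvd : (q : ℤ) ∣ sgn A B - sgn' A B lam mu)
    (hper : ∀ x u : ZMod e, q • u = 0 → q • x ≠ 0 → (x ∈ A ↔ x + u ∈ A))
    (hdisj : ∀ u : ZMod e, q • u = 0 → u ∉ A) : False := by
  have hq : q.Prime := Fact.out
  have hlm : lam = mu := P4a h hmu hmu' q hqe hper hdisj
  subst hlm
  have hs' : sgn' A B lam lam = -sgn A B := by unfold sgn'; ring
  rw [hs'] at hdvd
  have hsq := h.sgn_sq
  have hksq := h.k_sq
  have h2ab := h.two_mul_card
  have hcard := h.card_add
  -- `q ∣ s`
  have hqs : (q : ℤ) ∣ sgn A B := by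
    have h2 : (q : ℤ) ∣ 2 * sgn A B := by
      have : sgn A B - -sgn A B = 2 * sgn A B := by ring
      rwa [this] at hdvd
    have hcop : IsCoprime (q : ℤ) 2 := by
      rw [Int.isCoprime_iff_gcd_eq_one]
      have : Nat.Coprime q 2 := (Nat.coprime_primes hq Nat.prime_two).mpr hq2
      simpa [Int.gcd] using this
    exact hcop.dvd_of_dvd_mul_left h2
  -- `s ≠ 0`
  have hs0 : sgn A B ≠ 0 := by
    intro h0
    rw [h0] at hsq
    have hkm : k = lam := by linarith
    rw [hkm] at hksq hmu'
    have : lam * (2 * lam - lam - 2 * e) = 0 := by nlinarith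
    rcases mul_eq_zero.mp this with h1 | h1
    · omega
    · omega
  -- `B` is neither empty nor everything
  have hb0 : 0 < (B.card : ℤ) := by
    rcases Finset.eq_empty_or_nonempty B with hB | hB
    · have := h.refl 0
      rw [hB] at this
      simp at this
      omega
    · exact_mod_cast hB.card_pos
  have hbe : (B.card : ℤ) < e := by
    by_contra hge
    push Not at hge
    have hle : B.card ≤ e := by
      calc B.card ≤ (univ : Finset (ZMod e)).card := Finset.card_le_card (Finset.subset_univ B)
        _ = e := by rw [Finset.card_univ, ZMod.card]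
    have hBe : (B.card : ℤ) = e := by
      have : (B.card : ℤ) ≤ e := by exact_mod_cast hle
      omega
    -- `B = univ`
    rw [hBe] at h2ab hcard
    have he0 : (e : ℤ) ≠ 0 := by exact_mod_cast (NeZero.ne e)
    have h3 : 2 * (A.card : ℤ) = lam := by
      have : (2 * (A.card : ℤ) - lam) * e = 0 := by linarith
      rcases mul_eq_zero.mp this with h4 | h4
      · linarith
      · exact absurd h4 he0
    omega
  -- the Cauchy-Schwarz inequality
  have hCS := P4c B q hqe
  have hsum : ∑ u ∈ (univ.filter (fun u : ZMod e => q • u = 0)),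
      ((B.filter (fun j => j + u ∈ B)).card : ℤ) = B.card + ((q : ℤ) - 1) * (lam - A.card) := by
    have h0mem : (0 : ZMod e) ∈ univ.filter (fun u : ZMod e => q • u = 0) := by simp
    rw [← Finset.add_sum_erase _ _ h0mem]
    have h1 : ((B.filter (fun j => j + (0 : ZMod e) ∈ B)).card : ℤ) = B.card := by
      congr 2
      ext j
      simp
    rw [h1]
    have h2 : ∀ u ∈ (univ.filter (fun u : ZMod e => q • u = 0)).erase 0,
        ((B.filter (fun j => j + u ∈ B)).card : ℤ) = lam - A.card := by
      intro u hu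
      rw [Finset.mem_erase, Finset.mem_filter] at hu
      exact P4b h q hper hdisj u hu.2.2 hu.1
    rw [Finset.sum_congr rfl h2, Finset.sum_const, Finset.card_erase_of_mem h0mem,
      card_torsion q hqe, nsmul_eq_mul, Nat.cast_sub hq.one_le]
    push_cast
    ring
  have hCS' : (q : ℤ) * (B.card : ℤ) ^ 2 ≤
      e * ((B.card : ℤ) + ((q : ℤ) - 1) * (lam - A.card)) := by
    rw [← hsum]
    exact_mod_cast hCS
  have hq3 : (3 : ℤ) ≤ q := by
    have : 2 ≤ q := hq.two_le
    have : 3 ≤ q := by omega
    exact_mod_cast this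
  apply arith (A.card : ℤ) (B.card : ℤ) e q lam (sgn A B) rfl ?_ ?_ hq3 hqs hs0 hb0 hbe hCS'
  · rw [hsq, ← hcard]
    ring
  · rw [h2ab]
    ring


theorem mem_compA {A : Finset (ZMod e)} {i : ZMod e} : i ∈ compA A ↔ i ≠ 0 ∧ i ∉ A := by
  simp [compA]

/-- **Wielandt's theorem, rank three case, `e` odd**: no primitive strongly regular Cayley graph on
the dihedral group of order `2e`. -/
theorem dihedral_false (he : Odd e) (he1 : 1 < e) (T : Finset (DihedralGroup e)) (k lam mu : ℕ)
    (h : IsSrgSet T k lam mu) (hmu : 0 < mu) (hmu' : 2 * k < 2 * e + lam) : False := by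
  obtain ⟨q, hq, hqe⟩ := Nat.exists_prime_and_dvd (ne_of_gt he1)
  haveI : Fact q.Prime := ⟨hq⟩
  have hq2 : q ≠ 2 := by
    rintro rfl
    exact (Nat.not_even_iff_odd.mpr he) (even_iff_two_dvd.mpr hqe)
  have hD := dihData_of_isSrgSet h
  set A := rotPart T with hA
  set B := refPart T with hB
  have hmuZ : (0 : ℤ) < mu := by exact_mod_cast hmu
  have hmuZ' : (0 : ℤ) < 2 * (e : ℤ) - 2 * k + lam := by
    have : (2 * k : ℤ) < 2 * e + lam := by exact_mod_cast hmu'
    linarith
  -- complement data
  have hDc := hD.compl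
  have hmuc' : (0 : ℤ) < 2 * (e : ℤ) - 2 * (2 * (e : ℤ) - 1 - k) + (2 * (e : ℤ) - 2 - 2 * k + mu) := by
    linarith
  -- an element outside `qC`
  have h1q : ∀ y : ZMod e, q • y ≠ (1 : ZMod e) := by
    intro y hy
    have h2 := congrArg (ZMod.castHom hqe (ZMod q)) hy
    rw [map_nsmul, map_one, nsmul_eq_mul, ZMod.natCast_self, zero_mul] at h2
    exact zero_ne_one h2
  have h10 : (1 : ZMod e) ≠ 0 := by
    haveI : Fact (1 < e) := ⟨he1⟩
    exact one_ne_zero
  obtain ⟨κ, hκ⟩ := frob h q hq2
  have hcount0 : ∀ x : ZMod e, (∀ y : ZMod e, q • y ≠ x) →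
      (A.filter (fun i => q • i = x)).card = 0 := by
    intro x hx
    rw [Finset.card_eq_zero, Finset.filter_eq_empty_iff]
    intro i _
    exact hx i
  by_cases hdvd : (q : ℤ) ∣ sgn A B - sgn' A B lam mu
  · -- the periodic case
    have hz : ((sgn A B - sgn' A B lam mu : ℤ) : ZMod q) ^ (q - 1) = 0 := by
      rw [(ZMod.intCast_zmod_eq_zero_iff_dvd _ q).mpr hdvd, zero_pow]
      have := hq.two_le
      omega
    have hκ0 : κ = 0 := by
      have := hκ 1 h10
      rw [hcount0 1 h1q, hz] at this
      simpa using this.symm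
    have hdiv : ∀ y : ZMod e, y ≠ 0 → q ∣ (A.filter (fun i => q • i = y)).card := by
      intro y hy
      have := hκ y hy
      rw [hz, hκ0, zero_mul, add_zero] at this
      exact (ZMod.natCast_eq_zero_iff _ q).mp this
    have hper : ∀ x u : ZMod e, q • u = 0 → q • x ≠ 0 → (x ∈ A ↔ x + u ∈ A) :=
      fun x u hu hx => P2 q hqe hdiv x u hu hx
    rcases P3 hD hmuZ hmuZ' q hqe hper with h1 | h2
    · exact P4 hD hmuZ hmuZ' q hqe hq2 hdvd hper h1
    · -- pass to the complement
      have hperc : ∀ x u : ZMod e, q • u = 0 → q • x ≠ 0 →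
          (x ∈ compA A ↔ x + u ∈ compA A) := by
        intro x u hu hx
        rw [mem_compA, mem_compA, hper x u hu hx]
        have hx0 : x ≠ 0 := by
          rintro rfl
          exact hx (smul_zero _)
        have hxu0 : x + u ≠ 0 := by
          intro hh
          apply hx
          have : q • (x + u) = 0 := by rw [hh, smul_zero]
          rwa [smul_add, hu, add_zero] at this
        simp [hx0, hxu0]
      have hdisjc : ∀ u : ZMod e, q • u = 0 → u ∉ compA A := by
        intro u hu hmem
        rw [mem_compA] at hmem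
        exact hmem.2 (h2 u hu hmem.1)
      have hdvdc : (q : ℤ) ∣ sgn (compA A) (compB B) - sgn' (compA A) (compB B)
          (2 * e - 2 - 2 * k + mu) (2 * e - 2 * k + lam) := by
        rw [sgn_sub_compl hD.zero_notMem]
        exact (dvd_neg).mpr hdvd
      exact P4 hDc hmuZ' hmuc' q hqe hq2 hdvdc hperc hdisjc
  · -- the non-periodic case
    have hone : ((sgn A B - sgn' A B lam mu : ℤ) : ZMod q) ^ (q - 1) = 1 := by
      apply ZMod.pow_card_sub_one_eq_one
      rw [Ne, ZMod.intCast_zmod_eq_zero_iff_dvd]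
      exact hdvd
    have hconst : ∀ x : ZMod e, (∀ y : ZMod e, q • y ≠ x) → x ≠ 0 →
        ((if x ∈ A then 1 else 0 : ZMod q)) = -κ := by
      intro x hx hx0
      have := hκ x hx0
      rw [hcount0 x hx, hone, one_mul, Nat.cast_zero] at this
      exact eq_neg_of_add_eq_zero_left this.symm
    have h01 : (0 : ZMod q) ≠ 1 := zero_ne_one
    by_cases h1A : (1 : ZMod e) ∈ A
    · -- everything outside `qC` lies in `A`
      have hκ1 : -κ = 1 := by
        have := hconst 1 h1q h10
        rw [if_pos h1A] at this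
        exact this.symm
      have hsub : ∀ x ∈ compA A, ∃ y : ZMod e, q • y = x := by
        intro x hx
        rw [mem_compA] at hx
        by_contra hno
        push Not at hno
        have := hconst x hno hx.1
        rw [if_neg hx.2, hκ1] at this
        exact h01 this
      have hndvdc : ¬ (q : ℤ) ∣ sgn (compA A) (compB B) - sgn' (compA A) (compB B)
          (2 * e - 2 - 2 * k + mu) (2 * e - 2 * k + lam) := by
        rw [sgn_sub_compl hD.zero_notMem]
        intro hh
        exact hdvd ((dvd_neg).mp hh)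
      exact P1 hDc hmuZ' q hqe hndvdc hsub
    · have hκ1 : -κ = 0 := by
        have := hconst 1 h1q h10
        rw [if_neg h1A] at this
        exact this.symm
      have hsub : ∀ x ∈ A, ∃ y : ZMod e, q • y = x := by
        intro x hx
        by_contra hno
        push Not at hno
        have hx0 : x ≠ 0 := by
          rintro rfl
          exact hD.zero_notMem hx
        have := hconst x hno hx0
        rw [if_pos hx, hκ1] at this
        exact h01 this.symm
      exact P1 hD hmuZ q hqe hdvd hsub

end Cfsg.Agent.Helper61.Dih
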