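import Mathlib

set_option autoImplicit false

/-! Abstract Zassenhaus data: a doubly transitive group in which only the identity fixes three
points, together with a subgroup `K` of the stabiliser of a point `inf`, normal in it and regular
on the remaining points.  Basic consequences. -/

namespace Cfsg.Agent.Helper61.Zs

open MulAction

variable {G Ω : Type*} [Group G] [MulAction G Ω]

/-- Zassenhaus data -/
structure ZData (inf zero : Ω) (K : Subgroup G) : Prop where
  ne : inf ≠ zero
  third : ∃ w : Ω, w ≠ inf ∧ w ≠ zero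
  two_trans : ∀ x y x' y' : Ω, x ≠ y → x' ≠ y' → ∃ g : G, g • x = x' ∧ g • y = y'
  three_fixed : ∀ g : G, ∀ x y z : Ω, x ≠ y → y ≠ z → x ≠ z → g • x = x → g • y = y →
    g • z = z → g = 1
  K_fix : ∀ k ∈ K, k • inf = inf
  K_norm : ∀ b : G, b • inf = inf → ∀ k ∈ K, b * k * b⁻¹ ∈ K
  K_trans : ∀ x y : Ω, x ≠ inf → y ≠ inf → ∃ k ∈ K, k • x = y
  K_free : ∀ k ∈ K, ∀ x : Ω, x ≠ inf → k • x = x → k = 1

variable {inf zero : Ω} {K : Subgroup G}

/-- the two-point stabiliser -/
def stabH (G : Type*) [Group G] {Ω : Type*} [MulAction G Ω] (inf zero : Ω) : Subgroup G :=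
  stabilizer G inf ⊓ stabilizer G zero

theorem mem_stabH {h : G} : h ∈ stabH G inf zero ↔ h • inf = inf ∧ h • zero = zero := by
  unfold stabH
  rw [Subgroup.mem_inf, mem_stabilizer_iff, mem_stabilizer_iff]

namespace ZData

variable (D : ZData inf zero K)
include D

theorem zero_ne : zero ≠ inf := D.ne.symm

theorem smul_ne_inf {g : G} (hg : g • inf = inf) {x : Ω} (hx : x ≠ inf) : g • x ≠ inf := by
  intro h
  apply hx
  have : g • x = g • inf := h.trans hg.symm
  exact smul_left_cancel g this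

theorem K_smul_ne_inf {k : G} (hk : k ∈ K) {x : Ω} (hx : x ≠ inf) : k • x ≠ inf :=
  D.smul_ne_inf (D.K_fix k hk) hx

/-- uniqueness in the regular action of `K` -/
theorem K_unique {k k' : G} (hk : k ∈ K) (hk' : k' ∈ K) {x : Ω} (hx : x ≠ inf)
    (h : k • x = k' • x) : k = k' := by
  have h1 : (k'⁻¹ * k) • x = x := by rw [mul_smul, h, inv_smul_smul]
  have h2 := D.K_free _ (K.mul_mem (K.inv_mem hk') hk) x hx h1
  exact (inv_mul_eq_one.mp h2).symm

/-- conjugation by an element of the point stabiliser -/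
theorem conj_smul_zero {h k : G} (hh : h ∈ stabH G inf zero) :
    (h * k * h⁻¹) • zero = h • (k • zero) := by
  rw [mul_smul, mul_smul]
  congr 2
  rw [inv_smul_eq_iff, (mem_stabH.mp hh).2]

theorem conj_mem {h k : G} (hh : h ∈ stabH G inf zero) (hk : k ∈ K) : h * k * h⁻¹ ∈ K :=
  D.K_norm h (mem_stabH.mp hh).1 k hk

/-- the two-point stabiliser acts semiregularly on `K` by conjugation -/
theorem eq_one_of_conj_eq {h k : G} (hh : h ∈ stabH G inf zero) (hk : k ∈ K) (hk1 : k ≠ 1)
    (hc : h * k * h⁻¹ = k) : h = 1 := by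
  have hkz : k • zero ≠ zero := fun hz => hk1 (D.K_free k hk zero D.zero_ne hz)
  have hkinf : k • zero ≠ inf := D.K_smul_ne_inf hk D.zero_ne
  have hfix : h • (k • zero) = k • zero := by
    rw [← D.conj_smul_zero hh, hc]
  exact D.three_fixed h inf zero (k • zero) D.ne hkz.symm hkinf.symm (mem_stabH.mp hh).1
    (mem_stabH.mp hh).2 hfix

/-- a non-identity element fixes at most two points -/
theorem eq_of_three_fixed {g : G} (hg : g ≠ 1) {x y z : Ω} (hxy : x ≠ y) (hx : g • x = x)
    (hy : g • y = y) (hz : g • z = z) : z = x ∨ z = y := by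
  by_contra hcon
  push Not at hcon
  exact hg (D.three_fixed g x y z hxy hcon.2.symm hcon.1.symm hx hy hz)

/-- decomposition of the point stabiliser -/
theorem exists_K_mul_H {b : G} (hb : b • inf = inf) :
    ∃ k ∈ K, ∃ h ∈ stabH G inf zero, b = k * h := by
  have hbz : b • zero ≠ inf := D.smul_ne_inf hb D.zero_ne
  obtain ⟨k, hk, hkz⟩ := D.K_trans zero (b • zero) D.zero_ne hbz
  refine ⟨k, hk, k⁻¹ * b, ?_, by rw [mul_inv_cancel_left]⟩
  rw [mem_stabH]
  constructor
  · rw [mul_smul, hb, inv_smul_eq_iff, D.K_fix k hk]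
  · rw [mul_smul, inv_smul_eq_iff, hkz]

end ZData

end Cfsg.Agent.Helper61.Zs
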