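import Cfsg.Agent.Helper61.ZpCore
import Cfsg.Agent.Helper17.SylowKit

set_option autoImplicit false

/-! A simple group of order `p (p² - 1) / 2` embeds in `Perm (Option (ZMod p))` as a `ZGroup`;
hence any two such groups are isomorphic. -/

namespace Cfsg.Agent.Helper61.Zp

open Equiv MulAction

theorem sylow_count_arith {p n M : ℕ} (hp : p.Prime) (hM : 2 * M + 1 = p * p) (hn : n ∣ M)
    (h1 : n % p = 1) (hn1 : n ≠ 1) : n = p + 1 := by
  have hp2 := hp.two_le
  obtain ⟨j, hj⟩ := hn
  have hMpos : 0 < M := by nlinarith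
  have hnpos : 0 < n := Nat.pos_of_ne_zero (by rintro rfl; simp at hj; omega)
  have hjpos : 0 < j := Nat.pos_of_ne_zero (by rintro rfl; simp at hj; omega)
  obtain ⟨k, hk⟩ : ∃ k, n = p * k + 1 := ⟨n / p, by have := Nat.div_add_mod n p; omega⟩
  have hk1 : 1 ≤ k := by
    rcases Nat.eq_zero_or_pos k with h | h
    · subst h; omega
    · exact h
  have hnge : p + 1 ≤ n := by nlinarith
  have hle : 2 * j + 1 ≤ p := by
    by_contra hcon
    push Not at hcon
    have h2 : p ≤ 2 * j := by omega
    have : (p + 1) * p ≤ n * (2 * j) := Nat.mul_le_mul hnge h2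
    nlinarith
  have hdvd : p ∣ 2 * j + 1 := by
    have e : 2 * j + 1 + p * (2 * k * j) = p * p := by
      rw [← hM, hj, hk]; ring
    have h3 : p ∣ 2 * j + 1 + p * (2 * k * j) := by rw [e]; exact dvd_mul_right p p
    exact (Nat.dvd_add_left (dvd_mul_right p _)).mp h3
  have heq : 2 * j + 1 = p := by
    have := Nat.le_of_dvd (by omega) hdvd
    omega
  have : n * (2 * j) = (p + 1) * (2 * j) := by
    have e1 : n * (2 * j) = 2 * M := by rw [hj]; ring
    rw [e1]
    have : 2 * M = p * p - 1 := by omega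
    rw [this, ← heq]
    have : (2 * j + 1) * (2 * j + 1) - 1 = (2 * j + 1 + 1) * (2 * j) := by
      have : (2 * j + 1) * (2 * j + 1) = (2 * j + 1 + 1) * (2 * j) + 1 := by ring
      omega
    exact this
  exact Nat.eq_of_mul_eq_mul_right (by omega) this

/-- a permutation of prime order `p` of `p + 1` points is a `p`-cycle -/
theorem cycleType_of_orderOf_eq {α : Type*} [Fintype α] [DecidableEq α] {p : ℕ} (hp : p.Prime)
    (hα : Fintype.card α = p + 1) {σ : Perm α} (hσ : orderOf σ = p) : σ.cycleType = {p} := by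
  obtain ⟨n, hn⟩ := Perm.cycleType_prime_order (σ := σ) (by rw [hσ]; exact hp)
  have hsum := Perm.sum_cycleType σ
  rw [hn, Multiset.sum_replicate, smul_eq_mul, hσ] at hsum
  have hle : σ.support.card ≤ p + 1 := hα ▸ Finset.card_le_univ _
  have hp2 := hp.two_le
  have hn0 : n = 0 := by
    by_contra h
    have : 2 ≤ n + 1 := by omega
    have : 2 * p ≤ (n + 1) * p := Nat.mul_le_mul_right p this
    omega
  rw [hn, hn0, hσ]
  rfl

section Embed

variable {G : Type*} [Group G] [Finite G] [IsSimpleGroup G] {p : ℕ} [Fact p.Prime]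

/-- A simple group of order `p (p² - 1) / 2`, `p ≥ 3`, embeds as a simple non-abelian `ZGroup`. -/
theorem exists_zgroup_embedding (hp3 : 3 ≤ p) (hcard : 2 * Nat.card G = p * (p ^ 2 - 1)) :
    ∃ ρ : G →* Perm (Option (ZMod p)), Function.Injective ρ ∧ ZGroup ρ.range := by
  classical
  have hp := (Fact.out : p.Prime)
  have hodd : p % 2 = 1 := by
    rcases hp.eq_two_or_odd with h | h
    · omega
    · exact h
  -- `|G| = p * M` with `2 M + 1 = p²`
  obtain ⟨M, hM⟩ : ∃ M, 2 * M + 1 = p * p := by
    refine ⟨(p * p - 1) / 2, ?_⟩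
    have h1 : (p * p) % 2 = 1 := by rw [Nat.mul_mod, hodd]
    have : 1 ≤ p * p := Nat.one_le_iff_ne_zero.mpr (mul_ne_zero hp.ne_zero hp.ne_zero)
    omega
  have hG : Nat.card G = p ^ 1 * M := by
    have h1 : p ^ 2 - 1 = 2 * M := by rw [sq]; omega
    rw [h1] at hcard
    rw [pow_one]
    have : 2 * Nat.card G = 2 * (p * M) := by rw [hcard]; ring
    exact Nat.eq_of_mul_eq_mul_left (by norm_num) this
  have hpM : ¬ p ∣ M := by
    intro h
    have h1 : p ∣ 2 * M + 1 := by rw [hM]; exact dvd_mul_right p p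
    have h2 : p ∣ 2 * M := Dvd.dvd.mul_left h 2
    have h3 : p ∣ 1 := (Nat.dvd_add_right h2).mp h1
    have := Nat.le_of_dvd one_pos h3
    omega
  have hM4 : 4 ≤ M := by nlinarith
  -- the number of Sylow subgroups
  have hn1 : Nat.card (Sylow p G) ∣ M := Cfsg.Agent.Helper17.card_sylow_dvd_of_card_eq hG hpM
  have hn2 : Nat.card (Sylow p G) % p = 1 := by
    have := card_sylow_modEq_one p G
    rw [Nat.ModEq, Nat.mod_eq_of_lt (by omega : 1 < p)] at this
    exact this
  have hn3 : Nat.card (Sylow p G) ≠ 1 :=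
    Cfsg.Agent.Helper17.card_sylow_ne_one_of_simple hG hpM one_ne_zero (by omega)
  have hn : Nat.card (Sylow p G) = p + 1 := sylow_count_arith hp hM hn1 hn2 hn3
  -- the action on Sylow subgroups is faithful
  have hinj : Function.Injective (MulAction.toPermHom G (Sylow p G)) := by
    rw [← MonoidHom.ker_eq_bot_iff]
    rcases (MulAction.toPermHom G (Sylow p G)).normal_ker.eq_bot_or_eq_top with h | h
    · exact h
    · exfalso
      -- the action would be trivial, but it is transitive on at least two points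
      have htriv : ∀ (g : G) (P : Sylow p G), g • P = P := by
        intro g P
        have : g ∈ (MulAction.toPermHom G (Sylow p G)).ker := h ▸ Subgroup.mem_top g
        rw [MonoidHom.mem_ker] at this
        have := congrArg (fun f : Perm (Sylow p G) => f P) this
        simpa using this
      have hsub : Subsingleton (Sylow p G) := by
        refine ⟨fun P Q => ?_⟩
        obtain ⟨g, hg⟩ := MulAction.exists_smul_eq G P Q
        rw [← hg, htriv]
      have := Nat.card_eq_one_iff_unique.mpr ⟨hsub, inferInstance⟩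
      exact hn3 this
  -- an element of order `p`
  obtain ⟨u, hu⟩ := exists_prime_orderOf_dvd_card' (G := G) p (by rw [hG, pow_one]; exact dvd_mul_right p M)
  haveI : Fintype (Sylow p G) := Fintype.ofFinite _
  have hcardS : Fintype.card (Sylow p G) = p + 1 := by rw [← Nat.card_eq_fintype_card, hn]
  have hcardO : Fintype.card (Option (ZMod p)) = p + 1 := by rw [Fintype.card_option, ZMod.card]
  obtain ⟨e₀⟩ : Nonempty (Sylow p G ≃ Option (ZMod p)) :=
    Fintype.card_eq.mp (hcardS.trans hcardO.symm)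
  set π₀ : Perm (Option (ZMod p)) := e₀.permCongrHom (MulAction.toPermHom G (Sylow p G) u) with hπ₀
  have hπ₀ord : orderOf π₀ = p := by
    rw [hπ₀, MulEquiv.orderOf_eq, orderOf_injective _ hinj, hu]
  have hct1 : π₀.cycleType = {p} := cycleType_of_orderOf_eq hp hcardO hπ₀ord
  have hct2 : (tr (1 : ZMod p)).cycleType = {p} :=
    cycleType_of_orderOf_eq hp hcardO (orderOf_tr one_ne_zero)
  obtain ⟨c, hc⟩ := isConj_iff.mp (Perm.isConj_iff_cycleType_eq.mpr (hct1.trans hct2.symm))
  -- the embedding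
  set ρ : G →* Perm (Option (ZMod p)) :=
    ((MulAut.conj c).toMonoidHom.comp e₀.permCongrHom.toMonoidHom).comp
      (MulAction.toPermHom G (Sylow p G)) with hρ
  have hρinj : Function.Injective ρ := by
    rw [hρ]
    exact ((MulAut.conj c).injective.comp e₀.permCongrHom.injective).comp hinj
  have hρapp : ∀ (g : G) (x : Option (ZMod p)),
      ρ g x = c (e₀ (g • e₀.symm (c⁻¹ x))) := by
    intro g x
    rfl
  have hρu : ρ u = tr 1 := by
    rw [← hc]
    rfl
  refine ⟨ρ, hρinj, ?_, ?_, ?_⟩
  · -- cardinality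
    have h1 : Nat.card ρ.range = Nat.card G := (Nat.card_congr (MonoidHom.ofInjective hρinj).toEquiv).symm
    rw [h1, hG, pow_one]
    have h2 : 2 * ((p - 1) / 2) = p - 1 := by omega
    have h3 : (p + 1) * (p - 1) = 2 * M := by
      have : (p + 1) * (p - 1) + 1 = p * p := by
        obtain ⟨q, rfl⟩ : ∃ q, p = q + 1 := ⟨p - 1, by omega⟩
        simp only [Nat.add_sub_cancel]
        ring
      omega
    have h4 : 2 * (p * M) = 2 * ((p + 1) * p * ((p - 1) / 2)) := by
      calc 2 * (p * M) = p * (2 * M) := by ring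
        _ = p * ((p + 1) * (p - 1)) := by rw [h3]
        _ = p * ((p + 1) * (2 * ((p - 1) / 2))) := by rw [h2]
        _ = 2 * ((p + 1) * p * ((p - 1) / 2)) := by ring
    exact Nat.eq_of_mul_eq_mul_left (by norm_num) h4
  · exact ⟨u, hρu⟩
  · intro x y
    obtain ⟨g, hg⟩ := MulAction.exists_smul_eq G (e₀.symm (c⁻¹ x)) (e₀.symm (c⁻¹ y))
    refine ⟨ρ g, ⟨g, rfl⟩, ?_⟩
    rw [hρapp, hg]
    simp

end Embed

end Cfsg.Agent.Helper61.Zp
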