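import Cfsg.Agent.Helper56.U35.Defs

/-!
# S2149 farm, piece (TRN) (helper61)

A subgroup of order divisible by `5` and larger than `1008` is transitive on the `126` points.
-/

set_option autoImplicit false

namespace Cfsg.Agent.Helper61.U35

open MulAction Cfsg.Agent.Helper56.U35

variable {G : Type*} [Group G] {Ω : Type*} [MulAction G Ω]

/-- Every conjugate of `P` meets a large subgroup nontrivially. -/
theorem exists_ne_one_conj_mem (D : TIData G Ω)
    (hstb : Nat.card (stabilizer G D.o) = 1000)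
    (H : Subgroup G) (hbig : 1008 < Nat.card H) (g : G) :
    ∃ v ∈ H, v ≠ 1 ∧ g⁻¹ * v * g ∈ D.P := by
  classical
  have hGfin : Finite G := Nat.finite_of_card_ne_zero (by rw [D.cardG]; norm_num)
  have hΩfin : Finite Ω := Nat.finite_of_card_ne_zero (by rw [D.cardΩ]; norm_num)
  by_contra hcon
  push Not at hcon
  -- `hcon : ∀ v ∈ H, v ≠ 1 → g⁻¹ * v * g ∉ D.P`
  let w : Ω := g • D.o
  -- the stabiliser of `w` in `H`
  let K : Subgroup H := stabilizer H w
  have hos : Nat.card (orbit H w) * Nat.card K = Nat.card H := by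
    rw [Nat.card_congr (MulAction.orbitEquivQuotientStabilizer H w)]
    exact (Subgroup.card_eq_card_quotient_mul_card_subgroup K).symm
  have horb : Nat.card (orbit H w) ≤ 126 := by
    rw [← D.cardΩ]
    exact Nat.card_le_card_of_injective (fun x => (x : Ω)) Subtype.val_injective
  -- an injection `K × P → stabilizer G o`
  have hKmem : ∀ k : K, g⁻¹ * ((k : H) : G) * g ∈ stabilizer G D.o := by
    intro k
    rw [mem_stabilizer_iff, mul_smul, mul_smul]
    have hk : (k : H) • w = w := k.2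
    have hk' : ((k : H) : G) • (g • D.o) = g • D.o := hk
    rw [hk', inv_smul_smul]
  let f : K × D.P → stabilizer G D.o := fun x =>
    ⟨g⁻¹ * ((x.1 : H) : G) * g * (x.2 : G), Subgroup.mul_mem _ (hKmem x.1) (D.P_le x.2.2)⟩
  have hf : Function.Injective f := by
    rintro ⟨k, u⟩ ⟨k', u'⟩ h
    have h1 : g⁻¹ * ((k : H) : G) * g * (u : G) = g⁻¹ * ((k' : H) : G) * g * (u' : G) :=
      congrArg Subtype.val h
    -- `g⁻¹ (k'⁻¹ k) g = u' u⁻¹`
    have h2 : g⁻¹ * (((k' : H) : G)⁻¹ * ((k : H) : G)) * g = (u' : G) * (u : G)⁻¹ := by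
      have : g⁻¹ * (((k' : H) : G)⁻¹ * ((k : H) : G)) * g =
          (g⁻¹ * ((k' : H) : G) * g)⁻¹ * (g⁻¹ * ((k : H) : G) * g) := by group
      rw [this]
      have h3 : g⁻¹ * ((k : H) : G) * g = g⁻¹ * ((k' : H) : G) * g * (u' : G) * (u : G)⁻¹ := by
        rw [← h1]
        group
      rw [h3]
      group
    have h4 : ((k' : H) : G)⁻¹ * ((k : H) : G) = 1 := by
      by_contra hne
      refine hcon _ (H.mul_mem (H.inv_mem (k' : H).2) (k : H).2) hne ?_
      rw [h2]
      exact D.P.mul_mem u'.2 (D.P.inv_mem u.2)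
    have hkk : k = k' := by
      apply Subtype.ext
      apply Subtype.ext
      have := inv_mul_eq_one.mp h4
      exact this.symm
    subst hkk
    have huu : (u : G) = (u' : G) := by
      have := h1
      exact mul_left_cancel this
    have : u = u' := Subtype.ext huu
    rw [this]
  have hcard : Nat.card K * 125 ≤ 1000 := by
    have := Nat.card_le_card_of_injective f hf
    rw [Nat.card_prod, D.cardP, hstb] at this
    exact this
  have hK8 : Nat.card K ≤ 8 := by omega
  have : Nat.card H ≤ 126 * 8 := by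
    rw [← hos]
    exact Nat.mul_le_mul horb hK8
  omega

/-- (TRN) a subgroup of order divisible by `5` and larger than `1008` is transitive on `Ω` -/
theorem trans_of_large (D : TIData G Ω)
    (hstb : Nat.card (stabilizer G D.o) = 1000)
    (hsyl : ∀ R : Subgroup G, IsPGroup 5 R → ∃ g : G, ∀ r ∈ R, g⁻¹ * r * g ∈ D.P)
    (H : Subgroup G) (h5 : 5 ∣ Nat.card H) (hbig : 1008 < Nat.card H) :
    ∀ w : Ω, ∃ h ∈ H, h • D.o = w := by
  classical
  have hGfin : Finite G := Nat.finite_of_card_ne_zero (by rw [D.cardG]; norm_num)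
  have : Fact (Nat.Prime 5) := ⟨by norm_num⟩
  -- a Sylow `5`-subgroup of `H`, inside a conjugate of `P`
  obtain ⟨R⟩ : Nonempty (Sylow 5 H) := inferInstance
  obtain ⟨a, ha⟩ := hsyl ((R : Subgroup H).map H.subtype) (R.isPGroup'.map H.subtype)
  -- every point is in the `H`-orbit of `a • o`
  have key : ∀ w : Ω, ∃ h ∈ H, h • (a • D.o) = w := by
    intro w
    obtain ⟨g, hg⟩ := D.trans w
    obtain ⟨v, hvH, hv1, hvP⟩ := exists_ne_one_conj_mem D hstb H hbig g
    -- `v` generates a `5`-subgroup of `H`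
    let v' : H := ⟨v, hvH⟩
    have hv125 : v' ^ (5 ^ 3) = 1 := by
      have h1 : (⟨g⁻¹ * v * g, hvP⟩ : D.P) ^ Nat.card D.P = 1 := pow_card_eq_one'
      rw [D.cardP] at h1
      have h2 : (g⁻¹ * v * g) ^ 125 = 1 := by
        have := congrArg (fun x : D.P => (x : G)) h1
        simpa using this
      have h3 : v ^ 125 = 1 := by
        have h4 : (g⁻¹ * v * g) ^ 125 = g⁻¹ * v ^ 125 * g := by
          have : g⁻¹ * v * g = MulAut.conj g⁻¹ v := by simp [MulAut.conj_apply]
          rw [this, ← map_pow]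
          simp [MulAut.conj_apply]
        rw [h4] at h2
        have : v ^ 125 = g * (g⁻¹ * v ^ 125 * g) * g⁻¹ := by group
        rw [this, h2]
        group
      apply Subtype.ext
      simpa using h3
    have hv5 : IsPGroup 5 (Subgroup.zpowers v') := by
      rintro ⟨x, hx⟩
      obtain ⟨k, rfl⟩ := Subgroup.mem_zpowers_iff.mp hx
      refine ⟨3, ?_⟩
      apply Subtype.ext
      show (v' ^ k) ^ 5 ^ 3 = 1
      rw [← zpow_natCast, ← zpow_mul, mul_comm, zpow_mul, zpow_natCast, hv125, one_zpow]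
    obtain ⟨Q, hQ⟩ := hv5.exists_le_sylow
    obtain ⟨h, hh⟩ := MulAction.exists_smul_eq H R Q
    have hvQ : v' ∈ (Q : Subgroup H) := hQ (Subgroup.mem_zpowers v')
    rw [← hh, Sylow.coe_subgroup_smul, Subgroup.mem_smul_pointwise_iff_exists] at hvQ
    obtain ⟨r, hrR, hrv⟩ := hvQ
    rw [MulAut.smul_def, MulAut.conj_apply] at hrv
    have hrv' : (h : G) * (r : G) * (h : G)⁻¹ = v := by
      have := congrArg (fun x : H => (x : G)) hrv
      simpa using this
    have hu : a⁻¹ * (r : G) * a ∈ D.P := ha _ ⟨r, hrR, rfl⟩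
    have hu1 : a⁻¹ * (r : G) * a ≠ 1 := by
      intro h1
      apply hv1
      have hr1 : (r : G) = 1 := by
        have : (r : G) = a * (a⁻¹ * (r : G) * a) * a⁻¹ := by group
        rw [this, h1]
        group
      rw [← hrv', hr1]
      group
    -- `v` fixes `w`
    have hvw : v • w = w := by
      have h1 : (g⁻¹ * v * g) • D.o = D.o := D.P_le hvP
      have h2 : v = g * (g⁻¹ * v * g) * g⁻¹ := by group
      rw [h2, ← hg, mul_smul, mul_smul, inv_smul_smul, h1]
    -- so `a⁻¹ r a` fixes `(h a)⁻¹ • w`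
    have hfix : (a⁻¹ * (r : G) * a) • (((h : G) * a)⁻¹ • w) = ((h : G) * a)⁻¹ • w := by
      have h3 : a⁻¹ * (r : G) * a = ((h : G) * a)⁻¹ * v * ((h : G) * a) := by
        rw [← hrv']
        group
      rw [h3, mul_smul, mul_smul, smul_inv_smul, hvw]
    have ho := D.semireg _ hu hu1 _ hfix
    refine ⟨(h : G), h.2, ?_⟩
    have : w = ((h : G) * a) • D.o := by
      rw [← ho, smul_inv_smul]
    rw [this, mul_smul]
  intro w
  obtain ⟨h, hh, hw⟩ := key w
  obtain ⟨h0, hh0, ho⟩ := key D.o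
  refine ⟨h * h0⁻¹, H.mul_mem hh (H.inv_mem hh0), ?_⟩
  rw [mul_smul, ← hw]
  congr 1
  rw [inv_smul_eq_iff, ho]

end Cfsg.Agent.Helper61.U35
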