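import Mathlib

set_option autoImplicit false

namespace Cfsg.Agent.Helper61

open SemidirectProduct

/-- Element orders of a Frobenius-like semidirect product `N ⋊ C`: `N` abelian of prime exponent `p`,
every non-identity element of `C` acting without non-trivial fixed points. -/
theorem range_orderOf_frobenius {N C : Type*} [CommGroup N] [Group C]
    (φ : C →* MulAut N) (p : ℕ) (hp : p.Prime)
    (hNp : ∀ n : N, n ^ p = 1) (hN1 : ∃ n : N, n ≠ 1)
    (hfpf : ∀ c : C, c ≠ 1 → ∀ n : N, φ c n = n → n = 1) :
    Set.range (orderOf : N ⋊[φ] C → ℕ) = {m | m ∣ p} ∪ Set.range (orderOf : C → ℕ) := by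
  ext m
  simp only [Set.mem_range, Set.mem_union, Set.mem_ofPred_eq]
  constructor
  · rintro ⟨y, rfl⟩
    by_cases hc : y.right = 1
    · left
      have hy : y = inl y.left := by
        ext
        · simp
        · simp [hc]
      rw [hy, orderOf_injective (inl : N →* N ⋊[φ] C) inl_injective]
      exact orderOf_dvd_of_pow_eq_one (hNp _)
    · right
      refine ⟨y.right, ?_⟩
      set c : C := y.right with hcdef
      set k : ℕ := orderOf c with hk
      apply Nat.dvd_antisymm
      · -- orderOf c ∣ orderOf y
        have : orderOf (rightHom y) ∣ orderOf y := orderOf_map_dvd (rightHom : N ⋊[φ] C →* C) y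
        exact this
      · -- orderOf y ∣ orderOf c
        apply orderOf_dvd_of_pow_eq_one
        have hker : y ^ k ∈ (rightHom : N ⋊[φ] C →* C).ker := by
          rw [MonoidHom.mem_ker, map_pow]
          exact pow_orderOf_eq_one c
        rw [← range_inl_eq_ker_rightHom] at hker
        obtain ⟨n, hn⟩ := hker
        have hcomm : y * inl n * y⁻¹ = inl n := by
          rw [hn, ← pow_succ', pow_succ, mul_inv_cancel_right]
        have h2' : (y * inl n * y⁻¹).left = y.left * φ y.right n * y.left⁻¹ := by
          simp only [mul_left, mul_right, inv_left, right_inl, left_inl, mul_one]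
          rw [← MulAut.mul_apply, ← map_mul]
          simp
        have h1 : (y * inl n * y⁻¹).left = n := by rw [hcomm, left_inl]
        have h3 : y.left * φ c n * y.left⁻¹ = n := h2'.symm.trans h1
        rw [mul_comm y.left, mul_inv_cancel_right] at h3
        have hn1 : n = 1 := hfpf c hc n h3
        rw [← hn, hn1, map_one]
  · rintro (h | ⟨c, rfl⟩)
    · rcases (Nat.dvd_prime hp).1 h with rfl | rfl
      · exact ⟨1, orderOf_one⟩
      · obtain ⟨n, hn⟩ := hN1
        refine ⟨inl n, ?_⟩
        rw [orderOf_injective (inl : N →* N ⋊[φ] C) inl_injective]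
        haveI : Fact m.Prime := ⟨hp⟩
        exact orderOf_eq_prime (hNp n) hn
    · exact ⟨inr c, orderOf_injective (inr : C →* N ⋊[φ] C) inr_injective c⟩

/-- A semidirect product of an abelian group by an abelian group is solvable. -/
theorem isSolvable_semidirect {N C : Type*} [CommGroup N] [CommGroup C] (φ : C →* MulAut N) :
    Group.IsSolvable (N ⋊[φ] C) :=
  Group.isSolvable_of_ker_le_range (inl : N →* N ⋊[φ] C) (rightHom : N ⋊[φ] C →* C)
    (by rw [range_inl_eq_ker_rightHom])

/-- Element orders of a direct product. -/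
theorem range_orderOf_prod (G H : Type*) [Monoid G] [Monoid H] :
    Set.range (orderOf : G × H → ℕ) =
      Set.image2 Nat.lcm (Set.range (orderOf : G → ℕ)) (Set.range (orderOf : H → ℕ)) := by
  ext m
  simp only [Set.mem_range, Set.mem_image2]
  constructor
  · rintro ⟨⟨a, b⟩, rfl⟩
    exact ⟨orderOf a, ⟨a, rfl⟩, orderOf b, ⟨b, rfl⟩, (Prod.orderOf_mk).symm⟩
  · rintro ⟨_, ⟨a, rfl⟩, _, ⟨b, rfl⟩, rfl⟩
    exact ⟨(a, b), Prod.orderOf_mk⟩

/-- Element orders of a finite cyclic subgroup. -/
theorem range_orderOf_zpowers {G : Type*} [Group G] (z : G) (hz : 0 < orderOf z) :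
    Set.range (orderOf : Subgroup.zpowers z → ℕ) = {m | m ∣ orderOf z} := by
  ext m
  simp only [Set.mem_range, Set.mem_ofPred_eq]
  constructor
  · rintro ⟨⟨y, hy⟩, rfl⟩
    rw [Subgroup.orderOf_mk]
    obtain ⟨k, rfl⟩ := hy
    apply orderOf_dvd_of_pow_eq_one
    rw [← zpow_natCast, ← zpow_mul, mul_comm, zpow_mul, zpow_natCast, pow_orderOf_eq_one, one_zpow]
  · intro hm
    refine ⟨⟨z ^ (orderOf z / m), Subgroup.npow_mem_zpowers z _⟩, ?_⟩
    rw [Subgroup.orderOf_mk]
    exact orderOf_pow_orderOf_div hz.ne' hm

/-- The action of the units of a ring on its additive group, written multiplicatively. -/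
def unitsAct (K : Type*) [Ring K] : Kˣ →* MulAut (Multiplicative K) where
  toFun u :=
    { toFun := fun n => Multiplicative.ofAdd ((u : K) * Multiplicative.toAdd n)
      invFun := fun n => Multiplicative.ofAdd ((↑u⁻¹ : K) * Multiplicative.toAdd n)
      left_inv := by
        intro n
        apply Multiplicative.toAdd.injective
        simp
      right_inv := by
        intro n
        apply Multiplicative.toAdd.injective
        simp
      map_mul' := by
        intro a b
        apply Multiplicative.toAdd.injective
        simp [mul_add] }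
  map_one' := by
    refine MulEquiv.ext (fun n => ?_)
    apply Multiplicative.toAdd.injective
    simp
  map_mul' := by
    intro a b
    refine MulEquiv.ext (fun n => ?_)
    apply Multiplicative.toAdd.injective
    simp [mul_assoc]

theorem unitsAct_apply (K : Type*) [Ring K] (u : Kˣ) (n : Multiplicative K) :
    Multiplicative.toAdd (unitsAct K u n) = (u : K) * Multiplicative.toAdd n := rfl

/-- The Frobenius group `K ⋊ ⟨z⟩` for a unit `z` of a field `K`. -/
abbrev frobGroup (K : Type*) [Field K] (z : Kˣ) : Type _ :=
  Multiplicative K ⋊[(unitsAct K).comp (Subgroup.zpowers z).subtype] (Subgroup.zpowers z)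

theorem range_orderOf_frobGroup (K : Type*) [Field K] (p : ℕ) [hp : Fact p.Prime] [CharP K p]
    (z : Kˣ) (hz : 0 < orderOf z) :
    Set.range (orderOf : frobGroup K z → ℕ) = {m | m ∣ p} ∪ {m | m ∣ orderOf z} := by
  rw [← range_orderOf_zpowers z hz]
  apply range_orderOf_frobenius _ p hp.out
  · intro n
    apply Multiplicative.toAdd.injective
    simp [CharP.cast_eq_zero K p]
  · exact ⟨Multiplicative.ofAdd 1, by
      intro h
      have := congrArg Multiplicative.toAdd h
      simp at this⟩
  · rintro ⟨c, hc⟩ hc1 n hfix
    have hfix' := congrArg Multiplicative.toAdd hfix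
    simp only [MonoidHom.coe_comp, Subgroup.coe_subtype, Function.comp_apply, unitsAct_apply] at hfix'
    have hc1' : (c : K) ≠ 1 := by
      intro h
      apply hc1
      apply Subtype.ext
      exact Units.ext h
    have h0 : ((c : K) - 1) * Multiplicative.toAdd n = 0 := by
      rw [sub_mul, one_mul, hfix', sub_self]
    rcases mul_eq_zero.1 h0 with h | h
    · exact absurd (sub_eq_zero.1 h) hc1'
    · apply Multiplicative.toAdd.injective
      simpa using h

theorem isSolvable_frobGroup (K : Type*) [Field K] (z : Kˣ) : Group.IsSolvable (frobGroup K z) :=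
  isSolvable_semidirect _

theorem finite_frobGroup (K : Type*) [Field K] [Finite K] (z : Kˣ) : Finite (frobGroup K z) :=
  Finite.of_equiv _ SemidirectProduct.equivProd.symm

/-- In a finite field, every divisor of `|K| - 1` is the order of a unit. -/
theorem exists_unit_orderOf_eq (K : Type*) [Field K] [Fintype K] (m : ℕ)
    (hm : m ∣ Fintype.card K - 1) : ∃ z : Kˣ, orderOf z = m := by
  classical
  obtain ⟨g, hg⟩ := IsCyclic.exists_generator (α := Kˣ)
  have hord : orderOf g = Fintype.card K - 1 := by
    rw [orderOf_eq_card_of_forall_mem_zpowers hg, Nat.card_eq_fintype_card, Fintype.card_units]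
  have hpos : 0 < Fintype.card K - 1 := by
    have := Fintype.one_lt_card (α := K)
    omega
  refine ⟨g ^ ((Fintype.card K - 1) / m), ?_⟩
  rw [← hord]
  exact orderOf_pow_orderOf_div (by rw [hord]; exact hpos.ne') (by rw [hord]; exact hm)

end Cfsg.Agent.Helper61
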