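import Mathlib
import Cfsg.Prelude.Def_Perm
import Cfsg.Agent.Helper61.NeuDefs
import Cfsg.Agent.S0675

set_option autoImplicit false

namespace Cfsg.Agent.Helper61.Neu

open MulAction

/-- (INV) the `X`-invariant functions have dimension the number of `X`-orbits -/
theorem finrank_invSub' (K : Type*) [Field K] {G : Type*} [Group G] {Ω : Type*} [Fintype Ω]
    [MulAction G Ω] (X : Subgroup G) :
    Module.finrank K (invSub K (Ω := Ω) X) = Nat.card (orbitRel.Quotient (↥X) Ω) := by
  classical
  let Q := orbitRel.Quotient (↥X) Ω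
  have hfinQ : Finite Q := Quotient.finite _
  have : Fintype Q := Fintype.ofFinite Q
  let Ψ : (Q → K) →ₗ[K] (invSub K (Ω := Ω) X) :=
    { toFun := fun h => ⟨fun ω => h (Quotient.mk'' ω), by
        intro x hx ω
        show h (Quotient.mk'' (x • ω)) = h (Quotient.mk'' ω)
        congr 1
        rw [Quotient.eq'', orbitRel_apply]
        exact ⟨⟨x, hx⟩, rfl⟩⟩
      map_add' := fun h h' => rfl
      map_smul' := fun c h => rfl }
  have hinj : Function.Injective Ψ := by
    intro h h' hh
    funext q
    induction q using Quotient.inductionOn' with | _ ω =>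
    exact congrFun (congrArg Subtype.val hh) ω
  have hsurj : Function.Surjective Ψ := by
    intro f
    refine ⟨fun q => Quotient.liftOn' q f.1 ?_, ?_⟩
    · intro a b hab
      rw [orbitRel_apply] at hab
      obtain ⟨x, rfl⟩ := hab
      exact f.2 x.1 x.2 b
    · apply Subtype.ext
      funext ω
      rfl
  have e : (Q → K) ≃ₗ[K] (invSub K (Ω := Ω) X) := LinearEquiv.ofBijective Ψ ⟨hinj, hsurj⟩
  rw [← e.finrank_eq, Module.finrank_fintype_fun_eq_card, Nat.card_eq_fintype_card]

/-- (B2) abstract form of Burnside's theorem S0675 -/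
theorem exists_smul_pair' {G : Type*} [Group G] {Ω : Type*} [Fintype Ω] [DecidableEq Ω]
    [MulAction G Ω] [FaithfulSMul G Ω] [IsPretransitive G Ω] (hΩ : (Fintype.card Ω).Prime)
    (hG : ¬ Group.IsSolvable G) {a b c d : Ω} (hab : a ≠ b) (hcd : c ≠ d) :
    ∃ g : G, g • a = c ∧ g • b = d := by
  let φ := MulAction.toPermHom G Ω
  let G' : Subgroup (Equiv.Perm Ω) := φ.range
  have hinj : Function.Injective φ := MulAction.toPerm_injective
  haveI : IsPretransitive G' Ω := by
    refine ⟨fun x y => ?_⟩
    obtain ⟨g, hg⟩ := exists_smul_eq G x y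
    exact ⟨⟨φ g, g, rfl⟩, hg⟩
  have hG' : ¬ Group.IsSolvable G' := by
    intro h
    apply hG
    exact solvable_of_solvable_injective (f := φ.rangeRestrict)
      (by
        intro x y hxy
        apply hinj
        exact congrArg Subtype.val hxy)
  have h2 : IsMultiplyPretransitive G' Ω 2 :=
    (Cfsg.Agent.S0675.result hΩ G').resolve_left hG'
  let x : Fin 2 ↪ Ω := ⟨![a, b], by
    intro i j hij
    fin_cases i <;> fin_cases j <;> simp_all⟩
  let y : Fin 2 ↪ Ω := ⟨![c, d], by
    intro i j hij
    fin_cases i <;> fin_cases j <;> simp_all⟩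
  obtain ⟨g', hg'⟩ := h2.exists_smul_eq x y
  obtain ⟨g, hg⟩ := g'.2
  refine ⟨g, ?_, ?_⟩
  · have := congrArg (fun f : Fin 2 ↪ Ω => f 0) hg'
    simp only [Function.Embedding.smul_apply] at this
    have h0 : g' • a = c := this
    rw [← h0]
    show φ g a = (g' : Equiv.Perm Ω) a
    rw [hg]
  · have := congrArg (fun f : Fin 2 ↪ Ω => f 1) hg'
    simp only [Function.Embedding.smul_apply] at this
    have h1 : g' • b = d := this
    rw [← h1]
    show φ g b = (g' : Equiv.Perm Ω) b
    rw [hg]

end Cfsg.Agent.Helper61.Neu
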