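import Mathlib
import Cfsg.Prelude.Def_Perm
import Cfsg.Agent.Helper61.NeuDefs
import Cfsg.Agent.Helper61.NeuInv
import Cfsg.Agent.Helper49.NeuORB2
import Cfsg.Agent.Helper75.NeuLAB
import Cfsg.Agent.Helper75.NeuHI
import Cfsg.Agent.Helper97.NeuKEY
import Cfsg.Agent.Helper97.NeuMOM

set_option autoImplicit false

namespace Cfsg.Agent.Helper61.Neu

open MulAction

section

variable {G : Type*} [Group G] {Ω : Type*} [Fintype Ω] [DecidableEq Ω] [MulAction G Ω]

/-- the first moment functional attached to a labelling -/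
noncomputable def moment {p : ℕ} [Fact p.Prime] (e : ZMod p ≃ Ω) : (Ω → ZMod p) →ₗ[ZMod p] ZMod p where
  toFun f := ∑ j : ZMod p, j * f (e j)
  map_add' f g := by
    simp only [Pi.add_apply, mul_add, Finset.sum_add_distrib]
  map_smul' c f := by
    simp only [Pi.smul_apply, smul_eq_mul, RingHom.id_apply, Finset.mul_sum]
    apply Finset.sum_congr rfl
    intro j _
    ring

theorem moment_apply {p : ℕ} [Fact p.Prime] (e : ZMod p ≃ Ω) (f : Ω → ZMod p) :
    moment e f = ∑ j : ZMod p, j * f (e j) := rfl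

theorem sum_zmod_eq_zero {p : ℕ} [Fact p.Prime] (hp2 : p ≠ 2) : ∑ j : ZMod p, j = 0 := by
  have hpp : p.Prime := Fact.out
  have h1 : ∑ j : ZMod p, j = ∑ j : ZMod p, (-j) :=
    (Fintype.sum_equiv (Equiv.neg (ZMod p)) _ _ (fun j => rfl)).symm
  rw [Finset.sum_neg_distrib] at h1
  have h2 : (2 : ZMod p) * ∑ j : ZMod p, j = 0 := by
    rw [two_mul]
    nth_rewrite 1 [h1]
    exact neg_add_cancel _
  rcases mul_eq_zero.mp h2 with h | h
  · exfalso
    have h2' : ((2 : ℕ) : ZMod p) = 0 := by exact_mod_cast h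
    rw [ZMod.natCast_eq_zero_iff] at h2'
    exact hp2 ((Nat.prime_dvd_prime_iff_eq hpp Nat.prime_two).mp h2')
  · exact h

theorem moment_one {p : ℕ} [Fact p.Prime] (hp2 : p ≠ 2) (e : ZMod p ≃ Ω) :
    moment e (fun _ => 1) = 0 := by
  rw [moment_apply]
  simp only [mul_one]
  exact sum_zmod_eq_zero hp2

end

end Cfsg.Agent.Helper61.Neu

namespace Cfsg.Agent.Helper61.Neu

open MulAction

/-- a subspace is at most one dimension bigger than its intersection with a hyperplane-like
subspace `{f | ∑ f = 0}` -/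
theorem finrank_le_inf_sumZero_add_one {G : Type*} [Group G] {Ω : Type*} [Fintype Ω]
    [MulAction G Ω] {K : Type*} [Field K] (A : Submodule K (Ω → K)) :
    Module.finrank K A ≤
      Module.finrank K ↥(A ⊓ (Cfsg.permSumZero K G Ω).toSubmodule) + 1 := by
  classical
  let φ : (Ω → K) →ₗ[K] K := ∑ x, LinearMap.proj x
  have hφ : ∀ f : Ω → K, φ f = ∑ x, f x := by
    intro f
    simp [φ, LinearMap.sum_apply]
  let ψ : A →ₗ[K] K := φ.comp A.subtype
  have h1 := LinearMap.finrank_range_add_finrank_ker ψ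
  have h2 : Module.finrank K (LinearMap.range ψ) ≤ 1 := by
    have := Submodule.finrank_le (LinearMap.range ψ)
    rwa [Module.finrank_self] at this
  have h3 : Module.finrank K (LinearMap.ker ψ) =
      Module.finrank K ↥(A ⊓ (Cfsg.permSumZero K G Ω).toSubmodule) := by
    have hmap : (LinearMap.ker ψ).map A.subtype = A ⊓ (Cfsg.permSumZero K G Ω).toSubmodule := by
      ext f
      constructor
      · rintro ⟨a, ha, rfl⟩
        refine ⟨a.2, ?_⟩
        have : ψ a = 0 := ha
        show ∑ x, (a : Ω → K) x = 0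
        rw [← hφ]
        exact this
      · rintro ⟨hfA, hf0⟩
        refine ⟨⟨f, hfA⟩, ?_, rfl⟩
        show ψ ⟨f, hfA⟩ = 0
        show φ f = 0
        rw [hφ]
        exact hf0
    rw [← hmap]
    exact (Submodule.equivMapOfInjective A.subtype A.injective_subtype _).finrank_eq
  omega

section main

variable {G : Type*} [Group G] [Finite G] {Ω : Type*} [Fintype Ω] [DecidableEq Ω] [MulAction G Ω]
  [FaithfulSMul G Ω] [IsPretransitive G Ω] {p : ℕ} [Fact p.Prime]

/-- the off-diagonal pairs as a `G`-set -/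
def offDiagSub (G : Type*) [Group G] (Ω : Type*) [MulAction G Ω] : SubMulAction G (Ω × Ω) where
  carrier := {d | d.1 ≠ d.2}
  smul_mem' := by
    intro g d hd h
    apply hd
    have h' : g • d.1 = g • d.2 := h
    exact smul_left_cancel g h'

theorem card_offDiagSub (hΩ : Fintype.card Ω = p) :
    Nat.card ↥(offDiagSub G Ω) = p * (p - 1) := by
  have hpp : p.Prime := Fact.out
  have h1 : Nat.card ↥(offDiagSub G Ω) = Fintype.card {d : Ω × Ω // d.1 ≠ d.2} := by
    rw [← Nat.card_eq_fintype_card]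
    rfl
  rw [h1, Fintype.card_subtype]
  have h2 : (Finset.univ.filter fun d : Ω × Ω => d.1 ≠ d.2) = (Finset.univ : Finset Ω).offDiag := by
    ext d
    simp [Finset.mem_offDiag]
  rw [h2, Finset.offDiag_card, Finset.card_univ, hΩ]
  have := hpp.one_le
  rw [Nat.mul_sub, mul_one]

theorem card_orbits_le_four (hΩ : Fintype.card Ω = p) (hp2 : p ≠ 2) (hG : ¬ Group.IsSolvable G)
    (P : Sylow p G)
    (hN : 2 * Nat.card ↥(Subgroup.normalizer ((P : Subgroup G) : Set G)) = p * (p - 1))
    (α β : Ω) (hαβ : α ≠ β) :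
    Nat.card (orbitRel.Quotient (↥(stabilizer G α ⊓ stabilizer G β)) Ω) ≤ 4 := by
  have hpp : p.Prime := Fact.out
  obtain ⟨e, he⟩ := Cfsg.Agent.Helper75.Neu.exists_label hΩ P
  set N := Subgroup.normalizer ((P : Subgroup G) : Set G) with hNdef
  set X := stabilizer G α ⊓ stabilizer G β with hXdef
  have h01 : (0 : ZMod p) ≠ 1 := by
    have : Fact (1 < p) := ⟨hpp.one_lt⟩
    exact zero_ne_one
  -- the functional
  have hL1 : moment e (fun _ => 1) = 0 := moment_one hp2 e
  have hL0 : ∃ f ∈ (Cfsg.permSumZero (ZMod p) G Ω).toSubmodule, moment e f ≠ 0 := by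
    refine ⟨(Pi.single (e 1) 1 - Pi.single (e 0) 1 : Ω → ZMod p), ?_, ?_⟩
    · show ∑ x, (Pi.single (e 1) 1 - Pi.single (e 0) 1 : Ω → ZMod p) x = 0
      simp only [Pi.sub_apply, Finset.sum_sub_distrib, Finset.sum_pi_single', Finset.mem_univ,
        if_true, sub_self]
    · rw [moment_apply]
      have : ∀ j : ZMod p, j * (Pi.single (e 1) 1 - Pi.single (e 0) 1 : Ω → ZMod p) (e j) =
          if j = 1 then 1 else 0 := by
        intro j
        rw [Pi.sub_apply, Pi.single_apply, Pi.single_apply]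
        by_cases h1 : j = 1
        · subst h1
          simp [h01.symm]
        · by_cases h0 : j = 0
          · subst h0
            simp
          · simp [h1, h0]
      simp only [this, Finset.sum_ite_eq', Finset.mem_univ, if_true]
      exact one_ne_zero
  have hLN : ∀ n ∈ N, ∀ f ∈ (Cfsg.permSumZero (ZMod p) G Ω).toSubmodule, moment e f = 0 →
      moment e (Cfsg.permRep (ZMod p) G Ω n f) = 0 := by
    intro n hn f hf hLf
    obtain ⟨k, c, hk, hnk⟩ := he n hn
    have := Cfsg.Agent.Helper97.Neu.moment_smul e n k c hk hnk f hf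
    rw [moment_apply, this, ← moment_apply, hLf, mul_zero]
  -- `N` acts freely on the off-diagonal pairs
  have hfree : ∀ (n : ↥N) (d : ↥(offDiagSub G Ω)), n • d = d → n = 1 := by
    intro n d hnd
    obtain ⟨k, c, hk, hnk⟩ := he n.1 n.2
    obtain ⟨i, hi⟩ := e.surjective d.1.1
    obtain ⟨j, hj⟩ := e.surjective d.1.2
    have hij : i ≠ j := by
      intro h
      apply d.2
      rw [← hi, ← hj, h]
    have hnd' : (n.1 • d.1.1, n.1 • d.1.2) = (d.1.1, d.1.2) := congrArg Subtype.val hnd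
    have h1 : n.1 • e i = e i := by rw [hi]; exact congrArg Prod.fst hnd'
    have h2 : n.1 • e j = e j := by rw [hj]; exact congrArg Prod.snd hnd'
    rw [hnk] at h1 h2
    have h1' : k * i + c = i := e.injective h1
    have h2' : k * j + c = j := e.injective h2
    have hk1 : k = 1 := by
      have h3 : (k - 1) * (i - j) = 0 := by linear_combination h1' - h2'
      rcases mul_eq_zero.mp h3 with h | h
      · exact sub_eq_zero.mp h
      · exact absurd (sub_eq_zero.mp h) hij
    have hc0 : c = 0 := by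
      rw [hk1, one_mul] at h1'
      exact add_eq_left.mp h1'
    apply Subtype.ext
    apply FaithfulSMul.eq_of_smul_eq_smul (α := Ω)
    intro ω
    obtain ⟨t, rfl⟩ := e.surjective ω
    rw [hnk, hk1, hc0, one_mul, add_zero]
    simp
  have hcard : Nat.card ↥(offDiagSub G Ω) = 2 * Nat.card ↥N := by
    rw [card_offDiagSub (G := G) hΩ, hN]
  obtain ⟨d₁, d₂, hd⟩ := Cfsg.Agent.Helper49.Neu.exists_two_reps hfree hcard
  obtain ⟨g₁, hg₁a, hg₁b⟩ := exists_smul_pair' (G := G) (hΩ ▸ hpp) hG hαβ d₁.2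
  obtain ⟨g₂, hg₂a, hg₂b⟩ := exists_smul_pair' (G := G) (hΩ ▸ hpp) hG hαβ d₂.2
  have hcov : ∀ g : G, ∃ n ∈ N, ∃ x ∈ X, g = n * g₁ * x ∨ g = n * g₂ * x := by
    intro g
    have hgd : (g • α, g • β) ∈ offDiagSub G Ω := by
      show g • α ≠ g • β
      exact fun h => hαβ (smul_left_cancel g h)
    obtain ⟨n, hn⟩ := hd ⟨(g • α, g • β), hgd⟩
    have aux : ∀ (gi : G) (di : ↥(offDiagSub G Ω)), gi • α = di.1.1 → gi • β = di.1.2 →
        n • di = ⟨(g • α, g • β), hgd⟩ → (n.1 * gi)⁻¹ * g ∈ X := by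
      intro gi di ha hb hdi
      have h' : (n.1 • di.1.1, n.1 • di.1.2) = (g • α, g • β) := congrArg Subtype.val hdi
      have h1 : n.1 • gi • α = g • α := by rw [ha]; exact congrArg Prod.fst h'
      have h2 : n.1 • gi • β = g • β := by rw [hb]; exact congrArg Prod.snd h'
      refine Subgroup.mem_inf.mpr ⟨?_, ?_⟩
      · rw [mem_stabilizer_iff, mul_smul, ← h1, ← mul_smul n.1 gi α, inv_smul_smul]
      · rw [mem_stabilizer_iff, mul_smul, ← h2, ← mul_smul n.1 gi β, inv_smul_smul]
    rcases hn with hn | hn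
    · exact ⟨n.1, n.2, _, aux g₁ d₁ hg₁a hg₁b hn, Or.inl (by group)⟩
    · exact ⟨n.1, n.2, _, aux g₂ d₂ hg₂a hg₂b hn, Or.inr (by group)⟩
  have hconst : (Cfsg.permConstants (ZMod p) G Ω).toSubmodule ≤
      (Cfsg.permSumZero (ZMod p) G Ω).toSubmodule := by
    intro f hf
    have hf' : f ∈ Submodule.span (ZMod p) {(fun _ => 1 : Ω → ZMod p)} := hf
    rw [Submodule.mem_span_singleton] at hf'
    obtain ⟨c, rfl⟩ := hf'
    show ∑ x, (c • (fun _ => 1 : Ω → ZMod p)) x = 0
    simp only [Pi.smul_apply, smul_eq_mul, mul_one, Finset.sum_const, Finset.card_univ, hΩ]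
    rw [nsmul_eq_mul, ZMod.natCast_self, zero_mul]
  have key := Cfsg.Agent.Helper97.Neu.finrank_inv_sumZero_le (K := ZMod p)
    (fun W hW h1 h2 => Cfsg.Agent.Helper75.Neu.heart_irred hΩ hG W hW h1 h2) hconst (moment e) hL1 hL0 N X hLN g₁ g₂ hcov
  have h5 := finrank_le_inf_sumZero_add_one (G := G) (invSub (ZMod p) (Ω := Ω) X)
  rw [finrank_invSub'] at h5
  omega

end main

end Cfsg.Agent.Helper61.Neu
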