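import Mathlib
import Cfsg.Agent.Helper17.CountOrder

set_option autoImplicit false

/-!
# Counting elements of order divisible by `p` (Sylow `p`-subgroups of order `p`)

If the Sylow `p`-subgroups of a finite group `K` have order `p`, then at least
`n_p * (p - 1) * (|C(P)| / p)` elements of `K` have order divisible by `p`.
-/

namespace Cfsg.Agent.Helper61.J1

open Subgroup
open scoped Pointwise

variable {K : Type*} [Group K] [Finite K]

/-- Conjugate subgroups have centralizers of the same order. -/
theorem card_centralizer_conj (H : Subgroup K) (g : K) :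
    Nat.card (centralizer ((MulAut.conj g • H : Subgroup K) : Set K)) =
      Nat.card (centralizer ((H : Subgroup K) : Set K)) := by
  symm
  refine Nat.card_congr ((MulAut.conj g).toEquiv.subtypeEquiv (fun x => ?_))
  constructor
  · intro hx
    rw [mem_centralizer_iff] at hx ⊢
    intro h hh
    rw [SetLike.mem_coe, mem_pointwise_smul_iff_inv_smul_mem] at hh
    have h1 := hx _ hh
    simp only [MulAut.smul_def, MulAut.conj_inv_apply] at h1
    simp only [MulEquiv.toEquiv_eq_coe, MulEquiv.coe_toEquiv, MulAut.conj_apply]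
    have h2 : h = g * (g⁻¹ * h * g) * g⁻¹ := by group
    rw [h2]
    calc g * (g⁻¹ * h * g) * g⁻¹ * (g * x * g⁻¹) = g * ((g⁻¹ * h * g) * x) * g⁻¹ := by group
      _ = g * (x * (g⁻¹ * h * g)) * g⁻¹ := by rw [h1]
      _ = g * x * g⁻¹ * (g * (g⁻¹ * h * g) * g⁻¹) := by group
  · intro hx
    rw [mem_centralizer_iff] at hx ⊢
    intro h hh
    have hh' : g * h * g⁻¹ ∈ ((MulAut.conj g • H : Subgroup K) : Set K) := by
      rw [SetLike.mem_coe, mem_pointwise_smul_iff_inv_smul_mem]
      simp only [MulAut.smul_def, MulAut.conj_inv_apply]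
      have : g⁻¹ * (g * h * g⁻¹) * g = h := by group
      rw [this]
      exact hh
    have h1 := hx _ hh'
    simp only [MulEquiv.toEquiv_eq_coe, MulEquiv.coe_toEquiv, MulAut.conj_apply] at h1
    have h2 : g * (h * x) * g⁻¹ = g * (x * h) * g⁻¹ := by
      calc g * (h * x) * g⁻¹ = g * h * g⁻¹ * (g * x * g⁻¹) := by group
        _ = g * x * g⁻¹ * (g * h * g⁻¹) := h1
        _ = g * (x * h) * g⁻¹ := by group
    exact mul_left_cancel (mul_right_cancel h2)

/-- All Sylow `p`-subgroups have centralizers of the same order. -/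
theorem card_centralizer_sylow_eq {p : ℕ} [Fact p.Prime] (P Q : Sylow p K) :
    Nat.card (centralizer ((Q : Subgroup K) : Set K)) =
      Nat.card (centralizer ((P : Subgroup K) : Set K)) := by
  obtain ⟨g, hg⟩ := MulAction.exists_smul_eq K P Q
  rw [← hg, Sylow.coe_subgroup_smul]
  exact card_centralizer_conj _ g

theorem card_sylow_eq_of_card_eq {p : ℕ} [Fact p.Prime] (P : Sylow p K)
    (hP : Nat.card (P : Subgroup K) = p) (Q : Sylow p K) : Nat.card (Q : Subgroup K) = p := by
  rw [Sylow.card_eq_multiplicity Q, ← Sylow.card_eq_multiplicity P, hP]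

/-- The centralizer of the subgroup generated by an element of order `p` has the same order as
the centralizer of a Sylow `p`-subgroup (Sylow subgroups of order `p`). -/
theorem card_centralizer_zpowers {p : ℕ} [Fact p.Prime] (P : Sylow p K)
    (hP : Nat.card (P : Subgroup K) = p) (y : K) (hy : orderOf y = p) :
    Nat.card (centralizer ((zpowers y : Subgroup K) : Set K)) =
      Nat.card (centralizer ((P : Subgroup K) : Set K)) := by
  obtain ⟨Q, hQ⟩ := Cfsg.Agent.Helper17.exists_sylow_eq_zpowers
    (fun Q => card_sylow_eq_of_card_eq P hP Q) y hy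
  rw [← hQ]
  exact card_centralizer_sylow_eq P Q

theorem sq_not_dvd_card {p : ℕ} [Fact p.Prime] (P : Sylow p K)
    (hP : Nat.card (P : Subgroup K) = p) : ¬ p ^ 2 ∣ Nat.card K := by
  intro h
  have h1 := P.pow_dvd_card_of_pow_dvd_card h
  rw [hP] at h1
  have hp : p.Prime := Fact.out
  have : p ^ 2 ≤ p := Nat.le_of_dvd hp.pos h1
  have h2 : p * 2 ≤ p ^ 2 := by rw [pow_two]; exact Nat.mul_le_mul_left p hp.two_le
  have := hp.pos
  omega

/-- A complement of `⟨y⟩` in its centralizer. -/
theorem exists_compl {p : ℕ} [Fact p.Prime] (P : Sylow p K)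
    (hP : Nat.card (P : Subgroup K) = p) (y : K) (hy : orderOf y = p) :
    ∃ H : Subgroup K, Nat.card H * p = Nat.card (centralizer ((P : Subgroup K) : Set K)) ∧
      (∀ w ∈ H, Commute y w) ∧ (∀ w ∈ H, w ^ Nat.card H = 1) ∧ (Nat.card H).Coprime p := by
  have hp : p.Prime := Fact.out
  set Z : Subgroup K := zpowers y with hZ
  set C : Subgroup K := centralizer ((Z : Subgroup K) : Set K) with hC
  have hcC : Nat.card C = Nat.card (centralizer ((P : Subgroup K) : Set K)) :=
    card_centralizer_zpowers P hP y hy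
  have hZC : Z ≤ C := by
    rw [hC, hZ, le_centralizer_iff]
    intro a ha
    rw [mem_centralizer_iff]
    intro b hb
    obtain ⟨i, rfl⟩ := mem_zpowers_iff.mp ha
    obtain ⟨j, rfl⟩ := mem_zpowers_iff.mp hb
    exact (Commute.zpow_zpow (Commute.refl y) j i).eq
  have hZcard : Nat.card Z = p := by rw [hZ, Nat.card_zpowers, hy]
  set Z' : Subgroup C := Z.subgroupOf C with hZ'
  have hZ'card : Nat.card Z' = p := by
    rw [hZ', ← hZcard]
    exact Nat.card_congr (Subgroup.subgroupOfEquivOfLe hZC).toEquiv
  have hZ'n : Z'.Normal := by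
    constructor
    intro n hn g
    rw [hZ', mem_subgroupOf] at hn ⊢
    have hg : (g : K) ∈ centralizer ((Z : Subgroup K) : Set K) := g.2
    rw [mem_centralizer_iff] at hg
    have h1 := hg _ hn
    push_cast
    have : (g : K) * (n : K) * (g : K)⁻¹ = (n : K) := by
      rw [← h1]; group
    rw [this]
    exact hn
  have hdvd : Nat.card C ∣ Nat.card K := Subgroup.card_subgroup_dvd_card C
  have hnsq : ¬ p ^ 2 ∣ Nat.card C := fun h => sq_not_dvd_card P hP (h.trans hdvd)
  have hidx : Nat.card Z' * Z'.index = Nat.card C := Subgroup.card_mul_index Z'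
  have hcop : Nat.Coprime (Nat.card Z') Z'.index := by
    rw [hZ'card, Nat.Prime.coprime_iff_not_dvd hp]
    intro h
    apply hnsq
    rw [← hidx, hZ'card, pow_two]
    exact Nat.mul_dvd_mul_left p h
  obtain ⟨H', hH'⟩ := Subgroup.exists_right_complement'_of_coprime hcop
  have hH'card : Nat.card H' * p = Nat.card C := by
    have := hH'.card_mul_card
    rw [hZ'card] at this
    rw [← this, mul_comm]
  have hH'idx : Nat.card H' = Z'.index := by
    have h1 : p * Nat.card H' = p * Z'.index := by
      rw [mul_comm, hH'card, ← hidx, hZ'card]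
    exact Nat.eq_of_mul_eq_mul_left hp.pos h1
  refine ⟨H'.map C.subtype, ?_, ?_, ?_, ?_⟩
  · rw [Subgroup.card_map_of_injective C.subtype_injective, hH'card, hcC]
  · intro w hw
    obtain ⟨w', hw', rfl⟩ := Subgroup.mem_map.mp hw
    have hwC : (w' : K) ∈ centralizer ((Z : Subgroup K) : Set K) := w'.2
    rw [mem_centralizer_iff] at hwC
    have := hwC y (by rw [hZ]; exact mem_zpowers y)
    exact this
  · intro w hw
    obtain ⟨w', hw', rfl⟩ := Subgroup.mem_map.mp hw
    rw [Subgroup.card_map_of_injective C.subtype_injective]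
    have h1 : (⟨w', hw'⟩ : H') ^ Nat.card H' = 1 := pow_card_eq_one'
    have h2 : w' ^ Nat.card H' = 1 := by
      have := congrArg (Subtype.val : H' → C) h1
      rwa [Subgroup.coe_pow, Subgroup.coe_one] at this
    have := congrArg (Subtype.val : C → K) h2
    rwa [Subgroup.coe_pow, Subgroup.coe_one] at this
  · rw [Subgroup.card_map_of_injective C.subtype_injective, hH'idx]
    exact hcop.symm.coprime_dvd_right (by rw [hZ'card])


/-- **Counting lemma.** If the Sylow `p`-subgroups of `K` have order `p`, at least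
`n_p * (p - 1) * (|C(P)| / p)` elements of `K` have order divisible by `p`. -/
theorem card_dvd_orderOf_ge {p : ℕ} [Fact p.Prime] (P : Sylow p K)
    (hP : Nat.card (P : Subgroup K) = p) :
    Nat.card (Sylow p K) * ((p - 1) * (Nat.card (centralizer ((P : Subgroup K) : Set K)) / p)) ≤
      Nat.card {x : K // p ∣ orderOf x} := by
  classical
  have hp : p.Prime := Fact.out
  set c := Nat.card (centralizer ((P : Subgroup K) : Set K)) with hc
  choose H hH1 hH2 hH3 hH4 using
    fun y : {y : K // orderOf y = p} => exists_compl P hP y.1 y.2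
  have hM : ∀ y, Nat.card (H y) = c / p := fun y => by
    rw [hc, ← hH1 y, Nat.mul_div_cancel _ hp.pos]
  obtain ⟨y0, hy0⟩ : ∃ y0 : K, orderOf y0 = p := by
    have : p ∣ Nat.card (P : Subgroup K) := by rw [hP]
    obtain ⟨y, hy⟩ := exists_prime_orderOf_dvd_card' p this
    exact ⟨(y : K), by rw [Subgroup.orderOf_coe, hy]⟩
  have hcop : (c / p).Coprime p := by
    rw [← hM ⟨y0, hy0⟩]; exact hH4 _
  obtain ⟨u, -, hu⟩ := Nat.exists_mul_mod_eq_one_of_coprime hcop hp.one_lt
  let Φ : (Σ y : {y : K // orderOf y = p}, H y) → {x : K // p ∣ orderOf x} := fun a =>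
    ⟨a.1.1 * a.2.1, by
      have hcomm : Commute a.1.1 a.2.1 := hH2 a.1 _ a.2.2
      have hw : orderOf a.2.1 ∣ Nat.card (H a.1) := orderOf_dvd_of_pow_eq_one (hH3 a.1 _ a.2.2)
      have hco : (orderOf a.1.1).Coprime (orderOf a.2.1) := by
        rw [a.1.2]
        exact ((hH4 a.1).coprime_dvd_left hw).symm
      rw [hcomm.orderOf_mul_eq_mul_orderOf_of_coprime hco, a.1.2]
      exact dvd_mul_right _ _⟩
  have key : ∀ a : (Σ y : {y : K // orderOf y = p}, H y),
      (a.1.1 * a.2.1) ^ (c / p * u) = a.1.1 := by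
    intro a
    have hcomm : Commute a.1.1 a.2.1 := hH2 a.1 _ a.2.2
    rw [hcomm.mul_pow]
    have h1 : a.2.1 ^ (c / p * u) = 1 := by
      rw [pow_mul, ← hM a.1, hH3 a.1 _ a.2.2, one_pow]
    have h2 : a.1.1 ^ (c / p * u) = a.1.1 := by
      rw [← pow_mod_orderOf, a.1.2, hu, pow_one]
    rw [h1, h2, mul_one]
  have hinj : Function.Injective Φ := by
    intro a b hab
    have hab' : a.1.1 * a.2.1 = b.1.1 * b.2.1 := congrArg Subtype.val hab
    have hy : a.1.1 = b.1.1 := by
      rw [← key a, ← key b, hab']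
    obtain ⟨⟨y, hy1⟩, ⟨w, hw⟩⟩ := a
    obtain ⟨⟨y', hy1'⟩, ⟨w', hw'⟩⟩ := b
    simp only at hy hab'
    subst hy
    have hww : w = w' := mul_left_cancel hab'
    subst hww
    rfl
  have hle := Nat.card_le_card_of_injective Φ hinj
  haveI : Fintype {y : K // orderOf y = p} := Fintype.ofFinite _
  rw [Nat.card_sigma] at hle
  have hsum : ∑ y : {y : K // orderOf y = p}, Nat.card (H y) =
      Nat.card {y : K // orderOf y = p} * (c / p) := by
    rw [Finset.sum_congr rfl (fun y _ => hM y), Finset.sum_const, Finset.card_univ,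
      smul_eq_mul, Nat.card_eq_fintype_card]
  rw [hsum, Cfsg.Agent.Helper17.card_orderOf_eq_prime
    (fun Q => card_sylow_eq_of_card_eq P hP Q)] at hle
  calc Nat.card (Sylow p K) * ((p - 1) * (c / p))
      = Nat.card (Sylow p K) * (p - 1) * (c / p) := by ring
    _ ≤ _ := hle

/-- No element has order divisible by both `p` and `q` unless `q ∣ |C(P)|`. -/
theorem not_dvd_orderOf_of_not_dvd_card_centralizer {p q : ℕ} [Fact p.Prime]
    (P : Sylow p K) (hP : Nat.card (P : Subgroup K) = p)
    (hq : ¬ q ∣ Nat.card (centralizer ((P : Subgroup K) : Set K))) (x : K)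
    (hpx : p ∣ orderOf x) : ¬ q ∣ orderOf x := by
  intro hqx
  apply hq
  have hp : p.Prime := Fact.out
  obtain ⟨m, hm⟩ := hpx
  set y := x ^ m with hy
  have hxpos : 0 < orderOf x := orderOf_pos x
  have hyo : orderOf y = p := by
    rw [hy, orderOf_pow' x (by rintro rfl; rw [mul_zero] at hm; omega), hm,
      Nat.gcd_eq_right (dvd_mul_left m p)]
    have hm0 : 0 < m := by
      rcases Nat.eq_zero_or_pos m with h | h
      · rw [h, mul_zero] at hm; omega
      · exact h
    exact Nat.mul_div_cancel _ hm0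
  rw [← card_centralizer_zpowers P hP y hyo]
  have hxC : x ∈ centralizer ((zpowers y : Subgroup K) : Set K) := by
    rw [mem_centralizer_iff]
    intro h hh
    obtain ⟨i, rfl⟩ := mem_zpowers_iff.mp hh
    rw [hy]
    exact ((Commute.refl x).pow_left m |>.zpow_left i).eq
  have h1 : orderOf x ∣ Nat.card (centralizer ((zpowers y : Subgroup K) : Set K)) := by
    have := orderOf_dvd_natCard (⟨x, hxC⟩ : centralizer ((zpowers y : Subgroup K) : Set K))
    rwa [Subgroup.orderOf_mk] at this
  exact hqx.trans h1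

/-- **Three-prime count.** -/
theorem three_prime_count {p q r : ℕ} [Fact p.Prime] [Fact q.Prime] [Fact r.Prime]
    (P : Sylow p K) (Q : Sylow q K) (R : Sylow r K)
    (hP : Nat.card (P : Subgroup K) = p) (hQ : Nat.card (Q : Subgroup K) = q)
    (hR : Nat.card (R : Subgroup K) = r)
    (h1 : ¬ q ∣ Nat.card (centralizer ((P : Subgroup K) : Set K)))
    (h2 : ¬ r ∣ Nat.card (centralizer ((P : Subgroup K) : Set K)))
    (h3 : ¬ r ∣ Nat.card (centralizer ((Q : Subgroup K) : Set K))) :
    Nat.card (Sylow p K) * ((p - 1) * (Nat.card (centralizer ((P : Subgroup K) : Set K)) / p)) +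
    Nat.card (Sylow q K) * ((q - 1) * (Nat.card (centralizer ((Q : Subgroup K) : Set K)) / q)) +
    Nat.card (Sylow r K) * ((r - 1) * (Nat.card (centralizer ((R : Subgroup K) : Set K)) / r)) + 1
      ≤ Nat.card K := by
  classical
  haveI : Fintype K := Fintype.ofFinite K
  have hp : p.Prime := Fact.out
  have hq : q.Prime := Fact.out
  have hr : r.Prime := Fact.out
  set A : Finset K := Finset.univ.filter (fun x => p ∣ orderOf x) with hA
  set B : Finset K := Finset.univ.filter (fun x => q ∣ orderOf x) with hB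
  set C : Finset K := Finset.univ.filter (fun x => r ∣ orderOf x) with hC
  have hcardA : Nat.card {x : K // p ∣ orderOf x} = A.card := by
    rw [Nat.card_eq_fintype_card, Fintype.card_subtype]
  have hcardB : Nat.card {x : K // q ∣ orderOf x} = B.card := by
    rw [Nat.card_eq_fintype_card, Fintype.card_subtype]
  have hcardC : Nat.card {x : K // r ∣ orderOf x} = C.card := by
    rw [Nat.card_eq_fintype_card, Fintype.card_subtype]
  have hAB : Disjoint A B := by
    rw [Finset.disjoint_left]
    intro x hxA hxB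
    rw [hA, Finset.mem_filter] at hxA
    rw [hB, Finset.mem_filter] at hxB
    exact not_dvd_orderOf_of_not_dvd_card_centralizer P hP h1 x hxA.2 hxB.2
  have hAC : Disjoint A C := by
    rw [Finset.disjoint_left]
    intro x hxA hxC
    rw [hA, Finset.mem_filter] at hxA
    rw [hC, Finset.mem_filter] at hxC
    exact not_dvd_orderOf_of_not_dvd_card_centralizer P hP h2 x hxA.2 hxC.2
  have hBC : Disjoint B C := by
    rw [Finset.disjoint_left]
    intro x hxB hxC
    rw [hB, Finset.mem_filter] at hxB
    rw [hC, Finset.mem_filter] at hxC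
    exact not_dvd_orderOf_of_not_dvd_card_centralizer Q hQ h3 x hxB.2 hxC.2
  have h1A : (1 : K) ∉ A := by
    rw [hA, Finset.mem_filter, orderOf_one]
    rintro ⟨-, h⟩
    exact hp.one_lt.ne' (Nat.dvd_one.mp h)
  have h1B : (1 : K) ∉ B := by
    rw [hB, Finset.mem_filter, orderOf_one]
    rintro ⟨-, h⟩
    exact hq.one_lt.ne' (Nat.dvd_one.mp h)
  have h1C : (1 : K) ∉ C := by
    rw [hC, Finset.mem_filter, orderOf_one]
    rintro ⟨-, h⟩
    exact hr.one_lt.ne' (Nat.dvd_one.mp h)
  have hunion : (insert (1 : K) (A ∪ B ∪ C)).card = A.card + B.card + C.card + 1 := by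
    rw [Finset.card_insert_of_notMem (by simp [h1A, h1B, h1C]),
      Finset.card_union_of_disjoint (Finset.disjoint_union_left.mpr ⟨hAC, hBC⟩),
      Finset.card_union_of_disjoint hAB]
  have hle : (insert (1 : K) (A ∪ B ∪ C)).card ≤ Fintype.card K := Finset.card_le_univ _
  rw [hunion, ← Nat.card_eq_fintype_card] at hle
  have hA' := card_dvd_orderOf_ge P hP
  have hB' := card_dvd_orderOf_ge Q hQ
  have hC' := card_dvd_orderOf_ge R hR
  rw [hcardA] at hA'
  rw [hcardB] at hB'
  rw [hcardC] at hC'
  omega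

end Cfsg.Agent.Helper61.J1
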