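import Cfsg.Agent.Helper79.CharComplete
import Cfsg.Agent.Helper79.Linear
import Cfsg.Agent.Helper80.Degree
import Cfsg.Prelude.Def_DegreeGraph

set_option autoImplicit false

namespace Cfsg.Agent.Helper61.A5Degrees

open Cfsg Equiv

/-- representatives of the conjugacy classes of `A₅` -/
def reps : Fin 5 → Perm (Fin 5) :=
  ![1, c[0, 1, 2], c[0, 1] * c[2, 3], c[0, 1, 2, 3, 4], c[0, 1, 2, 4, 3]]

theorem reps_sign : ∀ i : Fin 5, Perm.sign (reps i) = 1 := by decide

set_option maxRecDepth 100000 in
theorem cover : ∀ g : Perm (Fin 5), Perm.sign g = 1 →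
    ∃ i : Fin 5, ∃ x : Perm (Fin 5), Perm.sign x = 1 ∧ x * reps i * x⁻¹ = g := by
  decide +kernel

theorem card_conjClasses_le : Nat.card (ConjClasses (alternatingGroup (Fin 5))) ≤ 5 := by
  let f : Fin 5 → ConjClasses (alternatingGroup (Fin 5)) := fun i =>
    ConjClasses.mk ⟨reps i, Perm.mem_alternatingGroup.2 (reps_sign i)⟩
  have hf : Function.Surjective f := by
    intro c
    obtain ⟨g, rfl⟩ := ConjClasses.mk_surjective c
    obtain ⟨i, x, hx, hxg⟩ := cover g.1 (Perm.mem_alternatingGroup.1 g.2)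
    refine ⟨i, ?_⟩
    rw [ConjClasses.mk_eq_mk_iff_isConj, isConj_iff]
    exact ⟨⟨x, Perm.mem_alternatingGroup.2 hx⟩, Subtype.ext hxg⟩
  have := Nat.card_le_card_of_surjective f hf
  simpa using this

theorem commutator_eq_top : commutator (alternatingGroup (Fin 5)) = ⊤ := by
  haveI : IsSimpleGroup (alternatingGroup (Fin 5)) := alternatingGroup.isSimpleGroup (by simp)
  rcases IsSimpleGroup.eq_bot_or_eq_top_of_normal (commutator (alternatingGroup (Fin 5))) inferInstance with h | h
  · exfalso
    rw [commutator_def, Subgroup.commutator_eq_bot_iff_le_centralizer] at h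
    have ha : (⟨reps 1, Perm.mem_alternatingGroup.2 (reps_sign 1)⟩ : alternatingGroup (Fin 5)) ∈
        Subgroup.centralizer ((⊤ : Subgroup (alternatingGroup (Fin 5))) : Set (alternatingGroup (Fin 5))) :=
      h (Subgroup.mem_top _)
    have hc := Subgroup.mem_centralizer_iff.1 ha
      ⟨reps 3, Perm.mem_alternatingGroup.2 (reps_sign 3)⟩ (Subgroup.mem_top _)
    have h2 : reps 3 * reps 1 = reps 1 * reps 3 := congrArg Subtype.val hc
    revert h2
    decide
  · exact h

theorem card_eq : Nat.card (alternatingGroup (Fin 5)) = 60 := by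
  rw [nat_card_alternatingGroup]
  simp [Nat.factorial]

/-- `A₅` has an irreducible character of degree divisible by `5`. -/
theorem five_mem_degreePrimes : 5 ∈ Cfsg.degreePrimes (alternatingGroup (Fin 5)) := by
  classical
  refine ⟨by norm_num, ?_⟩
  by_contra hno
  have hno' : ∀ χ : IrrCharacter (alternatingGroup (Fin 5)), ¬ 5 ∣ charDegree χ.1 := by
    intro χ h5
    exact hno ⟨_, ⟨χ, rfl⟩, h5⟩
  haveI : Fintype (alternatingGroup (Fin 5)) := Fintype.ofFinite _
  haveI : Finite (IrrCharacter (alternatingGroup (Fin 5))) := Helper79.irr_finite'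
  haveI : Fintype (IrrCharacter (alternatingGroup (Fin 5))) := Fintype.ofFinite _
  let deg : IrrCharacter (alternatingGroup (Fin 5)) → ℕ := fun χ => charDegree χ.1
  have hsum : ∑ χ : IrrCharacter (alternatingGroup (Fin 5)), deg χ ^ 2 = 60 := by
    rw [← card_eq]
    exact Helper79.sum_charDegree_sq
  have hk : Fintype.card (IrrCharacter (alternatingGroup (Fin 5))) ≤ 5 := by
    rw [← Nat.card_eq_fintype_card, Helper79.card_irr_eq_card_conjClasses]
    exact card_conjClasses_le
  have hdeg : ∀ χ, deg χ ∈ ({1, 2, 3, 4, 6} : Finset ℕ) := by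
    intro χ
    have h1 : deg χ ∣ 60 := by
      have := Helper80.IsIrrCharacter.charDegree_dvd_card χ.2
      rwa [card_eq] at this
    have h2 : deg χ ^ 2 ≤ 60 := by
      have := Helper80.IsIrrCharacter.charDegree_sq_le_card χ.2
      rwa [card_eq] at this
    have h3 : 0 < deg χ := Helper79.irr_charDegree_pos χ
    have h4 : ¬ 5 ∣ deg χ := hno' χ
    have h5 : deg χ ≤ 7 := by nlinarith
    generalize deg χ = d at *
    interval_cases d <;> simp_all
  have hlin : ∀ χ, deg χ = 1 → χ = Helper79.principalIrr _ := by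
    intro χ hχ
    apply Subtype.ext
    funext u
    have h1 : χ.1 1 = 1 := by
      rw [Helper79.irr_one]
      change ((deg χ : ℕ) : ℂ) = 1
      rw [hχ]; simp
    have hu : u ∈ commutator (alternatingGroup (Fin 5)) := by rw [commutator_eq_top]; trivial
    exact Helper79.isCharacter_linear_commutator (Helper79.irr_isCharacter χ) h1 hu
  have hn1 : (Finset.univ.filter (fun χ => deg χ = 1)).card = 1 := by
    rw [Finset.card_eq_one]
    refine ⟨Helper79.principalIrr _, ?_⟩
    ext χ
    rw [Finset.mem_filter, Finset.mem_singleton]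
    constructor
    · rintro ⟨-, h⟩
      exact hlin χ h
    · rintro rfl
      refine ⟨Finset.mem_univ _, ?_⟩
      change charDegree (fun _ => (1 : ℂ)) = 1
      simp [charDegree]
  have hcardF := Finset.card_eq_sum_card_fiberwise (s := (Finset.univ : Finset (IrrCharacter (alternatingGroup (Fin 5)))))
    (t := ({1, 2, 3, 4, 6} : Finset ℕ)) (f := deg) (fun χ _ => hdeg χ)
  have hsumF := Finset.sum_fiberwise_of_maps_to (s := (Finset.univ : Finset (IrrCharacter (alternatingGroup (Fin 5)))))
    (t := ({1, 2, 3, 4, 6} : Finset ℕ)) (g := deg) (fun χ _ => hdeg χ) (fun χ => deg χ ^ 2)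
  have hinner : ∀ y ∈ ({1, 2, 3, 4, 6} : Finset ℕ), ∑ χ ∈ Finset.univ.filter (fun χ => deg χ = y), deg χ ^ 2 =
      (Finset.univ.filter (fun χ => deg χ = y)).card * y ^ 2 := by
    intro y _
    rw [Finset.sum_congr rfl (fun χ hχ => by rw [(Finset.mem_filter.1 hχ).2] : ∀ χ ∈ Finset.univ.filter (fun χ => deg χ = y), deg χ ^ 2 = y ^ 2)]
    rw [Finset.sum_const, smul_eq_mul]
  rw [Finset.sum_congr rfl hinner, hsum] at hsumF
  rw [Finset.card_univ] at hcardF
  simp at hsumF hcardF
  omega

end Cfsg.Agent.Helper61.A5Degrees
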