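import Cfsg.Agent.Helper16.DT.Defs

/-!
# DT farm, piece (LA1) (helper61)

The local ring of the algebraic integers at a maximal ideal is a valuation ring of the field of
algebraic numbers.
-/

set_option autoImplicit false
set_option linter.unusedSectionVars false

namespace Cfsg.Agent.Helper61.DT

open Cfsg Cfsg.Agent.Helper16 Cfsg.Agent.Helper16.DT Polynomial

variable {M : Ideal AlgInt} [M.IsMaximal]

/-- Kaplansky's `u`-lemma for the algebraic integers: a nonzero complex root of a polynomial over the
algebraic integers with a coefficient outside `M` lies in the local ring, or its inverse does. -/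
theorem memLocalRing_or_inv_of_root (u : ℂ) (hu : u ≠ 0) :
    ∀ (n : ℕ) (f : AlgInt[X]), f.natDegree ≤ n → aeval u f = 0 → (∃ i, f.coeff i ∉ M) →
      MemLocalRing M u ∨ MemLocalRing M u⁻¹ := by
  intro n
  induction n with
  | zero =>
    intro f hdeg hroot ⟨i, hi⟩
    exfalso
    rw [Nat.le_zero] at hdeg
    rw [eq_C_of_natDegree_eq_zero hdeg, aeval_C] at hroot
    have h0 : f.coeff 0 = 0 := by
      apply Subtype.ext
      simpa using hroot
    apply hi
    by_cases hi0 : i = 0
    · rw [hi0, h0]
      exact M.zero_mem
    · rw [coeff_eq_zero_of_natDegree_lt (by omega)]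
      exact M.zero_mem
  | succ n ih =>
    intro f hdeg hroot hex
    by_cases hdeg' : f.natDegree ≤ n
    · exact ih f hdeg' hroot hex
    have hfd : f.natDegree = n + 1 := by omega
    -- `w = leadingCoeff * u` is an algebraic integer
    have hwint : IsIntegral ℤ (f.leadingCoeff • u) :=
      isIntegral_trans _ (isIntegral_leadingCoeff_smul f u hroot)
    let w : AlgInt := ⟨f.leadingCoeff • u, hwint⟩
    have hw : (w : ℂ) = (f.leadingCoeff : ℂ) * u := rfl
    by_cases hlead : f.leadingCoeff ∈ M
    · -- the reduced polynomial
      let q : AlgInt[X] := f.eraseLead + C w * X ^ n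
      have hqdeg : q.natDegree ≤ n := by
        apply (natDegree_add_le _ _).trans
        apply max_le
        · have := eraseLead_natDegree_le f
          omega
        · exact natDegree_C_mul_X_pow_le w n
      have hqroot : aeval u q = 0 := by
        have h1 : aeval u f = aeval u f.eraseLead + (f.leadingCoeff : ℂ) * u ^ (n + 1) := by
          conv_lhs => rw [← eraseLead_add_C_mul_X_pow f, hfd]
          simp
        have h2 : aeval u q = aeval u f.eraseLead + (w : ℂ) * u ^ n := by
          simp [q]
        rw [h2, hw, ← hroot, h1, pow_succ]
        ring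
      by_cases hqex : ∃ i, q.coeff i ∉ M
      · exact ih q hqdeg hqroot hqex
      · push Not at hqex
        obtain ⟨i0, hi0⟩ := hex
        have hi0n : i0 = n := by
          by_contra hne
          apply hi0
          by_cases hi1 : i0 = n + 1
          · rw [hi1, ← hfd]
            exact hlead
          · have hq := hqex i0
            have : q.coeff i0 = f.coeff i0 := by
              simp only [q, coeff_add, coeff_C_mul, coeff_X_pow]
              rw [if_neg hne, mul_zero, add_zero, eraseLead_coeff_of_ne]
              rw [hfd]
              exact hi1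
            rw [this] at hq
            exact hq
        subst hi0n
        have hq := hqex i0
        have hqc : q.coeff i0 = f.coeff i0 + w := by
          have he : f.eraseLead.coeff i0 = f.coeff i0 := by
            rw [eraseLead_coeff_of_ne]
            rw [hfd]
            omega
          simp [q, coeff_add, coeff_C_mul, coeff_X_pow, he]
        rw [hqc] at hq
        have hwM : w ∉ M := by
          intro hwM
          apply hi0
          have := M.sub_mem hq hwM
          simpa using this
        right
        refine ⟨f.leadingCoeff, w, hwM, ?_⟩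
        have hw0 : (w : ℂ) ≠ 0 := coe_ne_zero_of_not_mem hwM
        rw [hw] at hw0 ⊢
        have hl0 : (f.leadingCoeff : ℂ) ≠ 0 := left_ne_zero_of_mul hw0
        field_simp
    · left
      refine ⟨w, f.leadingCoeff, hlead, ?_⟩
      have hl0 : (f.leadingCoeff : ℂ) ≠ 0 := coe_ne_zero_of_not_mem hlead
      rw [hw]
      field_simp

/-- (LA1) the local ring is a valuation ring of the field of algebraic numbers. -/
theorem memLocalRing_or_inv {z : ℂ} (hz : IsAlgebraic ℚ z) (hz0 : z ≠ 0) :
    MemLocalRing M z ∨ MemLocalRing M z⁻¹ := by
  -- a primitive integer polynomial with root `z`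
  have hzZ : IsAlgebraic ℤ z := (IsFractionRing.isAlgebraic_iff ℤ ℚ ℂ).2 hz
  obtain ⟨p, hp0, hpz⟩ := hzZ
  have hprim : p.primPart.IsPrimitive := isPrimitive_primPart p
  have hroot : aeval z p.primPart = 0 := aeval_primPart_eq_zero hp0 hpz
  let f : AlgInt[X] := p.primPart.map (algebraMap ℤ AlgInt)
  have hfroot : aeval z f = 0 := by
    rw [aeval_map_algebraMap]
    exact hroot
  refine memLocalRing_or_inv_of_root z hz0 f.natDegree f le_rfl hfroot ?_
  by_contra hcon
  push Not at hcon
  -- all coefficients lie in the prime ideal `M ∩ ℤ`, which is principal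
  let I : Ideal ℤ := M.comap (algebraMap ℤ AlgInt)
  have hI : ∀ i, p.primPart.coeff i ∈ I := by
    intro i
    have := hcon i
    rw [coeff_map] at this
    exact this
  have hgen : I = Ideal.span {Submodule.IsPrincipal.generator I} :=
    (Ideal.span_singleton_generator I).symm
  have hdvd : C (Submodule.IsPrincipal.generator I) ∣ p.primPart := by
    rw [C_dvd_iff_dvd_coeff]
    intro i
    have := hI i
    rw [hgen, Ideal.mem_span_singleton] at this
    exact this
  have hunit : IsUnit (Submodule.IsPrincipal.generator I) := hprim _ hdvd
  have h1 : (1 : ℤ) ∈ I := by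
    rw [hgen, Ideal.mem_span_singleton]
    exact hunit.dvd
  have h1M : (1 : AlgInt) ∈ M := by
    have : algebraMap ℤ AlgInt 1 ∈ M := h1
    simpa using this
  exact one_not_mem h1M

end Cfsg.Agent.Helper61.DT
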