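import Cfsg.Agent.Helper16.DT.Defs

/-!
# DT farm, piece (LA2), core (helper61)

Lattices over the local ring `Rloc M` spanned by vectors with algebraic coordinates are free, given
the valuation property (LA1) of the local ring as a hypothesis.
-/

set_option autoImplicit false
set_option linter.unusedSectionVars false

namespace Cfsg.Agent.Helper61.DT

open Cfsg Cfsg.Agent.Helper16 Cfsg.Agent.Helper16.DT

variable {M : Ideal AlgInt} [M.IsMaximal]

/-- The valuation property (LA1) as a hypothesis. -/
def ValProp (M : Ideal AlgInt) : Prop :=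
  ∀ z : ℂ, IsAlgebraic ℚ z → z ≠ 0 → MemLocalRing M z ∨ MemLocalRing M z⁻¹

/-- A complex linear relation among vectors with algebraic coordinates can be replaced by one with
algebraic coefficients, keeping a prescribed coefficient nonzero. -/
theorem exists_algebraic_relation {ι : Type*} {n : ℕ} (T : Finset ι) (v : ι → (Fin n → ℂ))
    (halg : ∀ j i, IsAlgebraic ℚ (v j i)) (c : ι → ℂ) (hc : ∑ j ∈ T, c j • v j = 0)
    (j0 : ι) (hj0 : c j0 ≠ 0) :
    ∃ c' : ι → ℂ, (∀ j, IsAlgebraic ℚ (c' j)) ∧ c' j0 ≠ 0 ∧ ∑ j ∈ T, c' j • v j = 0 := by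
  classical
  let K : IntermediateField ℚ ℂ := algebraicClosure ℚ ℂ
  have hmem : ∀ j i, v j i ∈ K := fun j i => (mem_algebraicClosure_iff).2 (halg j i)
  obtain ⟨φ, hφ⟩ : ∃ φ : Module.Dual K ℂ, φ (c j0) ≠ 0 := by
    by_contra hcon
    push Not at hcon
    exact hj0 ((Module.forall_dual_apply_eq_zero_iff K (c j0)).1 hcon)
  refine ⟨fun j => ((φ (c j) : K) : ℂ), fun j => ?_, ?_, ?_⟩
  · exact (mem_algebraicClosure_iff).1 (φ (c j)).2
  · intro h
    apply hφ
    exact Subtype.ext h
  · funext i
    have hi : ∑ j ∈ T, c j * v j i = 0 := by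
      have := congrFun hc i
      simpa [Finset.sum_apply] using this
    have h2 : ∑ j ∈ T, (⟨v j i, hmem j i⟩ : K) • c j = 0 := by
      rw [← hi]
      refine Finset.sum_congr rfl fun j _ => ?_
      rw [IntermediateField.smul_def]
      simp [mul_comm]
    have h3 := congrArg φ h2
    rw [map_sum, map_zero] at h3
    simp only [map_smul, smul_eq_mul] at h3
    have h4 := congrArg (fun x : K => (x : ℂ)) h3
    simp only [Finset.sum_apply, Pi.smul_apply, smul_eq_mul, Pi.zero_apply]
    simp only [AddSubmonoidClass.coe_finsetSum, MulMemClass.coe_mul, ZeroMemClass.coe_zero] at h4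
    rw [← h4]
    refine Finset.sum_congr rfl fun j _ => ?_
    rw [mul_comm]


/-- Among finitely many algebraic numbers, not all zero, one nonzero member divides all of them in
the local ring (given the valuation property). -/
theorem exists_dividing (hV : ValProp M) {ι : Type*} (c : ι → ℂ)
    (halg : ∀ j, IsAlgebraic ℚ (c j)) (T : Finset ι) (hT : ∃ j ∈ T, c j ≠ 0) :
    ∃ j0 ∈ T, c j0 ≠ 0 ∧ ∀ j ∈ T, MemLocalRing M (c j / c j0) := by
  classical
  induction T using Finset.induction_on with
  | empty =>
    obtain ⟨j, hj, _⟩ := hT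
    simp at hj
  | insert a T ha ih =>
    by_cases hex : ∃ j ∈ T, c j ≠ 0
    · obtain ⟨j0, hj0T, hj0, hdiv⟩ := ih hex
      by_cases hca : c a = 0
      · refine ⟨j0, Finset.mem_insert_of_mem hj0T, hj0, fun j hj => ?_⟩
        rcases Finset.mem_insert.1 hj with rfl | hj
        · rw [hca, zero_div]
          exact memLocalRing_zero
        · exact hdiv j hj
      · have hz0 : c a / c j0 ≠ 0 := div_ne_zero hca hj0
        have hzalg : IsAlgebraic ℚ (c a / c j0) := by
          rw [div_eq_mul_inv]
          exact (halg a).mul (halg j0).inv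
        rcases hV _ hzalg hz0 with h | h
        · refine ⟨j0, Finset.mem_insert_of_mem hj0T, hj0, fun j hj => ?_⟩
          rcases Finset.mem_insert.1 hj with rfl | hj
          · exact h
          · exact hdiv j hj
        · refine ⟨a, Finset.mem_insert_self a T, hca, fun j hj => ?_⟩
          rcases Finset.mem_insert.1 hj with rfl | hj
          · rw [div_self hca]
            exact memLocalRing_one
          · have : c j / c a = (c j / c j0) * (c a / c j0)⁻¹ := by
              field_simp
            rw [this]
            exact memLocalRing_mul (hdiv j hj) h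
    · push Not at hex
      obtain ⟨j, hj, hcj⟩ := hT
      have hja : j = a := by
        rcases Finset.mem_insert.1 hj with rfl | hj'
        · rfl
        · exact absurd (hex j hj') hcj
      subst hja
      refine ⟨j, Finset.mem_insert_self j T, hcj, fun k hk => ?_⟩
      rcases Finset.mem_insert.1 hk with rfl | hk
      · rw [div_self hcj]
        exact memLocalRing_one
      · rw [hex k hk, zero_div]
        exact memLocalRing_zero

/-- If the vectors `v j`, `j ∈ T`, are linearly dependent over `ℂ`, one of them lies in the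
`Rloc M`-span of the others. -/
theorem exists_mem_span_erase (hV : ValProp M) {ι : Type*} [DecidableEq ι] {n : ℕ}
    (v : ι → (Fin n → ℂ)) (halg : ∀ j i, IsAlgebraic ℚ (v j i)) (T : Finset ι)
    (hdep : ¬ LinearIndependent ℂ (fun j : T => v j)) :
    ∃ j0 ∈ T, v j0 ∈ Submodule.span (Rloc M) (v '' (T.erase j0 : Set ι)) := by
  classical
  rw [Fintype.not_linearIndependent_iff] at hdep
  obtain ⟨g, hg, ⟨i0, hi0⟩⟩ := hdep
  let c : ι → ℂ := fun j => if h : j ∈ T then g ⟨j, h⟩ else 0
  have hcg : ∀ i : T, c i = g i := fun i => by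
    simp only [c]
    rw [dif_pos i.2]
  have hc : ∑ j ∈ T, c j • v j = 0 := by
    rw [← Finset.sum_coe_sort T (fun j => c j • v j), ← hg]
    refine Finset.sum_congr rfl fun i _ => ?_
    rw [hcg]
  have hc0 : c i0 ≠ 0 := by rw [hcg]; exact hi0
  obtain ⟨c', hc'alg, hc'0, hc'⟩ := exists_algebraic_relation T v halg c hc i0 hc0
  obtain ⟨j0, hj0T, hj0, hdiv⟩ := exists_dividing hV c' hc'alg T ⟨i0, i0.2, hc'0⟩
  refine ⟨j0, hj0T, ?_⟩
  have hsplit : c' j0 • v j0 + ∑ j ∈ T.erase j0, c' j • v j = 0 := by
    rw [Finset.add_sum_erase T (fun j => c' j • v j) hj0T]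
    exact hc'
  have hv : v j0 = ∑ j ∈ T.erase j0, (-(c' j / c' j0)) • v j := by
    have h1 : c' j0 • v j0 = -∑ j ∈ T.erase j0, c' j • v j := eq_neg_of_add_eq_zero_left hsplit
    have h2 : v j0 = (c' j0)⁻¹ • (c' j0 • v j0) := by
      rw [smul_smul, inv_mul_cancel₀ hj0, one_smul]
    rw [h2, h1, smul_neg, Finset.smul_sum, ← Finset.sum_neg_distrib]
    refine Finset.sum_congr rfl fun j _ => ?_
    rw [smul_smul, neg_smul]
    congr 2
    rw [div_eq_mul_inv, mul_comm]
  rw [hv]
  refine Submodule.sum_mem _ fun j hj => ?_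
  have hjT : j ∈ T := Finset.mem_of_mem_erase hj
  have hmem : (-(c' j / c' j0)) ∈ Rloc M := memLocalRing_neg (hdiv j hjT)
  have : (-(c' j / c' j0)) • v j = (⟨_, hmem⟩ : Rloc M) • v j := rfl
  rw [this]
  exact Submodule.smul_mem _ _ (Submodule.subset_span ⟨j, by simpa [and_comm] using hj, rfl⟩)

/-- Every finite family of vectors with algebraic coordinates contains a `ℂ`-independent subfamily
with the same `Rloc M`-span. -/
theorem exists_indep_subfamily (hV : ValProp M) {ι : Type*} [DecidableEq ι] {n : ℕ}
    (v : ι → (Fin n → ℂ)) (halg : ∀ j i, IsAlgebraic ℚ (v j i)) :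
    ∀ (k : ℕ) (T : Finset ι), T.card = k → ∃ T' : Finset ι, T' ⊆ T ∧
      Submodule.span (Rloc M) (v '' (T' : Set ι)) = Submodule.span (Rloc M) (v '' (T : Set ι)) ∧
      LinearIndependent ℂ (fun j : T' => v j) := by
  classical
  intro k
  induction k with
  | zero =>
    intro T hT
    exact ⟨T, subset_rfl, rfl, by
      rw [Finset.card_eq_zero] at hT
      subst hT
      exact linearIndependent_empty_type⟩
  | succ k ih =>
    intro T hT
    by_cases hli : LinearIndependent ℂ (fun j : T => v j)
    · exact ⟨T, subset_rfl, rfl, hli⟩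
    · obtain ⟨j0, hj0T, hj0⟩ := exists_mem_span_erase hV v halg T hli
      have hcard : (T.erase j0).card = k := by
        rw [Finset.card_erase_of_mem hj0T, hT]
        rfl
      obtain ⟨T', hT'sub, hT'span, hT'li⟩ := ih (T.erase j0) hcard
      refine ⟨T', hT'sub.trans (Finset.erase_subset _ _), ?_, hT'li⟩
      rw [hT'span]
      apply le_antisymm
      · apply Submodule.span_mono
        apply Set.image_mono
        exact_mod_cast Finset.erase_subset j0 T
      · rw [Submodule.span_le]
        rintro _ ⟨j, hj, rfl⟩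
        by_cases hjj : j = j0
        · rw [hjj]
          exact hj0
        · exact Submodule.subset_span ⟨j, by simpa using ⟨hj, hjj⟩, rfl⟩

/-- (LA2), given the valuation property. -/
theorem exists_Rloc_basis_of (hV : ValProp M) {n m : ℕ} (v : Fin m → (Fin n → ℂ))
    (halg : ∀ j i, IsAlgebraic ℚ (v j i)) (hspan : Submodule.span ℂ (Set.range v) = ⊤) :
    ∃ w : Fin n → (Fin n → ℂ), LinearIndependent ℂ w ∧
      Submodule.span (Rloc M) (Set.range w) = Submodule.span (Rloc M) (Set.range v) := by
  classical
  obtain ⟨T', -, hT'span, hT'li⟩ :=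
    exists_indep_subfamily hV v halg (Finset.univ : Finset (Fin m)).card Finset.univ rfl
  rw [Finset.coe_univ, Set.image_univ] at hT'span
  have hrange : Set.range (fun j : T' => v j) = v '' (T' : Set (Fin m)) :=
    (Set.image_eq_range v _).symm
  -- the subfamily spans over `ℂ`
  have htop : ⊤ ≤ Submodule.span ℂ (Set.range (fun j : T' => v j)) := by
    rw [← hspan, hrange, Submodule.span_le]
    intro x hx
    have h1 : x ∈ Submodule.span (Rloc M) (v '' (T' : Set (Fin m))) := by
      rw [hT'span]
      exact Submodule.subset_span hx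
    exact Submodule.span_le_restrictScalars (Rloc M) ℂ _ h1
  have hcard : Fintype.card T' = n := by
    have hb := Module.finrank_eq_card_basis (Module.Basis.mk hT'li htop)
    rw [Module.finrank_fin_fun] at hb
    exact hb.symm
  let e : Fin n ≃ T' := (Fintype.equivFinOfCardEq hcard).symm
  refine ⟨fun k => v (e k), hT'li.comp e e.injective, ?_⟩
  rw [← hT'span, ← hrange]
  congr 1
  exact e.surjective.range_comp (fun j : T' => v j)

end Cfsg.Agent.Helper61.DT
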