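import Cfsg.Agent.Helper61.DT_LA1
import Cfsg.Agent.Helper61.DT_LA2core

/-!
# DT farm, piece (LA2) (helper61)
-/

set_option autoImplicit false
set_option linter.unusedSectionVars false

namespace Cfsg.Agent.Helper61.DT

open Cfsg Cfsg.Agent.Helper16 Cfsg.Agent.Helper16.DT

variable {M : Ideal AlgInt} [M.IsMaximal]

/-- The valuation property holds (LA1). -/
theorem valProp (M : Ideal AlgInt) [M.IsMaximal] : ValProp M :=
  fun _ hz hz0 => memLocalRing_or_inv hz hz0

/-- (LA2) a finitely generated module over the local ring, generated by vectors with algebraic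
coordinates spanning `ℂ^n`, is free on a `ℂ`-basis of `ℂ^n`. -/
theorem exists_Rloc_basis {n m : ℕ} (v : Fin m → (Fin n → ℂ))
    (halg : ∀ j i, IsAlgebraic ℚ (v j i)) (hspan : Submodule.span ℂ (Set.range v) = ⊤) :
    ∃ w : Fin n → (Fin n → ℂ), LinearIndependent ℂ w ∧
      Submodule.span (Rloc M) (Set.range w) = Submodule.span (Rloc M) (Set.range v) :=
  exists_Rloc_basis_of (valProp M) v halg hspan

end Cfsg.Agent.Helper61.DT
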