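import Cfsg.Agent.Helper61.PrimeDegree
import Cfsg.Agent.Helper61.TwoTransSimple
import Cfsg.Agent.S0675
import Cfsg.Agent.S0676
import Cfsg.Agent.S0680
import Cfsg.Agent.S0144

set_option autoImplicit false

/-! Non-solvable transitive groups of degree 7. -/

namespace Cfsg.Agent.Helper61.Deg7

open MulAction Subgroup Equiv Cfsg.Agent.Helper61.TwoTrans Cfsg.Agent.Helper61.SharpM
  Cfsg.Agent.Helper61.PrimeDegree

/-- A subgroup of `Perm α` (`5 ≤ |α|`) of index `j` with `j! < |α|!` contains the alternating
group. -/
theorem alternatingGroup_le_of_index_factorial_lt {α : Type*} [Fintype α] [DecidableEq α]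
    (hα : 5 ≤ Nat.card α) (G : Subgroup (Perm α))
    (h : (G.index).factorial < Nat.card (Perm α)) : alternatingGroup α ≤ G := by
  have hK : G.normalCore = (MulAction.toPermHom (Perm α) (Perm α ⧸ G)).ker :=
    Subgroup.normalCore_eq_ker G
  have hnt : Nontrivial G.normalCore := by
    rw [Subgroup.nontrivial_iff_ne_bot]
    intro h0
    rw [hK, MonoidHom.ker_eq_bot_iff] at h0
    have h1 := Nat.card_le_card_of_injective _ h0
    rw [Nat.card_perm (α := Perm α ⧸ G)] at h1
    have h2 : Nat.card (Perm α ⧸ G) = G.index := rfl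
    rw [h2] at h1
    omega
  have := Equiv.Perm.alternatingGroup_le_of_normal hα (N := G.normalCore) hnt
  exact this.trans (Subgroup.normalCore_le G)

/-- The arithmetic core. -/
theorem arith7 : ∀ d ∈ ({2, 3, 6} : Finset ℕ), ∀ n < 721,
    (d * n ∣ 720 ∧ n % 7 = 1 ∧ 1 < n ∧ 6 ∣ d * n ∧ (d % 2 = 0 → 30 ∣ d * n) ∧
      7 ≤ 720 / (d * n) ∧ 7 * d * n ≠ 630 ∧ 7 * d * n ≠ 210) → (d = 3 ∧ n = 8) := by
  decide +kernel

/-- An element of order 3 of `Perm α` fixing all but at most 4 points is a 3-cycle. -/
theorem isThreeCycle_of_orderOf_three {α : Type*} [Fintype α] [DecidableEq α] (g : Perm α)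
    (h3 : orderOf g = 3) (hs : g.support.card ≤ 4) : g.IsThreeCycle := by
  have hp : (orderOf g).Prime := by rw [h3]; norm_num
  obtain ⟨n, hn⟩ := Equiv.Perm.cycleType_prime_order hp
  have hsum := Equiv.Perm.sum_cycleType g
  rw [hn, Multiset.sum_replicate, h3, smul_eq_mul] at hsum
  have hn0 : n = 0 := by omega
  rw [hn0, h3] at hn
  unfold Equiv.Perm.IsThreeCycle
  rw [hn]
  rfl

section Main

variable {α : Type*} [Fintype α] [DecidableEq α]

/-- The order of a `k`-transitive subgroup is divisible by the number of `k`-arrangements. -/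
theorem descFactorial_dvd_card (G : Subgroup (Perm α)) (k : ℕ)
    (hk : IsMultiplyPretransitive G α k) (hkα : k ≤ Fintype.card α) :
    (Fintype.card α).descFactorial k ∣ Nat.card G := by
  obtain ⟨x₀⟩ : Nonempty (Fin k ↪ α) :=
    Function.Embedding.nonempty_of_card_le (by simpa using hkα)
  have h1 := @MulAction.index_stabilizer_of_transitive G _ _ _ x₀ hk
  have h2 : (stabilizer G x₀).index ∣ Nat.card G := Subgroup.index_dvd_card _
  rw [h1, Nat.card_eq_fintype_card, Fintype.card_embedding_eq, Fintype.card_fin] at h2
  exact h2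

/-- In a `k`-transitive subgroup of order the number of `k`-arrangements times `m`, the stabilizer
of a `k`-arrangement has order `m`. -/
theorem card_stabilizer_embedding (G : Subgroup (Perm α)) (k : ℕ)
    (hk : IsMultiplyPretransitive G α k) (x₀ : Fin k ↪ α) :
    (Fintype.card α).descFactorial k * Nat.card (stabilizer G x₀) = Nat.card G := by
  have h1 := @MulAction.index_stabilizer_of_transitive G _ _ _ x₀ hk
  have h2 := Subgroup.card_mul_index (stabilizer G x₀)
  rw [h1, Nat.card_eq_fintype_card (α := Fin k ↪ α), Fintype.card_embedding_eq,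
    Fintype.card_fin] at h2
  rw [← h2, mul_comm]

/-- A 3-transitive group of degree 7 and order 630 contains the alternating group. -/
theorem alternating_le_of_630 (hα : Fintype.card α = 7) (G : Subgroup (Perm α))
    (h3 : IsMultiplyPretransitive G α 3) (hcard : Nat.card G = 630) : alternatingGroup α ≤ G := by
  obtain ⟨x₀⟩ : Nonempty (Fin 3 ↪ α) :=
    Function.Embedding.nonempty_of_card_le (by simp [hα])
  have hst := card_stabilizer_embedding G 3 h3 x₀
  rw [hα, hcard] at hst
  have hst3 : Nat.card (stabilizer G x₀) = 3 := by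
    have : Nat.descFactorial 7 3 = 210 := by decide
    rw [this] at hst
    omega
  -- a non-identity element
  haveI : Nontrivial (stabilizer G x₀) := by
    rw [← Finite.one_lt_card_iff_nontrivial, hst3]; norm_num
  obtain ⟨g, hg1⟩ := exists_ne (1 : stabilizer G x₀)
  have hord : orderOf g = 3 := by
    have hdvd : orderOf g ∣ 3 := by
      have := orderOf_dvd_natCard g
      rwa [hst3] at this
    rcases (Nat.dvd_prime (by norm_num : Nat.Prime 3)).mp hdvd with h | h
    · exact absurd (orderOf_eq_one_iff.mp h) hg1
    · exact h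
  have hord' : orderOf ((g : G) : Perm α) = 3 := by
    rw [Subgroup.orderOf_coe, Subgroup.orderOf_coe]; exact hord
  -- support bound
  have hfix : ∀ i : Fin 3, ((g : G) : Perm α) (x₀ i) = x₀ i := by
    intro i
    have := g.2
    rw [mem_stabilizer_iff] at this
    have h1 := DFunLike.congr_fun this i
    exact h1
  have hsupp : ((g : G) : Perm α).support ⊆ Finset.univ \ (Finset.univ.map x₀) := by
    intro a ha
    rw [Finset.mem_sdiff]
    refine ⟨Finset.mem_univ _, ?_⟩
    intro hmem
    rw [Finset.mem_map] at hmem
    obtain ⟨i, _, rfl⟩ := hmem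
    rw [Equiv.Perm.mem_support] at ha
    exact ha (hfix i)
  have hcardsupp : ((g : G) : Perm α).support.card ≤ 4 := by
    have h1 := Finset.card_le_card hsupp
    rw [Finset.card_sdiff_of_subset (Finset.subset_univ _), Finset.card_univ, hα,
      Finset.card_map, Finset.card_univ, Fintype.card_fin] at h1
    exact h1
  have h3c := isThreeCycle_of_orderOf_three _ hord' hcardsupp
  have h2 : IsMultiplyPretransitive G α 2 :=
    isMultiplyPretransitive_of_le (n := 3) (by omega) (by simp [hα])
  have hprim : IsPreprimitive G α := isPreprimitive_of_is_two_pretransitive h2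
  exact Equiv.Perm.alternatingGroup_le_of_isPreprimitive_of_isThreeCycle_mem hprim h3c (g : G).2

/-- There is no sharply 3-transitive group of degree 7. -/
theorem false_of_210 (hα : Fintype.card α = 7) (G : Subgroup (Perm α))
    (h3 : IsMultiplyPretransitive G α 3) (hcard : Nat.card G = 210) : False := by
  classical
  have hsharp : ∀ x : Fin (2 + 1) ↪ α, stabilizer G x = ⊥ := by
    intro x
    have hst := card_stabilizer_embedding G 3 h3 x
    rw [hα, hcard] at hst
    have : Nat.descFactorial 7 3 = 210 := by decide
    rw [this] at hst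
    have h1 : Nat.card (stabilizer G x) = 1 := by omega
    exact Subgroup.card_eq_one.mp h1
  obtain ⟨a⟩ : Nonempty α := by
    rw [← Fintype.card_pos_iff, hα]; norm_num
  have h1t : IsMultiplyPretransitive G α 1 :=
    isMultiplyPretransitive_of_le (n := 3) (by omega) (by simp [hα])
  haveI : IsPretransitive G α := is_one_pretransitive_iff.mp h1t
  have h2s : IsMultiplyPretransitive (stabilizer G a) (SubMulAction.ofStabilizer G a) 2 :=
    SubMulAction.ofStabilizer.isMultiplyPretransitive.mp h3
  have hsharp2 := Cfsg.Agent.Helper59.stabilizer_sharp hsharp a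
  have hT : ∀ b c d e : SubMulAction.ofStabilizer G a, b ≠ c → d ≠ e →
      ∃ g : stabilizer G a, g • b = d ∧ g • c = e := by
    intro b c d e hbc hde
    exact twoTrans_of_isMultiplyPretransitive h2s b c d e hbc hde
  have hF : ∀ g : stabilizer G a, g ≠ 1 → ∀ b c : SubMulAction.ofStabilizer G a,
      g • b = b → g • c = c → b = c := by
    intro g hg b c hb hc
    by_contra hbc
    apply hg
    have hmem : g ∈ stabilizer (stabilizer G a) (Function.Embedding.embFinTwo hbc) := by
      rw [mem_stabilizer_iff]
      ext i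
      rw [Function.Embedding.smul_apply]
      fin_cases i
      · exact congrArg Subtype.val hb
      · exact congrArg Subtype.val hc
    rw [hsharp2, Subgroup.mem_bot] at hmem
    exact hmem
  haveI : Fintype (stabilizer G a) := Fintype.ofFinite _
  haveI : Fintype (SubMulAction.ofStabilizer G a) := Fintype.ofFinite _
  have hcard6 : Fintype.card (SubMulAction.ofStabilizer G a) = 6 := by
    rw [← Nat.card_eq_fintype_card, SubMulAction.nat_card_ofStabilizer_eq,
      Nat.card_eq_fintype_card, hα]
  obtain ⟨p, j, hp, hj, hpj, _⟩ :=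
    Cfsg.Agent.S0680.kernelSub_structure hT hF (by rw [hcard6]; norm_num)
  rw [hcard6] at hpj
  have h2 : 2 ∣ p ^ j := by rw [← hpj]; norm_num
  have h3 : 3 ∣ p ^ j := by rw [← hpj]; norm_num
  have e2 := (Nat.prime_dvd_prime_iff_eq Nat.prime_two hp).mp
    (Nat.Prime.dvd_of_dvd_pow Nat.prime_two h2)
  have e3 := (Nat.prime_dvd_prime_iff_eq Nat.prime_three hp).mp
    (Nat.Prime.dvd_of_dvd_pow Nat.prime_three h3)
  omega

/-- Order and Sylow 7-data of a non-solvable transitive group of degree 7 not containing the
alternating group. -/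
theorem card_eq_168 (hα : Fintype.card α = 7) (G : Subgroup (Perm α)) [IsPretransitive G α]
    (hG : ¬ Group.IsSolvable G) (hA : ¬ alternatingGroup α ≤ G) :
    Nat.card G = 168 ∧ IsMultiplyPretransitive G α 2 ∧
      ∀ P : Sylow 7 G, Nat.card (P : Subgroup G) = 7 ∧
        Nat.card (normalizer ((P : Subgroup G) : Set G)) = 21 := by
  classical
  haveI : Fact (Nat.Prime 7) := ⟨by norm_num⟩
  have hΩ : Nat.card α = 7 := by rw [Nat.card_eq_fintype_card]; exact hα
  have h2 : IsMultiplyPretransitive G α 2 :=
    (Cfsg.Agent.S0675.result (by rw [hα]; norm_num) G).resolve_left hG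
  haveI hprim : IsPreprimitive G α := isPreprimitive_of_is_two_pretransitive h2
  -- order constraints
  have hdvd : Nat.card G ∣ 5040 := by
    have h1 := Subgroup.card_subgroup_dvd_card G
    rw [Nat.card_perm, hΩ] at h1
    exact h1
  have h42 : 42 ∣ Nat.card G := by
    have := descFactorial_dvd_card G 2 h2 (by rw [hα]; norm_num)
    rw [hα] at this
    exact this
  obtain ⟨m, hm⟩ : 7 ∣ Nat.card G := dvd_trans (by norm_num) h42
  have hm7 : ¬ 7 ∣ m := by
    rintro ⟨c, hc⟩
    rw [hm, hc] at hdvd
    have h49 : 49 ∣ 5040 := Dvd.dvd.trans ⟨c, by ring⟩ hdvd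
    norm_num at h49
  have hcardP : ∀ P : Sylow 7 G, Nat.card (P : Subgroup G) = 7 := by
    intro P
    have := Cfsg.Agent.Helper17.card_sylow_subgroup_of_card_eq (G := G) (p := 7)
      (k := 1) (m := m) (by rw [hm]; ring) hm7 P
    simpa using this
  have key : ∀ P : Sylow 7 G, Nat.card G = 168 ∧
      Nat.card (normalizer ((P : Subgroup G) : Set G)) = 21 := by
    intro P
    obtain ⟨d, hd6, hNP, hGdn, hn7, _⟩ := sylow_data hΩ P (hcardP P)
    have hd6' : d ∣ 6 := hd6
    set n := Nat.card (Sylow 7 G) with hn
    -- d ≠ 1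
    have hd1 : d ≠ 1 := by
      intro hd1
      rw [hd1, mul_one] at hNP
      obtain ⟨K, hKn, hKcard⟩ := exists_normal_complement P (hcardP P) hNP
      have hK0 : K ≠ ⊥ := by
        intro hK0
        rw [hK0, Subgroup.card_bot, one_mul] at hKcard
        apply hG
        exact Cfsg.Agent.S0144.result 7 2 1 0 (by norm_num) (by norm_num) (by rw [← hKcard]; norm_num)
      haveI : IsPretransitive K α :=
        Cfsg.Agent.Helper59.normal_pretransitive_of_preprimitive (Ω := α) K hK0
      obtain ⟨a⟩ : Nonempty α := by
        rw [← Fintype.card_pos_iff, hα]; norm_num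
      have h1 := MulAction.index_stabilizer_of_transitive K a
      have h2 : (stabilizer K a).index ∣ Nat.card K := Subgroup.index_dvd_card _
      rw [h1, hΩ] at h2
      obtain ⟨c, hc⟩ := h2
      rw [hc] at hKcard
      rw [← hKcard] at hdvd
      have h49 : 49 ∣ 5040 := Dvd.dvd.trans ⟨c, by ring⟩ hdvd
      norm_num at h49
    -- n ≠ 1
    have hn1 : n ≠ 1 := by
      intro hn1
      rw [hn1, mul_one] at hGdn
      have htop : normalizer ((P : Subgroup G) : Set G) = ⊤ :=
        Subgroup.eq_top_of_card_eq _ (by rw [hNP, hGdn])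
      haveI hPn : (P : Subgroup G).Normal := Subgroup.normalizer_eq_top_iff.mp htop
      apply hG
      haveI : Group.IsSolvable (P : Subgroup G) :=
        Cfsg.Agent.S0144.result 7 2 1 0 (by norm_num) (by norm_num) (by rw [hcardP P]; norm_num)
      haveI : Group.IsSolvable (G ⧸ (P : Subgroup G)) := by
        have hq : Nat.card (G ⧸ (P : Subgroup G)) = d := by
          have h1 := Subgroup.card_mul_index (P : Subgroup G)
          rw [hcardP P, ← hGdn] at h1
          have : (P : Subgroup G).index = d := Nat.eq_of_mul_eq_mul_left (by norm_num) h1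
          exact this
        have hdle : d ≤ 6 := Nat.le_of_dvd (by norm_num) hd6'
        have hdpos : 0 < d := Nat.pos_of_dvd_of_pos hd6' (by norm_num)
        interval_cases d
        · exact Cfsg.Agent.S0144.result 2 3 0 0 (by norm_num) (by norm_num) (by rw [hq]; norm_num)
        · exact Cfsg.Agent.S0144.result 2 3 1 0 (by norm_num) (by norm_num) (by rw [hq]; norm_num)
        · exact Cfsg.Agent.S0144.result 2 3 0 1 (by norm_num) (by norm_num) (by rw [hq]; norm_num)
        · norm_num at hd6'
        · norm_num at hd6'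
        · exact Cfsg.Agent.S0144.result 2 3 1 1 (by norm_num) (by norm_num) (by rw [hq]; norm_num)
      exact Group.isSolvable_of_ker_le_range (P : Subgroup G).subtype (QuotientGroup.mk' (P : Subgroup G))
        (by rw [QuotientGroup.ker_mk', Subgroup.range_subtype])
    -- d even gives 3-transitivity
    have h3of : d % 2 = 0 → IsMultiplyPretransitive G α 3 := by
      intro hde
      have heven : Even (Nat.card (normalizer ((P : Subgroup G) : Set G))) := by
        rw [hNP]
        exact Even.mul_left (Nat.even_iff.mpr hde) 7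
      exact Cfsg.Agent.S0676.result hα G hG P heven
    have hd_even : d % 2 = 0 → 30 ∣ d * n := by
      intro hde
      have h3 := h3of hde
      have := descFactorial_dvd_card G 3 h3 (by rw [hα]; norm_num)
      rw [hα, ← hGdn] at this
      have h210 : Nat.descFactorial 7 3 = 7 * 30 := by decide
      rw [h210, mul_assoc] at this
      exact Nat.dvd_of_mul_dvd_mul_left (by norm_num) this
    have hdn720 : d * n ∣ 720 := by
      rw [← hGdn, mul_assoc] at hdvd
      have : 7 * (d * n) ∣ 7 * 720 := by simpa using hdvd
      exact Nat.dvd_of_mul_dvd_mul_left (by norm_num) this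
    have hdn6 : 6 ∣ d * n := by
      rw [← hGdn, mul_assoc] at h42
      have : 7 * 6 ∣ 7 * (d * n) := by simpa using h42
      exact Nat.dvd_of_mul_dvd_mul_left (by norm_num) this
    have hdnpos : 0 < d * n := Nat.pos_of_dvd_of_pos hdn720 (by norm_num)
    have hdpos : 0 < d := Nat.pos_of_mul_pos_right hdnpos
    have hnpos : 0 < n := Nat.pos_of_mul_pos_left hdnpos
    have hnle : n < 721 := by
      have h1 : d * n ≤ 720 := Nat.le_of_dvd (by norm_num) hdn720
      have h2 : n ≤ d * n := Nat.le_mul_of_pos_left n hdpos
      omega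
    have hdmem : d ∈ ({2, 3, 6} : Finset ℕ) := by
      have hdle : d ≤ 6 := Nat.le_of_dvd (by norm_num) hd6'
      interval_cases d <;> simp_all
    have hidx : 7 ≤ 720 / (d * n) := by
      by_contra hlt
      push Not at hlt
      apply hA
      have hci := Subgroup.card_mul_index G
      have h7f : Nat.factorial 7 = 5040 := by decide
      rw [Nat.card_perm, hΩ, ← hGdn, h7f] at hci
      have hj : d * n * G.index = 720 := by
        have : 7 * (d * n * G.index) = 7 * 720 := by
          calc 7 * (d * n * G.index) = 7 * d * n * G.index := by ring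
            _ = 5040 := hci
            _ = 7 * 720 := by norm_num
        exact Nat.eq_of_mul_eq_mul_left (by norm_num) this
      have hjeq : G.index = 720 / (d * n) := by
        rw [← hj, Nat.mul_div_cancel_left _ hdnpos]
      have hjle : G.index ≤ 6 := by omega
      have hlt7 : (G.index).factorial < Nat.card (Perm α) := by
        rw [Nat.card_perm, hΩ]
        exact lt_of_le_of_lt (Nat.factorial_le hjle) (by decide)
      exact alternatingGroup_le_of_index_factorial_lt (by rw [hΩ]; norm_num) G hlt7
    have h630 : 7 * d * n ≠ 630 := by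
      intro h
      have hcard : Nat.card G = 630 := by rw [← hGdn, h]
      have hde : d % 2 = 0 := by
        simp only [Finset.mem_insert, Finset.mem_singleton] at hdmem
        rcases hdmem with rfl | rfl | rfl
        · rfl
        · exfalso; omega
        · rfl
      exact hA (alternating_le_of_630 hα G (h3of hde) hcard)
    have h210 : 7 * d * n ≠ 210 := by
      intro h
      have hcard : Nat.card G = 210 := by rw [← hGdn, h]
      have hde : d % 2 = 0 := by
        simp only [Finset.mem_insert, Finset.mem_singleton] at hdmem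
        rcases hdmem with rfl | rfl | rfl
        · rfl
        · exfalso; omega
        · rfl
      exact false_of_210 hα G (h3of hde) hcard
    have hn7' : n % 7 = 1 := by simpa using hn7
    obtain ⟨hd3, hn8⟩ := arith7 d hdmem n hnle
      ⟨hdn720, hn7', by omega, hdn6, hd_even, hidx, h630, h210⟩
    constructor
    · rw [← hGdn, hd3, hn8]
    · rw [hNP, hd3]
  obtain ⟨P⟩ : Nonempty (Sylow 7 G) := inferInstance
  exact ⟨(key P).1, h2, fun Q => ⟨hcardP Q, (key Q).2⟩⟩

/-- A non-solvable transitive group of degree 7 not containing the alternating group is simple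
of order 168. -/
theorem simple_168 (hα : Fintype.card α = 7) (G : Subgroup (Perm α)) [IsPretransitive G α]
    (hG : ¬ Group.IsSolvable G) (hA : ¬ alternatingGroup α ≤ G) :
    Nat.card G = 168 ∧ IsSimpleGroup G := by
  classical
  haveI : Fact (Nat.Prime 7) := ⟨by norm_num⟩
  have hΩ : Nat.card α = 7 := by rw [Nat.card_eq_fintype_card]; exact hα
  obtain ⟨hcard, h2, hsyl⟩ := card_eq_168 hα G hG hA
  refine ⟨hcard, ?_⟩
  haveI hprim : IsPreprimitive G α := isPreprimitive_of_is_two_pretransitive h2
  haveI : Nontrivial G := by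
    rw [← Finite.one_lt_card_iff_nontrivial, hcard]; norm_num
  refine ⟨fun N hNn => ?_⟩
  by_cases hN : N = ⊥
  · exact Or.inl hN
  right
  obtain ⟨M, hMn, hM0, hMN, hMmin⟩ := exists_minimal_normal N hNn hN
  haveI := hMn
  suffices hM : M = ⊤ by
    rw [eq_top_iff, ← hM]; exact hMN
  haveI hMt : IsPretransitive M α :=
    Cfsg.Agent.Helper59.normal_pretransitive_of_preprimitive (Ω := α) M hM0
  obtain ⟨a⟩ : Nonempty α := by
    rw [← Fintype.card_pos_iff, hα]; norm_num
  have hidxst : (stabilizer M a).index = 7 := by
    rw [MulAction.index_stabilizer_of_transitive M a, hΩ]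
  have h7 : 7 ∣ Nat.card M := by
    rw [← hidxst]; exact Subgroup.index_dvd_card _
  -- a Sylow 7-subgroup inside M
  obtain ⟨x, hx⟩ := exists_prime_orderOf_dvd_card' (G := M) 7 h7
  have hxo : orderOf (x : G) = 7 := by rw [Subgroup.orderOf_coe]; exact hx
  have hzc : Nat.card (zpowers (x : G)) = 7 := by rw [Nat.card_zpowers, hxo]
  have hpg : IsPGroup 7 (zpowers (x : G)) := IsPGroup.of_card (n := 1) (by rw [hzc]; norm_num)
  obtain ⟨P, hP⟩ := hpg.exists_le_sylow
  obtain ⟨hPcard, hnorm⟩ := hsyl P
  have hPeq : zpowers (x : G) = P :=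
    Subgroup.eq_of_le_of_card_ge hP (by rw [hzc, hPcard])
  have hPM : (P : Subgroup G) ≤ M := by
    rw [← hPeq, Subgroup.zpowers_le]; exact x.2
  have hfr : normalizer ((P : Subgroup G) : Set G) ⊔ M = ⊤ := Sylow.normalizer_sup_eq_top' P hPM
  have hidx : M.index = M.relIndex (normalizer ((P : Subgroup G) : Set G)) := by
    have h1 : M.relIndex (normalizer ((P : Subgroup G) : Set G) ⊔ M) =
        M.relIndex (normalizer ((P : Subgroup G) : Set G)) := Subgroup.relIndex_sup_right _ _
    rw [← h1, hfr, Subgroup.relIndex_top_right]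
  have hK1 : (M ⊓ normalizer ((P : Subgroup G) : Set G)).relIndex
      (normalizer ((P : Subgroup G) : Set G)) = M.index := by
    rw [hidx, Subgroup.inf_relIndex_right]
  have hK2 : Nat.card ↥(M ⊓ normalizer ((P : Subgroup G) : Set G)) *
      (M ⊓ normalizer ((P : Subgroup G) : Set G)).relIndex
        (normalizer ((P : Subgroup G) : Set G)) = 21 := by
    have := Subgroup.relIndex_mul_relIndex (H := (⊥ : Subgroup G))
      (K := M ⊓ normalizer ((P : Subgroup G) : Set G))
      (L := normalizer ((P : Subgroup G) : Set G)) bot_le inf_le_right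
    rw [Subgroup.relIndex_bot_left, Subgroup.relIndex_bot_left, hnorm] at this
    exact this
  have hK3 : 7 ∣ Nat.card ↥(M ⊓ normalizer ((P : Subgroup G) : Set G)) := by
    have := Subgroup.card_dvd_of_le (le_inf hPM (Subgroup.le_normalizer (H := (P : Subgroup G))))
    rwa [hPcard] at this
  rw [hK1] at hK2
  have hMcard := Subgroup.card_mul_index M
  rw [hcard] at hMcard
  obtain ⟨k, hk⟩ := hK3
  rw [hk] at hK2
  have h3 : k * M.index = 3 := by
    have : 7 * (k * M.index) = 7 * 3 := by rw [← mul_assoc]; exact hK2
    exact Nat.eq_of_mul_eq_mul_left (by norm_num) this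
  have hdvd : M.index ∣ 3 := Dvd.intro_left k h3
  rw [← Subgroup.index_eq_one]
  rcases (Nat.dvd_prime (by norm_num : Nat.Prime 3)).mp hdvd with h | h
  · exact h
  · exfalso
    rw [h] at hMcard
    have hM56 : Nat.card M = 56 := by omega
    rcases burnside_two_transitive h2 M hM0 hMmin with ⟨_, _, hreg⟩ | ⟨hsimp, _⟩
    · have := hidxst
      rw [hreg a, Subgroup.index_bot, hM56] at this
      norm_num at this
    · haveI := hsimp
      have hsolv : Group.IsSolvable M :=
        Cfsg.Agent.S0144.result 2 7 3 1 (by norm_num) (by norm_num) (by rw [hM56]; norm_num)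
      have hcomm := IsSimpleGroup.comm_iff_isSolvable.mpr hsolv
      have hnp : ¬ (Nat.card M).Prime := by rw [hM56]; norm_num
      exact Cfsg.Agent.Helper17.not_comm_of_simple_of_not_prime hnp ⟨⟨hcomm⟩⟩

end Main

end Cfsg.Agent.Helper61.Deg7
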