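import Mathlib

set_option autoImplicit false

namespace Cfsg.Agent.Helper61.DesignTrace

open Matrix

/-- permutation matrix of a permutation -/
def pm {ι : Type*} [DecidableEq ι] (σ : Equiv.Perm ι) : Matrix ι ι ℚ :=
  fun i j => if σ i = j then 1 else 0

theorem pm_mul {ι κ : Type*} [Fintype ι] [DecidableEq ι] (σ : Equiv.Perm ι) (M : Matrix ι κ ℚ)
    (i : ι) (k : κ) : (pm σ * M) i k = M (σ i) k := by
  rw [Matrix.mul_apply, Finset.sum_eq_single (σ i)]
  · simp [pm]
  · intro j _ hj
    simp [pm, Ne.symm hj]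
  · intro h
    exact absurd (Finset.mem_univ _) h

theorem mul_pm {ι κ : Type*} [Fintype κ] [DecidableEq κ] (τ : Equiv.Perm κ) (M : Matrix ι κ ℚ)
    (i : ι) (k : κ) : (M * pm τ) i k = M i (τ.symm k) := by
  rw [Matrix.mul_apply, Finset.sum_eq_single (τ.symm k)]
  · simp [pm]
  · intro j _ hj
    have : τ j ≠ k := by
      intro h
      apply hj
      rw [← h, Equiv.symm_apply_apply]
    simp [pm, this]
  · intro h
    exact absurd (Finset.mem_univ _) h

theorem trace_pm {ι : Type*} [Fintype ι] [DecidableEq ι] (σ : Equiv.Perm ι) :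
    Matrix.trace (pm σ) = ((Finset.univ.filter (fun i => σ i = i)).card : ℚ) := by
  rw [Matrix.trace]
  simp only [Matrix.diag_apply, pm]
  rw [Finset.sum_boole]

variable {Ω X : Type*} [Fintype Ω] [Fintype X] [DecidableEq Ω] [DecidableEq X]

/-- If an invertible (rectangular) matrix intertwines two permutations, they have the same number of
fixed points. -/
theorem card_fixed_eq (A : Matrix Ω X ℚ) (B : Matrix X Ω ℚ) (hAB : A * B = 1) (hBA : B * A = 1)
    (σ : Equiv.Perm Ω) (τ : Equiv.Perm X) (heq : ∀ b x, A (σ b) (τ x) = A b x) :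
    (Finset.univ.filter (fun b => σ b = b)).card = (Finset.univ.filter (fun x => τ x = x)).card := by
  have h1 : pm σ * A = A * pm τ := by
    ext b x
    rw [pm_mul, mul_pm]
    have := heq b (τ.symm x)
    rw [Equiv.apply_symm_apply] at this
    exact this
  have h2 : Matrix.trace (pm τ) = Matrix.trace (pm σ) := by
    calc Matrix.trace (pm τ) = Matrix.trace ((B * A) * pm τ) := by rw [hBA, Matrix.one_mul]
      _ = Matrix.trace (B * (A * pm τ)) := by rw [Matrix.mul_assoc]
      _ = Matrix.trace (B * (pm σ * A)) := by rw [h1]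
      _ = Matrix.trace ((pm σ * A) * B) := Matrix.trace_mul_comm _ _
      _ = Matrix.trace (pm σ * (A * B)) := by rw [Matrix.mul_assoc]
      _ = Matrix.trace (pm σ) := by rw [hAB, Matrix.mul_one]
  rw [trace_pm, trace_pm] at h2
  exact_mod_cast h2.symm

/-- The incidence matrix of a (possibly degenerate) symmetric 2-design is invertible. -/
theorem exists_inverse (A : Matrix Ω X ℚ) (hcard : Fintype.card Ω = Fintype.card X) (r l : ℚ)
    (hl : 0 ≤ l) (hlr : l < r) (hA : ∀ b c, (A * Aᵀ) b c = if b = c then r else l) :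
    ∃ B : Matrix X Ω ℚ, A * B = 1 ∧ B * A = 1 := by
  have hker : ∀ u : Ω → ℚ, (A * Aᵀ).mulVec u = 0 → u = 0 := by
    intro u hu
    have hb : ∀ b, (r - l) * u b + l * ∑ c, u c = 0 := by
      intro b
      have h1 := congrFun hu b
      rw [Matrix.mulVec, dotProduct] at h1
      simp only [Pi.zero_apply] at h1
      rw [← h1]
      have h2 : ∀ c, (A * Aᵀ) b c * u c = (if b = c then (r - l) * u c else 0) + l * u c := by
        intro c
        rw [hA b c]
        split_ifs <;> ring
      rw [Finset.sum_congr rfl (fun c _ => h2 c), Finset.sum_add_distrib, Finset.sum_ite_eq,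
        if_pos (Finset.mem_univ _), Finset.mul_sum]
    have hS : ∑ c, u c = 0 := by
      have h3 : ∑ b, ((r - l) * u b + l * ∑ c, u c) = 0 :=
        Finset.sum_eq_zero (fun b _ => hb b)
      rw [Finset.sum_add_distrib, ← Finset.mul_sum, Finset.sum_const, Finset.card_univ,
        nsmul_eq_mul] at h3
      have h4 : (r - l + (Fintype.card Ω : ℚ) * l) * ∑ c, u c = 0 := by linarith
      have h5 : 0 < r - l + (Fintype.card Ω : ℚ) * l := by
        have : (0 : ℚ) ≤ (Fintype.card Ω : ℚ) * l := mul_nonneg (Nat.cast_nonneg _) hl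
        linarith
      rcases mul_eq_zero.1 h4 with h | h
      · exact absurd h h5.ne'
      · exact h
    funext b
    have := hb b
    rw [hS, mul_zero, add_zero] at this
    rcases mul_eq_zero.1 this with h | h
    · exfalso; linarith
    · exact h
  have hinj : Function.Injective (A * Aᵀ).mulVec := by
    intro v w hvw
    have : (A * Aᵀ).mulVec (v - w) = 0 := by rw [Matrix.mulVec_sub, hvw, sub_self]
    exact sub_eq_zero.1 (hker _ this)
  have hunit : IsUnit (A * Aᵀ) := Matrix.mulVec_injective_iff_isUnit.1 hinj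
  have hdet : IsUnit (A * Aᵀ).det := (Matrix.isUnit_iff_isUnit_det _).1 hunit
  have hAB : A * (Aᵀ * (A * Aᵀ)⁻¹) = 1 := by
    rw [← Matrix.mul_assoc]
    exact Matrix.mul_nonsing_inv _ hdet
  exact ⟨Aᵀ * (A * Aᵀ)⁻¹, hAB, (Matrix.mul_eq_one_comm_of_equiv (Fintype.equivOfCardEq hcard)).1 hAB⟩

end Cfsg.Agent.Helper61.DesignTrace
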