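import Mathlib

/-!
# Strongly regular Cayley graphs on dihedral groups of twice odd order: definitions

Used for the rank three case of Wielandt's theorem that dihedral groups are B-groups (needed for
S3616).  `T` is the connection set, `A`/`B` its rotation / reflection parts inside `ZMod e`.
-/

set_option autoImplicit false

namespace Cfsg.Agent.Helper61.Dih

open DihedralGroup Finset

/-- `T` is the connection set of a strongly regular Cayley graph with parameters `k, lam, mu`
on the group `D` (`c ∈ T`, `c⁻¹ d ∈ T` counts the common neighbours of `1` and `d`). -/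
structure IsSrgSet {D : Type*} [Group D] [DecidableEq D] (T : Finset D) (k lam mu : ℕ) :
    Prop where
  one_notMem : (1 : D) ∉ T
  inv_mem : ∀ d ∈ T, d⁻¹ ∈ T
  card_eq : T.card = k
  count : ∀ d : D, d ≠ 1 → (T.filter (fun c => c⁻¹ * d ∈ T)).card = if d ∈ T then lam else mu

variable {e : ℕ} [NeZero e]

/-- the rotations `r i` in `T` -/
def rotPart (T : Finset (DihedralGroup e)) : Finset (ZMod e) := univ.filter (fun i => r i ∈ T)

/-- the reflections `sr i` in `T` -/
def refPart (T : Finset (DihedralGroup e)) : Finset (ZMod e) := univ.filter (fun i => sr i ∈ T)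

theorem mem_rotPart {T : Finset (DihedralGroup e)} {i : ZMod e} : i ∈ rotPart T ↔ r i ∈ T := by
  simp [rotPart]

theorem mem_refPart {T : Finset (DihedralGroup e)} {i : ZMod e} : i ∈ refPart T ↔ sr i ∈ T := by
  simp [refPart]

/-- The strongly regular Cayley graph condition written inside `ZMod e`: `A` is the rotation part,
`B` the reflection part of the connection set. -/
structure DihData (e : ℕ) [NeZero e] (A B : Finset (ZMod e)) (k lam mu : ℤ) : Prop where
  zero_notMem : (0 : ZMod e) ∉ A
  neg_mem : ∀ i ∈ A, -i ∈ A
  card_add : (A.card : ℤ) + (B.card : ℤ) = k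
  rot : ∀ x : ZMod e, x ≠ 0 →
    ((A.filter (fun i => x - i ∈ A)).card : ℤ) + ((B.filter (fun j => j + x ∈ B)).card : ℤ) =
      if x ∈ A then lam else mu
  refl : ∀ x : ZMod e, 2 * ((A.filter (fun i => x + i ∈ B)).card : ℤ) = if x ∈ B then lam else mu

/-- complementary rotation part -/
def compA (A : Finset (ZMod e)) : Finset (ZMod e) := univ.filter (fun i => i ≠ 0 ∧ i ∉ A)

/-- complementary reflection part -/
def compB (B : Finset (ZMod e)) : Finset (ZMod e) := univ.filter (fun i => i ∉ B)

/-- the "sign" eigenvalue `|A| - |B|` -/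
def sgn (A B : Finset (ZMod e)) : ℤ := (A.card : ℤ) - (B.card : ℤ)

/-- the other root of the quadratic -/
def sgn' (A B : Finset (ZMod e)) (lam mu : ℤ) : ℤ := (lam - mu) - sgn A B

/-- the character sum of a set -/
noncomputable def csum (ψ : AddChar (ZMod e) ℂ) (S : Finset (ZMod e)) : ℂ := ∑ i ∈ S, ψ i

/-- the indicator element of a finset in the integral group algebra -/
noncomputable def ind {D : Type*} (S : Finset D) : MonoidAlgebra ℤ D :=
  ∑ d ∈ S, MonoidAlgebra.single d 1

/-- Lucas pair `(U n, V n)` with `t ^ n ≡ U n * t + V n` for the recursion `t² = α + β t` -/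
def luc (α β : ℤ) : ℕ → ℤ × ℤ
  | 0 => (0, 1)
  | n + 1 => (β * (luc α β n).1 + (luc α β n).2, α * (luc α β n).1)

end Cfsg.Agent.Helper61.Dih
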