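import Cfsg.Agent.Helper61.DihDefs
import Cfsg.Agent.Helper11.DihSG
import Cfsg.Agent.Helper33.DihFR1
import Cfsg.Agent.Helper48.DihP4b
import Cfsg.Agent.Helper48.DihP4c
import Cfsg.Agent.Helper50.DihP1
import Cfsg.Agent.Helper55.DihFR2
import Cfsg.Agent.Helper55.DihFR2b
import Cfsg.Agent.Helper66.DihARITH
import Cfsg.Agent.Helper66.DihP2
import Cfsg.Agent.Helper66.DihP4d
import Cfsg.Agent.Helper68.DihCOMPL
import Cfsg.Agent.Helper68.DihD0
import Cfsg.Agent.Helper76.DihCH1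
import Cfsg.Agent.Helper76.DihCH2
import Cfsg.Agent.Helper87.DihCYC
import Cfsg.Agent.Helper87.DihFR3
import Cfsg.Agent.Helper97.DihP3
import Cfsg.Agent.Helper97.DihP4a

/-!
# The pieces of the dihedral strongly regular theorem, collected under uniform names

Proved by helper11 (SG1-3), helper33 (FR1), helper48 (P4b, P4c), helper50 (P1), helper55 (FR2, FR2b),
helper66 (ARITH, P2, P4d), helper68 (COMPL, D0), helper76 (CH1, CH2), helper87 (CYC, FR3),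
helper97 (P3, P4a).
-/

set_option autoImplicit false

namespace Cfsg.Agent.Helper61.Dih

open DihedralGroup Finset

variable {e : ℕ} [NeZero e]

theorem dihData_of_isSrgSet {T : Finset (DihedralGroup e)} {k lam mu : ℕ}
    (h : IsSrgSet T k lam mu) : DihData e (rotPart T) (refPart T) (k : ℤ) (lam : ℤ) (mu : ℤ) :=
  Cfsg.Agent.Helper68.Dih.dihData_of_isSrgSet h

theorem DihData.compl {A B : Finset (ZMod e)} {k lam mu : ℤ} (h : DihData e A B k lam mu) :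
    DihData e (compA A) (compB B) (2 * e - 1 - k) (2 * e - 2 - 2 * k + mu) (2 * e - 2 * k + lam) :=
  Cfsg.Agent.Helper68.Dih.DihData.compl h

theorem DihData.sgn_sq {A B : Finset (ZMod e)} {k lam mu : ℤ} (h : DihData e A B k lam mu) :
    sgn A B ^ 2 = (k - mu) + (lam - mu) * sgn A B :=
  Cfsg.Agent.Helper11.Dih.DihData.sgn_sq h

theorem DihData.k_sq {A B : Finset (ZMod e)} {k lam mu : ℤ} (h : DihData e A B k lam mu) :
    k ^ 2 = k + lam * k + mu * (2 * e - 1 - k) :=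
  Cfsg.Agent.Helper11.Dih.DihData.k_sq h

theorem DihData.two_mul_card {A B : Finset (ZMod e)} {k lam mu : ℤ} (h : DihData e A B k lam mu) :
    2 * (A.card : ℤ) * B.card = lam * B.card + mu * (e - B.card) :=
  Cfsg.Agent.Helper11.Dih.DihData.two_mul_card h

theorem DihData.csum_refl {A B : Finset (ZMod e)} {k lam mu : ℤ} (h : DihData e A B k lam mu)
    (ψ : AddChar (ZMod e) ℂ) (hψ : ψ ≠ 1) :
    (2 * csum ψ A - ((lam : ℂ) - mu)) * csum ψ B = 0 :=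
  Cfsg.Agent.Helper76.Dih.csum_refl h ψ hψ

theorem DihData.csum_rot {A B : Finset (ZMod e)} {k lam mu : ℤ} (h : DihData e A B k lam mu)
    (ψ : AddChar (ZMod e) ℂ) (hψ : ψ ≠ 1) :
    csum ψ A ^ 2 + csum ψ B * (starRingEnd ℂ) (csum ψ B) =
      ((k : ℂ) - mu) + ((lam : ℂ) - mu) * csum ψ A :=
  Cfsg.Agent.Helper76.Dih.csum_rot h ψ hψ

theorem cyc_const {q : ℕ} [Fact q.Prime] (ψ : AddChar (ZMod q) ℂ) (hψ : ψ ≠ 1) (n : ZMod q → ℤ)
    (h : ∑ c, (n c : ℂ) * ψ c = 0) : ∀ c, n c = n 0 :=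
  Cfsg.Agent.Helper87.Dih.cyc_const ψ hψ n h

theorem ind_mul_ind {T : Finset (DihedralGroup e)} {k lam mu : ℕ} (h : IsSrgSet T k lam mu) :
    (ind T * ind T : MonoidAlgebra ℤ (DihedralGroup e)) =
        ((k : ℤ) - mu) • (1 : MonoidAlgebra ℤ (DihedralGroup e)) + ((lam : ℤ) - mu) • ind T
          + (mu : ℤ) • ind (univ : Finset (DihedralGroup e)) ∧
      (ind T * ind (univ : Finset (DihedralGroup e)) : MonoidAlgebra ℤ (DihedralGroup e)) =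
        (k : ℤ) • ind (univ : Finset (DihedralGroup e)) :=
  Cfsg.Agent.Helper33.Dih.ind_mul_ind h

theorem pow_eq_luc {R : Type*} [Ring R] (t J : R) (α β μ k : ℤ)
    (h1 : t * t = α • (1 : R) + β • t + μ • J) (h2 : t * J = k • J) (n : ℕ) :
    ∃ κ : ℤ, t ^ n = (luc α β n).1 • t + (luc α β n).2 • (1 : R) + κ • J :=
  Cfsg.Agent.Helper55.Dih.pow_eq_luc t J α β μ k h1 h2 n

theorem luc_fst_prime (s s' : ℤ) (q : ℕ) [Fact q.Prime] :
    (((luc (-(s * s')) (s + s') q).1 : ℤ) : ZMod q) = ((s - s' : ℤ) : ZMod q) ^ (q - 1) :=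
  Cfsg.Agent.Helper55.Dih.luc_fst_prime s s' q

theorem coeff_pow_rot (T : Finset (DihedralGroup e)) (hinv : ∀ d ∈ T, d⁻¹ ∈ T) (q : ℕ)
    [Fact q.Prime] (hq2 : q ≠ 2) (x : ZMod e) :
    ((((ind T : MonoidAlgebra ℤ (DihedralGroup e)) ^ q).coeff (r x) : ℤ) : ZMod q) =
      (((rotPart T).filter (fun i => q • i = x)).card : ZMod q) :=
  Cfsg.Agent.Helper87.Dih.coeff_pow_rot T hinv q hq2 x

theorem P1 {A B : Finset (ZMod e)} {k lam mu : ℤ} (h : DihData e A B k lam mu) (hmu : 0 < mu)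
    (q : ℕ) [Fact q.Prime] (hqe : q ∣ e) (hndvd : ¬ (q : ℤ) ∣ sgn A B - sgn' A B lam mu)
    (hsub : ∀ x ∈ A, ∃ y : ZMod e, q • y = x) : False :=
  Cfsg.Agent.Helper50.Dih.P1 h hmu q hqe hndvd hsub

theorem P2 {A : Finset (ZMod e)} (q : ℕ) [Fact q.Prime] (hqe : q ∣ e)
    (hdiv : ∀ y : ZMod e, y ≠ 0 → q ∣ (A.filter (fun i => q • i = y)).card)
    (x u : ZMod e) (hu : q • u = 0) (hx : q • x ≠ 0) : x ∈ A ↔ x + u ∈ A :=
  Cfsg.Agent.Helper66.Dih.P2 q hqe hdiv x u hu hx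

theorem P3 {A B : Finset (ZMod e)} {k lam mu : ℤ} (h : DihData e A B k lam mu) (hmu : 0 < mu)
    (hmu' : 0 < 2 * (e : ℤ) - 2 * k + lam) (q : ℕ) [Fact q.Prime] (hqe : q ∣ e)
    (hper : ∀ x u : ZMod e, q • u = 0 → q • x ≠ 0 → (x ∈ A ↔ x + u ∈ A)) :
    (∀ u : ZMod e, q • u = 0 → u ∉ A) ∨ (∀ u : ZMod e, q • u = 0 → u ≠ 0 → u ∈ A) :=
  Cfsg.Agent.Helper97.Dih.P3_of h hmu hmu' q hqe hper h.csum_refl h.csum_rot h.sgn_sq
    (fun ψ hψ n hn => cyc_const ψ hψ n hn)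

theorem P4a {A B : Finset (ZMod e)} {k lam mu : ℤ} (h : DihData e A B k lam mu) (hmu : 0 < mu)
    (hmu' : 0 < 2 * (e : ℤ) - 2 * k + lam) (q : ℕ) [Fact q.Prime] (hqe : q ∣ e)
    (hper : ∀ x u : ZMod e, q • u = 0 → q • x ≠ 0 → (x ∈ A ↔ x + u ∈ A))
    (hdisj : ∀ u : ZMod e, q • u = 0 → u ∉ A) : lam = mu :=
  Cfsg.Agent.Helper97.Dih.P4a_of h hmu hmu' q hqe hper hdisj h.csum_refl h.csum_rot h.k_sq

theorem P4b {A B : Finset (ZMod e)} {k lam mu : ℤ} (h : DihData e A B k lam mu)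
    (q : ℕ) [Fact q.Prime]
    (hper : ∀ x u : ZMod e, q • u = 0 → q • x ≠ 0 → (x ∈ A ↔ x + u ∈ A))
    (hdisj : ∀ u : ZMod e, q • u = 0 → u ∉ A) (u : ZMod e) (hu : q • u = 0) (hu0 : u ≠ 0) :
    ((B.filter (fun j => j + u ∈ B)).card : ℤ) = mu - A.card :=
  Cfsg.Agent.Helper48.Dih.P4b h q hper hdisj u hu hu0

theorem P4c (B : Finset (ZMod e)) (q : ℕ) [Fact q.Prime] (hqe : q ∣ e) :
    q * B.card ^ 2 ≤
      e * ∑ u ∈ (univ.filter (fun u : ZMod e => q • u = 0)), (B.filter (fun j => j + u ∈ B)).card :=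
  Cfsg.Agent.Helper48.Dih.P4c B q hqe

theorem card_torsion (q : ℕ) [Fact q.Prime] (hqe : q ∣ e) :
    (univ.filter (fun u : ZMod e => q • u = 0)).card = q :=
  Cfsg.Agent.Helper66.Dih.card_torsion q hqe

theorem arith (a b e q mu s : ℤ) (hs : s = a - b) (hs2 : s ^ 2 = a + b - mu)
    (h2ab : 2 * a * b = mu * e) (hq3 : 3 ≤ q) (hqs : q ∣ s) (hs0 : s ≠ 0) (hb0 : 0 < b)
    (hbe : b < e) (hCS : q * b ^ 2 ≤ e * (b + (q - 1) * (mu - a))) : False :=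
  Cfsg.Agent.Helper66.Dih.arith a b e q mu s hs hs2 h2ab hq3 hqs hs0 hb0 hbe hCS

end Cfsg.Agent.Helper61.Dih
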