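import Mathlib

set_option autoImplicit false

namespace Cfsg.Agent.Helper61

open Matrix

/-- One step of the recurrence for the coefficients of `g ^ n = u • g + v • 1`
for a `2 × 2` matrix of determinant one and trace `t`. -/
def pcStep {R : Type*} [CommRing R] (t : R) (p : R × R) : R × R := (t * p.1 + p.2, -p.1)

/-- Coefficients `(u, v)` with `g ^ n = u • g + v • 1`. -/
def powCoeff {R : Type*} [CommRing R] (t : R) (n : ℕ) : R × R := (pcStep t)^[n] (0, 1)

theorem powCoeff_zero {R : Type*} [CommRing R] (t : R) : powCoeff t 0 = (0, 1) := rfl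

theorem powCoeff_succ {R : Type*} [CommRing R] (t : R) (n : ℕ) :
    powCoeff t (n + 1) = pcStep t (powCoeff t n) := by
  unfold powCoeff
  rw [Function.iterate_succ_apply']

theorem powCoeff_map {R S : Type*} [CommRing R] [CommRing S] (f : R →+* S) (t : R) (n : ℕ) :
    powCoeff (f t) n = (f (powCoeff t n).1, f (powCoeff t n).2) := by
  induction n with
  | zero => simp [powCoeff_zero]
  | succ n ih =>
    rw [powCoeff_succ, powCoeff_succ, ih]
    simp [pcStep]

/-- Cayley–Hamilton for `2 × 2` matrices of determinant one. -/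
theorem sq_eq_of_det_one {R : Type*} [CommRing R] (g : Matrix (Fin 2) (Fin 2) R)
    (hdet : g.det = 1) : g * g = g.trace • g - 1 := by
  rw [Matrix.det_fin_two] at hdet
  ext i j
  fin_cases i <;> fin_cases j <;>
    simp [Matrix.mul_apply, Fin.sum_univ_two, Matrix.trace_fin_two]
  · linear_combination (-1 : R) * hdet
  · ring
  · ring
  · linear_combination (-1 : R) * hdet

theorem pow_eq_powCoeff {R : Type*} [CommRing R] (g : Matrix (Fin 2) (Fin 2) R)
    (hdet : g.det = 1) (n : ℕ) :
    g ^ n = (powCoeff g.trace n).1 • g + (powCoeff g.trace n).2 • (1 : Matrix (Fin 2) (Fin 2) R) := by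
  induction n with
  | zero => simp [powCoeff_zero]
  | succ n ih =>
    rw [pow_succ, ih, powCoeff_succ]
    simp only [pcStep]
    rw [add_mul, smul_mul_assoc, smul_mul_assoc, one_mul, sq_eq_of_det_one g hdet]
    module

/-- The property of a trace `t`: "the `n`-th power of a non-central element of trace `t` is central". -/
def TrOrd {F : Type*} [CommRing F] (t : F) (n : ℕ) : Prop :=
  (powCoeff t n).1 = 0 ∧ (powCoeff t n).2 ^ 2 = 1

instance instDecidableTrOrd {F : Type*} [CommRing F] [DecidableEq F] (t : F) (n : ℕ) :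
    Decidable (TrOrd t n) := by
  unfold TrOrd
  infer_instance

theorem trOrd_map {R S : Type*} [CommRing R] [CommRing S] (f : R →+* S)
    (hf : Function.Injective f) (t : R) (n : ℕ) : TrOrd (f t) n ↔ TrOrd t n := by
  unfold TrOrd
  rw [powCoeff_map]
  simp only
  rw [← map_pow, map_eq_zero_iff f hf, ← map_one f, hf.eq_iff]

section PSL

variable {F : Type*} [Field F]

/-- The trace of an element of `SL(2, F)`. -/
def slTrace (g : Matrix.SpecialLinearGroup (Fin 2) F) : F := g.1.trace

theorem mk_pow_eq_one_iff (g : Matrix.SpecialLinearGroup (Fin 2) F)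
    (hg : g ∉ Subgroup.center (Matrix.SpecialLinearGroup (Fin 2) F)) (n : ℕ) :
    ((QuotientGroup.mk g : Matrix.ProjectiveSpecialLinearGroup (Fin 2) F) ^ n = 1) ↔
      TrOrd (slTrace g) n := by
  rw [← QuotientGroup.mk_pow, QuotientGroup.eq_one_iff, Matrix.SpecialLinearGroup.mem_center_iff]
  have hpow := pow_eq_powCoeff g.1 g.2 n
  unfold TrOrd slTrace
  set u := (powCoeff g.1.trace n).1 with hu
  set v := (powCoeff g.1.trace n).2 with hv
  rw [Fintype.card_fin]
  constructor
  · rintro ⟨r, hr, hrg⟩
    have h1 : (g ^ n).1 = u • g.1 + v • (1 : Matrix (Fin 2) (Fin 2) F) := by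
      rw [Matrix.SpecialLinearGroup.coe_pow]
      exact hpow
    rw [← hrg] at h1
    have hu0 : u = 0 := by
      by_contra hne
      apply hg
      rw [Matrix.SpecialLinearGroup.mem_center_iff]
      -- `g` is the scalar matrix `(r - v) / u`
      have hgs : g.1 = ((r - v) / u) • (1 : Matrix (Fin 2) (Fin 2) F) := by
        have h2 : u • g.1 = (r - v) • (1 : Matrix (Fin 2) (Fin 2) F) := by
          rw [Matrix.scalar_apply, ← Matrix.smul_one_eq_diagonal] at h1
          rw [sub_smul, h1]
          abel
        calc g.1 = u⁻¹ • (u • g.1) := by rw [smul_smul, inv_mul_cancel₀ hne, one_smul]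
          _ = ((r - v) / u) • (1 : Matrix (Fin 2) (Fin 2) F) := by
            rw [h2, smul_smul, div_eq_inv_mul]
      refine ⟨(r - v) / u, ?_, ?_⟩
      · rw [Fintype.card_fin]
        have hdet := g.2
        rw [hgs, Matrix.det_smul, Matrix.det_one, Fintype.card_fin, mul_one] at hdet
        exact hdet
      · rw [hgs]
        simp [Matrix.smul_one_eq_diagonal]
    refine ⟨hu0, ?_⟩
    rw [hu0, zero_smul, zero_add] at h1
    have h3 := congrFun (congrFun h1 0) 0
    simp at h3
    rw [← h3]
    exact hr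
  · rintro ⟨hu0, hv2⟩
    refine ⟨v, hv2, ?_⟩
    rw [Matrix.SpecialLinearGroup.coe_pow, hpow, hu0, zero_smul, zero_add]
    simp [Matrix.smul_one_eq_diagonal]

/-- The companion matrix of `X ^ 2 - t X + 1`, an element of `SL(2, F)` of trace `t`. -/
def companion (t : F) : Matrix.SpecialLinearGroup (Fin 2) F :=
  ⟨!![0, -1; 1, t], by simp [Matrix.det_fin_two]⟩

theorem slTrace_companion (t : F) : slTrace (companion t) = t := by
  simp [slTrace, companion, Matrix.trace_fin_two]

theorem companion_not_mem_center (t : F) :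
    companion t ∉ Subgroup.center (Matrix.SpecialLinearGroup (Fin 2) F) := by
  rw [Matrix.SpecialLinearGroup.mem_center_iff]
  rintro ⟨r, -, hr⟩
  have := congrFun (congrFun hr 1) 0
  simp [companion] at this

/-- A trace of "order" a prime `p` yields an element of order `p` in `PSL(2, F)`. -/
theorem exists_orderOf_eq_prime_of_trOrd (p : ℕ) [hp : Fact p.Prime] (t : F) (ht : TrOrd t p) :
    ∃ x : Matrix.ProjectiveSpecialLinearGroup (Fin 2) F, orderOf x = p := by
  refine ⟨QuotientGroup.mk (companion t), ?_⟩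
  apply orderOf_eq_prime
  · rw [mk_pow_eq_one_iff _ (companion_not_mem_center t), slTrace_companion]
    exact ht
  · intro h
    rw [QuotientGroup.eq_one_iff] at h
    exact companion_not_mem_center t h

/-- The certificate that `PSL(2, F)` has prime graph on `{2, 3, 7}` with no edges. -/
structure Cert237 (F : Type*) [CommRing F] : Prop where
  E : ∃ E : ℕ, (∀ p : ℕ, p.Prime → p ∣ E → p = 2 ∨ p = 3 ∨ p = 7) ∧ ∀ t : F, TrOrd t E
  two : ∃ t : F, TrOrd t 2
  three : ∃ t : F, TrOrd t 3
  seven : ∃ t : F, TrOrd t 7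
  no6 : ∀ t : F, TrOrd t (2 * 3) → TrOrd t 2 ∨ TrOrd t 3
  no14 : ∀ t : F, TrOrd t (2 * 7) → TrOrd t 2 ∨ TrOrd t 7
  no21 : ∀ t : F, TrOrd t (3 * 7) → TrOrd t 3 ∨ TrOrd t 7

/-- A group has the prime graph on `{2, 3, 7}` with no edges. -/
def IsGraph237 (G : Type*) [Group G] : Prop :=
  (∀ p : ℕ, p.Prime → (p ∣ Nat.card G ↔ (p = 2 ∨ p = 3 ∨ p = 7))) ∧
  (∀ p q : ℕ, p.Prime → q.Prime → p ≠ q → ¬ ∃ g : G, orderOf g = p * q)

theorem isGraph237_of_cert [Finite F] (c : Cert237 F) :
    IsGraph237 (Matrix.ProjectiveSpecialLinearGroup (Fin 2) F) := by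
  classical
  obtain ⟨E, hE, hEt⟩ := c.E
  have hexp : ∀ x : Matrix.ProjectiveSpecialLinearGroup (Fin 2) F, x ^ E = 1 := by
    intro x
    obtain ⟨g, rfl⟩ := QuotientGroup.mk_surjective x
    by_cases hg : g ∈ Subgroup.center (Matrix.SpecialLinearGroup (Fin 2) F)
    · have : (QuotientGroup.mk g : Matrix.ProjectiveSpecialLinearGroup (Fin 2) F) = 1 := by
        rw [QuotientGroup.eq_one_iff]
        exact hg
      rw [this, one_pow]
    · rw [mk_pow_eq_one_iff g hg]
      exact hEt _
  have hprime : ∀ p : ℕ, p.Prime → ∀ x : Matrix.ProjectiveSpecialLinearGroup (Fin 2) F,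
      p ∣ orderOf x → p = 2 ∨ p = 3 ∨ p = 7 := by
    intro p hp x hx
    exact hE p hp (hx.trans (orderOf_dvd_of_pow_eq_one (hexp x)))
  constructor
  · intro p hp
    constructor
    · intro hdvd
      have : Fact p.Prime := ⟨hp⟩
      obtain ⟨x, hx⟩ := exists_prime_orderOf_dvd_card' (G := Matrix.ProjectiveSpecialLinearGroup (Fin 2) F) p hdvd
      exact hprime p hp x (by rw [hx])
    · rintro (rfl | rfl | rfl)
      · have : Fact (Nat.Prime 2) := ⟨Nat.prime_two⟩
        obtain ⟨t, ht⟩ := c.two
        obtain ⟨x, hx⟩ := exists_orderOf_eq_prime_of_trOrd 2 t ht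
        have hdvd := orderOf_dvd_natCard x
        rwa [hx] at hdvd
      · have : Fact (Nat.Prime 3) := ⟨Nat.prime_three⟩
        obtain ⟨t, ht⟩ := c.three
        obtain ⟨x, hx⟩ := exists_orderOf_eq_prime_of_trOrd 3 t ht
        have hdvd := orderOf_dvd_natCard x
        rwa [hx] at hdvd
      · have : Fact (Nat.Prime 7) := ⟨by norm_num⟩
        obtain ⟨t, ht⟩ := c.seven
        obtain ⟨x, hx⟩ := exists_orderOf_eq_prime_of_trOrd 7 t ht
        have hdvd := orderOf_dvd_natCard x
        rwa [hx] at hdvd
  · intro p q hp hq hpq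
    rintro ⟨x, hx⟩
    have hp' := hprime p hp x (by rw [hx]; exact dvd_mul_right p q)
    have hq' := hprime q hq x (by rw [hx]; exact dvd_mul_left q p)
    obtain ⟨g, rfl⟩ := QuotientGroup.mk_surjective x
    have hg : g ∉ Subgroup.center (Matrix.SpecialLinearGroup (Fin 2) F) := by
      intro hg
      have : (QuotientGroup.mk g : Matrix.ProjectiveSpecialLinearGroup (Fin 2) F) = 1 := by
        rw [QuotientGroup.eq_one_iff]
        exact hg
      rw [this, orderOf_one] at hx
      have h2 := hp.two_le
      have h3 := hq.two_le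
      nlinarith
    have key : ∀ n : ℕ, TrOrd (slTrace g) n ↔ p * q ∣ n := by
      intro n
      rw [← mk_pow_eq_one_iff g hg, ← hx, orderOf_dvd_iff_pow_eq_one]
    have hnp : ¬ TrOrd (slTrace g) p := by
      rw [key]
      intro h
      have := Nat.le_of_dvd hp.pos h
      have h3 := hq.two_le
      nlinarith [hp.two_le]
    have hnq : ¬ TrOrd (slTrace g) q := by
      rw [key]
      intro h
      have := Nat.le_of_dvd hq.pos h
      have h3 := hp.two_le
      nlinarith [hq.two_le]
    have hpq' : TrOrd (slTrace g) (p * q) := (key _).2 dvd_rfl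
    rcases hp' with rfl | rfl | rfl <;> rcases hq' with rfl | rfl | rfl
    · exact hpq rfl
    · rcases c.no6 _ hpq' with h | h
      · exact hnp h
      · exact hnq h
    · rcases c.no14 _ hpq' with h | h
      · exact hnp h
      · exact hnq h
    · rw [mul_comm] at hpq'
      rcases c.no6 _ hpq' with h | h
      · exact hnq h
      · exact hnp h
    · exact hpq rfl
    · rcases c.no21 _ hpq' with h | h
      · exact hnp h
      · exact hnq h
    · rw [mul_comm] at hpq'
      rcases c.no14 _ hpq' with h | h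
      · exact hnq h
      · exact hnp h
    · rw [mul_comm] at hpq'
      rcases c.no21 _ hpq' with h | h
      · exact hnq h
      · exact hnp h
    · exact hpq rfl

end PSL

end Cfsg.Agent.Helper61
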