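import Mathlib
import Cfsg.Agent.Helper61.Trace2

set_option autoImplicit false

namespace Cfsg.Agent.Helper61

theorem cert237_zmod7 : Cert237 (ZMod 7) where
  E := ⟨168, by
    intro p hp hdvd
    have h168 : (168 : ℕ) = 2 ^ 3 * (3 * 7) := by norm_num
    rw [h168] at hdvd
    rcases (Nat.Prime.dvd_mul hp).1 hdvd with h | h
    · left
      exact (Nat.prime_dvd_prime_iff_eq hp Nat.prime_two).1 (hp.dvd_of_dvd_pow h)
    · rcases (Nat.Prime.dvd_mul hp).1 h with h | h
      · right; left
        exact (Nat.prime_dvd_prime_iff_eq hp Nat.prime_three).1 h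
      · right; right
        exact (Nat.prime_dvd_prime_iff_eq hp (by norm_num)).1 h, by decide +kernel⟩
  two := by decide +kernel
  three := by decide +kernel
  seven := by decide +kernel
  no6 := by decide +kernel
  no14 := by decide +kernel
  no21 := by decide +kernel

/-- Transport of a certificate along a ring isomorphism. -/
theorem Cert237.map {R S : Type*} [CommRing R] [CommRing S] (e : R ≃+* S) (c : Cert237 R) :
    Cert237 S := by
  have hinj : Function.Injective (e : R →+* S) := e.injective
  have key : ∀ (s : S) (n : ℕ), TrOrd s n ↔ TrOrd (e.symm s) n := by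
    intro s n
    have := trOrd_map (e : R →+* S) hinj (e.symm s) n
    simpa using this
  obtain ⟨E, hE, hEt⟩ := c.E
  refine ⟨⟨E, hE, fun t => (key t E).2 (hEt _)⟩, ?_, ?_, ?_, ?_, ?_, ?_⟩
  · obtain ⟨t, ht⟩ := c.two
    exact ⟨e t, (key _ _).2 (by simpa using ht)⟩
  · obtain ⟨t, ht⟩ := c.three
    exact ⟨e t, (key _ _).2 (by simpa using ht)⟩
  · obtain ⟨t, ht⟩ := c.seven
    exact ⟨e t, (key _ _).2 (by simpa using ht)⟩
  · intro t ht
    rw [key] at ht
    rw [key, key t 3]
    exact c.no6 _ ht
  · intro t ht
    rw [key] at ht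
    rw [key, key t 7]
    exact c.no14 _ ht
  · intro t ht
    rw [key] at ht
    rw [key, key t 7]
    exact c.no21 _ ht

theorem cert237_of_card_seven (F : Type*) [Field F] [Fintype F] (hF : Fintype.card F = 7) :
    Cert237 F :=
  cert237_zmod7.map (ZMod.ringEquivOfPrime F (by norm_num) hF)

end Cfsg.Agent.Helper61
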