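import Mathlib
import Cfsg.Agent.Helper61.Trace2

set_option autoImplicit false

namespace Cfsg.Agent.Helper61

/-- An explicit model of the field with eight elements: `a0 + a1 x + a2 x^2` with `x^3 = x + 1`. -/
structure F8 where
  a0 : Bool
  a1 : Bool
  a2 : Bool
  deriving DecidableEq, Fintype

namespace F8

/-- addition -/
def addF (a b : F8) : F8 := ⟨xor a.a0 b.a0, xor a.a1 b.a1, xor a.a2 b.a2⟩

/-- multiplication -/
def mulF (a b : F8) : F8 :=
  let c0 := a.a0 && b.a0
  let c1 := xor (a.a0 && b.a1) (a.a1 && b.a0)
  let c2 := xor (xor (a.a0 && b.a2) (a.a1 && b.a1)) (a.a2 && b.a0)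
  let c3 := xor (a.a1 && b.a2) (a.a2 && b.a1)
  let c4 := a.a2 && b.a2
  ⟨xor c0 c3, xor (xor c1 c3) c4, xor c2 c4⟩

/-- inverse (sixth power) -/
def invF (a : F8) : F8 :=
  let a2 := mulF a a
  let a4 := mulF a2 a2
  mulF a4 a2

instance instZeroF8 : Zero F8 := ⟨⟨false, false, false⟩⟩
instance instOneF8 : One F8 := ⟨⟨true, false, false⟩⟩
instance instAddF8 : Add F8 := ⟨addF⟩
instance instMulF8 : Mul F8 := ⟨mulF⟩
instance instNegF8 : Neg F8 := ⟨id⟩

instance instCommRingF8 : CommRing F8 where
  add_assoc := by decide
  zero_add := by decide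
  add_zero := by decide
  add_comm := by decide
  left_distrib := by decide
  right_distrib := by decide
  zero_mul := by decide
  mul_zero := by decide
  mul_assoc := by decide
  one_mul := by decide
  mul_one := by decide
  neg_add_cancel := by decide
  mul_comm := by decide
  nsmul := nsmulRec
  zsmul := zsmulRec

instance instFieldF8 : Field F8 where
  inv := invF
  exists_pair_ne := ⟨⟨false, false, false⟩, ⟨true, false, false⟩, by decide⟩
  mul_inv_cancel := by decide
  inv_zero := by decide
  nnqsmul := _
  qsmul := _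

instance instCharPF8 : CharP F8 2 :=
  CharTwo.of_one_ne_zero_of_two_eq_zero (by decide) (by decide)

theorem cert237 : Cert237 F8 where
  E := ⟨126, by
    intro p hp hdvd
    have h126 : (126 : ℕ) = 2 * (3 ^ 2 * 7) := by norm_num
    rw [h126] at hdvd
    rcases (Nat.Prime.dvd_mul hp).1 hdvd with h | h
    · left
      exact (Nat.prime_dvd_prime_iff_eq hp Nat.prime_two).1 h
    · rcases (Nat.Prime.dvd_mul hp).1 h with h | h
      · right; left
        exact (Nat.prime_dvd_prime_iff_eq hp Nat.prime_three).1 (hp.dvd_of_dvd_pow h)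
      · right; right
        exact (Nat.prime_dvd_prime_iff_eq hp (by norm_num)).1 h, by decide +kernel⟩
  two := by decide +kernel
  three := by decide +kernel
  seven := by decide +kernel
  no6 := by decide +kernel
  no14 := by decide +kernel
  no21 := by decide +kernel

end F8

end Cfsg.Agent.Helper61
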