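import Cfsg.Agent.Helper61.FS_S2ecore
import Cfsg.Agent.Helper48.FS_S2a
import Cfsg.Agent.Helper81.CliffordInd

/-!
helper25 FS farm (S4440), piece (S2c) (helper61, hedge copy): the Clifford correspondent is the
`θ`-part of the restriction.  Name + statement verbatim from the skeleton.
-/

set_option autoImplicit false
set_option linter.unusedSectionVars false
set_option linter.unusedVariables false

namespace Cfsg.Agent.Helper61.FS

open Cfsg Cfsg.Agent.Helper16 Cfsg.Agent.Helper16.DT Cfsg.Agent.Helper25.FS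

universe u

variable {p : ℕ} [Fact p.Prime] {M : Ideal AlgInt} [M.IsMaximal] {G : Type u} [Group G]

section ST2

variable [Fintype G] (N : Subgroup G) [hN : N.Normal] [Fintype N]

omit [M.IsMaximal] in
/-- (S2c) the Clifford correspondent is the `θ`-part of the restriction. -/
theorem indFun_thetaProj_restrict (T : Subgroup G) [Fintype T] (θ : IrrCharacter N)
    (hT : T = Helper15.inertia N (θ : N → ℂ)) (hNT : N ≤ T) (χ : IrrCharacter G)
    (hχθ : classInner (fun n : N => (χ : G → ℂ) n) (θ : N → ℂ) ≠ 0) :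
    indFun T (thetaProj N T hNT (θ : N → ℂ) (fun t : T => (χ : G → ℂ) t)) = (χ : G → ℂ) := by
  classical
  let _ := Helper74.irrFintype T
  have hχc : IsCharacter G (χ : G → ℂ) := Helper74.isCharacter_of_isIrr χ.2
  have hχcf : IsClassFunction G (χ : G → ℂ) := Helper74.isClassFunction_of_isCharacter hχc
  have hχT : IsCharacter T (fun t : T => (χ : G → ℂ) t) := Helper74.isCharacter_restrict T hχc
  have hinv : ∀ t ∈ T, Helper15.conjFun N t (θ : N → ℂ) = (θ : N → ℂ) := by
    intro t ht
    rw [hT] at ht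
    exact ht
  obtain ⟨ψ, hψ, hind, hfull⟩ :=
    Helper15.clifford_correspondence_exists N θ.2 T hT hNT χ.2 hχθ
  -- the multiplicity of `ψ` in `χ_T` is one
  have hmult : classInner (fun t : T => (χ : G → ℂ) t) ψ = 1 := by
    rw [← Helper15.frobenius_reciprocity' T ψ (χ : G → ℂ) hχcf, hind]
    exact Helper74.irr_inner_self χ
  have hfull' : classInner (Helper15.resTo N T hNT ψ) (θ : N → ℂ) =
      classInner (fun n : N => (χ : G → ℂ) n) (θ : N → ℂ) := hfull
  have hψθ : classInner (Helper15.resTo N T hNT ψ) (θ : N → ℂ) ≠ 0 := by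
    rw [hfull']; exact hχθ
  have hdec := Helper74.isCharacter_eq_sum_irr hχT
  rw [hdec, S2e_thetaProj_sum]
  rw [Finset.sum_eq_single (⟨ψ, hψ⟩ : IrrCharacter T)]
  · show indFun T (classInner (fun t : T => (χ : G → ℂ) t) ψ •
        thetaProj N T hNT (θ : N → ℂ) ψ) = _
    rw [hmult, one_smul,
      (Cfsg.Agent.Helper48.FS.thetaProj_irr N T hNT θ hinv (⟨ψ, hψ⟩ : IrrCharacter T)).1 hψθ,
      hind]
  · intro ξ _ hne
    by_cases hc : classInner (fun t : T => (χ : G → ℂ) t) (ξ : T → ℂ) = 0
    · rw [hc, zero_smul]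
    · by_cases hξθ : classInner (Helper15.resTo N T hNT (ξ : T → ℂ)) (θ : N → ℂ) = 0
      · rw [(Cfsg.Agent.Helper48.FS.thetaProj_irr N T hNT θ hinv ξ).2 hξθ, smul_zero]
      · exfalso
        apply hne
        apply Subtype.ext
        exact Helper81.clifford_unique_constituent N θ.2 T hNT hχc hψ
          (by rw [hmult]; exact one_ne_zero) hfull' ξ.2 hc hξθ
  · intro h
    exact absurd (Finset.mem_univ _) h

end ST2

end Cfsg.Agent.Helper61.FS
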