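import Cfsg.Agent.Helper61.FS_S2ecore
import Cfsg.Agent.Helper61.FS_S2c
import Cfsg.Agent.Helper75.FS_PERM
import Cfsg.Agent.Helper29.FS_S2b
import Cfsg.Agent.Helper76.FS_S2d

/-!
helper25 FS farm (S4440), piece (S2e) (helper61): a Brauer constituent `φ` of `χ°`, `χ` over `θ`, is
induced from the `θ`-part of its restriction to `T`.  Verbatim statement of the skeleton; closes the
core `indFun_thetaProj_of_brConst_of` with (PERM) helper75, (S2b) helper29, (S2c) helper61,
(S2d) helper76.
-/

set_option autoImplicit false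
set_option linter.unusedSectionVars false
set_option linter.unusedVariables false

namespace Cfsg.Agent.Helper61.FS

open Cfsg Cfsg.Agent.Helper16 Cfsg.Agent.Helper16.DT Cfsg.Agent.Helper25.FS

universe u

variable {p : ℕ} [Fact p.Prime] {M : Ideal AlgInt} [M.IsMaximal] {G : Type u} [Group G]

section ST2

variable [Fintype G] (N : Subgroup G) [hN : N.Normal] [Fintype N]

/-- (S2e) a Brauer constituent of `χ°`, `χ` over `θ`, is induced from the `θ`-part of its restriction
to the inertia group. -/
theorem indFun_thetaProj_of_brConst (hM : IsPModular p M) (hNp : ¬ p ∣ Nat.card N)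
    (T : Subgroup G) [Fintype T] (θ : IrrCharacter N)
    (hT : T = Helper15.inertia N (θ : N → ℂ)) (hNT : N ≤ T) (χ : IrrCharacter G)
    (hχθ : classInner (fun n : N => (χ : G → ℂ) n) (θ : N → ℂ) ≠ 0) {φ : G → ℂ}
    (hφ : BrConst p M φ (χ : G → ℂ)) :
    indFun T (thetaProj N T hNT (θ : N → ℂ) (fun t : T => φ t)) = φ :=
  indFun_thetaProj_of_brConst_of N
    (fun l l' hl hl' hs => Cfsg.Agent.Helper75.FS.perm_of_sum_eq hM.2.2 l l' hl hl' hs)
    hM hNp T θ hT hNT
    (fun f => Cfsg.Agent.Helper29.FS.thetaProj_pRegularPart N hNp T hNT (θ : N → ℂ) f)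
    (fun χ' h => indFun_thetaProj_restrict N T θ hT hNT χ' h)
    (fun f => Cfsg.Agent.Helper76.FS.indFun_pRegularPart T f)
    χ hχθ hφ

end ST2

end Cfsg.Agent.Helper61.FS
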