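import Cfsg.Agent.Helper25.FSwan.Defs

/-!
helper25 FS farm (S4440), piece (S2g), core (helper61): the restriction of an irreducible Brauer character to
a subgroup is a sum of irreducible Brauer characters -- with (BRC) for the subgroup as an explicit hypothesis.
-/

set_option autoImplicit false
set_option linter.unusedSectionVars false
set_option linter.unusedVariables false

namespace Cfsg.Agent.Helper61.FS

open Cfsg Cfsg.Agent.Helper16 Cfsg.Agent.Helper16.DT Cfsg.Agent.Helper25.FS

universe u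

variable {p : ℕ} [Fact p.Prime] {M : Ideal AlgInt} [M.IsMaximal] {G : Type u} [Group G]

/-- the Brauer character of the restriction of a matrix representation to a subgroup -/
theorem S2g_brauerChar_restrict (T : Subgroup G) {n : ℕ}
    (ρ : G →* Matrix (Fin n) (Fin n) (AlgInt ⧸ M)) :
    brauerChar p M (ρ.comp T.subtype) = fun t : T => brauerChar p M ρ t := by
  classical
  funext t
  have hiff : IsPRegular p t ↔ IsPRegular p (t : G) := by
    unfold IsPRegular
    rw [Subgroup.orderOf_coe]
  unfold brauerChar pRegularPart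
  by_cases ht : IsPRegular p t
  · rw [if_pos ht, if_pos (hiff.mp ht)]
    rfl
  · rw [if_neg ht, if_neg (fun h => ht (hiff.mpr h))]

/-- (S2g), with (BRC) for the subgroup as a hypothesis -/
theorem restrict_IBr_list_of (T : Subgroup G)
    (hBRC : ∀ {n : ℕ} (ρ : T →* Matrix (Fin n) (Fin n) (AlgInt ⧸ M)),
      ∃ l : List (T → ℂ), (∀ ψ ∈ l, ψ ∈ IBr p M T) ∧ brauerChar p M ρ = l.sum ∧ (0 < n → l ≠ []))
    {φ : G → ℂ} (hφ : φ ∈ IBr p M G) :
    ∃ l : List (T → ℂ), (∀ ψ ∈ l, ψ ∈ IBr p M T) ∧ (fun t : T => φ t) = l.sum := by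
  obtain ⟨n, ρ, -, rfl⟩ := hφ
  obtain ⟨l, hl, hsum, -⟩ := hBRC (ρ.comp T.subtype)
  exact ⟨l, hl, by rw [← hsum, S2g_brauerChar_restrict]⟩

end Cfsg.Agent.Helper61.FS
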