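import Mathlib
import Cfsg.Agent.Helper17.SylowKit
import Cfsg.Agent.Helper17.SylowKit2
import Cfsg.Agent.Helper17.LemmaN
import Cfsg.Agent.Helper17.CountOrder
import Cfsg.Agent.S1019

set_option autoImplicit false

/-! # Local analysis of a simple group of order 504 -/

namespace Cfsg.Agent.Helper61.G504

open Subgroup MulAction Cfsg.Agent.Helper17

section General

variable {G : Type*} [Group G]

open scoped IsMulCommutative in
/-- Generalised Burnside transfer: for an abelian Sylow subgroup `P`, an element of `P` that is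
central in `N(P)` and nontrivial is not killed by the transfer `G → P`. -/
theorem exists_hom_ne_one [Finite G] {p : ℕ} [Fact p.Prime] (P : Sylow p G)
    [IsMulCommutative (P : Subgroup G)] (x : G) (hx : x ∈ (P : Subgroup G)) (hx1 : x ≠ 1)
    (hc : ∀ n ∈ normalizer ((P : Subgroup G) : Set G), n * x = x * n) :
    ∃ f : G →* (P : Subgroup G), f x ≠ 1 := by
  have key : ∀ (k : ℕ) (g₀ : G), g₀⁻¹ * x ^ k * g₀ ∈ (P : Subgroup G) →
      g₀⁻¹ * x ^ k * g₀ = x ^ k := by
    intro k g₀ hk
    obtain ⟨n, hn, h⟩ := P.conj_eq_normalizer_conj_of_mem (x ^ k) g₀ (pow_mem hx k) hk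
    rw [h]
    have hcn : Commute n x := hc n hn
    have := (hcn.pow_right k).eq
    rw [mul_assoc, ← this, inv_mul_cancel_left]
  refine ⟨MonoidHom.transfer (MonoidHom.id (P : Subgroup G)), ?_⟩
  rw [MonoidHom.transfer_eq_pow (MonoidHom.id (P : Subgroup G)) x key]
  intro h1
  have h2 : x ^ (P : Subgroup G).index = 1 := by
    have := congrArg Subtype.val h1
    simpa using this
  have hp : p.Prime := Fact.out
  obtain ⟨k, hk⟩ := (IsPGroup.iff_orderOf.mp P.isPGroup') ⟨x, hx⟩
  rw [Subgroup.orderOf_mk] at hk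
  have hd1 : orderOf x ∣ (P : Subgroup G).index := orderOf_dvd_of_pow_eq_one h2
  have hcop : Nat.Coprime (p ^ k) (P : Subgroup G).index := by
    apply Nat.Coprime.pow_left
    rw [Nat.Prime.coprime_iff_not_dvd hp]
    exact P.not_dvd_index
  rw [hk] at hd1
  have h3 : p ^ k = 1 := Nat.Coprime.eq_one_of_dvd hcop hd1
  rw [h3, orderOf_eq_one_iff] at hk
  exact hx1 hk

open scoped IsMulCommutative in
/-- In a non-abelian simple group with an abelian Sylow subgroup `P`, no nontrivial element of `P`
is central in `N(P)`. -/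
theorem eq_one_of_central_in_normalizer [Finite G] [IsSimpleGroup G] (hG : ¬ IsMulCommutative G)
    {p : ℕ} [Fact p.Prime] (P : Sylow p G)
    [IsMulCommutative (P : Subgroup G)] (x : G) (hx : x ∈ (P : Subgroup G))
    (hc : ∀ n ∈ normalizer ((P : Subgroup G) : Set G), n * x = x * n) : x = 1 := by
  by_contra hx1
  obtain ⟨f, hf⟩ := exists_hom_ne_one P x hx hx1 hc
  exact hf (hom_to_comm_trivial hG f x)

end General

variable {G : Type*} [Group G] [Finite G] [IsSimpleGroup G]

local instance fact2 : Fact (Nat.Prime 2) := ⟨by norm_num⟩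
local instance fact3 : Fact (Nat.Prime 3) := ⟨by norm_num⟩
local instance fact7 : Fact (Nat.Prime 7) := ⟨by norm_num⟩

theorem not_comm (h : Nat.card G = 504) : ¬ IsMulCommutative G :=
  not_comm_of_simple_of_not_prime (by rw [h]; norm_num)

theorem card7 (h : Nat.card G = 504) : Nat.card G = 7 ^ 1 * 72 := by rw [h]; norm_num
theorem card3 (h : Nat.card G = 504) : Nat.card G = 3 ^ 2 * 56 := by rw [h]; norm_num
theorem card2 (h : Nat.card G = 504) : Nat.card G = 2 ^ 3 * 63 := by rw [h]; norm_num

theorem card_sylow7 (h : Nat.card G = 504) (P : Sylow 7 G) : Nat.card (P : Subgroup G) = 7 := by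
  simpa using card_sylow_subgroup_of_card_eq (card7 h) (by norm_num) P

theorem card_sylow3 (h : Nat.card G = 504) (P : Sylow 3 G) : Nat.card (P : Subgroup G) = 9 := by
  simpa using card_sylow_subgroup_of_card_eq (card3 h) (by norm_num) P

theorem card_sylow2 (h : Nat.card G = 504) (P : Sylow 2 G) : Nat.card (P : Subgroup G) = 8 := by
  simpa using card_sylow_subgroup_of_card_eq (card2 h) (by norm_num) P

/-- the possible numbers of Sylow 7-subgroups -/
theorem n7_cases (h : Nat.card G = 504) :
    Nat.card (Sylow 7 G) = 8 ∨ Nat.card (Sylow 7 G) = 36 := by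
  have hdvd : Nat.card (Sylow 7 G) ∣ 72 := card_sylow_dvd_of_card_eq (card7 h) (by norm_num)
  have hmod : Nat.card (Sylow 7 G) ≡ 1 [MOD 7] := card_sylow_modEq_one 7 G
  have hne1 : Nat.card (Sylow 7 G) ≠ 1 :=
    card_sylow_ne_one_of_simple (card7 h) (by norm_num) (by norm_num) (by norm_num)
  have hmem : Nat.card (Sylow 7 G) ∈ Nat.divisors 72 := Nat.mem_divisors.mpr ⟨hdvd, by norm_num⟩
  have key : ∀ n ∈ Nat.divisors 72, n % 7 = 1 → n ≠ 1 → n = 8 ∨ n = 36 := by decide
  exact key _ hmem hmod hne1

/-- no proper subgroup of index `≤ 8`. -/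
theorem index_ge (h : Nat.card G = 504) (H : Subgroup G) (hH : H ≠ ⊤) : 9 ≤ H.index := by
  have hdvd := two_mul_card_dvd_factorial_index (not_comm h) H hH
  rw [h] at hdvd
  by_contra hlt
  push Not at hlt
  by_cases h6 : H.index ≤ 6
  · have h6 : (H.index).factorial ∣ (6).factorial := Nat.factorial_dvd_factorial h6
    have := hdvd.trans h6
    norm_num [Nat.factorial] at this
  · have hidx : H.index = 7 ∨ H.index = 7 + 1 := by omega
    obtain ⟨P⟩ : Nonempty (Sylow 7 G) := inferInstance
    have hN := two_mul_card_normalizer_dvd_of_index (not_comm h) H hH 7 hidx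
      (by rw [h]; norm_num) P
    have hmul := card_normalizer_mul_card_sylow P
    rw [h] at hmul
    rcases n7_cases h with h8 | h36
    · rw [h8] at hmul
      have : Nat.card (normalizer ((P : Subgroup G) : Set G)) = 63 := by omega
      rw [this] at hN
      norm_num at hN
    · rw [h36] at hmul
      have : Nat.card (normalizer ((P : Subgroup G) : Set G)) = 14 := by omega
      rw [this] at hN
      norm_num at hN

theorem n7 (h : Nat.card G = 504) : Nat.card (Sylow 7 G) = 36 := by
  rcases n7_cases h with h8 | h36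
  · exfalso
    obtain ⟨P⟩ : Nonempty (Sylow 7 G) := inferInstance
    have hidx : (normalizer ((P : Subgroup G) : Set G)).index = 8 := by
      have := P.card_eq_index_normalizer
      rw [h8] at this
      exact this.symm
    have hne : normalizer ((P : Subgroup G) : Set G) ≠ ⊤ := by
      intro htop
      rw [htop, Subgroup.index_top] at hidx
      omega
    have := index_ge h _ hne
    omega
  · exact h36

theorem n3 (h : Nat.card G = 504) : Nat.card (Sylow 3 G) = 28 := by
  have hdvd : Nat.card (Sylow 3 G) ∣ 56 := card_sylow_dvd_of_card_eq (card3 h) (by norm_num)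
  have hmod : Nat.card (Sylow 3 G) ≡ 1 [MOD 3] := card_sylow_modEq_one 3 G
  have hne1 : Nat.card (Sylow 3 G) ≠ 1 :=
    card_sylow_ne_one_of_simple (card3 h) (by norm_num) (by norm_num) (by norm_num)
  obtain ⟨P⟩ : Nonempty (Sylow 3 G) := inferInstance
  have hidx : (normalizer ((P : Subgroup G) : Set G)).index = Nat.card (Sylow 3 G) :=
    P.card_eq_index_normalizer.symm
  have hne : normalizer ((P : Subgroup G) : Set G) ≠ ⊤ := by
    intro htop
    rw [htop, Subgroup.index_top] at hidx
    exact hne1 hidx.symm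
  have h9 := index_ge h _ hne
  rw [hidx] at h9
  have hmem : Nat.card (Sylow 3 G) ∈ Nat.divisors 56 := Nat.mem_divisors.mpr ⟨hdvd, by norm_num⟩
  have key : ∀ n ∈ Nat.divisors 56, n % 3 = 1 → 9 ≤ n → n = 28 := by decide
  exact key _ hmem hmod h9

theorem card_normalizer7 (h : Nat.card G = 504) (P : Sylow 7 G) :
    Nat.card (normalizer ((P : Subgroup G) : Set G)) = 14 := by
  have := card_normalizer_mul_card_sylow P
  rw [n7 h, h] at this
  omega

theorem card_normalizer3 (h : Nat.card G = 504) (P : Sylow 3 G) :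
    Nat.card (normalizer ((P : Subgroup G) : Set G)) = 18 := by
  have := card_normalizer_mul_card_sylow P
  rw [n3 h, h] at this
  omega

theorem card_centralizer7 (h : Nat.card G = 504) (P : Sylow 7 G) :
    Nat.card (centralizer ((P : Subgroup G) : Set G)) = 7 := by
  obtain ⟨h1, h2⟩ := relIndex_dvd_of_card_sylow_prime P (card_sylow7 h P)
  have hne : ¬ (normalizer ((P : Subgroup G) : Set G) ≤ centralizer ((P : Subgroup G) : Set G)) :=
    not_normalizer_le_centralizer_of_simple P (by rw [card_sylow7 h P]; norm_num)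
      (by rw [card_sylow7 h P, h]; norm_num)
  have hmul := card_centralizer_mul_relIndex (P : Subgroup G)
  rw [card_normalizer7 h P] at hmul h2
  set d := (centralizer ((P : Subgroup G) : Set G)).relIndex (normalizer ((P : Subgroup G) : Set G))
    with hd
  have hd1 : d ≠ 1 := fun h => hne (relIndex_eq_one.mp h)
  have hd2 : d ∣ 2 := by
    have : 7 * d ∣ 7 * 2 := by simpa using h2
    exact (Nat.mul_dvd_mul_iff_left (by norm_num)).mp this
  have hd2' : d = 2 := by
    rcases (Nat.dvd_prime Nat.prime_two).mp hd2 with h | h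
    · exact absurd h hd1
    · exact h
  rw [hd2'] at hmul
  omega

theorem centralizer7_eq (h : Nat.card G = 504) (P : Sylow 7 G) :
    centralizer ((P : Subgroup G) : Set G) = (P : Subgroup G) := by
  have hp : (Nat.card (P : Subgroup G)).Prime := by rw [card_sylow7 h P]; norm_num
  haveI : Fact (Nat.card (P : Subgroup G)).Prime := ⟨hp⟩
  haveI hcyc : IsCyclic (P : Subgroup G) := isCyclic_of_prime_card rfl
  haveI : IsMulCommutative (P : Subgroup G) := ⟨⟨fun a b => by
      let _ := hcyc.commGroup; exact mul_comm a b⟩⟩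
  have hle : (P : Subgroup G) ≤ centralizer ((P : Subgroup G) : Set G) := Subgroup.le_centralizer _
  exact (Subgroup.eq_of_le_of_card_ge hle (by rw [card_centralizer7 h P, card_sylow7 h P])).symm

theorem exists_sylow7_eq (h : Nat.card G = 504) (y : G) (hy : orderOf y = 7) :
    ∃ Q : Sylow 7 G, (Q : Subgroup G) = zpowers y := by
  have hcard : Nat.card (zpowers y) = 7 ^ 1 := by rw [Nat.card_zpowers, hy]; norm_num
  obtain ⟨Q, hQ⟩ := (IsPGroup.of_card hcard).exists_le_sylow
  refine ⟨Q, (Subgroup.eq_of_le_of_card_ge hQ ?_).symm⟩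
  rw [card_sylow7 h Q, hcard]; norm_num

/-- An element commuting with an element of order 7 is a power of it. -/
theorem mem_zpowers_of_commute7 (h : Nat.card G = 504) {y g : G} (hy : orderOf y = 7)
    (hc : g * y = y * g) : g ∈ zpowers y := by
  obtain ⟨Q, hQ⟩ := exists_sylow7_eq h y hy
  have heq := centralizer7_eq h Q
  rw [← hQ, ← heq, hQ, Subgroup.mem_centralizer_iff]
  intro w hw
  obtain ⟨k, rfl⟩ := Subgroup.mem_zpowers_iff.mp hw
  have : Commute g y := hc
  exact (this.zpow_right k).eq.symm

/-- no element of order 7 commutes with an element whose order is prime to 7 and not 1 -/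
theorem not_commute7 (h : Nat.card G = 504) {y g : G} (hy : orderOf y = 7)
    (hc : g * y = y * g) (hg : ¬ 7 ∣ orderOf g) : g = 1 := by
  have hmem := mem_zpowers_of_commute7 h hy hc
  have h1 : orderOf g ∣ 7 := by
    have := orderOf_dvd_natCard (⟨g, hmem⟩ : zpowers y)
    rwa [Subgroup.orderOf_mk, Nat.card_zpowers, hy] at this
  rcases (Nat.dvd_prime (by norm_num : Nat.Prime 7)).mp h1 with h2 | h2
  · exact orderOf_eq_one_iff.mp h2
  · exact absurd (h2 ▸ dvd_refl _) hg


theorem sylow3_comm (h : Nat.card G = 504) (P : Sylow 3 G) :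
    IsMulCommutative (P : Subgroup G) :=
  IsPGroup.isMulCommutative_of_card_eq_prime_sq (p := 3) (by rw [card_sylow3 h P]; norm_num)

/-- An involution of `N(P)` inverts the Sylow 3-subgroup `P`. -/
theorem exists_inverting (h : Nat.card G = 504) (P : Sylow 3 G) :
    ∃ s : G, s ∈ normalizer ((P : Subgroup G) : Set G) ∧ orderOf s = 2 ∧
      ∀ a ∈ (P : Subgroup G), s * a * s⁻¹ = a⁻¹ := by
  haveI hPc := sylow3_comm h P
  set N := normalizer ((P : Subgroup G) : Set G) with hN
  have hNcard : Nat.card N = 18 := card_normalizer3 h P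
  obtain ⟨s', hs'⟩ := exists_prime_orderOf_dvd_card' (G := ↥N) 2 (by rw [hNcard]; norm_num)
  have hs2 : orderOf (s' : G) = 2 := by rw [Subgroup.orderOf_coe]; exact hs'
  have hsN : (s' : G) ∈ N := s'.2
  generalize (s' : G) = s at hs2 hsN
  have hsP : s ∉ (P : Subgroup G) := by
    intro hsP
    have := orderOf_dvd_natCard (⟨s, hsP⟩ : (P : Subgroup G))
    rw [Subgroup.orderOf_mk, card_sylow3 h P, hs2] at this
    norm_num at this
  have hss : s * s = 1 := by
    have := pow_orderOf_eq_one s
    rwa [hs2, pow_two] at this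
  have hsinv : s⁻¹ = s := inv_eq_of_mul_eq_one_right hss
  -- `P ⊔ ⟨s⟩ = N`
  have hPN : (P : Subgroup G) ≤ N := Subgroup.le_normalizer
  have hKN : (P : Subgroup G) ⊔ zpowers s ≤ N := sup_le hPN (zpowers_le.mpr hsN)
  have hK : (P : Subgroup G) ⊔ zpowers s = N := by
    have h1 : Nat.card (P : Subgroup G) ∣ Nat.card ((P : Subgroup G) ⊔ zpowers s : Subgroup G) :=
      Subgroup.card_dvd_of_le le_sup_left
    have h2 : Nat.card ((P : Subgroup G) ⊔ zpowers s : Subgroup G) ∣ Nat.card N :=
      Subgroup.card_dvd_of_le hKN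
    rw [card_sylow3 h P] at h1
    rw [hNcard] at h2
    have h3 : Nat.card ((P : Subgroup G) ⊔ zpowers s : Subgroup G) ≠ 9 := by
      intro h9
      have : (P : Subgroup G) = (P : Subgroup G) ⊔ zpowers s :=
        Subgroup.eq_of_le_of_card_ge le_sup_left (by rw [h9, card_sylow3 h P])
      apply hsP
      rw [this]
      exact (le_sup_right : zpowers s ≤ _) (mem_zpowers s)
    have h4 : Nat.card ((P : Subgroup G) ⊔ zpowers s : Subgroup G) = 18 := by
      have hmem : Nat.card ((P : Subgroup G) ⊔ zpowers s : Subgroup G) ∈ Nat.divisors 18 :=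
        Nat.mem_divisors.mpr ⟨h2, by norm_num⟩
      have key : ∀ n ∈ Nat.divisors 18, 9 ∣ n → n ≠ 9 → n = 18 := by decide
      exact key _ hmem h1 h3
    exact Subgroup.eq_of_le_of_card_ge hKN (by rw [h4, hNcard])
  refine ⟨s, hsN, hs2, ?_⟩
  intro a ha
  have hsa : s * a * s⁻¹ ∈ (P : Subgroup G) := (Subgroup.mem_normalizer_iff.mp hsN a).mp ha
  set b := a * (s * a * s⁻¹) with hb
  have hbP : b ∈ (P : Subgroup G) := mul_mem ha hsa
  have hcommP : ∀ u ∈ (P : Subgroup G), ∀ v ∈ (P : Subgroup G), u * v = v * u := by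
    intro u hu v hv
    have := hPc.is_comm.comm (⟨u, hu⟩ : (P : Subgroup G)) ⟨v, hv⟩
    exact congrArg Subtype.val this
  have hsb : s * b = b * s := by
    have h1 : s * b * s⁻¹ = b := by
      rw [hb]
      have : s * (a * (s * a * s⁻¹)) * s⁻¹ = (s * a * s⁻¹) * ((s * s) * a * (s * s)⁻¹) := by
        group
      rw [this, hss]
      simp only [one_mul, inv_one, mul_one]
      exact hcommP _ hsa _ ha
    calc s * b = s * b * s⁻¹ * s := by group
      _ = b * s := by rw [h1]
  have hle : (P : Subgroup G) ⊔ zpowers s ≤ centralizer ({b} : Set G) := by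
    apply sup_le
    · intro u hu
      rw [Subgroup.mem_centralizer_iff]
      intro w hw
      rw [Set.mem_singleton_iff] at hw
      rw [hw]
      exact hcommP _ hbP _ hu
    · rw [zpowers_le, Subgroup.mem_centralizer_iff]
      intro w hw
      rw [Set.mem_singleton_iff] at hw
      rw [hw]
      exact hsb.symm
  have hcentral : ∀ n ∈ normalizer ((P : Subgroup G) : Set G), n * b = b * n := by
    intro n hn
    have hn' : n ∈ centralizer ({b} : Set G) := hle (hK ▸ hn)
    exact (Subgroup.mem_centralizer_iff.mp hn' b (Set.mem_singleton b)).symm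
  have hb1 : b = 1 := eq_one_of_central_in_normalizer (not_comm h) P b hbP hcentral
  exact (eq_inv_of_mul_eq_one_right hb1)

omit [IsSimpleGroup G] [Finite G] in
/-- A subgroup of index 2 of `M` is normalized by `M`. -/
theorem le_normalizer_of_card_two_mul (M U : Subgroup G) [Finite M] (hUM : U ≤ M)
    (hcard : Nat.card M = 2 * Nat.card U) : M ≤ normalizer (U : Set G) := by
  have hidx : (U.subgroupOf M).index = 2 := by
    have h1 := Subgroup.card_mul_index (U.subgroupOf M)
    have h2 : Nat.card (U.subgroupOf M) = Nat.card U := by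
      rw [Nat.card_congr (Subgroup.subgroupOfEquivOfLe hUM).toEquiv]
    rw [h2, hcard] at h1
    have hpos : 0 < Nat.card U := by
      rcases Nat.eq_zero_or_pos (Nat.card U) with h0 | h0
      · rw [h0] at hcard
        have : 0 < Nat.card M := Nat.card_pos
        omega
      · exact h0
    nlinarith
  haveI hnorm : (U.subgroupOf M).Normal := Subgroup.normal_of_index_eq_two hidx
  exact Subgroup.le_normalizer_of_normal_subgroupOf hUM

theorem exists_sylow3_mem (x : G) (hx : orderOf x = 3) : ∃ P : Sylow 3 G, x ∈ (P : Subgroup G) := by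
  have hcard : Nat.card (zpowers x) = 3 ^ 1 := by rw [Nat.card_zpowers, hx]; norm_num
  obtain ⟨Q, hQ⟩ := (IsPGroup.of_card hcard).exists_le_sylow
  exact ⟨Q, hQ (mem_zpowers x)⟩

/-- There is no element of order 6: an involution and an element of order 3 never commute. -/
theorem no_six (h : Nat.card G = 504) {t x : G} (ht : orderOf t = 2) (hx : orderOf x = 3)
    (hc : t * x = x * t) : False := by
  obtain ⟨P, hxP⟩ := exists_sylow3_mem x hx
  haveI hPc := sylow3_comm h P
  have hcommP : ∀ u ∈ (P : Subgroup G), ∀ v ∈ (P : Subgroup G), u * v = v * u := by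
    intro u hu v hv
    have := hPc.is_comm.comm (⟨u, hu⟩ : (P : Subgroup G)) ⟨v, hv⟩
    exact congrArg Subtype.val this
  set C := centralizer ({x} : Set G) with hC
  have hPC : (P : Subgroup G) ≤ C := by
    intro u hu
    rw [hC, Subgroup.mem_centralizer_iff]
    intro w hw
    rw [Set.mem_singleton_iff] at hw
    rw [hw]
    exact hcommP _ hxP _ hu
  have htC : t ∈ C := by
    rw [hC, Subgroup.mem_centralizer_iff]
    intro w hw
    rw [Set.mem_singleton_iff] at hw
    rw [hw]
    exact hc.symm
  have h9 : 9 ∣ Nat.card C := by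
    have := Subgroup.card_dvd_of_le hPC
    rwa [card_sylow3 h P] at this
  have h2 : 2 ∣ Nat.card C := by
    have := orderOf_dvd_natCard (⟨t, htC⟩ : C)
    rwa [Subgroup.orderOf_mk, ht] at this
  have h7 : ¬ 7 ∣ Nat.card C := by
    intro h7
    obtain ⟨y, hy⟩ := exists_prime_orderOf_dvd_card' (G := ↥C) 7 h7
    have hyG : orderOf (y : G) = 7 := by rw [Subgroup.orderOf_coe]; exact hy
    have hxy : x * (y : G) = (y : G) * x :=
      Subgroup.mem_centralizer_iff.mp y.2 x (Set.mem_singleton x)
    have hx1 : x = 1 := not_commute7 h hyG hxy (by rw [hx]; norm_num)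
    rw [hx1, orderOf_one] at hx
    omega
  have hC504 : Nat.card C ∣ 504 := by
    have := Subgroup.card_subgroup_dvd_card C
    rwa [h] at this
  have hCne : C ≠ ⊤ := by
    intro htop
    apply h7
    rw [htop, Subgroup.card_top, h]
    norm_num
  have hCidx := index_ge h C hCne
  have hCmul := Subgroup.card_mul_index C
  rw [h] at hCmul
  have hCle : Nat.card C * 9 ≤ 504 := by
    calc Nat.card C * 9 ≤ Nat.card C * C.index := Nat.mul_le_mul_left _ hCidx
      _ = 504 := hCmul
  -- the inverting involution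
  obtain ⟨s, hsNP, hs2, hsinv⟩ := exists_inverting h P
  have hss : s * s = 1 := by
    have := pow_orderOf_eq_one s
    rwa [hs2, pow_two] at this
  have hsi : s⁻¹ = s := inv_eq_of_mul_eq_one_right hss
  have hsx : s * x * s⁻¹ = x⁻¹ := hsinv x hxP
  have hsC : s ∉ C := by
    intro hsC
    have h1 : x * s = s * x := Subgroup.mem_centralizer_iff.mp hsC x (Set.mem_singleton x)
    have h2 : x = x⁻¹ := by
      rw [← hsx, ← h1, mul_inv_cancel_right]
    have h3 : x ^ 2 = 1 := by
      rw [pow_two]
      nth_rewrite 2 [h2]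
      exact mul_inv_cancel x
    have := orderOf_dvd_of_pow_eq_one h3
    rw [hx] at this
    norm_num at this
  set N := normalizer ((zpowers x : Subgroup G) : Set G) with hN
  have hconj : ∀ w ∈ zpowers x, s * w * s⁻¹ ∈ zpowers x := by
    intro w hw
    obtain ⟨k, rfl⟩ := Subgroup.mem_zpowers_iff.mp hw
    have : s * x ^ k * s⁻¹ = (s * x * s⁻¹) ^ k := by
      rw [conj_zpow]
    rw [this, hsx]
    exact zpow_mem (inv_mem (mem_zpowers x)) k
  have hsN : s ∈ N := by
    rw [hN, Subgroup.mem_normalizer_iff]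
    intro w
    constructor
    · exact hconj w
    · intro hw
      have := hconj _ hw
      rw [hsi] at this
      have e : s * (s * w * s) * s = (s * s) * w * (s * s) := by group
      rw [e, hss, one_mul, mul_one] at this
      exact this
  have hCN : C ≤ N := by
    intro c hc
    rw [hN, Subgroup.mem_normalizer_iff]
    have hcx : Commute c x :=
      (Subgroup.mem_centralizer_iff.mp hc x (Set.mem_singleton x)).symm
    have hfix : ∀ w ∈ zpowers x, c * w * c⁻¹ = w := by
      intro w hw
      obtain ⟨k, rfl⟩ := Subgroup.mem_zpowers_iff.mp hw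
      have := (hcx.zpow_right k).eq
      rw [this, mul_inv_cancel_right]
    intro w
    constructor
    · intro hw
      rw [hfix w hw]; exact hw
    · intro hw
      have := hfix _ hw
      have e : c * w * c⁻¹ = w := by
        have h3 : c * (c * w * c⁻¹) * c⁻¹ = c * w * c⁻¹ := this
        have h4 : c * (c * w * c⁻¹) = c * w := mul_right_cancel h3
        exact mul_left_cancel h4
      rw [← e]; exact hw
  have hNne : N ≠ ⊤ := by
    apply normalizer_ne_top_of_simple
    · rw [Nat.card_zpowers, hx]; norm_num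
    · rw [Nat.card_zpowers, hx, h]; norm_num
  have hNidx := index_ge h N hNne
  have hNmul := Subgroup.card_mul_index N
  rw [h] at hNmul
  have hNle : Nat.card N * 9 ≤ 504 := by
    calc Nat.card N * 9 ≤ Nat.card N * N.index := Nat.mul_le_mul_left _ hNidx
      _ = 504 := hNmul
  have hCNdvd : Nat.card C ∣ Nat.card N := Subgroup.card_dvd_of_le hCN
  have hCNne : Nat.card C ≠ Nat.card N := by
    intro heq
    have : C = N := Subgroup.eq_of_le_of_card_ge hCN (by rw [heq])
    exact hsC (this ▸ hsN)
  have hN504 : Nat.card N ∣ 504 := by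
    have := Subgroup.card_subgroup_dvd_card N
    rwa [h] at this
  have hC18 : Nat.card C = 18 := by
    have hmemC : Nat.card C ∈ Nat.divisors 504 := Nat.mem_divisors.mpr ⟨hC504, by norm_num⟩
    have hmemN : Nat.card N ∈ Nat.divisors 504 := Nat.mem_divisors.mpr ⟨hN504, by norm_num⟩
    have key : ∀ c ∈ Nat.divisors 504, ∀ n ∈ Nat.divisors 504, 9 ∣ c → 2 ∣ c → ¬ 7 ∣ c →
        c * 9 ≤ 504 → n * 9 ≤ 504 → c ∣ n → c ≠ n → c = 18 := by decide
    exact key _ hmemC _ hmemN h9 h2 h7 hCle hNle hCNdvd hCNne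
  have hCNP : C ≤ normalizer ((P : Subgroup G) : Set G) :=
    le_normalizer_of_card_two_mul C (P : Subgroup G) hPC (by rw [hC18, card_sylow3 h P])
  have hCeq : C = normalizer ((P : Subgroup G) : Set G) :=
    Subgroup.eq_of_le_of_card_ge hCNP (by rw [hC18, card_normalizer3 h P])
  exact hsC (hCeq ▸ hsNP)

/-- The centralizer of an involution has order dividing 8. -/
theorem card_centralizer_invol_dvd (h : Nat.card G = 504) {t : G} (ht : orderOf t = 2) :
    Nat.card (centralizer ({t} : Set G)) ∣ 8 := by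
  have hdvd : Nat.card (centralizer ({t} : Set G)) ∣ 8 * 63 := by
    have := Subgroup.card_subgroup_dvd_card (centralizer ({t} : Set G))
    rwa [h] at this
  have h3 : ¬ 3 ∣ Nat.card (centralizer ({t} : Set G)) := by
    intro h3
    obtain ⟨y, hy⟩ := exists_prime_orderOf_dvd_card' (G := ↥(centralizer ({t} : Set G))) 3 h3
    have hyG : orderOf (y : G) = 3 := by rw [Subgroup.orderOf_coe]; exact hy
    have hty : t * (y : G) = (y : G) * t :=
      Subgroup.mem_centralizer_iff.mp y.2 t (Set.mem_singleton t)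
    exact no_six h ht hyG hty
  have h7 : ¬ 7 ∣ Nat.card (centralizer ({t} : Set G)) := by
    intro h7
    obtain ⟨y, hy⟩ := exists_prime_orderOf_dvd_card' (G := ↥(centralizer ({t} : Set G))) 7 h7
    have hyG : orderOf (y : G) = 7 := by rw [Subgroup.orderOf_coe]; exact hy
    have hty : t * (y : G) = (y : G) * t :=
      Subgroup.mem_centralizer_iff.mp y.2 t (Set.mem_singleton t)
    have ht1 : t = 1 := not_commute7 h hyG hty (by rw [ht]; norm_num)
    rw [ht1, orderOf_one] at ht
    omega
  have hcop : Nat.Coprime (Nat.card (centralizer ({t} : Set G))) 63 := by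
    have e : (63 : ℕ) = 3 * 3 * 7 := by norm_num
    rw [e]
    apply Nat.Coprime.mul_right
    · apply Nat.Coprime.mul_right
      · exact (Nat.coprime_comm.mp ((Nat.Prime.coprime_iff_not_dvd (by norm_num)).mpr h3))
      · exact (Nat.coprime_comm.mp ((Nat.Prime.coprime_iff_not_dvd (by norm_num)).mpr h3))
    · exact (Nat.coprime_comm.mp ((Nat.Prime.coprime_iff_not_dvd (by norm_num)).mpr h7))
  exact hcop.dvd_of_dvd_mul_right hdvd

/-- The centralizer of an element of order 3 is the Sylow 3-subgroup containing it. -/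
theorem centralizer3_eq (h : Nat.card G = 504) {x : G} (hx : orderOf x = 3) (P : Sylow 3 G)
    (hxP : x ∈ (P : Subgroup G)) : centralizer ({x} : Set G) = (P : Subgroup G) := by
  haveI hPc := sylow3_comm h P
  have hPC : (P : Subgroup G) ≤ centralizer ({x} : Set G) := by
    intro u hu
    rw [Subgroup.mem_centralizer_iff]
    intro w hw
    rw [Set.mem_singleton_iff] at hw
    rw [hw]
    have := hPc.is_comm.comm (⟨x, hxP⟩ : (P : Subgroup G)) ⟨u, hu⟩
    exact congrArg Subtype.val this
  have hdvd : Nat.card (centralizer ({x} : Set G)) ∣ 9 * 56 := by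
    have := Subgroup.card_subgroup_dvd_card (centralizer ({x} : Set G))
    rwa [h] at this
  have h2 : ¬ 2 ∣ Nat.card (centralizer ({x} : Set G)) := by
    intro h2
    obtain ⟨y, hy⟩ := exists_prime_orderOf_dvd_card' (G := ↥(centralizer ({x} : Set G))) 2 h2
    have hyG : orderOf (y : G) = 2 := by rw [Subgroup.orderOf_coe]; exact hy
    have hxy : x * (y : G) = (y : G) * x :=
      Subgroup.mem_centralizer_iff.mp y.2 x (Set.mem_singleton x)
    exact no_six h hyG hx hxy.symm
  have h7 : ¬ 7 ∣ Nat.card (centralizer ({x} : Set G)) := by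
    intro h7
    obtain ⟨y, hy⟩ := exists_prime_orderOf_dvd_card' (G := ↥(centralizer ({x} : Set G))) 7 h7
    have hyG : orderOf (y : G) = 7 := by rw [Subgroup.orderOf_coe]; exact hy
    have hxy : x * (y : G) = (y : G) * x :=
      Subgroup.mem_centralizer_iff.mp y.2 x (Set.mem_singleton x)
    have hx1 : x = 1 := not_commute7 h hyG hxy (by rw [hx]; norm_num)
    rw [hx1, orderOf_one] at hx
    omega
  have hcop : Nat.Coprime (Nat.card (centralizer ({x} : Set G))) 56 := by
    have e : (56 : ℕ) = 2 * 2 * 2 * 7 := by norm_num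
    rw [e]
    have c2 := (Nat.coprime_comm.mp ((Nat.Prime.coprime_iff_not_dvd (by norm_num)).mpr h2))
    have c7 := (Nat.coprime_comm.mp ((Nat.Prime.coprime_iff_not_dvd (by norm_num)).mpr h7))
    exact ((c2.mul_right c2).mul_right c2).mul_right c7
  have h9 : Nat.card (centralizer ({x} : Set G)) ∣ 9 := hcop.dvd_of_dvd_mul_right hdvd
  have hle : Nat.card (centralizer ({x} : Set G)) ≤ 9 := Nat.le_of_dvd (by norm_num) h9
  exact (Subgroup.eq_of_le_of_card_ge hPC (by rw [card_sylow3 h P]; exact hle)).symm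

/-- Sylow 3-subgroups intersect trivially. -/
theorem sylow3_ti (h : Nat.card G = 504) (P Q : Sylow 3 G) {a : G} (haP : a ∈ (P : Subgroup G))
    (haQ : a ∈ (Q : Subgroup G)) (ha : a ≠ 1) : P = Q := by
  have hord : orderOf a ∣ 9 := by
    have := orderOf_dvd_natCard (⟨a, haP⟩ : (P : Subgroup G))
    rwa [Subgroup.orderOf_mk, card_sylow3 h P] at this
  have hne1 : orderOf a ≠ 1 := fun h1 => ha (orderOf_eq_one_iff.mp h1)
  have hcases : orderOf a = 3 ∨ orderOf a = 9 := by
    have hmem : orderOf a ∈ Nat.divisors 9 := Nat.mem_divisors.mpr ⟨hord, by norm_num⟩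
    have key : ∀ n ∈ Nat.divisors 9, n ≠ 1 → n = 3 ∨ n = 9 := by decide
    exact key _ hmem hne1
  obtain ⟨x, hxP, hxQ, hx⟩ : ∃ x, x ∈ (P : Subgroup G) ∧ x ∈ (Q : Subgroup G) ∧ orderOf x = 3 := by
    rcases hcases with h3 | h9
    · exact ⟨a, haP, haQ, h3⟩
    · refine ⟨a ^ 3, pow_mem haP 3, pow_mem haQ 3, ?_⟩
      rw [orderOf_pow' a (by norm_num : (3 : ℕ) ≠ 0), h9]
      norm_num
  apply Sylow.ext
  rw [← centralizer3_eq h hx P hxP, centralizer3_eq h hx Q hxQ]

/-- lower bound on the number of non-identity 3-elements -/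
theorem card_three_elements_ge (h : Nat.card G = 504) :
    224 ≤ Nat.card {g : G // g ≠ 1 ∧ g ^ 9 = 1} := by
  classical
  have hpow : ∀ (S : Sylow 3 G) (g : G), g ∈ (S : Subgroup G) → g ^ 9 = 1 := by
    intro S g hg
    have h1 : (⟨g, hg⟩ : (S : Subgroup G)) ^ Nat.card (S : Subgroup G) = 1 := pow_card_eq_one'
    rw [card_sylow3 h S] at h1
    have := congrArg Subtype.val h1
    simpa using this
  let f : (Σ S : Sylow 3 G, {g : (S : Subgroup G) // g ≠ 1}) → {g : G // g ≠ 1 ∧ g ^ 9 = 1} :=
    fun x => ⟨x.2.1.1, fun h1 => x.2.2 (Subtype.ext h1), hpow x.1 x.2.1.1 x.2.1.2⟩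
  have hf : Function.Injective f := by
    rintro ⟨S, ⟨⟨g, hg⟩, hne⟩⟩ ⟨S', ⟨⟨g', hg'⟩, hne'⟩⟩ hh
    have hgg : g = g' := congrArg Subtype.val hh
    subst hgg
    have hSS : S = S' := sylow3_ti h S S' hg hg' (fun h1 => hne (Subtype.ext h1))
    subst hSS
    rfl
  have hle := Nat.card_le_card_of_injective f hf
  haveI := Fintype.ofFinite (Sylow 3 G)
  rw [Nat.card_sigma] at hle
  have hfib : ∀ S : Sylow 3 G, Nat.card {g : (S : Subgroup G) // g ≠ 1} = 8 := by
    intro S
    haveI := Fintype.ofFinite (S : Subgroup G)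
    rw [Nat.card_eq_fintype_card, Fintype.card_subtype_compl, ← Nat.card_eq_fintype_card,
      card_sylow3 h S]
    simp
  simp only [hfib] at hle
  rw [Finset.sum_const, Finset.card_univ, ← Nat.card_eq_fintype_card, n3 h, smul_eq_mul] at hle
  omega

/-- upper bound on the number of non-identity 2-elements -/
theorem card_two_elements_le (h : Nat.card G = 504) :
    Nat.card {g : G // g ≠ 1 ∧ g ^ 8 = 1} ≤ 63 := by
  classical
  haveI := Fintype.ofFinite G
  have h7 : Nat.card {g : G // orderOf g = 7} = 216 := by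
    rw [card_orderOf_eq_prime (fun P => card_sylow7 h P), n7 h]
  have h3 := card_three_elements_ge h
  have hG : Fintype.card G = 504 := by rw [← Nat.card_eq_fintype_card, h]
  rw [Nat.card_eq_fintype_card, Fintype.card_subtype] at h7 h3 ⊢
  have a79 : ∀ g : G, orderOf g = 7 → g ^ 9 = 1 → False := by
    intro g h1 h2
    have := orderOf_dvd_of_pow_eq_one h2
    rw [h1] at this
    norm_num at this
  have a78 : ∀ g : G, orderOf g = 7 → g ^ 8 = 1 → False := by
    intro g h1 h2
    have := orderOf_dvd_of_pow_eq_one h2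
    rw [h1] at this
    norm_num at this
  have a98 : ∀ g : G, g ^ 9 = 1 → g ^ 8 = 1 → g = 1 := by
    intro g h1 h2
    rw [pow_succ, h2, one_mul] at h1
    exact h1
  have key : ∀ g : G, (if orderOf g = 7 then 1 else 0) + (if g ≠ 1 ∧ g ^ 9 = 1 then 1 else 0) +
      (if g ≠ 1 ∧ g ^ 8 = 1 then 1 else 0) + (if g = 1 then 1 else 0) ≤ 1 := by
    intro g
    by_cases hg1 : g = 1
    · subst hg1
      simp
    · by_cases hg7 : orderOf g = 7
      · have n9 : ¬ g ^ 9 = 1 := fun hh => a79 g hg7 hh
        have n8 : ¬ g ^ 8 = 1 := fun hh => a78 g hg7 hh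
        simp [hg1, hg7, n9, n8]
      · by_cases hg9 : g ^ 9 = 1
        · have n8 : ¬ g ^ 8 = 1 := fun hh => hg1 (a98 g hg9 hh)
          simp [hg1, hg7, hg9, n8]
        · by_cases hg8 : g ^ 8 = 1 <;> simp [hg1, hg7, hg9, hg8]
  have hsum := Finset.sum_le_sum (fun g (_ : g ∈ (Finset.univ : Finset G)) => key g)
  simp only [Finset.sum_add_distrib, ← Finset.card_filter] at hsum
  have e1 : (Finset.univ.filter (fun g : G => g = 1)).card = 1 := by
    rw [Finset.filter_eq' Finset.univ (1 : G)]
    simp
  rw [e1] at hsum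
  simp only [Finset.sum_const, Finset.card_univ, smul_eq_mul, mul_one, hG] at hsum
  omega

/-- A Sylow 2-subgroup has a central involution. -/
theorem exists_central_involution (h : Nat.card G = 504) (T : Sylow 2 G) :
    ∃ z ∈ (T : Subgroup G), orderOf z = 2 ∧ ∀ t ∈ (T : Subgroup G), t * z = z * t := by
  haveI : Nontrivial (T : Subgroup G) := by
    rw [← Finite.one_lt_card_iff_nontrivial, card_sylow2 h T]; norm_num
  have hTp : IsPGroup 2 (T : Subgroup G) := T.isPGroup'
  haveI := hTp.center_nontrivial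
  have hcard1 : Nat.card (Subgroup.center (T : Subgroup G)) ≠ 1 := by
    rw [Ne, Subgroup.card_eq_one]
    exact Subgroup.nontrivial_iff_ne_bot _ |>.mp inferInstance
  have hdvd8 : Nat.card (Subgroup.center (T : Subgroup G)) ∣ 8 := by
    have := Subgroup.card_subgroup_dvd_card (Subgroup.center (T : Subgroup G))
    rwa [card_sylow2 h T] at this
  have h2dvd : 2 ∣ Nat.card (Subgroup.center (T : Subgroup G)) := by
    have hmem : Nat.card (Subgroup.center (T : Subgroup G)) ∈ Nat.divisors 8 :=
      Nat.mem_divisors.mpr ⟨hdvd8, by norm_num⟩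
    have key : ∀ n ∈ Nat.divisors 8, n ≠ 1 → 2 ∣ n := by decide
    exact key _ hmem hcard1
  obtain ⟨u, hu⟩ := exists_prime_orderOf_dvd_card'
    (G := ↥(Subgroup.center (T : Subgroup G))) 2 h2dvd
  refine ⟨((u : (T : Subgroup G)) : G), (u : (T : Subgroup G)).2, ?_, ?_⟩
  · rw [Subgroup.orderOf_coe, Subgroup.orderOf_coe]; exact hu
  · intro t ht
    have := (Subgroup.mem_center_iff.mp u.2) ⟨t, ht⟩
    exact congrArg Subtype.val this

/-- Every 2-element is an involution (or trivial). -/
theorem sq_eq_one_of_pow_eight (h : Nat.card G = 504) {g : G} (hg : g ^ 8 = 1) : g ^ 2 = 1 := by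
  classical
  by_cases hg1 : g = 1
  · rw [hg1, one_pow]
  obtain ⟨T⟩ : Nonempty (Sylow 2 G) := inferInstance
  obtain ⟨z, hzT, hz2, hzc⟩ := exists_central_involution h T
  have hz1 : z ≠ 1 := by
    intro h1
    rw [h1, orderOf_one] at hz2
    omega
  have hzz : z ^ 2 = 1 := by
    have := pow_orderOf_eq_one z
    rwa [hz2] at this
  -- the centralizer of `z` has order 8
  have hTC : (T : Subgroup G) ≤ centralizer ({z} : Set G) := by
    intro t ht
    rw [Subgroup.mem_centralizer_iff]
    intro w hw
    rw [Set.mem_singleton_iff] at hw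
    rw [hw]
    exact (hzc t ht).symm
  have hC8 : Nat.card (centralizer ({z} : Set G)) = 8 := by
    have h1 := card_centralizer_invol_dvd h hz2
    have h2 := Subgroup.card_dvd_of_le hTC
    rw [card_sylow2 h T] at h2
    exact Nat.dvd_antisymm h1 h2
  have hclass : Nat.card {y : G // IsConj z y} = 63 := by
    have hh := Cfsg.Agent.S1019.card_preimage_conj z (Set.univ : Set G)
    have e1 : Nat.card {g : G // g⁻¹ * z * g ∈ (Set.univ : Set G)} = Nat.card G :=
      Nat.card_congr (Equiv.subtypeUnivEquiv (fun g => Set.mem_univ _))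
    have e2 : Nat.card {y : G // IsConj z y ∧ y ∈ (Set.univ : Set G)} =
        Nat.card {y : G // IsConj z y} :=
      Nat.card_congr (Equiv.subtypeEquivRight (fun y => by simp))
    rw [e1, e2, h, hC8] at hh
    omega
  have hle := card_two_elements_le h
  haveI := Fintype.ofFinite G
  rw [Nat.card_eq_fintype_card, Fintype.card_subtype] at hclass hle
  have hsub : (Finset.univ.filter (fun y : G => IsConj z y)) ⊆
      (Finset.univ.filter (fun y : G => y ≠ 1 ∧ y ^ 8 = 1)) := by
    intro y hy
    rw [Finset.mem_filter] at hy ⊢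
    refine ⟨Finset.mem_univ _, ?_⟩
    obtain ⟨c, hc⟩ := isConj_iff.mp hy.2
    constructor
    · intro hy1
      rw [hy1] at hc
      apply hz1
      have : z = c⁻¹ * 1 * c := by rw [← hc]; group
      rw [this]; group
    · rw [← hc, conj_pow]
      have : z ^ 8 = 1 := by
        have e : z ^ 8 = (z ^ 2) ^ 4 := by rw [← pow_mul]
        rw [e, hzz, one_pow]
      rw [this]; group
  have heq := Finset.eq_of_subset_of_card_le hsub (by rw [hclass]; exact hle)
  have hgmem : g ∈ Finset.univ.filter (fun y : G => IsConj z y) := by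
    rw [heq, Finset.mem_filter]
    exact ⟨Finset.mem_univ _, hg1, hg⟩
  rw [Finset.mem_filter] at hgmem
  obtain ⟨c, hc⟩ := isConj_iff.mp hgmem.2
  rw [← hc, conj_pow, hzz]
  group

/-- A Sylow 2-subgroup is elementary abelian. -/
theorem sylow2_sq (h : Nat.card G = 504) (T : Sylow 2 G) {g : G} (hg : g ∈ (T : Subgroup G)) :
    g ^ 2 = 1 := by
  apply sq_eq_one_of_pow_eight h
  have h1 : (⟨g, hg⟩ : (T : Subgroup G)) ^ Nat.card (T : Subgroup G) = 1 := pow_card_eq_one'
  rw [card_sylow2 h T] at h1
  have := congrArg Subtype.val h1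
  simpa using this

theorem sylow2_comm (h : Nat.card G = 504) (T : Sylow 2 G) {a b : G} (ha : a ∈ (T : Subgroup G))
    (hb : b ∈ (T : Subgroup G)) : a * b = b * a := by
  have h1 := sylow2_sq h T ha
  have h2 := sylow2_sq h T hb
  have h3 := sylow2_sq h T (mul_mem ha hb)
  rw [pow_two] at h1 h2 h3
  -- (ab)(ab) = 1, aa = 1, bb = 1 ⇒ ab = ba
  have h4 : a * b = (a * b)⁻¹ := eq_inv_of_mul_eq_one_left h3
  have ha' : a⁻¹ = a := inv_eq_of_mul_eq_one_right h1
  have hb' : b⁻¹ = b := inv_eq_of_mul_eq_one_right h2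
  rw [h4, mul_inv_rev, ha', hb']

/-- The centralizer of an involution is a Sylow 2-subgroup. -/
theorem centralizer_invol (h : Nat.card G = 504) {t : G} (ht : orderOf t = 2) :
    ∃ T : Sylow 2 G, centralizer ({t} : Set G) = (T : Subgroup G) := by
  have hcard : Nat.card (zpowers t) = 2 ^ 1 := by rw [Nat.card_zpowers, ht]; norm_num
  obtain ⟨T, hT⟩ := (IsPGroup.of_card hcard).exists_le_sylow
  have htT : t ∈ (T : Subgroup G) := hT (mem_zpowers t)
  refine ⟨T, ?_⟩
  have hTC : (T : Subgroup G) ≤ centralizer ({t} : Set G) := by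
    intro u hu
    rw [Subgroup.mem_centralizer_iff]
    intro w hw
    rw [Set.mem_singleton_iff] at hw
    rw [hw]
    exact sylow2_comm h T htT hu
  have h1 := card_centralizer_invol_dvd h ht
  have hle : Nat.card (centralizer ({t} : Set G)) ≤ 8 := Nat.le_of_dvd (by norm_num) h1
  exact (Subgroup.eq_of_le_of_card_ge hTC (by rw [card_sylow2 h T]; exact hle)).symm

end Cfsg.Agent.Helper61.G504
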