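import Mathlib
import Cfsg.Agent.Helper17.SylowKit
import Cfsg.Agent.Helper17.SylowKit2
import Cfsg.Agent.Helper61.G504

set_option autoImplicit false

/-! # Local analysis of a simple group of order 360: Sylow 3-subgroups -/

namespace Cfsg.Agent.Helper61.G360

open Subgroup MulAction Cfsg.Agent.Helper17

variable {G : Type*} [Group G] [Finite G] [IsSimpleGroup G]

local instance fact2 : Fact (Nat.Prime 2) := ⟨by norm_num⟩
local instance fact3 : Fact (Nat.Prime 3) := ⟨by norm_num⟩

theorem not_comm (h : Nat.card G = 360) : ¬ IsMulCommutative G :=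
  not_comm_of_simple_of_not_prime (by rw [h]; norm_num)

theorem card3 (h : Nat.card G = 360) : Nat.card G = 3 ^ 2 * 40 := by rw [h]; norm_num
theorem card2 (h : Nat.card G = 360) : Nat.card G = 2 ^ 3 * 45 := by rw [h]; norm_num

theorem card_sylow3 (h : Nat.card G = 360) (P : Sylow 3 G) : Nat.card (P : Subgroup G) = 9 := by
  simpa using card_sylow_subgroup_of_card_eq (card3 h) (by norm_num) P

theorem card_sylow2 (h : Nat.card G = 360) (P : Sylow 2 G) : Nat.card (P : Subgroup G) = 8 := by
  simpa using card_sylow_subgroup_of_card_eq (card2 h) (by norm_num) P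

theorem sylow3_comm (h : Nat.card G = 360) (P : Sylow 3 G) :
    IsMulCommutative (P : Subgroup G) :=
  IsPGroup.isMulCommutative_of_card_eq_prime_sq (p := 3) (by rw [card_sylow3 h P]; norm_num)

/-- no proper subgroup of index `≤ 5`. -/
theorem index_ge (h : Nat.card G = 360) (H : Subgroup G) (hH : H ≠ ⊤) : 6 ≤ H.index := by
  have hdvd := two_mul_card_dvd_factorial_index (not_comm h) H hH
  rw [h] at hdvd
  by_contra hlt
  push Not at hlt
  have h5 : (H.index).factorial ∣ (5).factorial := Nat.factorial_dvd_factorial (by omega)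
  have := hdvd.trans h5
  norm_num [Nat.factorial] at this

theorem center_eq_bot (h : Nat.card G = 360) : center G = ⊥ := by
  rcases (inferInstance : (center G).Normal).eq_bot_or_eq_top with hb | ht
  · exact hb
  · exfalso
    apply not_comm h
    refine ⟨⟨fun a b => ?_⟩⟩
    have hb : b ∈ center G := ht ▸ Subgroup.mem_top b
    exact Subgroup.mem_center_iff.mp hb a

theorem n3 (h : Nat.card G = 360) : Nat.card (Sylow 3 G) = 10 := by
  have hdvd : Nat.card (Sylow 3 G) ∣ 40 := card_sylow_dvd_of_card_eq (card3 h) (by norm_num)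
  have hmod : Nat.card (Sylow 3 G) ≡ 1 [MOD 3] := card_sylow_modEq_one 3 G
  have hne1 : Nat.card (Sylow 3 G) ≠ 1 :=
    card_sylow_ne_one_of_simple (card3 h) (by norm_num) (by norm_num) (by norm_num)
  obtain ⟨P⟩ : Nonempty (Sylow 3 G) := inferInstance
  have hidx : (normalizer ((P : Subgroup G) : Set G)).index = Nat.card (Sylow 3 G) :=
    P.card_eq_index_normalizer.symm
  have hne : normalizer ((P : Subgroup G) : Set G) ≠ ⊤ := by
    intro htop
    rw [htop, Subgroup.index_top] at hidx
    exact hne1 hidx.symm
  have h6 := index_ge h _ hne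
  rw [hidx] at h6
  have hmem : Nat.card (Sylow 3 G) ∈ Nat.divisors 40 := Nat.mem_divisors.mpr ⟨hdvd, by norm_num⟩
  have key : ∀ n ∈ Nat.divisors 40, n % 3 = 1 → 6 ≤ n → n = 10 ∨ n = 40 := by decide
  rcases key _ hmem hmod h6 with h10 | h40
  · exact h10
  · exfalso
    have hN := card_normalizer_mul_card_sylow P
    rw [h40, h] at hN
    have hN9 : Nat.card (normalizer ((P : Subgroup G) : Set G)) = 9 := by omega
    have hNP : (P : Subgroup G) = normalizer ((P : Subgroup G) : Set G) :=
      Subgroup.eq_of_le_of_card_ge le_normalizer (by rw [hN9, card_sylow3 h P])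
    haveI := sylow3_comm h P
    apply not_normalizer_le_centralizer_of_simple P (by rw [card_sylow3 h P]; norm_num)
      (by rw [card_sylow3 h P, h]; norm_num)
    rw [← hNP]
    exact Subgroup.le_centralizer _

theorem card_normalizer3 (h : Nat.card G = 360) (P : Sylow 3 G) :
    Nat.card (normalizer ((P : Subgroup G) : Set G)) = 36 := by
  have := card_normalizer_mul_card_sylow P
  rw [n3 h, h] at this
  omega

/-- Sylow 3-subgroups intersect trivially. -/
theorem sylow3_ti (h : Nat.card G = 360) (P Q : Sylow 3 G) {x : G} (hxP : x ∈ (P : Subgroup G))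
    (hxQ : x ∈ (Q : Subgroup G)) (hx : x ≠ 1) : P = Q := by
  by_contra hPQ
  haveI hPc := sylow3_comm h P
  haveI hQc := sylow3_comm h Q
  set M := centralizer ({x} : Set G) with hM
  have hPM : (P : Subgroup G) ≤ M := by
    intro u hu
    rw [Subgroup.mem_centralizer_iff]
    intro w hw
    rw [Set.mem_singleton_iff] at hw
    rw [hw]
    exact congrArg Subtype.val (hPc.is_comm.comm (⟨x, hxP⟩ : (P : Subgroup G)) ⟨u, hu⟩)
  have hQM : (Q : Subgroup G) ≤ M := by
    intro u hu
    rw [Subgroup.mem_centralizer_iff]
    intro w hw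
    rw [Set.mem_singleton_iff] at hw
    rw [hw]
    exact congrArg Subtype.val (hQc.is_comm.comm (⟨x, hxQ⟩ : (Q : Subgroup G)) ⟨u, hu⟩)
  have hMtop : M ≠ ⊤ := by
    intro htop
    have hxc : x ∈ center G := by
      rw [Subgroup.mem_center_iff]
      intro g
      have hg : g ∈ M := htop ▸ Subgroup.mem_top g
      exact (Subgroup.mem_centralizer_iff.mp hg x rfl).symm
    rw [center_eq_bot h, Subgroup.mem_bot] at hxc
    exact hx hxc
  have hidx := index_ge h M hMtop
  have hMcard := Subgroup.card_mul_index M
  rw [h] at hMcard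
  -- Sylow 3-subgroups of `M`
  have hne : P.subtype hPM ≠ Q.subtype hQM := fun h' => hPQ (Sylow.subtype_injective h')
  have hP'card : Nat.card ((P.subtype hPM : Sylow 3 M) : Subgroup M) = 9 := by
    rw [Sylow.coe_subtype, Nat.card_congr (subgroupOfEquivOfLe hPM).toEquiv]
    exact card_sylow3 h P
  have hmod : Nat.card (Sylow 3 M) ≡ 1 [MOD 3] := card_sylow_modEq_one 3 M
  have hn1 : Nat.card (Sylow 3 M) ≠ 1 :=
    fun hone => hne ((Nat.card_eq_one_iff_unique.mp hone).1.elim _ _)
  have hdvd : Nat.card (Sylow 3 M) ∣ ((P.subtype hPM : Sylow 3 M) : Subgroup M).index :=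
    (P.subtype hPM).card_dvd_index
  have hmul := Subgroup.card_mul_index ((P.subtype hPM : Sylow 3 M) : Subgroup M)
  rw [hP'card] at hmul
  have key : Nat.card (Sylow 3 M) = 4 ∧ Nat.card M = 36 := by
    obtain ⟨m, hm⟩ := hdvd
    rw [hm] at hmul
    have hmod' : Nat.card (Sylow 3 M) % 3 = 1 := hmod
    generalize Nat.card (Sylow 3 M) = n at *
    generalize Nat.card M = c at *
    generalize M.index = i at *
    have h40 : n * m * i = 40 := by
      have : 9 * (n * m * i) = 360 := by rw [← hMcard, ← hmul]; ring
      omega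
    have hm0 : 0 < m := by
      rcases Nat.eq_zero_or_pos m with h0 | h0
      · rw [h0] at h40; omega
      · exact h0
    have hnle : n ≤ 6 := by
      by_contra hcon
      push Not at hcon
      have : 7 * 1 * 6 ≤ n * m * i := by
        apply Nat.mul_le_mul (Nat.mul_le_mul hcon hm0) hidx
      omega
    have hn4 : n = 4 := by
      interval_cases n <;> omega
    subst hn4
    refine ⟨rfl, ?_⟩
    have hm1 : m = 1 := by
      by_contra hcon
      have hm2 : 2 ≤ m := by omega
      have : 4 * 2 * 6 ≤ 4 * m * i := by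
        apply Nat.mul_le_mul (Nat.mul_le_mul le_rfl hm2) hidx
      omega
    subst hm1
    omega
  obtain ⟨hn4, hM36⟩ := key
  -- the normalizer of `P` in `M` is `P`
  have hNidx : (normalizer (((P.subtype hPM : Sylow 3 M) : Subgroup M) : Set M)).index = 4 := by
    have := (P.subtype hPM).card_eq_index_normalizer
    rw [hn4] at this
    exact this.symm
  have hN9 : Nat.card (normalizer (((P.subtype hPM : Sylow 3 M) : Subgroup M) : Set M)) = 9 := by
    have := Subgroup.card_mul_index (normalizer (((P.subtype hPM : Sylow 3 M) : Subgroup M) : Set M))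
    rw [hNidx, hM36] at this
    omega
  have hNP : ((P.subtype hPM : Sylow 3 M) : Subgroup M) =
      normalizer (((P.subtype hPM : Sylow 3 M) : Subgroup M) : Set M) :=
    Subgroup.eq_of_le_of_card_ge le_normalizer (by rw [hN9, hP'card])
  haveI hP'c : IsMulCommutative ((P.subtype hPM : Sylow 3 M) : Subgroup M) :=
    IsPGroup.isMulCommutative_of_card_eq_prime_sq (p := 3) (by rw [hP'card]; norm_num)
  have hle : normalizer (((P.subtype hPM : Sylow 3 M) : Subgroup M) : Set M) ≤
      centralizer (((P.subtype hPM : Sylow 3 M) : Subgroup M) : Set M) := by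
    rw [← hNP]
    exact Subgroup.le_centralizer _
  have hc := MonoidHom.ker_transferSylow_isComplement' (P.subtype hPM) hle
  have hcc := hc.card_mul_card
  rw [hP'card, hM36] at hcc
  set T' : Subgroup M := (MonoidHom.transferSylow (P.subtype hPM) hle).ker with hT'
  have hT'4 : Nat.card T' = 4 := by omega
  haveI hT'n : T'.Normal := MonoidHom.normal_ker _
  set T : Subgroup G := T'.map M.subtype with hT
  have hT4 : Nat.card T = 4 := by
    rw [hT, Subgroup.card_map_of_injective M.subtype_injective, hT'4]
  have hMN : M ≤ normalizer (T : Set G) := by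
    have h1 := Subgroup.le_normalizer_map (H := T') M.subtype
    rw [Subgroup.normalizer_eq_top, ← MonoidHom.range_eq_map, Subgroup.range_subtype] at h1
    exact h1
  -- a Sylow 2-subgroup containing `T`
  have hTp : IsPGroup 2 T := IsPGroup.of_card (n := 2) (by rw [hT4]; norm_num)
  obtain ⟨S, hTS⟩ := hTp.exists_le_sylow
  have hSN : (S : Subgroup G) ≤ normalizer (T : Set G) :=
    G504.le_normalizer_of_card_two_mul (S : Subgroup G) T hTS (by rw [card_sylow2 h S, hT4])
  have h36 : 36 ∣ Nat.card (normalizer (T : Set G)) := by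
    rw [← hM36]; exact Subgroup.card_dvd_of_le hMN
  have h8 : 8 ∣ Nat.card (normalizer (T : Set G)) := by
    rw [← card_sylow2 h S]; exact Subgroup.card_dvd_of_le hSN
  have h72 : 72 ∣ Nat.card (normalizer (T : Set G)) := by
    have := Nat.lcm_dvd h36 h8
    norm_num at this
    exact this
  have hNtop : normalizer (T : Set G) ≠ ⊤ :=
    normalizer_ne_top_of_simple T (by rw [hT4]; norm_num) (by rw [hT4, h]; norm_num)
  have hNidx := index_ge h _ hNtop
  have hNcard := Subgroup.card_mul_index (normalizer (T : Set G))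
  rw [h] at hNcard
  obtain ⟨k, hk⟩ := h72
  rw [hk] at hNcard
  have : k * (normalizer (T : Set G)).index = 5 := by nlinarith
  have hk0 : 0 < k := by
    rcases Nat.eq_zero_or_pos k with h0 | h0
    · rw [h0] at this; omega
    · exact h0
  nlinarith

end Cfsg.Agent.Helper61.G360
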