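import Cfsg.Agent.Helper61.G360a
import Cfsg.Agent.Helper17.SylowInter

set_option autoImplicit false

/-! # A simple group of order 360 acting on its ten Sylow 3-subgroups -/

namespace Cfsg.Agent.Helper61.G360

open Subgroup MulAction Cfsg.Agent.Helper17

variable {G : Type*} [Group G] [Finite G] [IsSimpleGroup G]

local instance fact3' : Fact (Nat.Prime 3) := ⟨by norm_num⟩

/-- a Sylow 3-subgroup acts freely on the other Sylow 3-subgroups -/
theorem free (h : Nat.card G = 360) (X Y : Sylow 3 G) (hXY : Y ≠ X) {k : G}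
    (hk : k ∈ (X : Subgroup G)) (hkY : k • Y = Y) : k = 1 := by
  by_contra hk1
  have hkN : k ∈ normalizer ((Y : Subgroup G) : Set G) := Sylow.smul_eq_iff_mem_normalizer.mp hkY
  have hmem : k ∈ (X : Subgroup G) ⊓ normalizer ((Y : Subgroup G) : Set G) := ⟨hk, hkN⟩
  have hmem' : k ∈ (X : Subgroup G) ⊓ (Y : Subgroup G) := by
    rw [← X.2.inf_normalizer_sylow Y]
    exact hmem
  exact hXY (sylow3_ti h X Y hmem'.1 hmem'.2 hk1).symm

theorem smul_self (X : Sylow 3 G) {k : G} (hk : k ∈ (X : Subgroup G)) : k • X = X :=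
  Sylow.smul_eq_iff_mem_normalizer.mpr (le_normalizer hk)

theorem smul_ne (X Y : Sylow 3 G) (hXY : Y ≠ X) {k : G} (hk : k ∈ (X : Subgroup G)) :
    k • Y ≠ X := by
  intro hc
  apply hXY
  have : k • Y = k • X := hc.trans (smul_self X hk).symm
  exact smul_left_cancel k this

/-- a Sylow 3-subgroup is transitive on the other Sylow 3-subgroups -/
theorem exists_smul_eq' (h : Nat.card G = 360) (X Y Z : Sylow 3 G) (hY : Y ≠ X) (hZ : Z ≠ X) :
    ∃ k ∈ (X : Subgroup G), k • Y = Z := by
  have hinf : (X : Subgroup G) ⊓ (Y : Subgroup G) = ⊥ := by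
    rw [eq_bot_iff]
    intro x hx
    rw [Subgroup.mem_bot]
    by_contra hx1
    exact hY (sylow3_ti h X Y hx.1 hx.2 hx1).symm
  have horb : Nat.card (orbit (X : Subgroup G) Y) = 9 := by
    rw [card_orbit_sylow_eq_index]
    have := index_subgroupOf_mul_card_inf (X : Subgroup G) (Y : Subgroup G)
    rw [hinf, Subgroup.card_bot, mul_one, card_sylow3 h X] at this
    exact this
  have hsub : orbit (X : Subgroup G) Y ⊆ ({X}ᶜ : Set (Sylow 3 G)) := by
    rintro W ⟨k, rfl⟩
    rw [Set.mem_compl_iff, Set.mem_singleton_iff]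
    exact smul_ne X Y hY k.2
  have hcompl : ({X}ᶜ : Set (Sylow 3 G)).ncard = 9 := by
    have := Set.ncard_add_ncard_compl ({X} : Set (Sylow 3 G))
    rw [Set.ncard_singleton, n3 h] at this
    omega
  have heq : orbit (X : Subgroup G) Y = ({X}ᶜ : Set (Sylow 3 G)) := by
    apply Set.eq_of_subset_of_ncard_le hsub
    rw [hcompl, ← Nat.card_coe_set_eq, horb]
  have hZmem : Z ∈ orbit (X : Subgroup G) Y := by
    rw [heq, Set.mem_compl_iff, Set.mem_singleton_iff]
    exact hZ
  obtain ⟨k, hk⟩ := hZmem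
  exact ⟨k.1, k.2, hk⟩

/-- the action on Sylow 3-subgroups is faithful -/
theorem toPermHom_injective (h : Nat.card G = 360) :
    Function.Injective (MulAction.toPermHom G (Sylow 3 G)) := by
  rw [← MonoidHom.ker_eq_bot_iff]
  rcases (MonoidHom.normal_ker (MulAction.toPermHom G (Sylow 3 G))).eq_bot_or_eq_top with hb | ht
  · exact hb
  · exfalso
    obtain ⟨P⟩ : Nonempty (Sylow 3 G) := inferInstance
    have hN : normalizer ((P : Subgroup G) : Set G) = ⊤ := by
      rw [eq_top_iff]
      intro g _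
      have hg : g ∈ (MulAction.toPermHom G (Sylow 3 G)).ker := ht ▸ Subgroup.mem_top g
      rw [MonoidHom.mem_ker] at hg
      have : g • P = P := by
        have := congrArg (fun σ => σ P) hg
        simpa using this
      exact Sylow.smul_eq_iff_mem_normalizer.mp this
    have hidx : (normalizer ((P : Subgroup G) : Set G)).index = Nat.card (Sylow 3 G) :=
      P.card_eq_index_normalizer.symm
    rw [hN, Subgroup.index_top, n3 h] at hidx
    omega

/-- 3-elements of `N(X)` lie in `X` -/
theorem mem_of_orderOf_three (X : Sylow 3 G) {t : G} (ht : orderOf t = 3)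
    (htN : t ∈ normalizer ((X : Subgroup G) : Set G)) : t ∈ (X : Subgroup G) := by
  have hp : IsPGroup 3 (zpowers t) := IsPGroup.of_card (n := 1) (by rw [Nat.card_zpowers, ht]; norm_num)
  have hmem : t ∈ zpowers t ⊓ normalizer ((X : Subgroup G) : Set G) := ⟨mem_zpowers t, htN⟩
  have hmem' : t ∈ zpowers t ⊓ (X : Subgroup G) := by
    rw [← hp.inf_normalizer_sylow X]
    exact hmem
  exact hmem'.2

end Cfsg.Agent.Helper61.G360
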