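import Cfsg.Agent.Helper61.G360b
import Cfsg.Agent.Helper17.Embed

set_option autoImplicit false

/-! # A simple group of order 360: only the identity fixes three Sylow 3-subgroups -/

namespace Cfsg.Agent.Helper61.G360

open Subgroup MulAction Cfsg.Agent.Helper17

variable {G : Type*} [Group G] [Finite G] [IsSimpleGroup G]

local instance fact3'' : Fact (Nat.Prime 3) := ⟨by norm_num⟩

/-- no involution fixes three Sylow 3-subgroups -/
theorem invol_fixed (h : Nat.card G = 360) (X Y Z : Sylow 3 G) (hXY : X ≠ Y) (hYZ : Y ≠ Z)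
    (hXZ : X ≠ Z) {t : G} (ht : t * t = 1) (ht1 : t ≠ 1) (hX : t • X = X) (hY : t • Y = Y)
    (hZ : t • Z = Z) : False := by
  classical
  haveI : Fintype (Sylow 3 G) := Fintype.ofFinite _
  set C : Subgroup G := (X : Subgroup G) ⊓ centralizer ({t} : Set G) with hC
  have htN : t ∈ normalizer ((X : Subgroup G) : Set G) := Sylow.smul_eq_iff_mem_normalizer.mp hX
  have htinv : t⁻¹ = t := inv_eq_of_mul_eq_one_left ht
  let φ : C → Sylow 3 G := fun c => (c : G) • Y
  have hφinj : Function.Injective φ := by
    intro c c' hcc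
    have h1 : ((c' : G)⁻¹ * (c : G)) • Y = Y := by
      rw [mul_smul, show (c : G) • Y = (c' : G) • Y from hcc, inv_smul_smul]
    have h2 := free h X Y hXY.symm (mul_mem (inv_mem c'.2.1) c.2.1) h1
    exact Subtype.ext (inv_mul_eq_one.mp h2).symm
  set F : Set (Sylow 3 G) := {W | t • W = W} with hF
  have hFeq : F = insert X (Set.range φ) := by
    ext W
    rw [Set.mem_insert_iff, hF, Set.mem_setOf_eq]
    constructor
    · intro hW
      by_cases hWX : W = X
      · exact Or.inl hWX
      · right
        obtain ⟨w, hw, hwY⟩ := exists_smul_eq' h X Y W hXY.symm hWX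
        have hw' : t * w * t⁻¹ ∈ (X : Subgroup G) := (mem_normalizer_iff.mp htN w).mp hw
        have h1 : (t * w * t⁻¹) • Y = w • Y := by
          rw [mul_smul, mul_smul, htinv, hY, hwY, hW]
        have h2 : (w⁻¹ * (t * w * t⁻¹)) • Y = Y := by rw [mul_smul, h1, inv_smul_smul]
        have h3 := free h X Y hXY.symm (mul_mem (inv_mem hw) hw') h2
        have h4 : t * w * t⁻¹ = w := (inv_mul_eq_one.mp h3).symm
        have hwC : w ∈ C := by
          refine Subgroup.mem_inf.mpr ⟨hw, ?_⟩
          rw [mem_centralizer_iff]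
          intro y hy
          rw [Set.mem_singleton_iff] at hy
          rw [hy]
          calc t * w = t * w * t⁻¹ * t := by group
            _ = w * t := by rw [h4]
        exact ⟨⟨w, hwC⟩, hwY⟩
    · rintro (rfl | ⟨c, rfl⟩)
      · exact hX
      · show t • ((c : G) • Y) = (c : G) • Y
        have hct : t * (c : G) = (c : G) * t := mem_centralizer_iff.mp c.2.2 t rfl
        rw [← mul_smul, hct, mul_smul, hY]
  have hXnot : X ∉ Set.range φ := by
    rintro ⟨c, hc⟩
    exact smul_ne X Y hXY.symm c.2.1 hc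
  have hFcard : F.ncard = Nat.card C + 1 := by
    rw [hFeq, Set.ncard_insert_of_notMem hXnot, ← Nat.card_coe_set_eq,
      Nat.card_range_of_injective hφinj]
  have hCdvd : Nat.card C ∣ 9 := by
    rw [← card_sylow3 h X]
    exact Subgroup.card_dvd_of_le inf_le_left
  have hCne : Nat.card C ≠ 1 := by
    intro h1
    have hbot : C = ⊥ := Subgroup.card_eq_one.mp h1
    have hZF : Z ∈ F := hZ
    rw [hFeq] at hZF
    rcases hZF with hZX | ⟨c, hc⟩
    · exact hXZ hZX.symm
    · have hc1 : (c : G) = 1 := by
        have hcb : (c : G) ∈ (⊥ : Subgroup G) := by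
          rw [← hbot]
          exact c.2
        exact Subgroup.mem_bot.mp hcb
      apply hYZ
      rw [← hc]
      show Y = (c : G) • Y
      rw [hc1, one_smul]
  have hC39 : Nat.card C = 3 ∨ Nat.card C = 9 := by
    have hmem : Nat.card C ∈ Nat.divisors 9 := Nat.mem_divisors.mpr ⟨hCdvd, by norm_num⟩
    have key : ∀ n ∈ Nat.divisors 9, n ≠ 1 → n = 3 ∨ n = 9 := by decide
    exact key _ hmem hCne
  -- the permutation induced by `t`
  set σ : Equiv.Perm (Sylow 3 G) := MulAction.toPermHom G (Sylow 3 G) t with hσ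
  have hσ1 : σ ≠ 1 := fun h1 => ht1 (toPermHom_injective h (h1.trans (map_one _).symm))
  have hσ2 : σ ^ 2 = 1 := by rw [hσ, ← map_pow, pow_two, ht, map_one]
  have hord : orderOf σ = 2 := orderOf_eq_prime hσ2 hσ1
  obtain ⟨n, hn⟩ := Equiv.Perm.cycleType_prime_order (σ := σ) (by rw [hord]; exact Nat.prime_two)
  rw [hord] at hn
  have hfix := Equiv.Perm.card_fixedPoints σ
  have hfixF : Fintype.card (Function.fixedPoints σ) = F.ncard := by
    rw [← Nat.card_eq_fintype_card, Nat.card_coe_set_eq]
    congr 1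
  have h10 : Fintype.card (Sylow 3 G) = 10 := by rw [← Nat.card_eq_fintype_card, n3 h]
  rw [hfixF, hFcard, hn, Multiset.sum_replicate, h10] at hfix
  have hsign := Equiv.Perm.sign_of_cycleType σ
  rw [hn, Multiset.sum_replicate, Multiset.card_replicate] at hsign
  have htriv : Equiv.Perm.sign σ = 1 :=
    hom_to_comm_trivial (not_comm h)
      (Equiv.Perm.sign.comp (MulAction.toPermHom G (Sylow 3 G))) t
  rcases hC39 with h3 | h9
  · have hn3 : n + 1 = 3 := by
      rw [h3] at hfix
      simp only [smul_eq_mul] at hfix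
      omega
    rw [hn3, htriv] at hsign
    revert hsign
    decide
  · rw [h9] at hfix
    simp only [smul_eq_mul] at hfix
    omega

/-- only the identity fixes three Sylow 3-subgroups -/
theorem three_fixed (h : Nat.card G = 360) (g : G) (X Y Z : Sylow 3 G) (hXY : X ≠ Y) (hYZ : Y ≠ Z)
    (hXZ : X ≠ Z) (hX : g • X = X) (hY : g • Y = Y) (hZ : g • Z = Z) : g = 1 := by
  by_contra hg
  have ho1 : orderOf g ≠ 1 := fun h1 => hg (orderOf_eq_one_iff.mp h1)
  have ho0 : orderOf g ≠ 0 := (orderOf_pos g).ne'
  set p := (orderOf g).minFac with hp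
  have hpp : p.Prime := Nat.minFac_prime ho1
  have hpd : p ∣ orderOf g := Nat.minFac_dvd _
  set t := g ^ (orderOf g / p) with ht
  have hto : orderOf t = p := orderOf_pow_orderOf_div ho0 hpd
  have hfix : ∀ W : Sylow 3 G, g • W = W → t • W = W := by
    intro W hW
    have hmem : g ∈ stabilizer G W := mem_stabilizer_iff.mpr hW
    exact mem_stabilizer_iff.mp (pow_mem hmem _)
  have htX := hfix X hX
  have htY := hfix Y hY
  have htZ := hfix Z hZ
  have htN : t ∈ normalizer ((X : Subgroup G) : Set G) := Sylow.smul_eq_iff_mem_normalizer.mp htX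
  have hp36 : p ∣ 36 := by
    rw [← hto, ← card_normalizer3 h X]
    have := orderOf_dvd_natCard (⟨t, htN⟩ : normalizer ((X : Subgroup G) : Set G))
    rwa [Subgroup.orderOf_mk] at this
  have ht1 : t ≠ 1 := by
    intro h1
    rw [h1, orderOf_one] at hto
    exact hpp.one_lt.ne hto
  have hp23 : p = 2 ∨ p = 3 := by
    have hle : p ≤ 36 := Nat.le_of_dvd (by norm_num) hp36
    interval_cases p <;> first | omega | (exfalso; revert hpp; decide) | (exfalso; revert hp36; decide)
  rcases hp23 with h2 | h3
  · have htt : t * t = 1 := by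
      have := pow_orderOf_eq_one t
      rwa [hto, h2, pow_two] at this
    exact invol_fixed h X Y Z hXY hYZ hXZ htt ht1 htX htY htZ
  · have htX' : t ∈ (X : Subgroup G) := mem_of_orderOf_three X (hto.trans h3) htN
    exact ht1 (free h X Y hXY.symm htX' htY)

end Cfsg.Agent.Helper61.G360
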