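import Mathlib
import Cfsg.Agent.Helper17.SylowKit
import Cfsg.Agent.Helper17.SylowKit2
import Cfsg.Agent.Helper17.CountOrder
import Cfsg.Agent.S1019

set_option autoImplicit false

/-! # General counting tools for the local analysis of small simple groups -/

namespace Cfsg.Agent.Helper61.SimpleKit

open Subgroup MulAction Cfsg.Agent.Helper17

variable {G : Type*} [Group G]

theorem centralizer_zpowers_eq (a : G) :
    centralizer ((zpowers a : Subgroup G) : Set G) = centralizer ({a} : Set G) := by
  rw [Subgroup.zpowers_eq_closure, Subgroup.centralizer_closure]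

/-- Data on the centralizer of an element of prime order `p` in a simple group whose Sylow
`p`-subgroups have order `p`: `|C(a)| * d * n_p = |G|` with `1 < d ∣ p - 1`. -/
theorem card_centralizer_mul_of_prime_sylow [Finite G] [IsSimpleGroup G] {p : ℕ} [Fact p.Prime]
    (hP : ∀ P : Sylow p G, Nat.card (P : Subgroup G) = p) (hG : Nat.card G ≠ p) (a : G)
    (ha : orderOf a = p) :
    ∃ d, 1 < d ∧ d ∣ p - 1 ∧
      Nat.card (centralizer ({a} : Set G)) * d * Nat.card (Sylow p G) = Nat.card G := by
  have hp : p.Prime := Fact.out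
  obtain ⟨Q, hQ⟩ := exists_sylow_eq_zpowers hP a ha
  obtain ⟨h1, -⟩ := relIndex_dvd_of_card_sylow_prime Q (hP Q)
  have hne : ¬ (normalizer ((Q : Subgroup G) : Set G) ≤ centralizer ((Q : Subgroup G) : Set G)) :=
    not_normalizer_le_centralizer_of_simple Q (by rw [hP Q]; exact hp.one_lt.ne')
      (by rw [hP Q]; exact hG.symm)
  have hmul := card_centralizer_mul_relIndex (Q : Subgroup G)
  have hmul2 := card_normalizer_mul_card_sylow Q
  set d := (centralizer ((Q : Subgroup G) : Set G)).relIndex (normalizer ((Q : Subgroup G) : Set G))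
    with hd
  have h0 : d ≠ 0 := Subgroup.index_ne_zero_of_finite
  have hd1 : d ≠ 1 := fun h => hne (relIndex_eq_one.mp h)
  refine ⟨d, by omega, h1, ?_⟩
  rw [← centralizer_zpowers_eq, ← hQ, hmul, hmul2]

/-- Sylow's theorem inside a subgroup `H` containing the Sylow `p`-subgroup `P` of `G`:
`|H ∩ N(P)| * n = |H|` with `n ≡ 1 (mod p)`. -/
theorem card_inf_normalizer_mul [Finite G] {p : ℕ} [Fact p.Prime] (P : Sylow p G) (H : Subgroup G)
    (hP : (P : Subgroup G) ≤ H) :
    ∃ n, n % p = 1 ∧
      Nat.card (H ⊓ normalizer ((P : Subgroup G) : Set G) : Subgroup G) * n = Nat.card H := by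
  have hp : p.Prime := Fact.out
  have hmod : Nat.card (Sylow p H) ≡ 1 [MOD p] := card_sylow_modEq_one p H
  refine ⟨Nat.card (Sylow p H), ?_, ?_⟩
  · have h1 : Nat.card (Sylow p H) % p = 1 % p := hmod
    rwa [Nat.mod_eq_of_lt hp.one_lt] at h1
  · have h1 := (P.subtype hP).card_eq_index_normalizer
    have h2 : normalizer (((P.subtype hP : Sylow p H) : Subgroup H) : Set H) =
        (normalizer ((P : Subgroup G) : Set G)).subgroupOf H := by
      rw [Sylow.coe_subtype]
      exact (Subgroup.subgroupOf_normalizer_eq hP).symm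
    have h3 : (normalizer (((P.subtype hP : Sylow p H) : Subgroup H) : Set H)).index =
        Nat.card (Sylow p H) := h1.symm
    rw [h2] at h3
    have h4 := Subgroup.card_mul_index ((normalizer ((P : Subgroup G) : Set G)).subgroupOf H)
    rw [h3] at h4
    have e1 : Nat.card ↥((normalizer ((P : Subgroup G) : Set G)).subgroupOf H) =
        Nat.card ↥(H ⊓ normalizer ((P : Subgroup G) : Set G) : Subgroup G) := by
      rw [← inf_subgroupOf_left]
      exact Nat.card_congr (subgroupOfEquivOfLe inf_le_left).toEquiv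
    rw [← e1]
    exact h4

/-- Subgroups of prime power order inside a subgroup. -/
theorem exists_subgroup_le_card_pow [Finite G] (p n : ℕ) [Fact p.Prime] (H : Subgroup G)
    (hdvd : p ^ n ∣ Nat.card H) :
    ∃ K : Subgroup G, K ≤ H ∧ Nat.card K = p ^ n ∧ ∀ u ∈ K, u ^ (p ^ n) = 1 := by
  obtain ⟨K', hK'⟩ := Sylow.exists_subgroup_card_pow_prime p hdvd
  refine ⟨K'.map H.subtype, ?_, ?_, ?_⟩
  · rintro _ ⟨u, -, rfl⟩
    exact u.2
  · rw [Subgroup.card_map_of_injective H.subtype_injective, hK']
  · have hcard : Nat.card (K'.map H.subtype) = p ^ n := by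
      rw [Subgroup.card_map_of_injective H.subtype_injective, hK']
    intro u hu
    have h1 : (⟨u, hu⟩ : K'.map H.subtype) ^ Nat.card (K'.map H.subtype) = 1 := pow_card_eq_one'
    rw [hcard] at h1
    have := congrArg Subtype.val h1
    simpa using this

/-- Counting `p`-singular elements `a * u` with `a` of order `p` and `u` in a chosen subgroup of
`C(a)` of order `κ` and exponent dividing `m`. -/
theorem card_singular_ge [Finite G] (p m k κ : ℕ) (hp : p.Prime) (hk1 : k % p = 1) (hkm : m ∣ k)
    (hpm : ¬ p ∣ m)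
    (hK : ∀ a : G, orderOf a = p → ∃ K : Subgroup G,
      (∀ u ∈ K, u * a = a * u ∧ u ^ m = 1) ∧ Nat.card K = κ) :
    Nat.card {a : G // orderOf a = p} * κ ≤
      Nat.card {g : G // g ^ (p * m) = 1 ∧ g ^ m ≠ 1} := by
  classical
  choose K hK1 hK2 using hK
  have hpow : ∀ (a : G) (ha : orderOf a = p) (u : G), u ∈ K a ha → ∀ j : ℕ,
      (a * u) ^ j = a ^ j * u ^ j := by
    intro a ha u hu j
    have hc : Commute a u := (hK1 a ha u hu).1.symm
    exact hc.mul_pow j
  let f : (Σ a : {a : G // orderOf a = p}, K a.1 a.2) → {g : G // g ^ (p * m) = 1 ∧ g ^ m ≠ 1} :=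
    fun x => ⟨x.1.1 * x.2.1, by
      obtain ⟨⟨a, ha⟩, ⟨u, hu⟩⟩ := x
      have hum : u ^ m = 1 := (hK1 a ha u hu).2
      constructor
      · show (a * u) ^ (p * m) = 1
        rw [hpow a ha u hu, pow_mul, ← ha, pow_orderOf_eq_one, one_pow, ha, mul_comm p m, pow_mul,
          hum, one_pow, one_mul]
      · show (a * u) ^ m ≠ 1
        rw [hpow a ha u hu, hum, mul_one]
        intro h1
        have := orderOf_dvd_of_pow_eq_one h1
        rw [ha] at this
        exact hpm this⟩
  have hf : Function.Injective f := by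
    rintro ⟨⟨a, ha⟩, ⟨u, hu⟩⟩ ⟨⟨a', ha'⟩, ⟨u', hu'⟩⟩ hh
    have hg : a * u = a' * u' := congrArg Subtype.val hh
    have key : ∀ (a : G) (ha : orderOf a = p) (u : G), u ∈ K a ha → (a * u) ^ k = a := by
      intro a ha u hu
      have hum : u ^ m = 1 := (hK1 a ha u hu).2
      obtain ⟨c, hc⟩ := hkm
      rw [hpow a ha u hu, hc, pow_mul u, hum, one_pow, mul_one, ← hc]
      have : a ^ k = a ^ (k % orderOf a) := (pow_mod_orderOf a k).symm
      rw [this, ha, hk1, pow_one]
    have haa : a = a' := by
      rw [← key a ha u hu, ← key a' ha' u' hu', hg]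
    subst haa
    have huu : u = u' := mul_left_cancel hg
    subst huu
    rfl
  have hle := Nat.card_le_card_of_injective f hf
  haveI := Fintype.ofFinite {a : G // orderOf a = p}
  rw [Nat.card_sigma] at hle
  simp only [hK2] at hle
  rw [Finset.sum_const, Finset.card_univ, ← Nat.card_eq_fintype_card, smul_eq_mul] at hle
  exact hle

local instance fact2k : Fact (Nat.Prime 2) := ⟨Nat.prime_two⟩

/-- A nontrivial Sylow 2-subgroup has a central involution. -/
theorem exists_central_involution [Finite G] (T : Sylow 2 G)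
    (hT : 1 < Nat.card (T : Subgroup G)) :
    ∃ z ∈ (T : Subgroup G), orderOf z = 2 ∧ ∀ t ∈ (T : Subgroup G), t * z = z * t := by
  haveI : Nontrivial (T : Subgroup G) := Finite.one_lt_card_iff_nontrivial.mp hT
  have hTp : IsPGroup 2 (T : Subgroup G) := T.isPGroup'
  haveI := hTp.center_nontrivial
  have hZp : IsPGroup 2 (Subgroup.center (T : Subgroup G)) := hTp.to_subgroup _
  obtain ⟨n, hn⟩ := hZp.exists_card_eq
  have hn0 : n ≠ 0 := by
    rintro rfl
    rw [pow_zero] at hn
    have : Subsingleton (Subgroup.center (T : Subgroup G)) :=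
      (Nat.card_eq_one_iff_unique.mp hn).1
    exact not_subsingleton _ this
  have h2dvd : 2 ∣ Nat.card (Subgroup.center (T : Subgroup G)) := by
    rw [hn]; exact dvd_pow_self 2 hn0
  obtain ⟨u, hu⟩ := exists_prime_orderOf_dvd_card'
    (G := ↥(Subgroup.center (T : Subgroup G))) 2 h2dvd
  refine ⟨((u : (T : Subgroup G)) : G), (u : (T : Subgroup G)).2, ?_, ?_⟩
  · rw [Subgroup.orderOf_coe, Subgroup.orderOf_coe]; exact hu
  · intro t ht
    have := (Subgroup.mem_center_iff.mp u.2) ⟨t, ht⟩
    exact congrArg Subtype.val this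

/-- If involution centralizers have order dividing `q = |T|` and there are at most `|G|/q`
non-identity elements `g` with `g ^ q = 1`, then all these are involutions. -/
theorem sq_eq_one_of_count [Finite G] (T : Sylow 2 G) (q : ℕ)
    (hT : Nat.card (T : Subgroup G) = q) (hq : 1 < q)
    (hcent : ∀ t : G, orderOf t = 2 → Nat.card (centralizer ({t} : Set G)) ∣ q)
    (hcount : Nat.card {g : G // g ≠ 1 ∧ g ^ q = 1} * q ≤ Nat.card G) {g : G} (hg : g ^ q = 1) :
    g ^ 2 = 1 := by
  classical
  by_cases hg1 : g = 1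
  · rw [hg1, one_pow]
  obtain ⟨z, hzT, hz2, hzc⟩ := exists_central_involution T (by rw [hT]; exact hq)
  have hz1 : z ≠ 1 := by
    intro h1
    rw [h1, orderOf_one] at hz2
    omega
  have hzz : z ^ 2 = 1 := by
    have := pow_orderOf_eq_one z
    rwa [hz2] at this
  have hzq : z ^ q = 1 := by
    have h1 : (⟨z, hzT⟩ : (T : Subgroup G)) ^ Nat.card (T : Subgroup G) = 1 := pow_card_eq_one'
    rw [hT] at h1
    have := congrArg Subtype.val h1
    simpa using this
  have hTC : (T : Subgroup G) ≤ centralizer ({z} : Set G) := by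
    intro t ht
    rw [Subgroup.mem_centralizer_iff]
    intro w hw
    rw [Set.mem_singleton_iff] at hw
    rw [hw]
    exact (hzc t ht).symm
  have hCq : Nat.card (centralizer ({z} : Set G)) = q := by
    have h1 := hcent z hz2
    have h2 := Subgroup.card_dvd_of_le hTC
    rw [hT] at h2
    exact Nat.dvd_antisymm h1 h2
  have hclass : q * Nat.card {y : G // IsConj z y} = Nat.card G := by
    have hh := Cfsg.Agent.S1019.card_preimage_conj z (Set.univ : Set G)
    have e1 : Nat.card {g : G // g⁻¹ * z * g ∈ (Set.univ : Set G)} = Nat.card G :=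
      Nat.card_congr (Equiv.subtypeUnivEquiv (fun g => Set.mem_univ _))
    have e2 : Nat.card {y : G // IsConj z y ∧ y ∈ (Set.univ : Set G)} =
        Nat.card {y : G // IsConj z y} :=
      Nat.card_congr (Equiv.subtypeEquivRight (fun y => by simp))
    rw [e1, e2, hCq] at hh
    exact hh.symm
  have hle : Nat.card {g : G // g ≠ 1 ∧ g ^ q = 1} ≤ Nat.card {y : G // IsConj z y} := by
    rw [← hclass, mul_comm] at hcount
    exact Nat.le_of_mul_le_mul_left hcount (by omega)
  haveI := Fintype.ofFinite G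
  rw [Nat.card_eq_fintype_card, Nat.card_eq_fintype_card, Fintype.card_subtype,
    Fintype.card_subtype] at hle
  have hsub : (Finset.univ.filter (fun y : G => IsConj z y)) ⊆
      (Finset.univ.filter (fun y : G => y ≠ 1 ∧ y ^ q = 1)) := by
    intro y hy
    rw [Finset.mem_filter] at hy ⊢
    refine ⟨Finset.mem_univ _, ?_⟩
    obtain ⟨c, hc⟩ := isConj_iff.mp hy.2
    constructor
    · intro hy1
      rw [hy1] at hc
      apply hz1
      have : z = c⁻¹ * 1 * c := by rw [← hc]; group
      rw [this]; group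
    · rw [← hc, conj_pow, hzq]; group
  have heq := Finset.eq_of_subset_of_card_le hsub hle
  have hgmem : g ∈ Finset.univ.filter (fun y : G => IsConj z y) := by
    rw [heq, Finset.mem_filter]
    exact ⟨Finset.mem_univ _, hg1, hg⟩
  rw [Finset.mem_filter] at hgmem
  obtain ⟨c, hc⟩ := isConj_iff.mp hgmem.2
  rw [← hc, conj_pow, hzz]
  group

/-- Under the hypotheses of `sq_eq_one_of_count`, every involution centralizer is an elementary
abelian 2-group, and Sylow 2-subgroups have exponent 2. -/
theorem cit_of_count [Finite G] (T : Sylow 2 G) (q : ℕ)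
    (hT : Nat.card (T : Subgroup G) = q) (hq : 1 < q)
    (hcent : ∀ t : G, orderOf t = 2 → Nat.card (centralizer ({t} : Set G)) ∣ q)
    (hcount : Nat.card {g : G // g ≠ 1 ∧ g ^ q = 1} * q ≤ Nat.card G) :
    (∀ g ∈ (T : Subgroup G), g ^ 2 = 1) ∧
    ∀ t : G, orderOf t = 2 → IsMulCommutative (centralizer ({t} : Set G)) ∧
      ∀ c ∈ centralizer ({t} : Set G), c ^ 2 = 1 := by
  have hcardS : ∀ S : Sylow 2 G, Nat.card (S : Subgroup G) = q := by
    intro S
    rw [← hT, S.card_eq_multiplicity, T.card_eq_multiplicity]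
  have hsq : ∀ (S : Sylow 2 G) (g : G), g ∈ (S : Subgroup G) → g ^ 2 = 1 := by
    intro S g hg
    apply sq_eq_one_of_count T q hT hq hcent hcount
    have h1 : (⟨g, hg⟩ : (S : Subgroup G)) ^ Nat.card (S : Subgroup G) = 1 := pow_card_eq_one'
    rw [hcardS S] at h1
    have := congrArg Subtype.val h1
    simpa using this
  have hcomm : ∀ (S : Sylow 2 G) (a b : G), a ∈ (S : Subgroup G) → b ∈ (S : Subgroup G) →
      a * b = b * a := by
    intro S a b ha hb
    have h1 := hsq S a ha
    have h2 := hsq S b hb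
    have h3 := hsq S _ (mul_mem ha hb)
    rw [pow_two] at h1 h2 h3
    have h4 : a * b = (a * b)⁻¹ := eq_inv_of_mul_eq_one_left h3
    have ha' : a⁻¹ = a := inv_eq_of_mul_eq_one_right h1
    have hb' : b⁻¹ = b := inv_eq_of_mul_eq_one_right h2
    rw [h4, mul_inv_rev, ha', hb']
  refine ⟨hsq T, ?_⟩
  intro t ht
  have hcard : Nat.card (zpowers t) = 2 ^ 1 := by rw [Nat.card_zpowers, ht]; norm_num
  obtain ⟨S, hS⟩ := (IsPGroup.of_card hcard).exists_le_sylow
  have htS : t ∈ (S : Subgroup G) := hS (mem_zpowers t)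
  have hSC : (S : Subgroup G) ≤ centralizer ({t} : Set G) := by
    intro u hu
    rw [Subgroup.mem_centralizer_iff]
    intro w hw
    rw [Set.mem_singleton_iff] at hw
    rw [hw]
    exact hcomm S t u htS hu
  have hle : Nat.card (centralizer ({t} : Set G)) ≤ q :=
    Nat.le_of_dvd (by omega) (hcent t ht)
  have heq : centralizer ({t} : Set G) = (S : Subgroup G) :=
    (Subgroup.eq_of_le_of_card_ge hSC (by rw [hcardS S]; exact hle)).symm
  rw [heq]
  refine ⟨⟨⟨fun a b => ?_⟩⟩, fun c hc => hsq S c hc⟩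
  exact Subtype.ext (hcomm S a b a.2 b.2)

end Cfsg.Agent.Helper61.SimpleKit
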