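import Mathlib
import Cfsg.Agent.Helper61.SimpleKit

set_option autoImplicit false

/-! # Local analysis of a simple group of order 4080 -/

namespace Cfsg.Agent.Helper61.G4080

open Subgroup MulAction Cfsg.Agent.Helper17 Cfsg.Agent.Helper61.SimpleKit

variable {G : Type*} [Group G] [Finite G] [IsSimpleGroup G]

local instance fact2 : Fact (Nat.Prime 2) := ⟨by norm_num⟩
local instance fact3 : Fact (Nat.Prime 3) := ⟨by norm_num⟩
local instance fact5 : Fact (Nat.Prime 5) := ⟨by norm_num⟩
local instance fact17 : Fact (Nat.Prime 17) := ⟨by norm_num⟩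

theorem not_comm (h : Nat.card G = 4080) : ¬ IsMulCommutative G :=
  not_comm_of_simple_of_not_prime (by rw [h]; norm_num)

theorem card17 (h : Nat.card G = 4080) : Nat.card G = 17 ^ 1 * 240 := by rw [h]; norm_num
theorem card5 (h : Nat.card G = 4080) : Nat.card G = 5 ^ 1 * 816 := by rw [h]; norm_num
theorem card3 (h : Nat.card G = 4080) : Nat.card G = 3 ^ 1 * 1360 := by rw [h]; norm_num
theorem card2 (h : Nat.card G = 4080) : Nat.card G = 2 ^ 4 * 255 := by rw [h]; norm_num

theorem card_sylow17 (h : Nat.card G = 4080) (P : Sylow 17 G) :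
    Nat.card (P : Subgroup G) = 17 := by
  simpa using card_sylow_subgroup_of_card_eq (card17 h) (by norm_num) P

theorem card_sylow5 (h : Nat.card G = 4080) (P : Sylow 5 G) : Nat.card (P : Subgroup G) = 5 := by
  simpa using card_sylow_subgroup_of_card_eq (card5 h) (by norm_num) P

theorem card_sylow3 (h : Nat.card G = 4080) (P : Sylow 3 G) : Nat.card (P : Subgroup G) = 3 := by
  simpa using card_sylow_subgroup_of_card_eq (card3 h) (by norm_num) P

theorem card_sylow2 (h : Nat.card G = 4080) (P : Sylow 2 G) : Nat.card (P : Subgroup G) = 16 := by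
  simpa using card_sylow_subgroup_of_card_eq (card2 h) (by norm_num) P

/-- no proper subgroup of index `≤ 16`. -/
theorem index_ge (h : Nat.card G = 4080) (H : Subgroup G) (hH : H ≠ ⊤) : 17 ≤ H.index := by
  have hdvd := two_mul_card_dvd_factorial_index (not_comm h) H hH
  rw [h] at hdvd
  have h17 : 17 ∣ (H.index).factorial := Dvd.dvd.trans (by norm_num) hdvd
  exact (Nat.Prime.dvd_factorial (by norm_num)).mp h17

/-- the index of the normalizer of a Sylow subgroup is at least 17 -/
theorem card_sylow_ge (h : Nat.card G = 4080) {p : ℕ} [Fact p.Prime]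
    (hne1 : Nat.card (Sylow p G) ≠ 1) : 17 ≤ Nat.card (Sylow p G) := by
  obtain ⟨P⟩ : Nonempty (Sylow p G) := inferInstance
  have hidx : (normalizer ((P : Subgroup G) : Set G)).index = Nat.card (Sylow p G) :=
    P.card_eq_index_normalizer.symm
  have hne : normalizer ((P : Subgroup G) : Set G) ≠ ⊤ := by
    intro htop
    rw [htop, Subgroup.index_top] at hidx
    exact hne1 hidx.symm
  have h9 := index_ge h _ hne
  rwa [hidx] at h9

theorem n17 (h : Nat.card G = 4080) : Nat.card (Sylow 17 G) = 120 := by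
  have hdvd : Nat.card (Sylow 17 G) ∣ 240 := card_sylow_dvd_of_card_eq (card17 h) (by norm_num)
  have hmod : Nat.card (Sylow 17 G) ≡ 1 [MOD 17] := card_sylow_modEq_one 17 G
  have hne1 : Nat.card (Sylow 17 G) ≠ 1 :=
    card_sylow_ne_one_of_simple (card17 h) (by norm_num) (by norm_num) (by norm_num)
  have hmem : Nat.card (Sylow 17 G) ∈ Nat.divisors 240 := Nat.mem_divisors.mpr ⟨hdvd, by norm_num⟩
  have key : ∀ n ∈ Nat.divisors 240, n % 17 = 1 → n ≠ 1 → n = 120 := by decide
  exact key _ hmem hmod hne1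

theorem card_centralizer17 (h : Nat.card G = 4080) {y : G} (hy : orderOf y = 17) :
    Nat.card (centralizer ({y} : Set G)) = 17 := by
  obtain ⟨d, hd1, hd2, hmul⟩ := card_centralizer_mul_of_prime_sylow (p := 17)
    (fun P => card_sylow17 h P) (by rw [h]; norm_num) y hy
  rw [n17 h, h] at hmul
  have h17 : 17 ∣ Nat.card (centralizer ({y} : Set G)) := by
    have hmem : y ∈ centralizer ({y} : Set G) := by
      rw [Subgroup.mem_centralizer_singleton_iff]
    have := orderOf_dvd_natCard (⟨y, hmem⟩ : centralizer ({y} : Set G))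
    rwa [Subgroup.orderOf_mk, hy] at this
  obtain ⟨c, hc⟩ := h17
  rw [hc] at hmul ⊢
  have h2 : c * d = 2 := by nlinarith
  have hd : d ∣ 2 := Dvd.intro_left c h2
  have hd' : d ≤ 2 := Nat.le_of_dvd (by norm_num) hd
  have hd'' : d = 2 := by omega
  rw [hd''] at h2
  omega

/-- a non-identity element of order prime to 17 has centralizer of order prime to 17 -/
theorem not_dvd17 (h : Nat.card G = 4080) {g : G} (hg1 : g ≠ 1) (hg : ¬ 17 ∣ orderOf g) :
    ¬ 17 ∣ Nat.card (centralizer ({g} : Set G)) := by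
  intro h17
  obtain ⟨y, hy⟩ := exists_prime_orderOf_dvd_card' (G := ↥(centralizer ({g} : Set G))) 17 h17
  have hyG : orderOf (y : G) = 17 := by rw [Subgroup.orderOf_coe]; exact hy
  have hgy : (y : G) * g = g * (y : G) := Subgroup.mem_centralizer_singleton_iff.mp y.2
  have hmem : g ∈ centralizer ({(y : G)} : Set G) := by
    rw [Subgroup.mem_centralizer_singleton_iff]; exact hgy.symm
  have hdvd := orderOf_dvd_natCard (⟨g, hmem⟩ : centralizer ({(y : G)} : Set G))
  rw [Subgroup.orderOf_mk, card_centralizer17 h hyG] at hdvd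
  rcases (Nat.dvd_prime (by norm_num : Nat.Prime 17)).mp hdvd with h1 | h1
  · exact hg1 (orderOf_eq_one_iff.mp h1)
  · exact hg (h1 ▸ dvd_refl _)

theorem self_mem_centralizer (g : G) : g ∈ centralizer ({g} : Set G) := by
  rw [Subgroup.mem_centralizer_singleton_iff]

theorem orderOf_dvd_card_centralizer (g : G) : orderOf g ∣ Nat.card (centralizer ({g} : Set G)) := by
  have := orderOf_dvd_natCard (⟨g, self_mem_centralizer g⟩ : centralizer ({g} : Set G))
  rwa [Subgroup.orderOf_mk] at this

/-- the two possibilities for an element of order 5 -/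
theorem centralizer5 (h : Nat.card G = 4080) {w : G} (hw : orderOf w = 5) :
    (Nat.card (Sylow 5 G) = 51 ∧ (Nat.card (centralizer ({w} : Set G)) = 20 ∨
      Nat.card (centralizer ({w} : Set G)) = 40)) ∨
    (Nat.card (Sylow 5 G) = 136 ∧ Nat.card (centralizer ({w} : Set G)) = 15) := by
  have hdvd : Nat.card (Sylow 5 G) ∣ 816 := card_sylow_dvd_of_card_eq (card5 h) (by norm_num)
  have hmod : Nat.card (Sylow 5 G) ≡ 1 [MOD 5] := card_sylow_modEq_one 5 G
  have hne1 : Nat.card (Sylow 5 G) ≠ 1 :=
    card_sylow_ne_one_of_simple (card5 h) (by norm_num) (by norm_num) (by norm_num)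
  have hge := card_sylow_ge h hne1
  have hmem : Nat.card (Sylow 5 G) ∈ Nat.divisors 816 := Nat.mem_divisors.mpr ⟨hdvd, by norm_num⟩
  have key : ∀ n ∈ Nat.divisors 816, n % 5 = 1 → 17 ≤ n → n = 51 ∨ n = 136 ∨ n = 816 := by
    decide +kernel
  have hcases := key _ hmem hmod hge
  obtain ⟨d, hd1, hd2, hmul⟩ := card_centralizer_mul_of_prime_sylow (p := 5)
    (fun P => card_sylow5 h P) (by rw [h]; norm_num) w hw
  rw [h] at hmul
  have h5 : 5 ∣ Nat.card (centralizer ({w} : Set G)) := by
    have := orderOf_dvd_card_centralizer w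
    rwa [hw] at this
  obtain ⟨c, hc⟩ := h5
  have hd4 : d ∣ 4 := by simpa using hd2
  have hdmem : d ∈ Nat.divisors 4 := Nat.mem_divisors.mpr ⟨hd4, by norm_num⟩
  have hdc : d = 2 ∨ d = 4 := by
    have key2 : ∀ n ∈ Nat.divisors 4, 1 < n → n = 2 ∨ n = 4 := by decide
    exact key2 _ hdmem hd1
  rw [hc] at hmul ⊢
  rcases hcases with h51 | h136 | h816
  · left
    refine ⟨h51, ?_⟩
    rw [h51] at hmul
    rcases hdc with rfl | rfl
    · right; omega
    · left; omega
  · right
    refine ⟨h136, ?_⟩
    rw [h136] at hmul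
    rcases hdc with rfl | rfl
    · omega
    · omega
  · exfalso
    rw [h816] at hmul
    rcases hdc with rfl | rfl <;> omega

theorem card_centralizer3_mul (h : Nat.card G = 4080) {x : G} (hx : orderOf x = 3) :
    Nat.card (centralizer ({x} : Set G)) * Nat.card (Sylow 3 G) = 2040 := by
  obtain ⟨d, hd1, hd2, hmul⟩ := card_centralizer_mul_of_prime_sylow (p := 3)
    (fun P => card_sylow3 h P) (by rw [h]; norm_num) x hx
  rw [h] at hmul
  have hd : d ∣ 2 := by simpa using hd2
  have hd' : d ≤ 2 := Nat.le_of_dvd (by norm_num) hd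
  have hd'' : d = 2 := by omega
  rw [hd''] at hmul
  nlinarith

theorem n3_mod (h : Nat.card G = 4080) : Nat.card (Sylow 3 G) % 3 = 1 := by
  have hmod : Nat.card (Sylow 3 G) ≡ 1 [MOD 3] := card_sylow_modEq_one 3 G
  exact hmod

theorem card_order17 (h : Nat.card G = 4080) : Nat.card {g : G // orderOf g = 17} = 1920 := by
  rw [card_orderOf_eq_prime (fun P => card_sylow17 h P), n17 h]

/-- The case `n_5 = 51` is impossible. -/
theorem n5_ne_51 (h : Nat.card G = 4080) : Nat.card (Sylow 5 G) ≠ 51 := by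
  intro h51
  classical
  -- elements of order 5
  have hc5 : ∀ w : G, orderOf w = 5 → Nat.card (centralizer ({w} : Set G)) = 20 ∨
      Nat.card (centralizer ({w} : Set G)) = 40 := by
    intro w hw
    rcases centralizer5 h hw with ⟨-, h1⟩ | ⟨h1, -⟩
    · exact h1
    · rw [h51] at h1; omega
  -- elements of order 3
  obtain ⟨x₀, hx₀⟩ := exists_prime_orderOf_dvd_card' (G := G) 3 (by rw [h]; norm_num)
  have hc3 : ∀ x : G, orderOf x = 3 →
      (Nat.card (centralizer ({x} : Set G)) = 6 ∧ Nat.card (Sylow 3 G) = 340) ∨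
      (Nat.card (centralizer ({x} : Set G)) = 24 ∧ Nat.card (Sylow 3 G) = 85) := by
    intro x hx
    have hmul := card_centralizer3_mul h hx
    have h3 : 3 ∣ Nat.card (centralizer ({x} : Set G)) := by
      have := orderOf_dvd_card_centralizer x
      rwa [hx] at this
    have hx1 : x ≠ 1 := by
      intro h1
      rw [h1, orderOf_one] at hx
      omega
    have h17 : ¬ 17 ∣ Nat.card (centralizer ({x} : Set G)) :=
      not_dvd17 h hx1 (by rw [hx]; norm_num)
    have h5 : ¬ 5 ∣ Nat.card (centralizer ({x} : Set G)) := by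
      intro h5
      obtain ⟨w, hw⟩ := exists_prime_orderOf_dvd_card' (G := ↥(centralizer ({x} : Set G))) 5 h5
      have hwG : orderOf (w : G) = 5 := by rw [Subgroup.orderOf_coe]; exact hw
      have hxw : (w : G) * x = x * (w : G) := Subgroup.mem_centralizer_singleton_iff.mp w.2
      have hmem : x ∈ centralizer ({(w : G)} : Set G) := by
        rw [Subgroup.mem_centralizer_singleton_iff]; exact hxw.symm
      have hdvd := orderOf_dvd_natCard (⟨x, hmem⟩ : centralizer ({(w : G)} : Set G))
      rw [Subgroup.orderOf_mk, hx] at hdvd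
      rcases hc5 _ hwG with h20 | h40
      · rw [h20] at hdvd; norm_num at hdvd
      · rw [h40] at hdvd; norm_num at hdvd
    have hdvd : Nat.card (centralizer ({x} : Set G)) ∣ 24 * (5 * 17) := by
      have : Nat.card (centralizer ({x} : Set G)) ∣ 2040 := Dvd.intro _ hmul
      simpa using this
    have hcop : Nat.Coprime (Nat.card (centralizer ({x} : Set G))) (5 * 17) := by
      apply Nat.Coprime.mul_right
      · exact (Nat.coprime_comm.mp ((Nat.Prime.coprime_iff_not_dvd (by norm_num)).mpr h5))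
      · exact (Nat.coprime_comm.mp ((Nat.Prime.coprime_iff_not_dvd (by norm_num)).mpr h17))
    have h24 : Nat.card (centralizer ({x} : Set G)) ∣ 24 := hcop.dvd_of_dvd_mul_right hdvd
    have hmem : Nat.card (centralizer ({x} : Set G)) ∈ Nat.divisors 24 :=
      Nat.mem_divisors.mpr ⟨h24, by norm_num⟩
    have hmod := n3_mod h
    have key : ∀ c ∈ Nat.divisors 24, 3 ∣ c → ∀ n : ℕ, c * n = 2040 → n % 3 = 1 →
        (c = 6 ∧ n = 340) ∨ (c = 24 ∧ n = 85) := by
      intro c hc h3c n hcn hn
      have hcases : c = 3 ∨ c = 6 ∨ c = 12 ∨ c = 24 := by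
        have key2 : ∀ c ∈ Nat.divisors 24, 3 ∣ c → c = 3 ∨ c = 6 ∨ c = 12 ∨ c = 24 := by decide
        exact key2 c hc h3c
      rcases hcases with rfl | rfl | rfl | rfl
      · omega
      · left; omega
      · omega
      · right; omega
    exact key _ hmem h3 _ hmul hmod
  -- counting
  have h17 := card_order17 h
  have h5cnt : Nat.card {g : G // orderOf g = 5} = 204 := by
    rw [card_orderOf_eq_prime (fun P => card_sylow5 h P), h51]
  have h3cnt : Nat.card {g : G // orderOf g = 3} = Nat.card (Sylow 3 G) * 2 := by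
    rw [card_orderOf_eq_prime (fun P => card_sylow3 h P)]
  have hpow16 : ∀ (j : ℕ), j ≤ 4 → ∀ u : G, u ^ (2 ^ j) = 1 → u ^ 16 = 1 := by
    intro j hj u hu
    have : (16 : ℕ) = 2 ^ j * 2 ^ (4 - j) := by
      rw [← pow_add]
      have : j + (4 - j) = 4 := by omega
      rw [this]
      norm_num
    rw [this, pow_mul, hu, one_pow]
  have s5 : 204 * 4 ≤ Nat.card {g : G // g ^ (5 * 16) = 1 ∧ g ^ 16 ≠ 1} := by
    rw [← h5cnt]
    apply card_singular_ge 5 16 16 4 (by norm_num) (by norm_num) (dvd_refl _) (by norm_num)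
    intro a ha
    have h4 : 2 ^ 2 ∣ Nat.card (centralizer ({a} : Set G)) := by
      rcases hc5 a ha with h20 | h40
      · rw [h20]; norm_num
      · rw [h40]; norm_num
    obtain ⟨K, hKle, hKcard, hKpow⟩ := exists_subgroup_le_card_pow 2 2 _ h4
    refine ⟨K, fun u hu => ⟨?_, hpow16 2 (by norm_num) u (hKpow u hu)⟩, by rw [hKcard]; norm_num⟩
    exact Subgroup.mem_centralizer_singleton_iff.mp (hKle hu)
  have s3 : 1360 ≤ Nat.card {g : G // g ^ (3 * 16) = 1 ∧ g ^ 16 ≠ 1} := by
    rcases hc3 x₀ hx₀ with ⟨-, hn3⟩ | ⟨-, hn3⟩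
    · have hc6 : ∀ x : G, orderOf x = 3 → Nat.card (centralizer ({x} : Set G)) = 6 := by
        intro x hx
        rcases hc3 x hx with ⟨h1, -⟩ | ⟨-, h2⟩
        · exact h1
        · rw [hn3] at h2; omega
      have : Nat.card {g : G // orderOf g = 3} * 2 ≤
          Nat.card {g : G // g ^ (3 * 16) = 1 ∧ g ^ 16 ≠ 1} := by
        apply card_singular_ge 3 16 16 2 (by norm_num) (by norm_num) (dvd_refl _) (by norm_num)
        intro a ha
        have h4 : 2 ^ 1 ∣ Nat.card (centralizer ({a} : Set G)) := by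
          rw [hc6 a ha]; norm_num
        obtain ⟨K, hKle, hKcard, hKpow⟩ := exists_subgroup_le_card_pow 2 1 _ h4
        refine ⟨K, fun u hu => ⟨?_, hpow16 1 (by norm_num) u (hKpow u hu)⟩,
          by rw [hKcard]; norm_num⟩
        exact Subgroup.mem_centralizer_singleton_iff.mp (hKle hu)
      rw [h3cnt, hn3] at this
      omega
    · have hc24 : ∀ x : G, orderOf x = 3 → Nat.card (centralizer ({x} : Set G)) = 24 := by
        intro x hx
        rcases hc3 x hx with ⟨-, h2⟩ | ⟨h1, -⟩
        · rw [hn3] at h2; omega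
        · exact h1
      have : Nat.card {g : G // orderOf g = 3} * 8 ≤
          Nat.card {g : G // g ^ (3 * 16) = 1 ∧ g ^ 16 ≠ 1} := by
        apply card_singular_ge 3 16 16 8 (by norm_num) (by norm_num) (dvd_refl _) (by norm_num)
        intro a ha
        have h4 : 2 ^ 3 ∣ Nat.card (centralizer ({a} : Set G)) := by
          rw [hc24 a ha]; norm_num
        obtain ⟨K, hKle, hKcard, hKpow⟩ := exists_subgroup_le_card_pow 2 3 _ h4
        refine ⟨K, fun u hu => ⟨?_, hpow16 3 (by norm_num) u (hKpow u hu)⟩,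
          by rw [hKcard]; norm_num⟩
        exact Subgroup.mem_centralizer_singleton_iff.mp (hKle hu)
      rw [h3cnt, hn3] at this
      omega
  -- the disjoint sum
  haveI := Fintype.ofFinite G
  have hG : Fintype.card G = 4080 := by rw [← Nat.card_eq_fintype_card, h]
  rw [Nat.card_eq_fintype_card, Fintype.card_subtype] at h17 s5 s3
  have a1 : ∀ g : G, orderOf g = 17 → g ^ (5 * 16) = 1 → False := by
    intro g h1 h2
    have := orderOf_dvd_of_pow_eq_one h2
    rw [h1] at this
    norm_num at this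
  have a2 : ∀ g : G, orderOf g = 17 → g ^ (3 * 16) = 1 → False := by
    intro g h1 h2
    have := orderOf_dvd_of_pow_eq_one h2
    rw [h1] at this
    norm_num at this
  have a3 : ∀ g : G, g ^ (5 * 16) = 1 → g ^ (3 * 16) = 1 → g ^ 16 = 1 := by
    intro g h1 h2
    have d1 := orderOf_dvd_of_pow_eq_one h1
    have d2 := orderOf_dvd_of_pow_eq_one h2
    have d3 : orderOf g ∣ Nat.gcd (5 * 16) (3 * 16) := Nat.dvd_gcd d1 d2
    have : Nat.gcd (5 * 16) (3 * 16) = 16 := by norm_num
    rw [this] at d3
    exact orderOf_dvd_iff_pow_eq_one.mp d3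
  have key : ∀ g : G, (if orderOf g = 17 then 1 else 0) +
      (if g ^ (5 * 16) = 1 ∧ g ^ 16 ≠ 1 then 1 else 0) +
      (if g ^ (3 * 16) = 1 ∧ g ^ 16 ≠ 1 then 1 else 0) + (if g = 1 then 1 else 0) ≤ 1 := by
    intro g
    by_cases hg1 : g = 1
    · subst hg1
      simp
    · by_cases hg17 : orderOf g = 17
      · have n5 : ¬ g ^ (5 * 16) = 1 := fun hh => a1 g hg17 hh
        have n3 : ¬ g ^ (3 * 16) = 1 := fun hh => a2 g hg17 hh
        simp [hg1, hg17, n5, n3]
      · by_cases hg5 : g ^ (5 * 16) = 1 ∧ g ^ 16 ≠ 1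
        · have n3 : ¬ (g ^ (3 * 16) = 1 ∧ g ^ 16 ≠ 1) := fun hh => hg5.2 (a3 g hg5.1 hh.1)
          rw [if_neg hg17, if_pos hg5, if_neg n3, if_neg hg1]
        · rw [if_neg hg17, if_neg hg5, if_neg hg1]
          split_ifs <;> omega
  have hsum := Finset.sum_le_sum (fun g (_ : g ∈ (Finset.univ : Finset G)) => key g)
  simp only [Finset.sum_add_distrib, ← Finset.card_filter] at hsum
  have e1 : (Finset.univ.filter (fun g : G => g = 1)).card = 1 := by
    rw [Finset.filter_eq' Finset.univ (1 : G)]
    simp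
  rw [e1] at hsum
  simp only [Finset.sum_const, Finset.card_univ, smul_eq_mul, mul_one, hG] at hsum
  omega

theorem n5 (h : Nat.card G = 4080) : Nat.card (Sylow 5 G) = 136 := by
  obtain ⟨w, hw⟩ := exists_prime_orderOf_dvd_card' (G := G) 5 (by rw [h]; norm_num)
  rcases centralizer5 h hw with ⟨h1, -⟩ | ⟨h1, -⟩
  · exact absurd h1 (n5_ne_51 h)
  · exact h1

theorem card_centralizer5 (h : Nat.card G = 4080) {w : G} (hw : orderOf w = 5) :
    Nat.card (centralizer ({w} : Set G)) = 15 := by
  rcases centralizer5 h hw with ⟨h1, -⟩ | ⟨-, h2⟩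
  · exact absurd h1 (n5_ne_51 h)
  · exact h2

theorem n3 (h : Nat.card G = 4080) : Nat.card (Sylow 3 G) = 136 := by
  obtain ⟨w, hw⟩ := exists_prime_orderOf_dvd_card' (G := G) 5 (by rw [h]; norm_num)
  obtain ⟨Q, hQ⟩ := exists_sylow_eq_zpowers (fun P => card_sylow5 h P) w hw
  have hCw := card_centralizer5 h hw
  obtain ⟨x', hx'⟩ := exists_prime_orderOf_dvd_card' (G := ↥(centralizer ({w} : Set G))) 3
    (by rw [hCw]; norm_num)
  have hx : orderOf (x' : G) = 3 := by rw [Subgroup.orderOf_coe]; exact hx'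
  have hxw : (x' : G) * w = w * (x' : G) := Subgroup.mem_centralizer_singleton_iff.mp x'.2
  generalize (x' : G) = x at hx hxw
  have hx1 : x ≠ 1 := by
    intro h1
    rw [h1, orderOf_one] at hx
    omega
  set H := centralizer ({x} : Set G) with hH
  have hwH : w ∈ H := by
    rw [hH, Subgroup.mem_centralizer_singleton_iff]; exact hxw.symm
  have hxH : x ∈ H := self_mem_centralizer x
  have hmul := card_centralizer3_mul h hx
  have hmod := n3_mod h
  have h3 : 3 ∣ Nat.card H := by
    have := orderOf_dvd_card_centralizer x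
    rwa [hx] at this
  have h5 : 5 ∣ Nat.card H := by
    have := orderOf_dvd_natCard (⟨w, hwH⟩ : H)
    rwa [Subgroup.orderOf_mk, hw] at this
  have h17 : ¬ 17 ∣ Nat.card H := not_dvd17 h hx1 (by rw [hx]; norm_num)
  have hdvd : Nat.card H ∣ 120 * 17 := by
    have : Nat.card H ∣ 2040 := Dvd.intro _ hmul
    simpa using this
  have hcop : Nat.Coprime (Nat.card H) 17 :=
    (Nat.coprime_comm.mp ((Nat.Prime.coprime_iff_not_dvd (by norm_num)).mpr h17))
  have h120 : Nat.card H ∣ 120 := hcop.dvd_of_dvd_mul_right hdvd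
  have hmem : Nat.card H ∈ Nat.divisors 120 := Nat.mem_divisors.mpr ⟨h120, by norm_num⟩
  have hcases : Nat.card H = 15 ∨ Nat.card H = 30 ∨ Nat.card H = 60 ∨ Nat.card H = 120 := by
    have key2 : ∀ c ∈ Nat.divisors 120, 3 ∣ c → 5 ∣ c → c = 15 ∨ c = 30 ∨ c = 60 ∨ c = 120 := by
      decide
    exact key2 _ hmem h3 h5
  rcases hcases with hc | hc | hc | hc
  · rw [hc] at hmul; omega
  · rw [hc] at hmul; omega
  · -- the case `|C(x)| = 60`
    exfalso
    have hQH : (Q : Subgroup G) ≤ H := by
      rw [hQ, zpowers_le]; exact hwH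
    obtain ⟨n, hn1, hn2⟩ := card_inf_normalizer_mul Q H hQH
    have hN : Nat.card (normalizer ((Q : Subgroup G) : Set G)) = 30 := by
      have := card_normalizer_mul_card_sylow Q
      rw [n5 h, h] at this
      omega
    set M := (H ⊓ normalizer ((Q : Subgroup G) : Set G) : Subgroup G) with hM
    have hm30 : Nat.card M ∣ 30 := by
      have := Subgroup.card_dvd_of_le (inf_le_right : M ≤ normalizer ((Q : Subgroup G) : Set G))
      rwa [hN] at this
    have hwQ : w ∈ (Q : Subgroup G) := by rw [hQ]; exact mem_zpowers w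
    have hwM : w ∈ M := ⟨hwH, Subgroup.le_normalizer hwQ⟩
    have hxN : x ∈ normalizer ((Q : Subgroup G) : Set G) := by
      have h1 : x ∈ centralizer ((zpowers w : Subgroup G) : Set G) := by
        rw [centralizer_zpowers_eq, Subgroup.mem_centralizer_singleton_iff]; exact hxw
      rw [hQ]
      exact Subgroup.centralizer_le_normalizer _ h1
    have hxM : x ∈ M := ⟨hxH, hxN⟩
    have hm3 : 3 ∣ Nat.card M := by
      have := orderOf_dvd_natCard (⟨x, hxM⟩ : M)
      rwa [Subgroup.orderOf_mk, hx] at this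
    have hm5 : 5 ∣ Nat.card M := by
      have := orderOf_dvd_natCard (⟨w, hwM⟩ : M)
      rwa [Subgroup.orderOf_mk, hw] at this
    have hmmem : Nat.card M ∈ Nat.divisors 30 := Nat.mem_divisors.mpr ⟨hm30, by norm_num⟩
    have hmc : Nat.card M = 15 ∨ Nat.card M = 30 := by
      have key2 : ∀ c ∈ Nat.divisors 30, 3 ∣ c → 5 ∣ c → c = 15 ∨ c = 30 := by decide
      exact key2 _ hmmem hm3 hm5
    rw [hc] at hn2
    rcases hmc with hm | hm
    · rw [hm] at hn2; omega
    · rw [hm] at hn2; omega
  · rw [hc] at hmul; omega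

theorem card_centralizer3 (h : Nat.card G = 4080) {x : G} (hx : orderOf x = 3) :
    Nat.card (centralizer ({x} : Set G)) = 15 := by
  have hmul := card_centralizer3_mul h hx
  rw [n3 h] at hmul
  omega

/-- the centralizer of an involution has order dividing 16 -/
theorem card_centralizer_invol_dvd (h : Nat.card G = 4080) {t : G} (ht : orderOf t = 2) :
    Nat.card (centralizer ({t} : Set G)) ∣ 16 := by
  have ht1 : t ≠ 1 := by
    intro h1
    rw [h1, orderOf_one] at ht
    omega
  have hdvd : Nat.card (centralizer ({t} : Set G)) ∣ 16 * (3 * 5 * 17) := by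
    have := Subgroup.card_subgroup_dvd_card (centralizer ({t} : Set G))
    rwa [h] at this
  have h17 : ¬ 17 ∣ Nat.card (centralizer ({t} : Set G)) :=
    not_dvd17 h ht1 (by rw [ht]; norm_num)
  have hodd : ∀ p : ℕ, p.Prime → (∀ y : G, orderOf y = p → Nat.card (centralizer ({y} : Set G)) = 15) →
      ¬ p ∣ Nat.card (centralizer ({t} : Set G)) := by
    intro p hp hy hpd
    haveI : Fact p.Prime := ⟨hp⟩
    obtain ⟨y, hyo⟩ := exists_prime_orderOf_dvd_card' (G := ↥(centralizer ({t} : Set G))) p hpd
    have hyG : orderOf (y : G) = p := by rw [Subgroup.orderOf_coe]; exact hyo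
    have hty : (y : G) * t = t * (y : G) := Subgroup.mem_centralizer_singleton_iff.mp y.2
    have hmem : t ∈ centralizer ({(y : G)} : Set G) := by
      rw [Subgroup.mem_centralizer_singleton_iff]; exact hty.symm
    have hd := orderOf_dvd_natCard (⟨t, hmem⟩ : centralizer ({(y : G)} : Set G))
    rw [Subgroup.orderOf_mk, ht, hy _ hyG] at hd
    norm_num at hd
  have h3 := hodd 3 (by norm_num) (fun y hy => card_centralizer3 h hy)
  have h5 := hodd 5 (by norm_num) (fun y hy => card_centralizer5 h hy)
  have hcop : Nat.Coprime (Nat.card (centralizer ({t} : Set G))) (3 * 5 * 17) := by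
    apply Nat.Coprime.mul_right
    · apply Nat.Coprime.mul_right
      · exact (Nat.coprime_comm.mp ((Nat.Prime.coprime_iff_not_dvd (by norm_num)).mpr h3))
      · exact (Nat.coprime_comm.mp ((Nat.Prime.coprime_iff_not_dvd (by norm_num)).mpr h5))
    · exact (Nat.coprime_comm.mp ((Nat.Prime.coprime_iff_not_dvd (by norm_num)).mpr h17))
  exact hcop.dvd_of_dvd_mul_right hdvd

/-- upper bound on the number of non-identity 2-elements -/
theorem card_two_elements_le (h : Nat.card G = 4080) :
    Nat.card {g : G // g ≠ 1 ∧ g ^ 16 = 1} ≤ 255 := by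
  classical
  have h17 := card_order17 h
  have h5cnt : Nat.card {g : G // orderOf g = 5} = 544 := by
    rw [card_orderOf_eq_prime (fun P => card_sylow5 h P), n5 h]
  have h3cnt : Nat.card {g : G // orderOf g = 3} = 272 := by
    rw [card_orderOf_eq_prime (fun P => card_sylow3 h P), n3 h]
  have s5 : 544 * 3 ≤ Nat.card {g : G // g ^ (5 * 3) = 1 ∧ g ^ 3 ≠ 1} := by
    rw [← h5cnt]
    apply card_singular_ge 5 3 6 3 (by norm_num) (by norm_num) (by norm_num) (by norm_num)
    intro a ha
    have h4 : 3 ^ 1 ∣ Nat.card (centralizer ({a} : Set G)) := by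
      rw [card_centralizer5 h ha]; norm_num
    obtain ⟨K, hKle, hKcard, hKpow⟩ := exists_subgroup_le_card_pow 3 1 _ h4
    refine ⟨K, fun u hu => ⟨?_, by simpa using hKpow u hu⟩, by rw [hKcard]; norm_num⟩
    exact Subgroup.mem_centralizer_singleton_iff.mp (hKle hu)
  haveI := Fintype.ofFinite G
  have hG : Fintype.card G = 4080 := by rw [← Nat.card_eq_fintype_card, h]
  rw [Nat.card_eq_fintype_card, Fintype.card_subtype] at h17 s5 h3cnt ⊢
  have b1 : ∀ (g : G) (a b : ℕ), g ^ a = 1 → g ^ b = 1 → g ^ (Nat.gcd a b) = 1 := by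
    intro g a b h1 h2
    have d1 := orderOf_dvd_of_pow_eq_one h1
    have d2 := orderOf_dvd_of_pow_eq_one h2
    exact orderOf_dvd_iff_pow_eq_one.mp (Nat.dvd_gcd d1 d2)
  have key : ∀ g : G, (if orderOf g = 17 then 1 else 0) +
      (if g ^ (5 * 3) = 1 ∧ g ^ 3 ≠ 1 then 1 else 0) +
      (if orderOf g = 3 then 1 else 0) +
      (if g ≠ 1 ∧ g ^ 16 = 1 then 1 else 0) + (if g = 1 then 1 else 0) ≤ 1 := by
    intro g
    by_cases hg1 : g = 1
    · subst hg1
      simp
    · by_cases hg17 : orderOf g = 17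
      · have n5 : ¬ g ^ (5 * 3) = 1 := by
          intro hh
          have := orderOf_dvd_of_pow_eq_one hh
          rw [hg17] at this
          norm_num at this
        have n3 : ¬ orderOf g = 3 := by rw [hg17]; norm_num
        have n2 : ¬ g ^ 16 = 1 := by
          intro hh
          have := orderOf_dvd_of_pow_eq_one hh
          rw [hg17] at this
          norm_num at this
        simp [hg1, hg17, n5, n3, n2]
      · by_cases hg5 : g ^ (5 * 3) = 1 ∧ g ^ 3 ≠ 1
        · have n3 : ¬ orderOf g = 3 := by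
            intro hh
            apply hg5.2
            rw [← hh]; exact pow_orderOf_eq_one g
          have n2 : ¬ (g ≠ 1 ∧ g ^ 16 = 1) := by
            intro hh
            have := b1 g _ _ hg5.1 hh.2
            have e : Nat.gcd (5 * 3) 16 = 1 := by norm_num
            rw [e, pow_one] at this
            exact hg1 this
          rw [if_neg hg17, if_pos hg5, if_neg n3, if_neg n2, if_neg hg1]
        · by_cases hg3 : orderOf g = 3
          · have n2 : ¬ (g ≠ 1 ∧ g ^ 16 = 1) := by
              intro hh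
              have := orderOf_dvd_of_pow_eq_one hh.2
              rw [hg3] at this
              norm_num at this
            rw [if_neg hg17, if_neg hg5, if_pos hg3, if_neg n2, if_neg hg1]
          · rw [if_neg hg17, if_neg hg5, if_neg hg3, if_neg hg1]
            split_ifs <;> omega
  have hsum := Finset.sum_le_sum (fun g (_ : g ∈ (Finset.univ : Finset G)) => key g)
  simp only [Finset.sum_add_distrib, ← Finset.card_filter] at hsum
  have e1 : (Finset.univ.filter (fun g : G => g = 1)).card = 1 := by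
    rw [Finset.filter_eq' Finset.univ (1 : G)]
    simp
  rw [e1] at hsum
  simp only [Finset.sum_const, Finset.card_univ, smul_eq_mul, mul_one, hG] at hsum
  omega

/-- Every involution centralizer is an elementary abelian 2-group; Sylow 2-subgroups have
exponent 2. -/
theorem cit (h : Nat.card G = 4080) (T : Sylow 2 G) :
    (∀ g ∈ (T : Subgroup G), g ^ 2 = 1) ∧
    ∀ t : G, orderOf t = 2 → IsMulCommutative (centralizer ({t} : Set G)) ∧
      ∀ c ∈ centralizer ({t} : Set G), c ^ 2 = 1 := by
  apply cit_of_count T 16 (card_sylow2 h T) (by norm_num)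
    (fun t ht => card_centralizer_invol_dvd h ht)
  have := card_two_elements_le h
  rw [h]
  omega

end Cfsg.Agent.Helper61.G4080
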