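import Mathlib

/-!
# M. Hall's theorem on 4-transitive groups with odd 4-point stabilizer: shared definitions

Used by the proof of S4221 (pieces by several helpers).
-/

set_option autoImplicit false

namespace Cfsg.Agent.Helper61.Hall

open MulAction

section defs

variable (G : Type*) [Group G] (Ω : Type*) [MulAction G Ω]

variable {Ω} in
/-- Pointwise stabilizer of four points. -/
def stab4 (a b c d : Ω) : Subgroup G :=
  stabilizer G a ⊓ stabilizer G b ⊓ stabilizer G c ⊓ stabilizer G d

/-- Standing hypothesis: the stabilizer of any four distinct points has odd order. -/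
def OddStab4 : Prop :=
  ∀ a b c d : Ω, a ≠ b → a ≠ c → a ≠ d → b ≠ c → b ≠ d → c ≠ d →
    Odd (Nat.card (stab4 G a b c d))

/-- The order of `C(u) ∩ G_{a, ua, c, uc}` is the constant `k`, for every involution `u` and every
ordered pair of distinct 2-cycles `(a ua)`, `(c uc)` of `u`. -/
def CenConst (k : ℕ) : Prop :=
  ∀ (u : G) (a c : Ω), u * u = 1 → u • a ≠ a → u • c ≠ c → c ≠ a → c ≠ u • a →
    Nat.card (Subgroup.centralizer {u} ⊓ stab4 G a (u • a) c (u • c) : Subgroup G) = k

end defs

variable {G : Type*} [Group G] {Ω : Type*} [MulAction G Ω]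

theorem mem_stab4 {a b c d : Ω} {g : G} :
    g ∈ stab4 G a b c d ↔ g • a = a ∧ g • b = b ∧ g • c = c ∧ g • d = d := by
  simp [stab4, and_assoc]

/-- The standard configuration: commuting involutions `s = (p1 p2)(p3)(p4)…` and
`t = (p1 p2)(p3 p4)…`. -/
structure Config (s t : G) (p1 p2 p3 p4 : Ω) : Prop where
  h12 : p1 ≠ p2
  h13 : p1 ≠ p3
  h14 : p1 ≠ p4
  h23 : p2 ≠ p3
  h24 : p2 ≠ p4
  h34 : p3 ≠ p4
  hs : s * s = 1
  ht : t * t = 1
  hst : s * t = t * s
  t1 : t • p1 = p2
  t2 : t • p2 = p1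
  t3 : t • p3 = p4
  t4 : t • p4 = p3
  s1 : s • p1 = p2
  s2 : s • p2 = p1
  s3 : s • p3 = p3
  s4 : s • p4 = p4

theorem mem_cen {u g : G} : g ∈ Subgroup.centralizer {u} ↔ g * u = u * g :=
  Subgroup.mem_centralizer_singleton_iff

end Cfsg.Agent.Helper61.Hall
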