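import Cfsg.Agent.Helper61.HallKit
import Cfsg.Agent.Helper68.HallT1
import Cfsg.Agent.Helper81.HallT8
import Cfsg.Agent.Helper11.HallT7

/-!
# S4221, odd case II: the centralizer `C_H(t)` moves the common fixed point `x`
-/

set_option autoImplicit false

namespace Cfsg.Agent.Helper61.HallII

open MulAction Cfsg.Agent.Helper61.Hall

variable {G : Type*} [Group G] {Ω : Type*} [MulAction G Ω]

theorem odd_caseII [Fintype Ω] [Finite G] [FaithfulSMul G Ω] (h4 : IsMultiplyPretransitive G Ω 4)
    (hodd : OddStab4 G Ω) (hn : 9 ≤ Fintype.card Ω)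
    {s t : G} {p1 p2 p3 p4 x y z : Ω} (cfg : Config s t p1 p2 p3 p4)
    (hxy : x ≠ y) (hxz : x ≠ z) (hyz : y ≠ z)
    (hfs : ∀ q, s • q = q ↔ q = p3 ∨ q = p4 ∨ q = x)
    (hfst : ∀ q, (s * t) • q = q ↔ q = p1 ∨ q = p2 ∨ q = x)
    (hft : ∀ q, t • q = q ↔ q = x ∨ q = y ∨ q = z) (sy : s • y = z) (sz : s • z = y)
    (hT : ¬ stab4 G p1 p2 p3 p4 ⊓ Subgroup.centralizer {t} ≤ stabilizer G x) :
    False := by
  obtain ⟨k, hk⟩ := Cfsg.Agent.Helper68.HallT.cenConst_exists h4 hodd
  set H := stab4 G p1 p2 p3 p4 with hH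
  have hHodd : Odd (Nat.card H) := hodd p1 p2 p3 p4 cfg.h12 cfg.h13 cfg.h14 cfg.h23 cfg.h24 cfg.h34
  -- the p's are moved by t, x y z are fixed by t
  have tx : t • x = x := (hft x).mpr (Or.inl rfl)
  have ty : t • y = y := (hft y).mpr (Or.inr (Or.inl rfl))
  have tz : t • z = z := (hft z).mpr (Or.inr (Or.inr rfl))
  have hyp1 : y ≠ p1 := fun h => cfg.h12 (by rw [← cfg.t1, ← h, ty, h])
  have hyp2 : y ≠ p2 := fun h => cfg.h12 (by rw [← cfg.t2, ← h, ty, h])
  have hyp3 : y ≠ p3 := fun h => cfg.h34 (by rw [← cfg.t3, ← h, ty, h])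
  have hyp4 : y ≠ p4 := fun h => cfg.h34 (by rw [← cfg.t4, ← h, ty, h])
  have hxp1 : x ≠ p1 := fun h => cfg.h12 (by rw [← cfg.t1, ← h, tx, h])
  have hxp2 : x ≠ p2 := fun h => cfg.h12 (by rw [← cfg.t2, ← h, tx, h])
  have hxp3 : x ≠ p3 := fun h => cfg.h34 (by rw [← cfg.t3, ← h, tx, h])
  have hxp4 : x ≠ p4 := fun h => cfg.h34 (by rw [← cfg.t4, ← h, tx, h])
  -- T and its order
  set T := H ⊓ Subgroup.centralizer {t} with hTdef
  have hTk : Nat.card T = k := by
    have := hk t p1 p3 cfg.ht (by rw [cfg.t1]; exact cfg.h12.symm) (by rw [cfg.t3]; exact cfg.h34.symm)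
      cfg.h13.symm (by rw [cfg.t1]; exact cfg.h23.symm)
    rw [cfg.t1, cfg.t3, inf_comm] at this
    exact this
  have hTodd : Odd (Nat.card T) := by
    have hle : T ≤ H := inf_le_left
    exact hHodd.of_dvd_nat (Subgroup.card_dvd_of_le hle)
  -- T permutes Fix(t)
  have hTfix : ∀ g ∈ T, ∀ q : Ω, t • q = q → t • (g • q) = g • q := by
    intro g hg q hq
    have hc : g * t = t * g := mem_cen.mp hg.2
    rw [← mul_smul, ← hc, mul_smul, hq]
  -- the T-orbit of x has 3 elements
  have horbT : Nat.card (orbit T x) = 3 := by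
    have hsub : orbit T x ⊆ ({x, y, z} : Set Ω) := by
      rintro _ ⟨g, rfl⟩
      have := hTfix g.1 g.2 x tx
      have := (hft _).mp this
      simpa [Subgroup.smul_def] using this
    have hfin : (orbit T x).Finite := Set.toFinite _
    have hle : (orbit T x).ncard ≤ 3 := by
      calc (orbit T x).ncard ≤ ({x, y, z} : Set Ω).ncard := Set.ncard_le_ncard hsub (Set.toFinite _)
        _ ≤ 3 := by
          have := Set.ncard_insert_le x ({y, z} : Set Ω)
          have h2 : ({y, z} : Set Ω).ncard ≤ 2 := by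
            have := Set.ncard_insert_le y ({z} : Set Ω)
            simpa using this
          omega
    have hdvd : (orbit T x).ncard ∣ Nat.card T := by
      have := card_orbit_mul_card_inf_stabilizer T x
      rw [Nat.card_coe_set_eq] at this
      exact Dvd.intro _ this
    have hoddc : Odd (orbit T x).ncard := hTodd.of_dvd_nat hdvd
    have hne1 : (orbit T x).ncard ≠ 1 := by
      intro h1
      apply hT
      intro g hg
      rw [mem_stabilizer_iff]
      have hmem : g • x ∈ orbit T x := ⟨⟨g, hg⟩, rfl⟩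
      have hxmem : x ∈ orbit T x := mem_orbit_self x
      obtain ⟨w, hw⟩ := Set.ncard_eq_one.mp h1
      rw [hw] at hmem hxmem
      rw [Set.mem_singleton_iff] at hmem hxmem
      rw [hmem, hxmem]
    rw [Nat.card_coe_set_eq]
    rcases hoddc with ⟨r, hr⟩
    omega
  -- y is in the T-orbit of x
  have hyorb : ∃ g ∈ T, g • x = y := by
    by_contra hcon
    push Not at hcon
    have hsub : orbit T x ⊆ ({x, z} : Set Ω) := by
      rintro _ ⟨g, rfl⟩
      have h1 := hTfix g.1 g.2 x tx
      have h2 := (hft _).mp h1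
      have h3 := hcon g.1 g.2
      rcases h2 with h | h | h
      · left; simpa [Subgroup.smul_def] using h
      · exact (h3 h).elim
      · right; simpa [Subgroup.smul_def] using h
    have : (orbit T x).ncard ≤ 2 := by
      calc (orbit T x).ncard ≤ ({x, z} : Set Ω).ncard := Set.ncard_le_ncard hsub (Set.toFinite _)
        _ ≤ 2 := by
          have := Set.ncard_insert_le x ({z} : Set Ω)
          simpa using this
    rw [Nat.card_coe_set_eq] at horbT
    omega
  -- index computations
  have hT3 : Nat.card T = 3 * Nat.card (T ⊓ stabilizer G x : Subgroup G) := by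
    have := card_orbit_mul_card_inf_stabilizer T x
    rw [horbT] at this
    exact this.symm
  have h8 := Cfsg.Agent.Helper81.HallT8.odd_index_eq hodd cfg hfs hfst
  have hTxpos : 0 < Nat.card (T ⊓ stabilizer G x : Subgroup G) := Nat.card_pos
  have hH3 : Nat.card H = 3 * Nat.card (H ⊓ stabilizer G x : Subgroup G) := by
    rw [← hH, ← hTdef, hT3] at h8
    have : Nat.card H * Nat.card (T ⊓ stabilizer G x : Subgroup G) =
        (3 * Nat.card (H ⊓ stabilizer G x : Subgroup G)) *
          Nat.card (T ⊓ stabilizer G x : Subgroup G) := by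
      rw [h8]; ring
    exact Nat.eq_of_mul_eq_mul_right hTxpos this
  have hHxpos : 0 < Nat.card (H ⊓ stabilizer G x : Subgroup G) := Nat.card_pos
  have horbH : Nat.card (orbit H x) = 3 := by
    have := card_orbit_mul_card_inf_stabilizer H x
    rw [hH3] at this
    have h' : Nat.card (orbit H x) * Nat.card (H ⊓ stabilizer G x : Subgroup G) =
        3 * Nat.card (H ⊓ stabilizer G x : Subgroup G) := this
    exact Nat.eq_of_mul_eq_mul_right hHxpos h'
  -- the H-orbit of x is {x,y,z}
  have horbHeq : ∀ h ∈ H, h • x = x ∨ h • x = y ∨ h • x = z := by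
    have hsub : orbit T x ⊆ orbit H x := by
      rintro _ ⟨g, rfl⟩
      exact ⟨⟨g.1, g.2.1⟩, rfl⟩
    have heq : orbit T x = orbit H x := by
      apply Set.eq_of_subset_of_ncard_le hsub _ (Set.toFinite _)
      rw [← Nat.card_coe_set_eq, ← Nat.card_coe_set_eq, horbT, horbH]
    intro h hh
    have hmem : h • x ∈ orbit H x := ⟨⟨h, hh⟩, rfl⟩
    rw [← heq] at hmem
    obtain ⟨g, hg⟩ := hmem
    have h1 := hTfix g.1 g.2 x tx
    have h2 := (hft _).mp h1
    have hg' : g.1 • x = h • x := hg
    rw [hg'] at h2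
    exact h2
  -- A fixes x and y
  obtain ⟨hAx, hLcard, hLle, hAbot⟩ := Cfsg.Agent.Helper11.HallT7.odd_cen_structure h4 hodd hk (by omega) cfg.h12 cfg.h13 cfg.h14
    (Ne.symm hxp1) cfg.h23 cfg.h24 (Ne.symm hxp2) cfg.h34 (Ne.symm hxp3) (Ne.symm hxp4)
    cfg.hs cfg.s1 cfg.s2 hfs
  rw [← hH] at hAx hLle hAbot
  set A := H ⊓ Subgroup.centralizer {s} with hAdef
  have hAodd : Odd (Nat.card A) := hHodd.of_dvd_nat (Subgroup.card_dvd_of_le inf_le_left)
  obtain ⟨g0, hg0T, hg0⟩ := hyorb
  have hAy : A ≤ stabilizer G y := by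
    intro g hg
    rw [mem_stabilizer_iff]
    have hgH : g ∈ H := hg.1
    have hgx : g • x = x := mem_stabilizer_iff.mp (hAx hg)
    -- g • y is in the H-orbit of x
    have h1 : g • y = x ∨ g • y = y ∨ g • y = z := by
      have := horbHeq (g * g0) (H.mul_mem hgH hg0T.1)
      rwa [mul_smul, hg0] at this
    rcases h1 with h | h | h
    · exfalso
      apply hxy
      have : g • y = g • x := by rw [h, hgx]
      exact (MulAction.injective g this).symm
    · exact h
    · exfalso
      -- then g • z = y, so g swaps y and z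
      obtain ⟨g1, hg1T, hg1⟩ : ∃ g1 ∈ T, g1 • x = z := by
        by_contra hcon
        push Not at hcon
        have hsub : orbit T x ⊆ ({x, y} : Set Ω) := by
          rintro _ ⟨g', rfl⟩
          have h1 := hTfix g'.1 g'.2 x tx
          have h2 := (hft _).mp h1
          have h3 := hcon g'.1 g'.2
          rcases h2 with h | h | h
          · left; simpa [Subgroup.smul_def] using h
          · right; simpa [Subgroup.smul_def] using h
          · exact (h3 h).elim
        have : (orbit T x).ncard ≤ 2 := by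
          calc (orbit T x).ncard ≤ ({x, y} : Set Ω).ncard :=
                Set.ncard_le_ncard hsub (Set.toFinite _)
            _ ≤ 2 := by
              have := Set.ncard_insert_le x ({y} : Set Ω)
              simpa using this
        rw [Nat.card_coe_set_eq] at horbT
        omega
      have h2 : g • z = x ∨ g • z = y ∨ g • z = z := by
        have := horbHeq (g * g1) (H.mul_mem hgH hg1T.1)
        rwa [mul_smul, hg1] at this
      rcases h2 with h' | h' | h'
      · apply hxz
        have : g • z = g • x := by rw [h', hgx]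
        exact (MulAction.injective g this).symm
      · exact not_swap_of_odd hAodd hg hyz h h'
      · apply hyz
        have : g • y = g • z := by rw [h, h']
        exact MulAction.injective g this
  have hA : A = ⊥ := hAbot y hyp1 hyp2 hyp3 hyp4 (Ne.symm hxy) hAy
  rw [hA] at hLle
  have hbot1 : Nat.card (⊥ : Subgroup G) = 1 := Subgroup.card_bot
  rw [hbot1, hLcard] at hLle
  have hk3 : 3 ≤ k := by
    rw [← hTk, hT3]
    omega
  have : 4 ≤ Fintype.card Ω - 5 := by omega
  have : 12 ≤ (Fintype.card Ω - 5) * k := by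
    calc 12 = 4 * 3 := by norm_num
      _ ≤ (Fintype.card Ω - 5) * k := Nat.mul_le_mul this hk3
  omega

end Cfsg.Agent.Helper61.HallII
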