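import Cfsg.Agent.Helper61.HallDefs

/-!
# Small toolkit for the S4221 pieces: orbit-stabilizer for subgroups, odd-order facts
-/

set_option autoImplicit false

namespace Cfsg.Agent.Helper61.Hall

open MulAction

variable {G : Type*} [Group G] {Ω : Type*} [MulAction G Ω]

/-- Orbit-stabilizer for a subgroup `H` acting on `Ω`, with the stabilizer written inside `G`. -/
theorem card_orbit_mul_card_inf_stabilizer (H : Subgroup G) (x : Ω) :
    Nat.card (orbit H x) * Nat.card (H ⊓ stabilizer G x : Subgroup G) = Nat.card H := by
  have h1 : stabilizer H x = (stabilizer G x).subgroupOf H := by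
    ext g
    simp [mem_stabilizer_iff, Subgroup.mem_subgroupOf, Subgroup.smul_def]
  have h2 : Nat.card (stabilizer H x) = Nat.card (H ⊓ stabilizer G x : Subgroup G) := by
    rw [h1, inf_comm, ← Subgroup.inf_subgroupOf_right]
    exact Nat.card_congr (Subgroup.subgroupOfEquivOfLe inf_le_right).toEquiv
  have h3 := Subgroup.card_mul_index (stabilizer H x)
  rw [index_stabilizer, h2] at h3
  rw [← h3, mul_comm, Nat.card_coe_set_eq]

/-- An element of an odd-order subgroup cannot swap two distinct points. -/
theorem not_swap_of_odd {K : Subgroup G} (hK : Odd (Nat.card K)) {g : G} (hg : g ∈ K) {a b : Ω}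
    (hab : a ≠ b) (h1 : g • a = b) (h2 : g • b = a) : False := by
  have hfin : Finite K := Nat.finite_of_card_ne_zero (fun h => by rw [h] at hK; exact (by decide : ¬ Odd 0) hK)
  have ho : orderOf g ∣ Nat.card K := by
    have := orderOf_dvd_natCard (⟨g, hg⟩ : K)
    rwa [Subgroup.orderOf_mk] at this
  have hodd : Odd (orderOf g) := hK.of_dvd_nat ho
  obtain ⟨r, hr⟩ := hodd
  have key : ∀ n : ℕ, g ^ (2 * n + 1) • a = b := by
    intro n
    induction n with
    | zero => simpa using h1
    | succ n ih =>
      have : g ^ (2 * (n + 1) + 1) = g * g * g ^ (2 * n + 1) := by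
        rw [show 2 * (n + 1) + 1 = 2 + (2 * n + 1) by ring, pow_add, pow_two]
      rw [this, mul_smul, mul_smul, ih, h2, h1]
  have := key r
  rw [← hr, pow_orderOf_eq_one, one_smul] at this
  exact hab this

end Cfsg.Agent.Helper61.Hall
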