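import Cfsg.Agent.Helper61.HallDefs
import Cfsg.Agent.Helper61.HallCaseII
import Cfsg.Agent.Helper59.SharpFour
import Cfsg.Agent.Helper59.HallT13
import Cfsg.Agent.Helper68.HallT1
import Cfsg.Agent.Helper69.HallT5
import Cfsg.Agent.Helper91.HallT9
import Cfsg.Agent.Helper75.HallT10

/-!
# M. Hall's theorem: a 4-transitive group whose 4-point stabilizer has odd order (assembly)

Pieces: T1, T6 helper68; T2 (Brauer-Wielandt) helper63; T3, T4 helper79; T5 helper69; T7 helper11;
T8 helper81; T9 helper91; T10 helper75; T13 helper59; T11 and the glue helper61.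
-/

set_option autoImplicit false

namespace Cfsg.Agent.Helper61.Hall

open MulAction

variable {G : Type*} [Group G] {Ω : Type*} [MulAction G Ω]

/-- For at least 8 points the stabilizer of four distinct points is trivial. -/
theorem stab4_eq_bot [Fintype Ω] [Finite G] [FaithfulSMul G Ω]
    (h4 : IsMultiplyPretransitive G Ω 4) (hodd : OddStab4 G Ω) (hn : 8 ≤ Fintype.card Ω)
    {p1 p2 p3 p4 : Ω} (h12 : p1 ≠ p2) (h13 : p1 ≠ p3) (h14 : p1 ≠ p4) (h23 : p2 ≠ p3)
    (h24 : p2 ≠ p4) (h34 : p3 ≠ p4) : stab4 G p1 p2 p3 p4 = ⊥ := by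
  rcases Nat.even_or_odd (Fintype.card Ω) with he | ho
  · exact (Cfsg.Agent.Helper91.HallT9.even_contra h4 hodd hn he).elim
  · obtain ⟨s, t, cfg⟩ := Cfsg.Agent.Helper68.HallT.exists_config h4 hodd h12 h13 h14 h23 h24 h34
    obtain ⟨x, y, z, hxy, hxz, hyz, hfs, hfst, hft, sy, sz⟩ :=
      Cfsg.Agent.Helper69.HallT5.fixed_points_odd h4 hodd hn ho cfg
    by_cases hT : stab4 G p1 p2 p3 p4 ⊓ Subgroup.centralizer {t} ≤ stabilizer G x
    · exact Cfsg.Agent.Helper75.HallT10.odd_caseI h4 hodd hn cfg hxy hxz hyz hfs hfst hft sy sz hT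
    · have h9 : 9 ≤ Fintype.card Ω := by
        rcases ho with ⟨r, hr⟩
        omega
      exact (Cfsg.Agent.Helper61.HallII.odd_caseII h4 hodd h9 cfg hxy hxz hyz hfs hfst hft sy sz
        hT).elim

/-- M. Hall's theorem, in the form of statement S4221. -/
theorem hall_main {α : Type*} [Fintype α] [DecidableEq α] (G : Subgroup (Equiv.Perm α))
    (hG : MulAction.IsMultiplyPretransitive G α 4) (x : Fin 4 ↪ α)
    (hodd : Odd (Nat.card (MulAction.stabilizer G x))) :
    ((Fintype.card α = 4 ∨ Fintype.card α = 5) ∧ G = ⊤) ∨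
    ((Fintype.card α = 6 ∨ Fintype.card α = 7) ∧ G = alternatingGroup α) ∨
    (Fintype.card α = 11 ∧ Nat.card G = 7920) := by
  have h4le : 4 ≤ Fintype.card α := by
    simpa using Fintype.card_le_of_embedding x
  by_cases h8 : 8 ≤ Fintype.card α
  · right; right
    have hO : OddStab4 G α := Cfsg.Agent.Helper59.HallT13.oddStab4_of hG x hodd
    have hsharp : ∀ y : Fin 4 ↪ α, stabilizer G y = ⊥ := by
      intro y
      have hinj := y.injective
      have hb := stab4_eq_bot hG hO h8 (p1 := y 0) (p2 := y 1) (p3 := y 2) (p4 := y 3)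
        (fun h => by simpa using hinj h) (fun h => by simpa using hinj h)
        (fun h => by simpa using hinj h) (fun h => by simpa using hinj h)
        (fun h => by simpa using hinj h) (fun h => by simpa using hinj h)
      rw [eq_bot_iff]
      intro g hg
      have hg' : g ∈ stab4 G (y 0) (y 1) (y 2) (y 3) := by
        rw [mem_stab4]
        have h := mem_stabilizer_iff.mp hg
        exact ⟨DFunLike.congr_fun h 0, DFunLike.congr_fun h 1, DFunLike.congr_fun h 2,
          DFunLike.congr_fun h 3⟩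
      rw [hb] at hg'
      exact hg'
    have := Cfsg.Agent.Helper59.sharp4_card hG hsharp h4le
    have h11 : Fintype.card α = 11 := by omega
    exact ⟨h11, Cfsg.Agent.Helper59.HallT13.card_eq_7920 G hG hsharp h11⟩
  · have : Fintype.card α = 4 ∨ Fintype.card α = 5 ∨ Fintype.card α = 6 ∨
        Fintype.card α = 7 := by
      omega
    rcases this with h | h | h | h
    · left; exact ⟨Or.inl h, Cfsg.Agent.Helper59.HallT13.small_top G hG (Or.inl h)⟩
    · left; exact ⟨Or.inr h, Cfsg.Agent.Helper59.HallT13.small_top G hG (Or.inr h)⟩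
    · right; left
      exact ⟨Or.inl h, Cfsg.Agent.Helper59.HallT13.small_alt G hG x hodd (Or.inl h)⟩
    · right; left
      exact ⟨Or.inr h, Cfsg.Agent.Helper59.HallT13.small_alt G hG x hodd (Or.inr h)⟩

end Cfsg.Agent.Helper61.Hall
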