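import Mathlib

/-!
# Counting lemmas for `k`-homogeneous groups
-/

set_option autoImplicit false

namespace Cfsg.Agent.Helper61.Homog

open Finset

section lucas

/-- `C(p^a u + p^a - 1, p^a - 1) ≡ 1 (mod p)`. -/
theorem choose_modEq_one (p : ℕ) [hp : Fact p.Prime] (a u : ℕ) :
    (p ^ a * u + p ^ a - 1).choose (p ^ a - 1) ≡ 1 [MOD p] := by
  induction a with
  | zero => simp [Nat.ModEq]
  | succ a ih =>
    have hp1 : 1 ≤ p := hp.out.one_le
    have hw : 1 ≤ p ^ a * u + p ^ a := by
      have : 1 ≤ p ^ a := Nat.one_le_pow _ _ hp.out.pos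
      omega
    have hpa : 1 ≤ p ^ a := Nat.one_le_pow _ _ hp.out.pos
    have e1 : p ^ (a + 1) * u + p ^ (a + 1) - 1 = (p - 1) + p * (p ^ a * u + p ^ a - 1) := by
      have : p ^ (a + 1) * u + p ^ (a + 1) = p * (p ^ a * u + p ^ a) := by ring
      rw [this]
      obtain ⟨w, hw'⟩ : ∃ w, p ^ a * u + p ^ a = w + 1 := ⟨_, (Nat.sub_add_cancel hw).symm⟩
      rw [hw']
      obtain ⟨p', rfl⟩ : ∃ p', p = p' + 1 := ⟨_, (Nat.sub_add_cancel hp1).symm⟩
      simp only [Nat.add_sub_cancel]
      ring_nf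
      omega
    have e2 : p ^ (a + 1) - 1 = (p - 1) + p * (p ^ a - 1) := by
      have : p ^ (a + 1) = p * p ^ a := by ring
      rw [this]
      obtain ⟨w, hw'⟩ : ∃ w, p ^ a = w + 1 := ⟨_, (Nat.sub_add_cancel hpa).symm⟩
      rw [hw']
      obtain ⟨p', rfl⟩ : ∃ p', p = p' + 1 := ⟨_, (Nat.sub_add_cancel hp1).symm⟩
      simp only [Nat.add_sub_cancel]
      ring_nf
      omega
    have hlt : p - 1 < p := Nat.sub_lt hp.out.pos Nat.one_pos
    have h := Choose.choose_modEq_choose_mod_mul_choose_div_nat (p := p)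
      (n := p ^ (a + 1) * u + p ^ (a + 1) - 1) (k := p ^ (a + 1) - 1)
    rw [e1, e2, Nat.add_mul_mod_self_left, Nat.add_mul_mod_self_left, Nat.mod_eq_of_lt hlt,
      Nat.add_mul_div_left _ _ hp.out.pos, Nat.add_mul_div_left _ _ hp.out.pos,
      Nat.div_eq_of_lt hlt, zero_add, zero_add, Nat.choose_self, one_mul] at h
    rw [e1, e2]
    exact h.trans ih

theorem not_dvd_choose (p : ℕ) [hp : Fact p.Prime] (a k : ℕ) (hk : p ^ a ∣ k) :
    ¬ p ∣ (k + p ^ a - 1).choose k := by
  obtain ⟨u, rfl⟩ := hk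
  have hpa : 1 ≤ p ^ a := Nat.one_le_pow _ _ hp.out.pos
  have hsymm : (p ^ a * u + p ^ a - 1).choose (p ^ a * u) = (p ^ a * u + p ^ a - 1).choose (p ^ a - 1) := by
    apply Nat.choose_symm_of_eq_add
    omega
  rw [hsymm]
  intro hdvd
  have h1 := choose_modEq_one p a u
  have h0 : (p ^ a * u + p ^ a - 1).choose (p ^ a - 1) ≡ 0 [MOD p] :=
    (Nat.modEq_zero_iff_dvd).mpr hdvd
  have : (1 : ℕ) ≡ 0 [MOD p] := h1.symm.trans h0
  rw [Nat.modEq_zero_iff_dvd] at this
  exact hp.out.one_lt.ne' (Nat.dvd_one.mp this)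

end lucas

section counting
variable {α : Type*} [DecidableEq α]

/-- number of `k`-supersets of a `(k-1)`-set `T` inside `U` -/
theorem card_supersets (T U : Finset α) (k : ℕ) (hT : T.card + 1 = k) (hTU : T ⊆ U) :
    ((U.powersetCard k).filter (fun S => T ⊆ S)).card = (U \ T).card := by
  symm
  apply Finset.card_bij (fun x _ => insert x T)
  · intro x hx
    rw [mem_sdiff] at hx
    simp only [mem_filter, mem_powersetCard]
    refine ⟨⟨insert_subset hx.1 hTU, ?_⟩, subset_insert _ _⟩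
    rw [card_insert_of_notMem hx.2, hT]
  · intro x hx y hy hxy
    rw [mem_sdiff] at hx hy
    have : x ∈ insert y T := hxy ▸ mem_insert_self x T
    rcases mem_insert.mp this with h | h
    · exact h
    · exact absurd h hx.2
  · intro S hS
    simp only [mem_filter, mem_powersetCard] at hS
    obtain ⟨⟨hSU, hScard⟩, hTS⟩ := hS
    have h1 : (S \ T).card = 1 := by
      rw [card_sdiff_of_subset hTS]; omega
    obtain ⟨x, hx⟩ := card_eq_one.mp h1
    have hxS : x ∈ S \ T := by rw [hx]; exact mem_singleton_self x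
    refine ⟨x, ?_, ?_⟩
    · rw [mem_sdiff] at hxS ⊢
      exact ⟨hSU hxS.1, hxS.2⟩
    · ext y
      rw [mem_insert]
      constructor
      · rintro (rfl | hy)
        · exact (mem_sdiff.mp hxS).1
        · exact hTS hy
      · intro hy
        by_cases hyT : y ∈ T
        · right; exact hyT
        · left
          have : y ∈ S \ T := mem_sdiff.mpr ⟨hy, hyT⟩
          rw [hx] at this
          exact mem_singleton.mp this

theorem double_count (Γ : Finset (Finset α)) (k c : ℕ) (hΓ : ∀ T ∈ Γ, T.card + 1 = k)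
    (hc : ∀ S : Finset α, S.card = k → (Γ.filter (fun T => T ⊆ S)).card = c)
    (U : Finset α) (j : ℕ) (hU : U.card = k + j) :
    (Γ.filter (fun T => T ⊆ U)).card * (j + 1) = (k + j).choose k * c := by
  have h1 : ∑ S ∈ U.powersetCard k, (Γ.filter (fun T => T ⊆ S)).card = (k + j).choose k * c := by
    rw [Finset.sum_congr rfl (fun S hS => hc S (mem_powersetCard.mp hS).2)]
    rw [Finset.sum_const, card_powersetCard, hU, smul_eq_mul]
  have h2 : ∑ S ∈ U.powersetCard k, (Γ.filter (fun T => T ⊆ S)).card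
      = ∑ T ∈ Γ, ((U.powersetCard k).filter (fun S => T ⊆ S)).card := by
    simp only [Finset.card_filter]
    rw [Finset.sum_comm]
  have h3 : ∀ T ∈ Γ, ((U.powersetCard k).filter (fun S => T ⊆ S)).card
      = if T ⊆ U then j + 1 else 0 := by
    intro T hT
    split_ifs with hTU
    · rw [card_supersets T U k (hΓ T hT) hTU, card_sdiff_of_subset hTU, hU]
      have := hΓ T hT
      omega
    · rw [Finset.card_eq_zero, Finset.filter_eq_empty_iff]
      intro S hS hTS
      exact hTU (hTS.trans (mem_powersetCard.mp hS).1)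
  rw [← h1, h2, Finset.sum_congr rfl h3, ← Finset.sum_filter, Finset.sum_const, smul_eq_mul]

theorem full_of_regular [Fintype α] (Γ : Finset (Finset α)) (k c : ℕ) (hk : 2 ≤ k)
    (hΓ : ∀ T ∈ Γ, T.card + 1 = k)
    (hc : ∀ S : Finset α, S.card = k → (Γ.filter (fun T => T ⊆ S)).card = c) (hc0 : c ≠ 0)
    (hq : ∀ q : ℕ, IsPrimePow q → q ∣ k → k + q - 1 ≤ Fintype.card α) :
    ∀ T : Finset α, T.card + 1 = k → T ∈ Γ := by
  -- k ≤ n
  have hkn : k ≤ Fintype.card α := by
    obtain ⟨p, hp, hpk⟩ := Nat.exists_prime_and_dvd (show k ≠ 1 by omega)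
    have := hq p hp.isPrimePow hpk
    have := hp.one_le
    omega
  -- k ∣ c
  have hkc : k ∣ c := by
    rw [Nat.dvd_iff_prime_pow_dvd_dvd]
    intro p e hp hpe
    rcases Nat.eq_zero_or_pos e with rfl | he
    · simp
    have hpp : IsPrimePow (p ^ e) := hp.isPrimePow.pow he.ne'
    have hle := hq _ hpp hpe
    have hpe1 : 1 ≤ p ^ e := Nat.one_le_pow _ _ hp.pos
    obtain ⟨U, -, hU⟩ := Finset.exists_subset_card_eq
      (s := (Finset.univ : Finset α)) (n := k + (p ^ e - 1)) (by rw [Finset.card_univ]; omega)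
    have hdc := double_count Γ k c hΓ hc U (p ^ e - 1) hU
    rw [Nat.sub_add_cancel hpe1] at hdc
    have hdvd : p ^ e ∣ (k + (p ^ e - 1)).choose k * c := ⟨_, by rw [← hdc, mul_comm]⟩
    have : Fact p.Prime := ⟨hp⟩
    have hnd := not_dvd_choose p e k hpe
    have hcop : Nat.Coprime (p ^ e) ((k + (p ^ e - 1)).choose k) := by
      apply Nat.Coprime.pow_left
      rw [Nat.Prime.coprime_iff_not_dvd hp]
      rwa [Nat.add_sub_assoc hpe1] at hnd
    exact hcop.dvd_of_dvd_mul_left hdvd
  -- c ≤ k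
  have hck : ∀ S : Finset α, S.card = k → Γ.filter (fun T => T ⊆ S) ⊆ S.powersetCard (k - 1) := by
    intro S hS T hT
    rw [mem_filter] at hT
    rw [mem_powersetCard]
    refine ⟨hT.2, ?_⟩
    have := hΓ T hT.1
    omega
  have hcardps : ∀ S : Finset α, S.card = k → (S.powersetCard (k - 1)).card = k := by
    intro S hS
    rw [card_powersetCard, hS]
    obtain ⟨k', rfl⟩ : ∃ k', k = k' + 1 := ⟨k - 1, by omega⟩
    rw [Nat.add_sub_cancel, Nat.choose_succ_self_right]
  obtain ⟨S₀, -, hS₀⟩ := Finset.exists_subset_card_eq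
    (s := (Finset.univ : Finset α)) (n := k) (by rw [Finset.card_univ]; exact hkn)
  have hcle : c ≤ k := by
    rw [← hc S₀ hS₀, ← hcardps S₀ hS₀]
    exact Finset.card_le_card (hck S₀ hS₀)
  have hceq : c = k := le_antisymm hcle (Nat.le_of_dvd (Nat.pos_of_ne_zero hc0) hkc)
  intro T hT
  have hTlt : T.card < Fintype.card α := by omega
  obtain ⟨x, hx⟩ : ∃ x, x ∉ T := by
    by_contra hcon
    push Not at hcon
    have : T = Finset.univ := Finset.eq_univ_iff_forall.mpr hcon
    rw [this, Finset.card_univ] at hTlt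
    exact lt_irrefl _ hTlt
  have hS : (insert x T).card = k := by rw [card_insert_of_notMem hx, hT]
  have heq : Γ.filter (fun T' => T' ⊆ insert x T) = (insert x T).powersetCard (k - 1) := by
    apply Finset.eq_of_subset_of_card_le (hck _ hS)
    rw [hcardps _ hS, hc _ hS, hceq]
  have hTmem : T ∈ (insert x T).powersetCard (k - 1) := by
    rw [mem_powersetCard]
    exact ⟨subset_insert _ _, by omega⟩
  rw [← heq, mem_filter] at hTmem
  exact hTmem.1

end counting

end Cfsg.Agent.Helper61.Homog
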