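import Mathlib
import Cfsg.Agent.Helper17.SylowKit
import Cfsg.Agent.Helper17.KSk
import Cfsg.Agent.S0732
import Cfsg.Agent.S0992

/-!
# Easy eliminations for the `|G| = 175560` reduction
-/

set_option autoImplicit false

namespace Cfsg.Agent.Helper61.J1Kills

open Subgroup Cfsg.Agent.Helper17

/-- `n₁₉ = 20` is impossible in a simple group whose order is not divisible by `9`
(and with Sylow 19-subgroups of order 19): the action on the 20 Sylow subgroups would make it
`PGL(2,19)` or `PSL(2,19)`. -/
theorem not_simple_n19_eq_20 {K : Type*} [Group K] [Finite K] [IsSimpleGroup K]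
    [Fact (Nat.Prime 19)]
    (h9 : ¬ 9 ∣ Nat.card K) (hP19 : ∀ P : Sylow 19 K, Nat.card (P : Subgroup K) = 19)
    (h19 : Nat.card (Sylow 19 K) = 20) : False := by
  classical
  obtain ⟨P⟩ : Nonempty (Sylow 19 K) := inferInstance
  have hP := hP19 P
  have hC := card_centralizer_dvd_mul_factorial_of_simple P hP 1 (by rw [h19]) (by norm_num)
  have hN := card_normalizer_mul_card_sylow P
  rw [h19] at hN
  obtain ⟨h1, h2⟩ := relIndex_dvd_of_card_sylow_prime P hP
  have h3 := card_centralizer_mul_relIndex (P : Subgroup K)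
  have hr0 : (centralizer ((P : Subgroup K) : Set K)).relIndex
      (normalizer ((P : Subgroup K) : Set K)) ≠ 0 := Subgroup.index_ne_zero_of_finite
  generalize Nat.card (centralizer ((P : Subgroup K) : Set K)) = cc at hC h3
  generalize (centralizer ((P : Subgroup K) : Set K)).relIndex
    (normalizer ((P : Subgroup K) : Set K)) = r at h1 h2 h3 hr0
  generalize Nat.card (normalizer ((P : Subgroup K) : Set K)) = nn at hN h3 h2
  have hr : r < 19 := by
    have : r ≤ 18 := Nat.le_of_dvd (by norm_num) (by simpa using h1)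
    omega
  have hcc : cc = 19 := by
    have hcc1 : cc ∣ 19 := by simpa using hC
    rcases (Nat.dvd_prime (by norm_num : Nat.Prime 19)).mp hcc1 with h | h
    · exfalso
      subst h
      rw [one_mul] at h3
      subst h3
      have : 19 * r ≤ r := Nat.le_of_dvd (Nat.pos_of_ne_zero hr0) h2
      omega
    · exact h
  subst hcc
  have hKcard : Nat.card K = (19 + 1) * 19 * r := by rw [← hN, ← h3]; ring
  let ρ := MulAction.toPermHom K (Sylow 19 K)
  have hinj : Function.Injective ρ := by
    rw [injective_iff_map_eq_one]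
    intro g hg
    apply eq_one_of_forall_smul_sylow_eq (p := 19) (by rw [h19]; norm_num) g
    intro Q
    have : ρ g Q = Q := by rw [hg]; rfl
    exact this
  haveI : Fintype (Sylow 19 K) := Fintype.ofFinite _
  have hα : Fintype.card (Sylow 19 K) = 19 + 1 := by rw [← Nat.card_eq_fintype_card, h19]
  haveI : MulAction.IsPretransitive ρ.range (Sylow 19 K) := by
    constructor
    intro a b
    obtain ⟨g, hg⟩ := MulAction.exists_smul_eq K a b
    exact ⟨⟨ρ g, g, rfl⟩, hg⟩
  have hG : Nat.card ρ.range = (19 + 1) * 19 * r := by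
    rw [← hKcard]
    exact (Nat.card_congr (MonoidHom.ofInjective hinj).toEquiv).symm
  rcases Cfsg.Agent.S0732.result (by norm_num : Nat.Prime 19) hα ρ.range hG hr with
    ⟨h, -⟩ | ⟨h, -⟩ | ⟨q, hq, h20, -⟩
  · apply h9
    rw [hKcard, h]; norm_num
  · apply h9
    have : r = 9 := by omega
    rw [hKcard, this]; norm_num
  · have hq5 : q < 5 := by
      by_contra hcon
      push_neg at hcon
      have : 2 ^ 5 ≤ 2 ^ q := Nat.pow_le_pow_right (by norm_num) hcon
      omega
    interval_cases q <;> omega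

/-- In a simple group with `19 ‖ |K|`, `|K| ≠ 19`, `|N(P₁₉)| = 19 k` forces `gcd(18, k) ≠ 1`. -/
theorem not_simple_of_coprime {K : Type*} [Group K] [Finite K] [IsSimpleGroup K]
    [Fact (Nat.Prime 19)] (P : Sylow 19 K) (hP : Nat.card (P : Subgroup K) = 19)
    (hK : Nat.card K ≠ 19) (k : ℕ)
    (hN : Nat.card (normalizer ((P : Subgroup K) : Set K)) = 19 * k) (hk : Nat.Coprime 18 k) :
    False := by
  obtain ⟨d, hd1, hd2, hd3⟩ := exists_dvd_of_simple_sylow_prime P hP hK
  rw [hN] at hd3
  have hdk : d ∣ k := Nat.dvd_of_mul_dvd_mul_left (by norm_num) hd3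
  have : d ∣ Nat.gcd 18 k := Nat.dvd_gcd (by simpa using hd2) hdk
  rw [hk] at this
  have := Nat.le_of_dvd (by norm_num) this
  omega

/-- A non-abelian simple group of even order has order divisible by `4`. -/
theorem four_dvd_of_simple {K : Type*} [Group K] [Finite K] [IsSimpleGroup K]
    (hK : ¬ IsMulCommutative K) (h2 : Even (Nat.card K)) : 4 ∣ Nat.card K := by
  by_contra h4
  haveI : Fact (Nat.Prime 2) := ⟨Nat.prime_two⟩
  obtain ⟨T⟩ : Nonempty (Sylow 2 K) := inferInstance
  have h8 : ¬ 8 ∣ Nat.card K := fun h => h4 (Dvd.dvd.trans (by norm_num) h)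
  obtain ⟨hkl, -⟩ := Cfsg.Agent.S0992.result hK h2 h8 T
  have : Nat.card (T : Subgroup K) = 4 := hkl.card_four
  apply h4
  rw [← this]
  exact Subgroup.card_subgroup_dvd_card _

/-- A non-abelian simple group of even order not divisible by `8` has order divisible by `3`. -/
theorem three_dvd_of_simple {K : Type*} [Group K] [Finite K] [IsSimpleGroup K]
    (hK : ¬ IsMulCommutative K) (h2 : Even (Nat.card K)) (h8 : ¬ 8 ∣ Nat.card K) :
    3 ∣ Nat.card K := by
  haveI : Fact (Nat.Prime 2) := ⟨Nat.prime_two⟩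
  obtain ⟨T⟩ : Nonempty (Sylow 2 K) := inferInstance
  obtain ⟨-, h3⟩ := Cfsg.Agent.S0992.result hK h2 h8 T
  have h := card_centralizer_mul_relIndex (T : Subgroup K)
  rw [h3] at h
  exact (Dvd.intro_left _ h).trans (Subgroup.card_subgroup_dvd_card _)

/-- A simple group of order `3 m`, `3 ∤ m`, `m ≠ 1`, has even order. -/
theorem even_of_simple_three {K : Type*} [Group K] [Finite K] [IsSimpleGroup K] (m : ℕ)
    (hK : Nat.card K = 3 * m) (hm : ¬ 3 ∣ m) (hm1 : m ≠ 1) : 2 ∣ Nat.card K := by
  haveI : Fact (Nat.Prime 3) := ⟨Nat.prime_three⟩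
  obtain ⟨P⟩ : Nonempty (Sylow 3 K) := inferInstance
  have hP : Nat.card (P : Subgroup K) = 3 := by
    have := card_sylow_subgroup_of_card_eq (p := 3) (k := 1) (m := m) (by rw [hK]; ring) hm P
    simpa using this
  have hK3 : Nat.card K ≠ 3 := by
    rw [hK]; intro h; apply hm1; omega
  obtain ⟨d, hd1, hd2, hd3⟩ := exists_dvd_of_simple_sylow_prime P hP hK3
  have hd : d = 2 := by
    have : d ≤ 2 := Nat.le_of_dvd (by norm_num) (by simpa using hd2)
    omega
  subst hd
  exact (Dvd.dvd.trans (by norm_num) hd3).trans (Subgroup.card_subgroup_dvd_card _)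

end Cfsg.Agent.Helper61.J1Kills
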