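import Mathlib
import Cfsg.Agent.Helper17.SylowKit

/-!
# Reduction for `|G| = 175560`: simple or normal Sylow 19-subgroup

Generic induction: given that no simple group of order `19 e`, `e ∣ 9240`, `19 < 19 e < 175560`
exists (`hS`) and the index-19 lemma (`hX`), every group of order dividing `175560` either is
simple of order `175560` or has a normal Sylow 19-subgroup.
-/

set_option autoImplicit false

namespace Cfsg.Agent.Helper61.J1Red

open Subgroup

/-- Sylow 19-subgroups have order 19 when `19 ∣ |H| ∣ 175560`. -/
theorem card_sylow19 {H : Type*} [Group H] [Finite H] [Fact (Nat.Prime 19)]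
    (hdvd : Nat.card H ∣ 175560) (h19 : 19 ∣ Nat.card H) (P : Sylow 19 H) :
    Nat.card (P : Subgroup H) = 19 := by
  obtain ⟨m, hm⟩ := h19
  have hm19 : ¬ 19 ∣ m := by
    rintro ⟨m', rfl⟩
    have h : 19 * 19 ∣ 175560 := by
      refine Dvd.dvd.trans ?_ hdvd
      rw [hm]; exact ⟨m', by ring⟩
    omega
  have := Helper17.card_sylow_subgroup_of_card_eq (p := 19) (k := 1) (m := m)
    (by rw [hm]; ring) hm19 P
  simpa using this

/-- Sylow 19-subgroups are trivial when `19 ∤ |H|`. -/
theorem sylow19_eq_bot {H : Type*} [Group H] [Finite H] [Fact (Nat.Prime 19)]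
    (h19 : ¬ 19 ∣ Nat.card H) (P : Sylow 19 H) : (P : Subgroup H) = ⊥ := by
  have := Helper17.card_sylow_subgroup_of_card_eq (p := 19) (k := 0) (m := Nat.card H)
    (by simp) h19 P
  rw [pow_zero] at this
  exact (Subgroup.card_eq_one).mp this

/-- The generic reduction. -/
theorem reduction.{u}
    (hS : ∀ (K : Type u) [Group K] [Finite K] [IsSimpleGroup K], Nat.card K ∣ 175560 →
      19 ∣ Nat.card K → Nat.card K ≠ 19 → Nat.card K ≠ 175560 → False)
    (hX : ∀ (H : Type u) [Group H] [Finite H] (N : Subgroup H) [N.Normal],
      Nat.card N ∣ 9240 → N.index = 19 → ∀ P : Sylow 19 H, (P : Subgroup H).Normal) :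
    ∀ n : ℕ, ∀ (H : Type u) [Group H] [Finite H], Nat.card H = n → n ∣ 175560 →
      (IsSimpleGroup H ∧ n = 175560) ∨ ∀ P : Sylow 19 H, (P : Subgroup H).Normal := by
  intro n
  induction n using Nat.strong_induction_on with
  | _ n ih =>
  intro H _ _ hcard hdvd
  haveI : Fact (Nat.Prime 19) := ⟨by norm_num⟩
  have hnle : n ≤ 175560 := Nat.le_of_dvd (by norm_num) hdvd
  by_cases h19 : 19 ∣ n
  swap
  · right
    intro P
    rw [sylow19_eq_bot (hcard ▸ h19) P]
    infer_instance
  have hP19 : ∀ P : Sylow 19 H, Nat.card (P : Subgroup H) = 19 :=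
    fun P => card_sylow19 (hcard ▸ hdvd) (hcard ▸ h19) P
  by_cases hsimple : IsSimpleGroup H
  · by_cases h1 : n = 175560
    · left; exact ⟨hsimple, h1⟩
    · right
      by_cases h2 : n = 19
      · intro P
        have : (P : Subgroup H) = ⊤ := by
          apply Subgroup.eq_top_of_card_eq
          rw [hP19 P, hcard, h2]
        rw [this]; infer_instance
      · exact (hS H (hcard ▸ hdvd) (hcard ▸ h19) (hcard ▸ h2) (hcard ▸ h1)).elim
  · right
    have hn19 : 19 ≤ n := Nat.le_of_dvd (by
      rcases Nat.eq_zero_or_pos n with h | h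
      · subst h; simp at hdvd
      · exact h) h19
    have hnt : Nontrivial H := by
      rw [← Finite.one_lt_card_iff_nontrivial, hcard]; omega
    obtain ⟨N, hNn, hNbot, hNtop⟩ : ∃ N : Subgroup H, N.Normal ∧ N ≠ ⊥ ∧ N ≠ ⊤ := by
      by_contra hcon
      push_neg at hcon
      apply hsimple
      exact { exists_pair_ne := hnt.exists_pair_ne
              eq_bot_or_eq_top_of_normal := fun N hN => by
                by_contra h; push_neg at h; exact h.2 (hcon N hN h.1) }
    intro P
    have hNcard_dvd : Nat.card N ∣ n := hcard ▸ Subgroup.card_subgroup_dvd_card N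
    have hNlt : Nat.card N < n := by
      rw [← hcard]
      exact lt_of_le_of_ne (Subgroup.card_le_card_group N)
        (fun h => hNtop (Subgroup.eq_top_of_card_eq N h))
    by_cases hN19 : 19 ∣ Nat.card N
    · -- the Sylow 19-subgroup lies in `N`
      rcases ih (Nat.card N) hNlt N rfl (hNcard_dvd.trans hdvd) with ⟨-, h⟩ | h
      · omega
      · obtain ⟨Q⟩ : Nonempty (Sylow 19 N) := inferInstance
        have hQn : (Q : Subgroup N).Normal := h Q
        haveI hQc : (Q : Subgroup N).Characteristic := Sylow.characteristic_of_normal Q hQn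
        haveI hRn : ((Q : Subgroup N).map N.subtype).Normal :=
          ConjAct.normal_of_characteristic_of_normal
        have hRp : IsPGroup 19 ((Q : Subgroup N).map N.subtype) := Q.isPGroup'.map _
        have hle := hRp.le_sylow_of_normal P
        have hQcard : Nat.card (Q : Subgroup N) = 19 :=
          card_sylow19 (hNcard_dvd.trans hdvd) hN19 Q
        have hRcard : Nat.card ((Q : Subgroup N).map N.subtype) = 19 := by
          rw [Subgroup.card_map_of_injective N.subtype_injective]; exact hQcard
        have : (Q : Subgroup N).map N.subtype = P :=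
          Subgroup.eq_of_le_of_card_ge hle (by rw [hRcard, hP19 P])
        rw [← this]; exact hRn
    · -- `19 ∤ |N|`
      have hq_card : Nat.card (H ⧸ N) * Nat.card N = n := by
        rw [← hcard, ← Subgroup.index_eq_card, mul_comm, Subgroup.card_mul_index]
      have hNcard_gt : 1 < Nat.card N := (Subgroup.one_lt_card_iff_ne_bot N).mpr hNbot
      have hq_pos : 0 < Nat.card (H ⧸ N) := Nat.card_pos
      have hq_lt : Nat.card (H ⧸ N) < n := by nlinarith
      have hq_dvd : Nat.card (H ⧸ N) ∣ n := Dvd.intro _ hq_card
      rcases ih _ hq_lt (H ⧸ N) rfl (hq_dvd.trans hdvd) with ⟨-, h⟩ | h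
      · omega
      · have hPbar : ((P.mapSurjective (QuotientGroup.mk'_surjective N) : Sylow 19 (H ⧸ N)) :
            Subgroup (H ⧸ N)).Normal := h _
        rw [Sylow.coe_mapSurjective] at hPbar
        have hMeq : (P : Subgroup H) ⊔ N =
            ((P : Subgroup H).map (QuotientGroup.mk' N)).comap (QuotientGroup.mk' N) := by
          rw [Subgroup.comap_map_eq, QuotientGroup.ker_mk']
        haveI hM : ((P : Subgroup H) ⊔ N).Normal := by
          rw [hMeq]; exact Subgroup.Normal.comap hPbar _
        have hPM : (P : Subgroup H) ≤ (P : Subgroup H) ⊔ N := le_sup_left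
        by_cases hMtop : (P : Subgroup H) ⊔ N = ⊤
        · -- `N` has index 19
          have hinf : (P : Subgroup H) ⊓ N = ⊥ := by
            rw [← Subgroup.card_eq_one]
            have h1 : Nat.card ((P : Subgroup H) ⊓ N : Subgroup H) ∣ 19 := by
              have := Subgroup.card_dvd_of_le (inf_le_left : (P : Subgroup H) ⊓ N ≤ P)
              rwa [hP19 P] at this
            have h2 : Nat.card ((P : Subgroup H) ⊓ N : Subgroup H) ∣ Nat.card N :=
              Subgroup.card_dvd_of_le inf_le_right
            rcases (Nat.dvd_prime (by norm_num : Nat.Prime 19)).mp h1 with h | h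
            · exact h
            · rw [h] at h2; exact (hN19 h2).elim
          have hidx : N.index = 19 := by
            rw [← Subgroup.relIndex_top_right, ← hMtop, Subgroup.relIndex_sup_right,
              ← Subgroup.inf_relIndex_right, inf_comm, hinf, Subgroup.relIndex_bot_left, hP19 P]
          have hNc : Nat.card N ∣ 9240 := by
            have h1 : Nat.card N * 19 = n := by
              rw [← hidx, Subgroup.card_mul_index, hcard]
            have h2 : Nat.card N * 19 ∣ 9240 * 19 := by rw [h1]; exact hdvd
            exact Nat.dvd_of_mul_dvd_mul_right (by norm_num) h2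
          exact hX H N hNc hidx P
        · -- `P ⊔ N` is a proper normal subgroup containing `P`
          have hMdvd : Nat.card ((P : Subgroup H) ⊔ N : Subgroup H) ∣ n :=
            hcard ▸ Subgroup.card_subgroup_dvd_card _
          have hMlt : Nat.card ((P : Subgroup H) ⊔ N : Subgroup H) < n := by
            rw [← hcard]
            exact lt_of_le_of_ne (Subgroup.card_le_card_group _)
              (fun h => hMtop (Subgroup.eq_top_of_card_eq _ h))
          rcases ih _ hMlt ((P : Subgroup H) ⊔ N : Subgroup H) rfl (hMdvd.trans hdvd) with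
            ⟨-, h⟩ | h
          · omega
          · have hQn : ((P.subtype hPM : Sylow 19 ((P : Subgroup H) ⊔ N : Subgroup H)) :
                Subgroup ((P : Subgroup H) ⊔ N : Subgroup H)).Normal := h _
            haveI hQc := Sylow.characteristic_of_normal _ hQn
            have hRn : (((P.subtype hPM : Sylow 19 ((P : Subgroup H) ⊔ N : Subgroup H)) :
                Subgroup ((P : Subgroup H) ⊔ N : Subgroup H)).map
                ((P : Subgroup H) ⊔ N).subtype).Normal :=
              ConjAct.normal_of_characteristic_of_normal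
            rwa [Sylow.coe_subtype, Subgroup.map_subgroupOf_eq_of_le hPM] at hRn

end Cfsg.Agent.Helper61.J1Red
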