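import Mathlib
import Cfsg.Agent.Helper61.J1Red
import Cfsg.Agent.Helper61.J1Kills
import Cfsg.Agent.Helper76.J1L12
import Cfsg.Agent.Helper9.J1L34
import Cfsg.Agent.Helper80.J1L56
import Cfsg.Agent.Helper60.J1L78
import Cfsg.Agent.Helper68.J1L9
import Cfsg.Agent.Helper68.J1L10
import Cfsg.Agent.Helper38.J1LX

/-!
# `|G| = 175560`: simple or normal Sylow 19-subgroup

Assembly: no simple group of order `19 e` with `e ∣ 9240`, `1 < e < 9240`.
-/

set_option autoImplicit false

namespace Cfsg.Agent.Helper61.J1Main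

open Subgroup Cfsg.Agent.Helper17

theorem arith_n (n : ℕ) (hn : n ∣ 9240) (hmod : n % 19 = 1) :
    n = 1 ∨ n = 20 ∨ n = 77 ∨ n = 210 ∨ n = 1540 := by
  have h : n ∈ Nat.divisors 9240 := Nat.mem_divisors.mpr ⟨hn, by norm_num⟩
  simp only [Nat.divisors_ofNat, Finset.mem_insert, Finset.mem_singleton] at h
  omega

theorem arith_120 (k : ℕ) (hk : k ∣ 120) :
    k = 1 ∨ k = 2 ∨ k = 3 ∨ k = 4 ∨ k = 5 ∨ k = 6 ∨ k = 8 ∨ k = 10 ∨ k = 12 ∨ k = 15 ∨ k = 20 ∨
      k = 24 ∨ k = 30 ∨ k = 40 ∨ k = 60 ∨ k = 120 := by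
  have h : k ∈ Nat.divisors 120 := Nat.mem_divisors.mpr ⟨hk, by norm_num⟩
  simp only [Nat.divisors_ofNat, Finset.mem_insert, Finset.mem_singleton] at h
  omega

theorem arith_44 (k : ℕ) (hk : k ∣ 44) :
    k = 1 ∨ k = 2 ∨ k = 4 ∨ k = 11 ∨ k = 22 ∨ k = 44 := by
  have h : k ∈ Nat.divisors 44 := Nat.mem_divisors.mpr ⟨hk, by norm_num⟩
  simp only [Nat.divisors_ofNat, Finset.mem_insert, Finset.mem_singleton] at h
  omega

theorem arith_6 (k : ℕ) (hk : k ∣ 6) : k = 1 ∨ k = 2 ∨ k = 3 ∨ k = 6 := by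
  have h : k ∈ Nat.divisors 6 := Nat.mem_divisors.mpr ⟨hk, by norm_num⟩
  simp only [Nat.divisors_ofNat, Finset.mem_insert, Finset.mem_singleton] at h
  omega

/-- **Lemma S.** No simple group of order `19 e`, `e ∣ 9240`, `e ≠ 1`, `e ≠ 9240`. -/
theorem no_simple {K : Type*} [Group K] [Finite K] [IsSimpleGroup K]
    (hdvd : Nat.card K ∣ 175560) (h19 : 19 ∣ Nat.card K) (hne19 : Nat.card K ≠ 19)
    (hne : Nat.card K ≠ 175560) : False := by
  haveI : Fact (Nat.Prime 19) := ⟨by norm_num⟩
  obtain ⟨P⟩ : Nonempty (Sylow 19 K) := inferInstance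
  have hP19 : ∀ Q : Sylow 19 K, Nat.card (Q : Subgroup K) = 19 :=
    fun Q => J1Red.card_sylow19 hdvd h19 Q
  have hG : ¬ IsMulCommutative K := by
    apply not_comm_of_simple_of_not_prime
    intro hp
    exact hne19 ((Nat.prime_dvd_prime_iff_eq (by norm_num) hp).mp h19).symm
  have h9 : ¬ 9 ∣ Nat.card K := fun h => by
    have := h.trans hdvd
    omega
  obtain ⟨m, hm⟩ := h19
  have hm9240 : m ∣ 9240 := by
    have : 19 * m ∣ 19 * 9240 := by rw [← hm]; exact hdvd
    exact Nat.dvd_of_mul_dvd_mul_left (by norm_num) this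
  have hm19 : ¬ 19 ∣ m := fun h => by
    have := h.trans hm9240
    omega
  have hm1 : m ≠ 1 := by
    rintro rfl
    exact hne19 (by rw [hm])
  have hKpow : Nat.card K = 19 ^ 1 * m := by rw [hm]; ring
  have hn_dvd : Nat.card (Sylow 19 K) ∣ m := card_sylow_dvd_of_card_eq hKpow hm19
  have hn_ne : Nat.card (Sylow 19 K) ≠ 1 :=
    card_sylow_ne_one_of_simple hKpow hm19 (by norm_num) hm1
  have hmod : Nat.card (Sylow 19 K) % 19 = 1 := by
    have := card_sylow_modEq_one 19 K
    exact this
  have hN := card_normalizer_mul_card_sylow P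
  have h19N : 19 ∣ Nat.card (normalizer ((P : Subgroup K) : Set K)) := by
    have := Subgroup.card_dvd_of_le (le_normalizer : (P : Subgroup K) ≤ normalizer (P : Set K))
    rwa [hP19 P] at this
  obtain ⟨k, hk⟩ := h19N
  have hmk : m = k * Nat.card (Sylow 19 K) := by
    have : 19 * m = 19 * (k * Nat.card (Sylow 19 K)) := by
      rw [← hm, ← hN, hk]; ring
    exact Nat.eq_of_mul_eq_mul_left (by norm_num) this
  rcases arith_n _ (hn_dvd.trans hm9240) hmod with hn | hn | hn | hn | hn
  · exact hn_ne hn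
  · exact J1Kills.not_simple_n19_eq_20 h9 hP19 hn
  · -- n = 77, k ∣ 120
    rw [hn] at hmk
    have hk120 : k ∣ 120 := by
      have : k * 77 ∣ 120 * 77 := by rw [← hmk]; exact hm9240
      exact Nat.dvd_of_mul_dvd_mul_right (by norm_num) this
    have hcard : Nat.card K = 1463 * k := by rw [hm, hmk]; ring
    rcases arith_120 k hk120 with rfl | rfl | rfl | rfl | rfl | rfl | rfl | rfl | rfl | rfl |
      rfl | rfl | rfl | rfl | rfl | rfl
    · exact J1Kills.not_simple_of_coprime P (hP19 P) hne19 1 hk (by norm_num)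
    · have := J1Kills.four_dvd_of_simple hG (by rw [hcard]; decide)
      omega
    · have := J1Kills.even_of_simple_three 1463 (by rw [hcard]) (by norm_num) (by norm_num)
      omega
    · have := J1Kills.three_dvd_of_simple hG (by rw [hcard]; decide) (by rw [hcard]; norm_num)
      omega
    · exact J1Kills.not_simple_of_coprime P (hP19 P) hne19 5 hk (by norm_num)
    · have := J1Kills.four_dvd_of_simple hG (by rw [hcard]; decide)
      omega
    · exact Cfsg.Agent.Helper76.J1L12.not_simple_11704 (by rw [hcard])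
    · have := J1Kills.four_dvd_of_simple hG (by rw [hcard]; decide)
      omega
    · exact Cfsg.Agent.Helper9.J1L34.not_simple_17556 (by rw [hcard])
    · have := J1Kills.even_of_simple_three 7315 (by rw [hcard]) (by norm_num) (by norm_num)
      omega
    · have := J1Kills.three_dvd_of_simple hG (by rw [hcard]; decide) (by rw [hcard]; norm_num)
      omega
    · exact Cfsg.Agent.Helper80.J1L56.not_simple_35112 (by rw [hcard])
    · have := J1Kills.four_dvd_of_simple hG (by rw [hcard]; decide)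
      omega
    · exact Cfsg.Agent.Helper76.J1L12.not_simple_58520_77 (by rw [hcard]) hn
    · exact Cfsg.Agent.Helper68.J1L10.not_simple_87780_77 (by rw [hcard]) hn
    · exact hne (by rw [hcard])
  · -- n = 210, k ∣ 44
    rw [hn] at hmk
    have hk44 : k ∣ 44 := by
      have : k * 210 ∣ 44 * 210 := by rw [← hmk]; exact hm9240
      exact Nat.dvd_of_mul_dvd_mul_right (by norm_num) this
    have hcard : Nat.card K = 3990 * k := by rw [hm, hmk]; ring
    rcases arith_44 k hk44 with rfl | rfl | rfl | rfl | rfl | rfl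
    · exact J1Kills.not_simple_of_coprime P (hP19 P) hne19 1 hk (by norm_num)
    · exact Cfsg.Agent.Helper80.J1L56.not_simple_7980_210 (by rw [hcard]) hn
    · exact Cfsg.Agent.Helper68.J1L9.not_simple_15960_210 (by rw [hcard]) hn
    · exact J1Kills.not_simple_of_coprime P (hP19 P) hne19 11 hk (by norm_num)
    · exact Cfsg.Agent.Helper60.J1.not_simple_87780_210 (by rw [hcard]) hn
    · exact hne (by rw [hcard])
  · -- n = 1540, k ∣ 6
    rw [hn] at hmk
    have hk6 : k ∣ 6 := by
      have : k * 1540 ∣ 6 * 1540 := by rw [← hmk]; exact hm9240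
      exact Nat.dvd_of_mul_dvd_mul_right (by norm_num) this
    have hcard : Nat.card K = 29260 * k := by rw [hm, hmk]; ring
    rcases arith_6 k hk6 with rfl | rfl | rfl | rfl
    · exact J1Kills.not_simple_of_coprime P (hP19 P) hne19 1 hk (by norm_num)
    · exact Cfsg.Agent.Helper9.J1L34.not_simple_58520_1540 (by rw [hcard]) hn
    · exact Cfsg.Agent.Helper60.J1.not_simple_87780_1540 (by rw [hcard]) hn
    · exact hne (by rw [hcard])

/-- The main statement, for groups of order dividing `175560`. -/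
theorem main.{u} (H : Type u) [Group H] [Finite H] (hcard : Nat.card H = 175560) :
    IsSimpleGroup H ∨ ∀ P : Sylow 19 H, (P : Subgroup H).Normal := by
  rcases J1Red.reduction.{u}
    (fun K _ _ _ h1 h2 h3 h4 => no_simple h1 h2 h3 h4)
    (fun H _ _ N _ h1 h2 P => Cfsg.Agent.Helper38.J1LX.sylow19_normal_of_index N h1 h2 P)
    175560 H hcard dvd_rfl with ⟨h, -⟩ | h
  · exact Or.inl h
  · exact Or.inr h

end Cfsg.Agent.Helper61.J1Main
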