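import Mathlib
import Cfsg.Agent.Helper61.N2Defs
import Cfsg.Agent.Helper24.N2STSINV
import Cfsg.Agent.Helper31.N2STABEQ
import Cfsg.Agent.Helper31.N2FIXDVD

set_option autoImplicit false

/-! S3612, glue: the anti-Pasch case. -/

namespace Cfsg.Agent.Helper61.N2

open MulAction

/-- a finite set closed under a fixed-point-free involution has even cardinality -/
theorem even_card_of_invol {Ω : Type*} [DecidableEq Ω] (s : Finset Ω) (f : Ω → Ω)
    (hmem : ∀ x ∈ s, f x ∈ s) (hne : ∀ x ∈ s, f x ≠ x) (hinv : ∀ x ∈ s, f (f x) = x) :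
    Even s.card := by
  have h := Finset.sum_involution (s := s) (f := fun _ => (1 : ZMod 2)) (fun x _ => f x)
    (fun x hx => by decide) (fun x hx _ => hne x hx) (fun x hx => hmem x hx)
    (fun x hx => hinv x hx)
  rw [Finset.sum_const, nsmul_eq_mul, mul_one] at h
  exact (ZMod.natCast_eq_zero_iff_even).mp h

/-- no `G`-invariant Steiner triple system of prime order `p > 3` on which `G` is transitive on
ordered triangles is anti-Pasch -/
theorem antipasch_false {G : Type*} [Group G] [Finite G] {Ω : Type*} [Fintype Ω] [DecidableEq Ω]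
    [MulAction G Ω] (S : STS G Ω) (hp : (Fintype.card Ω).Prime) (h3 : 3 < Fintype.card Ω)
    (hAP : ∀ x y z, x ≠ y → z ≠ x → z ≠ y → z ≠ S.T x y →
      S.T (S.T x y) (S.T x z) ≠ S.T y z) : False := by
  classical
  -- a triangle
  obtain ⟨a, b, hab⟩ := Fintype.exists_pair_of_one_lt_card (α := Ω) (by omega)
  set c := S.T a b with hc
  have hca : c ≠ a := S.ne_left a b hab
  have hcb : c ≠ b := S.ne_right a b hab
  have hL : ({a, b, c} : Finset Ω).card = 3 := by
    rw [Finset.card_insert_of_notMem, Finset.card_pair hcb.symm]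
    simp only [Finset.mem_insert, Finset.mem_singleton, not_or]
    exact ⟨hab, hca.symm⟩
  obtain ⟨d, -, hd⟩ := Finset.exists_mem_notMem_of_card_lt_card
    (s := ({a, b, c} : Finset Ω)) (t := Finset.univ) (by rw [hL, Finset.card_univ]; exact h3)
  simp only [Finset.mem_insert, Finset.mem_singleton, not_or] at hd
  obtain ⟨hda, hdb, hdc⟩ := hd
  -- the group `K` and its action off the line
  set K : Subgroup G := stabilizer G a ⊓ stabilizer G b with hK
  have hKa : ∀ k : ↥K, k.1 • a = a := fun k => (Subgroup.mem_inf.mp k.2).1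
  have hKb : ∀ k : ↥K, k.1 • b = b := fun k => (Subgroup.mem_inf.mp k.2).2
  have hfixc : ∀ g : G, g • a = a → g • b = b → g • c = c := by
    intro g hga hgb
    rw [hc, S.equiv g a b hab, hga, hgb]
  have hKc : ∀ k : ↥K, k.1 • c = c := fun k => hfixc k.1 (hKa k) (hKb k)
  let R : SubMulAction ↥K Ω :=
    { carrier := {x | x ≠ a ∧ x ≠ b ∧ x ≠ c}
      smul_mem' := by
        intro k x hx
        have hne : ∀ {y : Ω}, x ≠ y → k.1 • x ≠ k.1 • y := fun h h' => h (smul_left_cancel k.1 h')
        refine ⟨?_, ?_, ?_⟩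
        · have := hne hx.1
          rwa [hKa k] at this
        · have := hne hx.2.1
          rwa [hKb k] at this
        · have := hne hx.2.2
          rwa [hKc k] at this }
  have hRmem : ∀ x : Ω, x ∈ R ↔ x ≠ a ∧ x ≠ b ∧ x ≠ c := fun x => Iff.rfl
  have hRsmul : ∀ (k : ↥K) (x : ↥R), ((k • x : ↥R) : Ω) = k.1 • x.1 := fun k x => rfl
  haveI : IsPretransitive ↥K ↥R := by
    refine ⟨fun x y => ?_⟩
    obtain ⟨g, hga, hgb, hgx⟩ := S.tri a b x.1 a b y.1 hab x.2.1 x.2.2.1 x.2.2.2 hab y.2.1 y.2.2.1
      y.2.2.2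
    exact ⟨⟨g, Subgroup.mem_inf.mpr ⟨hga, hgb⟩⟩, Subtype.ext hgx⟩
  let d' : ↥R := ⟨d, hda, hdb, hdc⟩
  -- the fixed points of `H = G_{abd}`
  set F : Finset Ω := Finset.univ.filter
    (fun x => ∀ g : G, g • a = a → g • b = b → g • d = d → g • x = x) with hFdef
  have hFmem : ∀ x, x ∈ F ↔ ∀ g : G, g • a = a → g • b = b → g • d = d → g • x = x := by
    intro x
    rw [hFdef, Finset.mem_filter]
    simp
  have haF : a ∈ F := (hFmem a).mpr fun g h _ _ => h
  have hbF : b ∈ F := (hFmem b).mpr fun g _ h _ => h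
  have hcF : c ∈ F := (hFmem c).mpr fun g h1 h2 _ => hfixc g h1 h2
  have hdF : d ∈ F := (hFmem d).mpr fun g _ _ h => h
  have hFT : ∀ x ∈ F, ∀ y ∈ F, x ≠ y → S.T x y ∈ F := by
    intro x hx y hy hxy
    rw [hFmem] at hx hy ⊢
    intro g h1 h2 h3
    rw [S.equiv g x y hxy, hx g h1 h2 h3, hy g h1 h2 h3]
  -- `F` has odd cardinality
  have hFodd : Even (F.erase a).card := by
    apply even_card_of_invol (F.erase a) (fun y => S.T a y)
    · intro y hy
      rw [Finset.mem_erase] at hy ⊢
      exact ⟨S.ne_left a y hy.1.symm, hFT a haF y hy.2 hy.1.symm⟩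
    · intro y hy
      rw [Finset.mem_erase] at hy
      exact S.ne_right a y hy.1.symm
    · intro y hy
      rw [Finset.mem_erase] at hy
      exact S.invol a y hy.1.symm
  have hFerase : (F.erase a).card = F.card - 1 := Finset.card_erase_of_mem haF
  have hLF : ({a, b, c} : Finset Ω) ⊆ F := by
    intro x hx
    simp only [Finset.mem_insert, Finset.mem_singleton] at hx
    rcases hx with rfl | rfl | rfl
    · exact haF
    · exact hbF
    · exact hcF
  have hF4 : 4 ≤ F.card := by
    have h1 : (insert d ({a, b, c} : Finset Ω)) ⊆ F := by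
      intro x hx
      rw [Finset.mem_insert] at hx
      rcases hx with rfl | hx
      · exact hdF
      · exact hLF hx
    have h2 : (insert d ({a, b, c} : Finset Ω)).card = 4 := by
      rw [Finset.card_insert_of_notMem, hL]
      simp only [Finset.mem_insert, Finset.mem_singleton, not_or]
      exact ⟨hda, hdb, hdc⟩
    calc 4 = (insert d ({a, b, c} : Finset Ω)).card := h2.symm
      _ ≤ F.card := Finset.card_le_card h1
  -- the fixed points of the stabiliser of `d'` in `R`
  have hfixiff : ∀ x : ↥R, (∀ h : ↥K, h • d' = d' → h • x = x) ↔ x.1 ∈ F := by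
    intro x
    rw [hFmem]
    constructor
    · intro hx g hga hgb hgd
      have := hx ⟨g, Subgroup.mem_inf.mpr ⟨hga, hgb⟩⟩ (Subtype.ext hgd)
      exact congrArg Subtype.val this
    · intro hx h hh
      apply Subtype.ext
      exact hx h.1 (hKa h) (hKb h) (congrArg Subtype.val hh)
  have hcardfix : Nat.card {x : ↥R // ∀ h : ↥K, h • d' = d' → h • x = x} = F.card - 3 := by
    have e : {x : ↥R // ∀ h : ↥K, h • d' = d' → h • x = x} ≃ ↥(F \ {a, b, c}) :=
      { toFun := fun x => ⟨x.1.1, by
          rw [Finset.mem_sdiff]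
          refine ⟨(hfixiff x.1).mp x.2, ?_⟩
          simp only [Finset.mem_insert, Finset.mem_singleton, not_or]
          exact x.1.2⟩
        invFun := fun x => ⟨⟨x.1, by
          have := (Finset.mem_sdiff.mp x.2).2
          simp only [Finset.mem_insert, Finset.mem_singleton, not_or] at this
          exact this⟩, by
          rw [hfixiff]
          exact (Finset.mem_sdiff.mp x.2).1⟩
        left_inv := fun x => rfl
        right_inv := fun x => rfl }
    rw [Nat.card_congr e, Nat.card_eq_fintype_card, Fintype.card_coe, Finset.card_sdiff_of_subset hLF,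
      hL]
  have hcardR : Nat.card ↥R = Fintype.card Ω - 3 := by
    have e : ↥R ≃ ↥(Finset.univ \ ({a, b, c} : Finset Ω)) :=
      { toFun := fun x => ⟨x.1, by
          rw [Finset.mem_sdiff]
          refine ⟨Finset.mem_univ _, ?_⟩
          simp only [Finset.mem_insert, Finset.mem_singleton, not_or]
          exact x.2⟩
        invFun := fun x => ⟨x.1, by
          have := (Finset.mem_sdiff.mp x.2).2
          simp only [Finset.mem_insert, Finset.mem_singleton, not_or] at this
          exact this⟩
        left_inv := fun x => rfl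
        right_inv := fun x => rfl }
    rw [Nat.card_congr e, Nat.card_eq_fintype_card, Fintype.card_coe,
      Finset.card_sdiff_of_subset (Finset.subset_univ _), hL, Finset.card_univ]
  have heven : Even (Nat.card {x : ↥R // ∀ h : ↥K, h • d' = d' → h • x = x}) := by
    rw [hcardfix]
    rw [hFerase] at hFodd
    obtain ⟨m, hm⟩ := hFodd
    exact ⟨m - 1, by omega⟩
  -- the involution
  obtain ⟨u, hud, huud, hunorm⟩ := Cfsg.Agent.Helper31.N2.exists_invol_mod_stab (K := ↥K) d'
    heven
  have hdvd := Cfsg.Agent.Helper31.N2.card_fixed_dvd (K := ↥K) d'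
  rw [hcardfix, hcardR] at hdvd
  have h3dvd : 3 ∣ F.card := by
    apply Cfsg.Agent.Helper24.N2.sts_invol_three_dvd S.T F hFT S.ne_left S.ne_right S.symm
      S.invol (fun x => u.1 • x) ?_ ?_ ?_ a b haF hbF hab ?_ ?_
    · -- σ preserves F
      intro x hx
      rw [hFmem] at hx ⊢
      intro g hga hgb hgd
      have h1 := hunorm ⟨g, Subgroup.mem_inf.mpr ⟨hga, hgb⟩⟩ (Subtype.ext hgd)
      have h2 : (u.1⁻¹ * g * u.1) • d = d := congrArg Subtype.val h1
      have ha' : (u.1⁻¹ * g * u.1) • a = a := by
        rw [mul_smul, mul_smul, hKa u, hga, ← hKa u, inv_smul_smul, hKa u]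
      have hb' : (u.1⁻¹ * g * u.1) • b = b := by
        rw [mul_smul, mul_smul, hKb u, hgb, ← hKb u, inv_smul_smul, hKb u]
      have h4 := hx _ ha' hb' h2
      rw [mul_smul, mul_smul] at h4
      have := congrArg (fun z => u.1 • z) h4
      simpa using this
    · -- σ² = 1 on F
      intro x hx
      rw [hFmem] at hx
      have h1 : (u.1 * u.1) • d = d := congrArg Subtype.val huud
      have ha' : (u.1 * u.1) • a = a := by rw [mul_smul, hKa u, hKa u]
      have hb' : (u.1 * u.1) • b = b := by rw [mul_smul, hKb u, hKb u]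
      have := hx _ ha' hb' h1
      rwa [mul_smul] at this
    · intro x _ y _ hxy
      exact S.equiv u.1 x y hxy
    · -- the fixed points of σ
      intro x hx
      constructor
      · intro hux
        by_contra hnot
        push Not at hnot
        let x' : ↥R := ⟨x, hnot.1, hnot.2.1, hnot.2.2⟩
        have hx' : ∀ h : ↥K, h • d' = d' → h • x' = x' := (hfixiff x').mpr hx
        have := Cfsg.Agent.Helper31.N2.stab_eq_of_fixed (K := ↥K) d' x' hx' u (Subtype.ext hux)
        exact hud this
      · rintro (rfl | rfl | rfl)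
        · exact hKa u
        · exact hKb u
        · exact hKc u
    · intro x _ y _ z _ hxy hzx hzy hzT
      exact hAP x y z hxy hzx hzy hzT
  -- arithmetic
  have h3' : 3 ∣ F.card - 3 := Nat.dvd_sub h3dvd (dvd_refl 3)
  have h3p : 3 ∣ Fintype.card Ω - 3 := h3'.trans hdvd
  have h3p' : 3 ∣ Fintype.card Ω := by
    have : Fintype.card Ω = (Fintype.card Ω - 3) + 3 := by omega
    rw [this]
    exact (Nat.dvd_add_right h3p).mpr (dvd_refl 3)
  have := (Nat.prime_dvd_prime_iff_eq Nat.prime_three hp).mp h3p'
  omega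

end Cfsg.Agent.Helper61.N2
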