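import Mathlib
import Cfsg.Prelude.Def_Perm
import Cfsg.Agent.Helper61.NeuDefs
import Cfsg.Agent.Helper61.NeuMain
import Cfsg.Agent.Helper61.N2Lab
import Cfsg.Agent.Helper29.N2MOMB
import Cfsg.Agent.Helper29.N2ESTAB
import Cfsg.Agent.Helper12.N2ECARD
import Cfsg.Agent.Helper12.N2COUNT
import Cfsg.Agent.Helper12.N2ORB4

set_option autoImplicit false

/-! S3612, glue: a non-trivial block of a point stabiliser has two elements. -/

namespace Cfsg.Agent.Helper61.N2

open MulAction Cfsg.Agent.Helper61.Neu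

section ind

variable {G : Type*} [Group G] {Ω : Type*} [Fintype Ω] [DecidableEq Ω] [MulAction G Ω]
  {p : ℕ} [Fact p.Prime]

/-- indicator function of a finite set with values in `ZMod p` -/
def ind (p : ℕ) (S : Finset Ω) : Ω → ZMod p := fun ω => if ω ∈ S then 1 else 0

theorem moment_ind (e : ZMod p ≃ Ω) (S : Finset Ω) :
    moment e (ind p S) = ∑ x ∈ S, e.symm x := by
  rw [moment_apply]
  have h1 : ∑ j : ZMod p, j * ind p S (e j) = ∑ x : Ω, e.symm x * ind p S x := by
    rw [← Equiv.sum_comp e (fun x => e.symm x * ind p S x)]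
    simp only [Equiv.symm_apply_apply]
  rw [h1]
  simp only [ind, mul_ite, mul_one, mul_zero]
  rw [Finset.sum_ite_mem, Finset.univ_inter]

theorem permRep_ind (g : G) (S : Finset Ω) :
    Cfsg.permRep (ZMod p) G Ω g (ind p S) = ind p (S.image (fun x => g • x)) := by
  funext ω
  rw [permRep_apply]
  have : g⁻¹ • ω ∈ S ↔ ω ∈ S.image (fun x => g • x) := by
    rw [Finset.mem_image]
    constructor
    · intro h
      exact ⟨g⁻¹ • ω, h, smul_inv_smul g ω⟩
    · rintro ⟨y, hy, rfl⟩
      rwa [inv_smul_smul]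
  simp only [ind, this]

theorem sum_ind (S : Finset Ω) : ∑ x, ind p S x = (S.card : ZMod p) := by
  simp only [ind]
  rw [Finset.sum_ite_mem, Finset.univ_inter]
  simp

theorem card_image_smul (g : G) (S : Finset Ω) : (S.image (fun x => g • x)).card = S.card :=
  Finset.card_image_of_injective S (MulAction.injective g)

theorem image_smul_mul (g h : G) (S : Finset Ω) :
    S.image (fun x => (g * h) • x) = (S.image (fun x => h • x)).image (fun x => g • x) := by
  rw [Finset.image_image]
  apply Finset.image_congr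
  intro x _
  exact mul_smul g h x

theorem image_smul_one (S : Finset Ω) : S.image (fun x => (1 : G) • x) = S := by
  simp

end ind

section main

variable {G : Type*} [Group G] [Finite G] {Ω : Type*} [Fintype Ω] [DecidableEq Ω] [MulAction G Ω]
  [FaithfulSMul G Ω] [IsPretransitive G Ω] {p : ℕ} [Fact p.Prime]

/-- a non-trivial block of a point stabiliser has at most two elements -/
theorem block_card_le_two (hΩ : Fintype.card Ω = p) (hp2 : p ≠ 2) (hG : ¬ Group.IsSolvable G)
    (P : Sylow p G)
    (hN : 2 * Nat.card ↥(Subgroup.normalizer ((P : Subgroup G) : Set G)) = p * (p - 1))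
    (α : Ω) (B : Finset Ω) (hαB : α ∉ B) (hBne : B.Nonempty) (hBc : ∃ δ, δ ≠ α ∧ δ ∉ B)
    (hblock : ∀ g : G, g • α = α → B.image (fun x => g • x) = B ∨
      Disjoint (B.image (fun x => g • x)) B) :
    B.card ≤ 2 := by
  classical
  have hpp : p.Prime := Fact.out
  haveI hNe0 : NeZero p := ⟨hpp.ne_zero⟩
  obtain ⟨e, ⟨t, htP, ht⟩, he⟩ := exists_label_trans hΩ P
  set N := Subgroup.normalizer ((P : Subgroup G) : Set G) with hNdef
  set A := stabilizer G α with hAdef
  set j0 := e.symm α with hj0
  have hα : e j0 = α := by rw [hj0, Equiv.apply_symm_apply]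
  have htN : t ∈ N := Subgroup.le_normalizer htP
  have h01 : (0 : ZMod p) ≠ 1 := by
    have : Fact (1 < p) := ⟨hpp.one_lt⟩
    exact zero_ne_one
  -- G = N A
  have hcov : ∀ g : G, ∃ n ∈ N, ∃ x ∈ A, g = n * x := by
    intro g
    obtain ⟨i, hi⟩ := exists_pow_smul_label e t ht (e.symm (g • α) - j0)
    refine ⟨t ^ i, N.pow_mem htN i, (t ^ i)⁻¹ * g, ?_, by group⟩
    rw [hAdef, mem_stabilizer_iff, mul_smul]
    have h1 : t ^ i • α = g • α := by
      have h := hi j0
      rw [hα] at h
      rw [h, add_sub_cancel, Equiv.apply_symm_apply]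
    rw [← h1, inv_smul_smul]
  -- the functional
  have hL1 : moment e (fun _ => 1) = 0 := moment_one hp2 e
  have hL0 : ∃ f ∈ (Cfsg.permSumZero (ZMod p) G Ω).toSubmodule, moment e f ≠ 0 := by
    refine ⟨ind p {e 1} - ind p {e 0}, ?_, ?_⟩
    · show ∑ x, (ind p {e 1} - ind p {e 0}) x = 0
      simp only [Pi.sub_apply, Finset.sum_sub_distrib, sum_ind, Finset.card_singleton, sub_self]
    · rw [map_sub, moment_ind, moment_ind]
      simp only [Finset.sum_singleton, Equiv.symm_apply_apply, sub_zero]
      exact h01.symm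
  have hLN : ∀ n ∈ N, ∀ f ∈ (Cfsg.permSumZero (ZMod p) G Ω).toSubmodule, moment e f = 0 →
      moment e (Cfsg.permRep (ZMod p) G Ω n f) = 0 := by
    intro n hn f hf hLf
    obtain ⟨k, c, hk, hnk⟩ := he n hn
    have := Cfsg.Agent.Helper97.Neu.moment_smul e n k c hk hnk f hf
    rw [moment_apply, this, ← moment_apply, hLf, mul_zero]
  have hconst : (Cfsg.permConstants (ZMod p) G Ω).toSubmodule ≤
      (Cfsg.permSumZero (ZMod p) G Ω).toSubmodule := by
    intro f hf
    have hf' : f ∈ Submodule.span (ZMod p) {(fun _ => 1 : Ω → ZMod p)} := hf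
    rw [Submodule.mem_span_singleton] at hf'
    obtain ⟨c, rfl⟩ := hf'
    show ∑ x, (c • (fun _ => 1 : Ω → ZMod p)) x = 0
    simp only [Pi.smul_apply, smul_eq_mul, mul_one, Finset.sum_const, Finset.card_univ, hΩ]
    rw [nsmul_eq_mul, ZMod.natCast_self, zero_mul]
  -- a second block
  obtain ⟨β, hβ⟩ := hBne
  obtain ⟨δ, hδα, hδB⟩ := hBc
  have hαβ : α ≠ β := fun h => hαB (h ▸ hβ)
  obtain ⟨g0, hg0α, hg0β⟩ := exists_smul_pair' (G := G) (hΩ ▸ hpp) hG hαβ hδα.symm
  set C := B.image (fun x => g0 • x) with hCdef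
  have hCB : Disjoint C B := by
    rcases hblock g0 hg0α with h | h
    · exfalso
      apply hδB
      rw [← h, ← hg0β]
      exact Finset.mem_image_of_mem _ hβ
    · exact h
  have hαC : α ∉ C := by
    intro h
    rw [hCdef, Finset.mem_image] at h
    obtain ⟨y, hy, hyα⟩ := h
    have : y = α := by
      have := congrArg (fun x => g0⁻¹ • x) hyα
      simp only [inv_smul_smul] at this
      rw [this, ← hg0α, inv_smul_smul, hg0α]
    exact hαB (this ▸ hy)
  have hβC : β ∉ C := fun h => (Finset.disjoint_left.mp hCB h) hβ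
  -- the test function
  set u : Ω → ZMod p := ind p B - ind p C with hu
  have huZ : u ∈ (Cfsg.permSumZero (ZMod p) G Ω).toSubmodule := by
    show ∑ x, (ind p B - ind p C) x = 0
    simp only [Pi.sub_apply, Finset.sum_sub_distrib, sum_ind]
    rw [hCdef, card_image_smul, sub_self]
  have huC : u ∉ (Cfsg.permConstants (ZMod p) G Ω).toSubmodule := by
    intro hf
    have hf' : u ∈ Submodule.span (ZMod p) {(fun _ => 1 : Ω → ZMod p)} := hf
    rw [Submodule.mem_span_singleton] at hf'
    obtain ⟨c, hc⟩ := hf'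
    have h1 := congrFun hc α
    have h2 := congrFun hc β
    simp only [hu, Pi.smul_apply, smul_eq_mul, mul_one, Pi.sub_apply, ind, hαB, hαC, hβ, hβC,
      if_true, if_false, sub_zero] at h1 h2
    rw [h1] at h2
    exact h01 h2
  obtain ⟨x, hxA, hx⟩ := Cfsg.Agent.Helper29.N2.exists_moment_ne (K := ZMod p)
    (fun W hW h1 h2 => Cfsg.Agent.Helper75.Neu.heart_irred hΩ hG W hW h1 h2) hconst (moment e)
    hL1 hL0 N A hLN hcov u huZ huC
  -- centred moments
  set mc : Finset Ω → ZMod p := fun S => ∑ y ∈ S, (e.symm y - j0) with hmc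
  have hmcS : ∀ S : Finset Ω, mc S = (∑ y ∈ S, e.symm y) - (S.card : ZMod p) * j0 := by
    intro S
    simp only [hmc, Finset.sum_sub_distrib, Finset.sum_const, nsmul_eq_mul]
  have hx' : mc (B.image (fun y => x • y)) - mc (C.image (fun y => x • y)) ≠ 0 := by
    rw [hmcS, hmcS, card_image_smul, card_image_smul, hCdef, card_image_smul]
    rw [hu, map_sub, map_sub, permRep_ind, permRep_ind, moment_ind, moment_ind] at hx
    intro h
    apply hx
    rw [← h]
    ring
  -- a translate with non-zero centred moment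
  obtain ⟨y, hyA, hy⟩ : ∃ y ∈ A, mc (B.image (fun z => y • z)) ≠ 0 := by
    by_cases h : mc (B.image (fun z => x • z)) = 0
    · refine ⟨x * g0, A.mul_mem hxA hg0α, ?_⟩
      rw [image_smul_mul]
      intro h'
      apply hx'
      rw [h, h', sub_zero]
    · exact ⟨x, hxA, h⟩
  set S := B.image (fun z => y • z) with hSdef
  have hyα : y • α = α := hyA
  have hαS : α ∉ S := by
    intro h
    rw [hSdef, Finset.mem_image] at h
    obtain ⟨z, hz, hzα⟩ := h
    have : z = α := by
      have := congrArg (fun w => y⁻¹ • w) hzα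
      simp only [inv_smul_smul] at this
      rw [this, ← hyα, inv_smul_smul, hyα]
    exact hαB (this ▸ hz)
  -- `S` is again a block
  have hSblk : ∀ g : G, g • α = α → S.image (fun z => g • z) = S ∨
      Disjoint (S.image (fun z => g • z)) S := by
    intro g hg
    have hg' : (y⁻¹ * g * y) • α = α := by
      rw [mul_smul, mul_smul, hyα, hg, ← hyα, inv_smul_smul, hyα]
    have himg : S.image (fun z => g • z) = (B.image (fun z => (y⁻¹ * g * y) • z)).image
        (fun z => y • z) := by
      rw [hSdef, ← image_smul_mul, ← image_smul_mul]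
      congr 1
      funext z
      congr 1
      group
    rcases hblock _ hg' with h | h
    · left
      rw [himg, h]
    · right
      rw [himg, hSdef]
      exact (Finset.disjoint_image (MulAction.injective y)).mpr h
  -- the group `E`
  set E : Subgroup G := N ⊓ A with hEdef
  have hEfree : ∀ n ∈ E, S.image (fun z => n • z) = S → n = 1 := by
    intro n hn hnS
    obtain ⟨k, c, _, hnk⟩ := he n hn.1
    have hfix : n • e j0 = e j0 := by rw [hα]; exact hn.2
    exact Cfsg.Agent.Helper29.N2.eq_one_of_image_eq e n k c hnk j0 hfix S hnS hy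
  have hcount := Cfsg.Agent.Helper12.N2.card_mul_card_le E α (fun n hn => hn.2) S hαS
    (fun n hn => hSblk n hn.2) hEfree
  have hEcard := Cfsg.Agent.Helper12.N2.card_normalizer_inf_stabilizer hΩ P α
  rw [hΩ] at hcount
  have hScard : S.card = B.card := card_image_smul y B
  rw [hScard] at hcount
  -- arithmetic
  have hE2 : 2 * Nat.card E = p - 1 := by
    have h1 : 2 * Nat.card E * p = (p - 1) * p := by
      rw [mul_assoc, hEdef, hEcard, hN, mul_comm]
    exact Nat.eq_of_mul_eq_mul_right hpp.pos h1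
  have hEpos : 0 < Nat.card E := Nat.card_pos
  by_contra hlt
  push Not at hlt
  have : Nat.card E * 3 ≤ Nat.card E * B.card := Nat.mul_le_mul_left _ hlt
  omega

/-- if a point stabiliser has a non-trivial block then a two-point stabiliser fixes a third point
and is transitive on the remaining points -/
theorem three_fix_of_block (hΩ : Fintype.card Ω = p) (hp3 : 3 < p) (hG : ¬ Group.IsSolvable G)
    (P : Sylow p G)
    (hN : 2 * Nat.card ↥(Subgroup.normalizer ((P : Subgroup G) : Set G)) = p * (p - 1))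
    (α : Ω) (B : Finset Ω) (hαB : α ∉ B) (hB2 : ∃ β ∈ B, ∃ γ ∈ B, β ≠ γ)
    (hBc : ∃ δ, δ ≠ α ∧ δ ∉ B)
    (hblock : ∀ g : G, g • α = α → B.image (fun x => g • x) = B ∨
      Disjoint (B.image (fun x => g • x)) B) :
    ∃ β γ : Ω, α ≠ β ∧ γ ≠ α ∧ γ ≠ β ∧ (∀ g : G, g • α = α → g • β = β → g • γ = γ) ∧
      ∀ x y, x ≠ α → x ≠ β → x ≠ γ → y ≠ α → y ≠ β → y ≠ γ →
        ∃ g : G, g • α = α ∧ g • β = β ∧ g • x = y := by
  classical
  have hpp : p.Prime := Fact.out
  have hp2 : p ≠ 2 := by omega
  obtain ⟨β, hβ, γ, hγ, hβγ⟩ := hB2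
  have hcard := block_card_le_two hΩ hp2 hG P hN α B hαB ⟨β, hβ⟩ hBc hblock
  have hαβ : α ≠ β := fun h => hαB (h ▸ hβ)
  have hγα : γ ≠ α := fun h => hαB (h ▸ hγ)
  have hBeq : B = {β, γ} := by
    symm
    apply Finset.eq_of_subset_of_card_le
    · intro z hz
      rw [Finset.mem_insert, Finset.mem_singleton] at hz
      rcases hz with rfl | rfl
      · exact hβ
      · exact hγ
    · rw [Finset.card_pair hβγ]
      exact hcard
  have hfix : ∀ g : G, g • α = α → g • β = β → g • γ = γ := by
    intro g hgα hgβ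
    have hB' : B.image (fun x => g • x) = B := by
      rcases hblock g hgα with h | h
      · exact h
      · exfalso
        have h1 : β ∈ B.image (fun x => g • x) := by
          rw [← hgβ]
          exact Finset.mem_image_of_mem _ hβ
        exact (Finset.disjoint_left.mp h h1) hβ
    have h1 : g • γ ∈ B := by
      rw [← hB']
      exact Finset.mem_image_of_mem _ hγ
    rw [hBeq, Finset.mem_insert, Finset.mem_singleton] at h1
    rcases h1 with h1 | h1
    · exfalso
      apply hβγ
      rw [← hgβ] at h1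
      exact (smul_left_cancel g h1).symm
    · exact h1
  refine ⟨β, γ, hαβ, hγα, hβγ.symm, hfix, ?_⟩
  intro x y hxα hxβ hxγ hyα hyβ hyγ
  have h4 := card_orbits_le_four hΩ hp2 hG P hN α β hαβ
  set K := stabilizer G α ⊓ stabilizer G β with hK
  obtain ⟨k, hk⟩ := Cfsg.Agent.Helper12.N2.exists_smul_of_card_orbits_le_four (K := ↥K) h4
    α β γ hαβ hγα.symm hβγ (fun k => (Subgroup.mem_inf.mp k.2).1)
    (fun k => (Subgroup.mem_inf.mp k.2).2)
    (fun k => hfix k.1 (Subgroup.mem_inf.mp k.2).1 (Subgroup.mem_inf.mp k.2).2)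
    x y hxα hxβ hxγ hyα hyβ hyγ
  exact ⟨k.1, (Subgroup.mem_inf.mp k.2).1, (Subgroup.mem_inf.mp k.2).2, hk⟩

end main

end Cfsg.Agent.Helper61.N2
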