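import Mathlib
import Cfsg.Agent.Helper61.N2Defs
import Cfsg.Agent.Helper24.N2NETA
import Cfsg.Agent.Helper75.N2LABSQ
import Cfsg.Agent.Helper24.N2NETB

set_option autoImplicit false

/-! S3612, glue: the Pasch case. -/

namespace Cfsg.Agent.Helper61.N2

open MulAction

/-- no `G`-invariant Steiner triple system on `p > 7` points, all of whose triangles are Pasch, is
invariant under a Sylow normaliser of order `p (p-1)/2` -/
theorem pasch_false {G : Type*} [Group G] [Finite G] {Ω : Type*} [Fintype Ω] [DecidableEq Ω]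
    [MulAction G Ω] [FaithfulSMul G Ω] [IsPretransitive G Ω] {p : ℕ} [Fact p.Prime]
    (hΩ : Fintype.card Ω = p) (hp7 : 7 < p) (P : Sylow p G)
    (hN : 2 * Nat.card ↥(Subgroup.normalizer ((P : Subgroup G) : Set G)) = p * (p - 1))
    (S : STS G Ω)
    (hP : ∀ x y z, x ≠ y → z ≠ x → z ≠ y → z ≠ S.T x y → S.T (S.T x y) (S.T x z) = S.T y z) :
    False := by
  obtain ⟨e, ⟨t, ht⟩, hsq⟩ := Cfsg.Agent.Helper75.N2.exists_label_sq hΩ (by omega) P hN
  set τ : ZMod p → ZMod p → ZMod p := fun i j => e.symm (S.T (e i) (e j)) with hτdef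
  have heτ : ∀ i j, e (τ i j) = S.T (e i) (e j) := fun i j => e.apply_symm_apply _
  have hne : ∀ {i j : ZMod p}, i ≠ j → e i ≠ e j := fun h h' => h (e.injective h')
  have hne1 : ∀ i j, i ≠ j → τ i j ≠ i := by
    intro i j hij h
    apply S.ne_left (e i) (e j) (hne hij)
    rw [← heτ, h]
  have hne2 : ∀ i j, i ≠ j → τ i j ≠ j := by
    intro i j hij h
    apply S.ne_right (e i) (e j) (hne hij)
    rw [← heτ, h]
  have hsymm : ∀ i j, i ≠ j → τ i j = τ j i := by
    intro i j hij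
    apply e.injective
    rw [heτ, heτ, S.symm _ _ (hne hij)]
  have hinv : ∀ i j, i ≠ j → τ i (τ i j) = j := by
    intro i j hij
    apply e.injective
    rw [heτ, heτ, S.invol _ _ (hne hij)]
  have htr : ∀ i j, i ≠ j → τ (i + 1) (j + 1) = τ i j + 1 := by
    intro i j hij
    apply e.injective
    rw [heτ, ← ht, ← ht, ← ht, ← S.equiv t _ _ (hne hij), heτ]
  have hsqτ : ∀ s i j, s ≠ 0 → IsSquare s → i ≠ j → τ (s * i) (s * j) = s * τ i j := by
    intro s i j hs hss hij
    obtain ⟨m, hm⟩ := hsq s hs hss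
    apply e.injective
    rw [heτ, ← hm, ← hm, ← hm, ← S.equiv m _ _ (hne hij), heτ]
  have hPτ : ∀ i j k, i ≠ j → k ≠ i → k ≠ j → k ≠ τ i j → τ (τ i j) (τ i k) = τ j k := by
    intro i j k hij hki hkj hkτ
    apply e.injective
    rw [heτ, heτ, heτ, heτ]
    apply hP _ _ _ (hne hij) (hne hki) (hne hkj)
    rw [← heτ]
    exact hne hkτ
  obtain ⟨n, hn, -, hτ⟩ := Cfsg.Agent.Helper24.N2.netto_coords (by omega) τ hne1 hne2 hsymm
    hinv htr hsqτ
  exact Cfsg.Agent.Helper24.N2.netto_not_pasch hp7 τ n hn hτ hPτ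

end Cfsg.Agent.Helper61.N2
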