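import Mathlib
import Cfsg.Agent.Helper61.N2Defs
import Cfsg.Agent.Helper12.N2ORB4
import Cfsg.Agent.Helper31.N2STABEQ

set_option autoImplicit false

/-! S3612, glue: the Steiner triple system of fixed point sets of two-point stabilisers. -/

namespace Cfsg.Agent.Helper61.N2

open MulAction

/-- (SPREAD) the three-fixed-points property at one pair spreads to all pairs -/
theorem threeFix_all {G : Type*} [Group G] {Ω : Type*} [MulAction G Ω]
    (h2 : ∀ a b c d : Ω, a ≠ b → c ≠ d → ∃ g : G, g • a = c ∧ g • b = d) (α β γ : Ω)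
    (hαβ : α ≠ β) (hγα : γ ≠ α) (hγβ : γ ≠ β)
    (hfix : ∀ g : G, g • α = α → g • β = β → g • γ = γ)
    (htr : ∀ x y, x ≠ α → x ≠ β → x ≠ γ → y ≠ α → y ≠ β → y ≠ γ →
      ∃ g : G, g • α = α ∧ g • β = β ∧ g • x = y) :
    ∀ a b : Ω, a ≠ b → ∃ c, c ≠ a ∧ c ≠ b ∧ (∀ g : G, g • a = a → g • b = b → g • c = c) ∧
      ∀ x y, x ≠ a → x ≠ b → x ≠ c → y ≠ a → y ≠ b → y ≠ c →
        ∃ g : G, g • a = a ∧ g • b = b ∧ g • x = y := by
  intro a b hab
  obtain ⟨g, hga, hgb⟩ := h2 α β a b hαβ hab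
  have hne : ∀ {x y : Ω}, x ≠ y → g • x ≠ g • y := fun h h' => h (smul_left_cancel g h')
  have hinv : ∀ {x y : Ω}, x ≠ g • y → g⁻¹ • x ≠ y := by
    intro x y h h'
    apply h
    rw [← h', smul_inv_smul]
  refine ⟨g • γ, ?_, ?_, ?_, ?_⟩
  · rw [← hga]; exact hne hγα
  · rw [← hgb]; exact hne hγβ
  · intro k hka hkb
    have h1 : (g⁻¹ * k * g) • α = α := by
      rw [mul_smul, mul_smul, hga, hka, ← hga, inv_smul_smul]
    have h2' : (g⁻¹ * k * g) • β = β := by
      rw [mul_smul, mul_smul, hgb, hkb, ← hgb, inv_smul_smul]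
    have h3 := hfix _ h1 h2'
    rw [mul_smul, mul_smul] at h3
    have := congrArg (fun x => g • x) h3
    simpa using this
  · intro x y hxa hxb hxc hya hyb hyc
    obtain ⟨k, hkα, hkβ, hkx⟩ := htr (g⁻¹ • x) (g⁻¹ • y) (hinv (hga ▸ hxa)) (hinv (hgb ▸ hxb))
      (hinv hxc) (hinv (hga ▸ hya)) (hinv (hgb ▸ hyb)) (hinv hyc)
    refine ⟨g * k * g⁻¹, ?_, ?_, ?_⟩
    · rw [mul_smul, mul_smul, ← hga, inv_smul_smul, hkα]
    · rw [mul_smul, mul_smul, ← hgb, inv_smul_smul, hkβ]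
    · rw [mul_smul, mul_smul, hkx, smul_inv_smul]

/-- the Steiner triple system of the fixed point sets of the two-point stabilisers -/
theorem exists_sts {G : Type*} [Group G] [Finite G] {Ω : Type*} [Fintype Ω] [DecidableEq Ω]
    [MulAction G Ω] (h5 : 5 ≤ Fintype.card Ω)
    (h2 : ∀ a b c d : Ω, a ≠ b → c ≠ d → ∃ g : G, g • a = c ∧ g • b = d)
    (hF : ∀ a b : Ω, a ≠ b → ∃ c, c ≠ a ∧ c ≠ b ∧ (∀ g : G, g • a = a → g • b = b → g • c = c) ∧
      ∀ x y, x ≠ a → x ≠ b → x ≠ c → y ≠ a → y ≠ b → y ≠ c →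
        ∃ g : G, g • a = a ∧ g • b = b ∧ g • x = y) :
    Nonempty (STS G Ω) := by
  classical
  let T : Ω → Ω → Ω := fun a b => if h : a ≠ b then Classical.choose (hF a b h) else a
  have hT : ∀ a b (h : a ≠ b), T a b = Classical.choose (hF a b h) := fun a b h => dif_pos h
  have hspec : ∀ a b (h : a ≠ b), T a b ≠ a ∧ T a b ≠ b ∧
      (∀ g : G, g • a = a → g • b = b → g • T a b = T a b) ∧
      ∀ x y, x ≠ a → x ≠ b → x ≠ T a b → y ≠ a → y ≠ b → y ≠ T a b →
        ∃ g : G, g • a = a ∧ g • b = b ∧ g • x = y := by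
    intro a b h
    rw [hT a b h]
    exact Classical.choose_spec (hF a b h)
  -- uniqueness
  have huniq : ∀ a b (h : a ≠ b) (c' : Ω), c' ≠ a → c' ≠ b →
      (∀ g : G, g • a = a → g • b = b → g • c' = c') → c' = T a b := by
    intro a b h c' hc'a hc'b hc'
    obtain ⟨h1, h2', _, h4⟩ := hspec a b h
    exact Cfsg.Agent.Helper12.N2.third_unique h5 a b (T a b) c' h1 h2' hc'a hc'b h4 hc'
  have hsymm : ∀ x y, x ≠ y → T x y = T y x := by
    intro x y h
    obtain ⟨h1, h2', h3, _⟩ := hspec x y h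
    exact huniq y x h.symm (T x y) h2' h1 (fun g hy hx => h3 g hx hy)
  have hinvol : ∀ x y, x ≠ y → T x (T x y) = y := by
    intro x y h
    obtain ⟨h1, h2', h3, _⟩ := hspec x y h
    have hb := Cfsg.Agent.Helper31.N2.fix_swap h2 x y (T x y) h h1.symm h3
    exact (huniq x (T x y) h1.symm y h.symm h2'.symm hb).symm
  have hequiv : ∀ (g : G) x y, x ≠ y → g • T x y = T (g • x) (g • y) := by
    intro g x y h
    obtain ⟨h1, h2', h3, _⟩ := hspec x y h
    have hg : g • x ≠ g • y := fun h' => h (smul_left_cancel g h')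
    apply huniq (g • x) (g • y) hg
    · exact fun h' => h1 (smul_left_cancel g h')
    · exact fun h' => h2' (smul_left_cancel g h')
    · intro k hkx hky
      have hx' : (g⁻¹ * k * g) • x = x := by
        rw [mul_smul, mul_smul, hkx, inv_smul_smul]
      have hy' : (g⁻¹ * k * g) • y = y := by
        rw [mul_smul, mul_smul, hky, inv_smul_smul]
      have h3' := h3 _ hx' hy'
      rw [mul_smul, mul_smul] at h3'
      have := congrArg (fun z => g • z) h3'
      simpa using this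
  refine ⟨⟨T, fun x y h => (hspec x y h).1, fun x y h => (hspec x y h).2.1, hsymm, hinvol, hequiv,
    ?_⟩⟩
  intro a b d a' b' d' hab hda hdb hdT hab' hda' hdb' hdT'
  obtain ⟨g, hga, hgb⟩ := h2 a b a' b' hab hab'
  obtain ⟨_, _, _, h4⟩ := hspec a' b' hab'
  have hgT : g • T a b = T a' b' := by rw [hequiv g a b hab, hga, hgb]
  have hne : ∀ {x y : Ω}, x ≠ y → g • x ≠ g • y := fun h h' => h (smul_left_cancel g h')
  obtain ⟨k, hka, hkb, hkd⟩ := h4 (g • d) d' (hga ▸ hne hda) (hgb ▸ hne hdb) (hgT ▸ hne hdT)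
    hda' hdb' hdT'
  refine ⟨k * g, ?_, ?_, ?_⟩
  · rw [mul_smul, hga, hka]
  · rw [mul_smul, hgb, hkb]
  · rw [mul_smul, hkd]

end Cfsg.Agent.Helper61.N2
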