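import Mathlib
import Cfsg.Agent.Helper61.N2Defs
import Cfsg.Agent.Helper61.N2Sts
import Cfsg.Agent.Helper61.N2Blk
import Cfsg.Agent.Helper61.N2Anti
import Cfsg.Agent.Helper61.N2Pasch
import Cfsg.Agent.Helper29.N2WRAP

set_option autoImplicit false

/-! S3612, main assembly. -/

namespace Cfsg.Agent.Helper61.N2

open MulAction Cfsg.Agent.Helper61.Neu

/-- P. M. Neumann: in an insoluble transitive group of prime degree `p > 7` whose Sylow normaliser
has order `p (p-1)/2`, a point stabiliser is primitive on the remaining points -/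
theorem isPreprimitive_stabilizer {G : Type*} [Group G] [Finite G] {Ω : Type*} [Fintype Ω]
    [DecidableEq Ω] [MulAction G Ω] [FaithfulSMul G Ω] [IsPretransitive G Ω] {p : ℕ}
    [Fact p.Prime] (hΩ : Fintype.card Ω = p) (hp7 : 7 < p) (hG : ¬ Group.IsSolvable G)
    (P : Sylow p G)
    (hN : 2 * Nat.card ↥(Subgroup.normalizer ((P : Subgroup G) : Set G)) = p * (p - 1))
    (α : Ω) :
    IsPreprimitive ↥(stabilizer G α) ↥(SubMulAction.ofStabilizer G α) := by
  have hpp : p.Prime := Fact.out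
  have h2 : ∀ a b c d : Ω, a ≠ b → c ≠ d → ∃ g : G, g • a = c ∧ g • b = d :=
    fun a b c d hab hcd => exists_smul_pair' (G := G) (hΩ ▸ hpp) hG hab hcd
  apply Cfsg.Agent.Helper29.N2.isPreprimitive_of_blocks h2 α
  intro B hαB hB2 hBc hblock
  obtain ⟨β, γ, hαβ, hγα, hγβ, hfix, htr⟩ :=
    three_fix_of_block hΩ (by omega) hG P hN α B hαB hB2 hBc hblock
  have hF := threeFix_all h2 α β γ hαβ hγα hγβ hfix htr
  obtain ⟨S⟩ := exists_sts (by omega) h2 hF
  by_cases hP : ∀ x y z, x ≠ y → z ≠ x → z ≠ y → z ≠ S.T x y →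
      S.T (S.T x y) (S.T x z) = S.T y z
  · exact pasch_false hΩ hp7 P hN S hP
  · push Not at hP
    obtain ⟨x0, y0, z0, hxy0, hzx0, hzy0, hzT0, hne0⟩ := hP
    apply antipasch_false S (hΩ ▸ hpp) (by omega)
    intro x y z hxy hzx hzy hzT heq
    obtain ⟨g, hgx, hgy, hgz⟩ := S.tri x y z x0 y0 z0 hxy hzx hzy hzT hxy0 hzx0 hzy0 hzT0
    apply hne0
    have hTne : S.T x y ≠ S.T x z := by
      intro h
      apply hzy
      rw [← S.invol x y hxy, ← S.invol x z hzx.symm, h]
    have : g • S.T (S.T x y) (S.T x z) = g • S.T y z := congrArg (fun w => g • w) heq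
    rw [S.equiv g _ _ hTne, S.equiv g x y hxy, S.equiv g x z hzx.symm, S.equiv g y z hzy.symm, hgx,
      hgy, hgz] at this
    exact this

end Cfsg.Agent.Helper61.N2
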