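import Mathlib

set_option autoImplicit false

namespace Cfsg.Agent.Helper61.OrbitCount

open MulAction

variable {G : Type*} [Group G]

/-- Burnside's lemma, `Nat.card` version. -/
theorem sum_card_fixedBy (X : Type*) [MulAction G X] [Fintype G] [Finite X] :
    ∑ g : G, Nat.card (fixedBy X g) = Nat.card (orbitRel.Quotient G X) * Nat.card G := by
  classical
  haveI : Fintype X := Fintype.ofFinite X
  have h := MulAction.sum_card_fixedBy_eq_card_orbits_mul_card_group G X
  simp only [Nat.card_eq_fintype_card]
  convert h

/-- Fixed points on a product. -/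
theorem card_fixedBy_prod (X Y : Type*) [MulAction G X] [MulAction G Y] (g : G) :
    Nat.card (fixedBy (X × Y) g) = Nat.card (fixedBy X g) * Nat.card (fixedBy Y g) := by
  rw [← Nat.card_prod]
  apply Nat.card_congr
  refine
    { toFun := fun p => (⟨p.1.1, ?_⟩, ⟨p.1.2, ?_⟩)
      invFun := fun q => ⟨(q.1.1, q.2.1), ?_⟩
      left_inv := fun p => rfl
      right_inv := fun q => rfl }
  · have := p.2
    rw [mem_fixedBy] at this ⊢
    exact congrArg Prod.fst this
  · have := p.2
    rw [mem_fixedBy] at this ⊢
    exact congrArg Prod.snd this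
  · rw [mem_fixedBy]
    have h1 := q.1.2
    have h2 := q.2.2
    rw [mem_fixedBy] at h1 h2
    exact Prod.ext h1 h2

/-- Orbits of `H` on `Y` correspond to orbits of `G` on `G ⧸ H × Y`. -/
theorem card_orbits_quotient_prod (H : Subgroup G) (Y : Type*) [MulAction G Y] :
    Nat.card (orbitRel.Quotient H Y) = Nat.card (orbitRel.Quotient G ((G ⧸ H) × Y)) := by
  let φ : orbitRel.Quotient H Y → orbitRel.Quotient G ((G ⧸ H) × Y) :=
    Quotient.lift (fun y => (Quotient.mk'' (((1 : G) : G ⧸ H), y) : orbitRel.Quotient G ((G ⧸ H) × Y)))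
      (by
        rintro y y' ⟨h, rfl⟩
        apply Quotient.sound'
        refine ⟨(h : G), ?_⟩
        change ((h : G) • ((1 : G) : G ⧸ H), (h : G) • y') = _
        congr 1
        rw [MulAction.Quotient.smul_coe, smul_eq_mul, mul_one, QuotientGroup.eq]
        simpa using H.inv_mem h.2)
  apply Nat.card_congr
  refine Equiv.ofBijective φ ⟨?_, ?_⟩
  · intro q q'
    induction q using Quotient.inductionOn with
    | h y =>
    induction q' using Quotient.inductionOn with
    | h y' =>
    intro h
    have h' := Quotient.exact' h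
    obtain ⟨g, hg⟩ := h'
    change (g • ((1 : G) : G ⧸ H), g • y') = (((1 : G) : G ⧸ H), y) at hg
    have h1 := congrArg Prod.fst hg
    have h2 := congrArg Prod.snd hg
    simp only at h1 h2
    rw [MulAction.Quotient.smul_coe, smul_eq_mul, mul_one, QuotientGroup.eq] at h1
    have hgH : g ∈ H := by simpa using H.inv_mem h1
    apply Quotient.sound'
    exact ⟨⟨g, hgH⟩, h2⟩
  · intro q
    induction q using Quotient.inductionOn with
    | h p =>
    obtain ⟨x, y⟩ := p
    induction x using QuotientGroup.induction_on with
    | H g =>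
    refine ⟨Quotient.mk'' (g⁻¹ • y), ?_⟩
    apply Quotient.sound'
    refine ⟨g⁻¹, ?_⟩
    change (g⁻¹ • (g : G ⧸ H), g⁻¹ • y) = _
    congr 1
    rw [MulAction.Quotient.smul_coe, smul_eq_mul, inv_mul_cancel]

/-- A doubly transitive group has exactly two orbits on ordered pairs. -/
theorem card_orbits_prod_self (Ω : Type*) [MulAction G Ω]
    (h2 : ∀ a b c d : Ω, a ≠ b → c ≠ d → ∃ g : G, g • a = c ∧ g • b = d)
    [htr : IsPretransitive G Ω] (a b : Ω) (hab : a ≠ b) :
    Nat.card (orbitRel.Quotient G (Ω × Ω)) = 2 := by
  classical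
  let φ : orbitRel.Quotient G (Ω × Ω) → Bool :=
    Quotient.lift (fun p : Ω × Ω => decide (p.1 = p.2))
      (by
        rintro p p' ⟨g, rfl⟩
        simp only [Prod.smul_fst, Prod.smul_snd, decide_eq_decide]
        exact smul_left_cancel_iff g)
  have hbij : Function.Bijective φ := by
    constructor
    · intro q q'
      induction q using Quotient.inductionOn with
      | h p =>
      induction q' using Quotient.inductionOn with
      | h p' =>
      intro h
      obtain ⟨x, y⟩ := p
      obtain ⟨x', y'⟩ := p'
      change decide (x = y) = decide (x' = y') at h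
      rw [decide_eq_decide] at h
      apply Quotient.sound'
      by_cases hxy : x = y
      · have hxy' : x' = y' := h.1 hxy
        subst hxy hxy'
        obtain ⟨g, hg⟩ := MulAction.exists_smul_eq G x' x
        exact ⟨g, by change (g • x', g • x') = (x, x); rw [hg]⟩
      · have hxy' : x' ≠ y' := fun h' => hxy (h.2 h')
        obtain ⟨g, hg1, hg2⟩ := h2 x' y' x y hxy' hxy
        exact ⟨g, by change (g • x', g • y') = (x, y); rw [hg1, hg2]⟩
    · intro c
      cases c
      · exact ⟨Quotient.mk'' (a, b), by change decide (a = b) = false; simpa using hab⟩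
      · exact ⟨Quotient.mk'' (a, a), by change decide (a = a) = true; simp⟩
  rw [Nat.card_congr (Equiv.ofBijective φ hbij)]
  simp

end Cfsg.Agent.Helper61.OrbitCount
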