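import Mathlib

/-!
# Order 7920 with disconnected prime graph: case split on the partition

The final assembly for S2490, parametrised by the structure lemmas.
-/

set_option autoImplicit false

namespace Cfsg.Agent.Helper61.PG7920

variable {G : Type*} [Group G] [Finite G]

theorem prop_aux1 {p r : Prop} (h1 : ¬ (p ↔ r)) : (p ↔ ¬ r) := by tauto

theorem prop_aux2 {p q r : Prop} (h1 : ¬ (p ↔ r)) (h2 : p ↔ q) : (q ↔ ¬ r) := by tauto

theorem prop_aux3 {p q r : Prop} (h1 : p ↔ r) (h2 : ¬ (p ↔ q)) : (q ↔ ¬ r) := by tauto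

/-- The case split on which of `2, 3, 5, 11` lie in `A`. -/
theorem assemble (hord : Nat.card G = 7920)
    (hdisc : (∃ A : Set ℕ, (∃ a ∈ A, a.Prime ∧ a ∣ Nat.card G) ∧
      (∃ b ∉ A, b.Prime ∧ b ∣ Nat.card G) ∧
      ∀ a ∈ A, ∀ b ∉ A, a.Prime → b.Prime → a ∣ Nat.card G → b ∣ Nat.card G →
        ¬ ∃ g : G, orderOf g = a * b))
    (HA : (∀ g : G, orderOf g ≠ 22) →
      ((∀ g : G, orderOf g ≠ 6) ∨ (∀ g : G, orderOf g ≠ 33)) →
      ((∀ g : G, orderOf g ≠ 10) ∨ (∀ g : G, orderOf g ≠ 55)) → IsSimpleGroup G)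
    (H3 : (∀ g : G, orderOf g ≠ 6) → (∀ g : G, orderOf g ≠ 15) → (∀ g : G, orderOf g ≠ 33) →
      ∀ N : Subgroup G, N.Normal → N ≠ ⊥ → N ≠ ⊤ → Nat.card N = 3960)
    (H5 : (∀ g : G, orderOf g ≠ 10) → (∀ g : G, orderOf g ≠ 15) → (∀ g : G, orderOf g ≠ 55) →
      ∀ N : Subgroup G, N.Normal → N ≠ ⊥ → N ≠ ⊤ → Nat.card N = 3960)
    (H35 : (∀ g : G, orderOf g ≠ 6) → (∀ g : G, orderOf g ≠ 10) → (∀ g : G, orderOf g ≠ 33) →
      (∀ g : G, orderOf g ≠ 55) →
      ∀ N : Subgroup G, N.Normal → N ≠ ⊥ → N ≠ ⊤ → Nat.card N = 3960)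
    (HZ : (∀ N : Subgroup G, N.Normal → N ≠ ⊥ → N ≠ ⊤ → Nat.card N = 3960) → IsSimpleGroup G) :
    IsSimpleGroup G := by
  obtain ⟨A, ⟨a, haA, hap, had⟩, ⟨b, hbA, hbp, hbd⟩, hno⟩ := hdisc
  rw [hord] at had hbd hno
  -- the primes dividing 7920
  have hprimes : ∀ p : ℕ, p.Prime → p ∣ 7920 → p = 2 ∨ p = 3 ∨ p = 5 ∨ p = 11 := by
    intro p hp hd
    have h1 : (7920 : ℕ) = 2 ^ 4 * 3 ^ 2 * 5 * 11 := by norm_num
    rw [h1] at hd
    rcases (Nat.Prime.dvd_mul hp).mp hd with h | h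
    · rcases (Nat.Prime.dvd_mul hp).mp h with h | h
      · rcases (Nat.Prime.dvd_mul hp).mp h with h | h
        · left; exact (Nat.prime_dvd_prime_iff_eq hp Nat.prime_two).mp (hp.dvd_of_dvd_pow h)
        · right; left
          exact (Nat.prime_dvd_prime_iff_eq hp Nat.prime_three).mp (hp.dvd_of_dvd_pow h)
      · right; right; left
        exact (Nat.prime_dvd_prime_iff_eq hp Nat.prime_five).mp h
    · right; right; right
      exact (Nat.prime_dvd_prime_iff_eq hp (by norm_num)).mp h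
  have key : ∀ x y : ℕ, x.Prime → y.Prime → x ∣ 7920 → y ∣ 7920 → (x ∈ A ↔ ¬ y ∈ A) →
      ∀ g : G, orderOf g ≠ x * y := by
    intro x y hx hy hxd hyd hxy g hg
    by_cases hxA : x ∈ A
    · exact hno x hxA y (hxy.mp hxA) hx hy hxd hyd ⟨g, hg⟩
    · have hyA : y ∈ A := by
        by_contra h
        exact hxA (hxy.mpr h)
      exact hno y hyA x hxA hy hx hyd hxd ⟨g, by rw [hg, mul_comm]⟩
  have p2 : Nat.Prime 2 := Nat.prime_two
  have p3 : Nat.Prime 3 := Nat.prime_three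
  have p5 : Nat.Prime 5 := Nat.prime_five
  have p11 : Nat.Prime 11 := by norm_num
  have d2 : 2 ∣ 7920 := by norm_num
  have d3 : 3 ∣ 7920 := by norm_num
  have d5 : 5 ∣ 7920 := by norm_num
  have d11 : 11 ∣ 7920 := by norm_num
  -- not all four primes on the same side
  have hsplit : ¬ ((2 ∈ A ↔ 3 ∈ A) ∧ (2 ∈ A ↔ 5 ∈ A) ∧ (2 ∈ A ↔ 11 ∈ A)) := by
    rintro ⟨h23, h25, h211⟩
    have ha' := hprimes a hap had
    have hb' := hprimes b hbp hbd
    have h2A : 2 ∈ A := by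
      rcases ha' with rfl | rfl | rfl | rfl
      · exact haA
      · exact h23.mpr haA
      · exact h25.mpr haA
      · exact h211.mpr haA
    rcases hb' with rfl | rfl | rfl | rfl
    · exact hbA h2A
    · exact hbA (h23.mp h2A)
    · exact hbA (h25.mp h2A)
    · exact hbA (h211.mp h2A)
  by_cases h211 : (2 ∈ A ↔ 11 ∈ A)
  swap
  · -- `2` and `11` are separated
    have n22 : ∀ g : G, orderOf g ≠ 22 :=
      key 2 11 p2 p11 d2 d11 (prop_aux1 h211)
    apply HA n22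
    · by_cases h23 : (2 ∈ A ↔ 3 ∈ A)
      · right
        exact key 3 11 p3 p11 d3 d11 (prop_aux2 h211 h23)
      · left
        exact key 2 3 p2 p3 d2 d3 (prop_aux1 h23)
    · by_cases h25 : (2 ∈ A ↔ 5 ∈ A)
      · right
        exact key 5 11 p5 p11 d5 d11 (prop_aux2 h211 h25)
      · left
        exact key 2 5 p2 p5 d2 d5 (prop_aux1 h25)
  · -- `2` and `11` together
    apply HZ
    by_cases h23 : (2 ∈ A ↔ 3 ∈ A)
    · -- then `5` is isolated
      have h25 : ¬ (2 ∈ A ↔ 5 ∈ A) := fun h => hsplit ⟨h23, h, h211⟩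
      exact H5 (key 2 5 p2 p5 d2 d5 (prop_aux1 h25)) (key 3 5 p3 p5 d3 d5 (prop_aux2 h25 h23))
        (key 5 11 p5 p11 d5 d11 (prop_aux3 h211 h25))
    · by_cases h25 : (2 ∈ A ↔ 5 ∈ A)
      · -- `3` is isolated
        exact H3 (key 2 3 p2 p3 d2 d3 (prop_aux1 h23)) (key 3 5 p3 p5 d3 d5 (prop_aux3 h25 h23))
          (key 3 11 p3 p11 d3 d11 (prop_aux3 h211 h23))
      · -- `{3, 5}` against `{2, 11}`
        exact H35 (key 2 3 p2 p3 d2 d3 (prop_aux1 h23)) (key 2 5 p2 p5 d2 d5 (prop_aux1 h25))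
          (key 3 11 p3 p11 d3 d11 (prop_aux3 h211 h23))
          (key 5 11 p5 p11 d5 d11 (prop_aux3 h211 h25))

end Cfsg.Agent.Helper61.PG7920
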