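import Mathlib
import Cfsg.Prelude.Def_BlockRank
import Cfsg.Agent.Helper77.BlockOrth

/-!
helper3 PL1 farm (S4711), piece (PIMV) (helper61): the projective indecomposable characters vanish at the
`p`-singular elements.
-/

set_option autoImplicit false
set_option linter.unusedSectionVars false
set_option linter.unusedVariables false

namespace Cfsg.Agent.Helper61.PL1

open Cfsg Cfsg.Agent.Helper16

universe u

variable {p : ℕ} [Fact p.Prime] {M : Ideal AlgInt} {G : Type u} [Group G]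

/-- (PIMV) the projective indecomposable characters vanish at the `p`-singular elements. -/
theorem PIMV [Fintype G] (hM : IsPModular p M) (B : Set (IrrCharacter G)) (hB : IsPBlock M B)
    (S : Finset (G → ℂ)) (hli : LinearIndependent ℂ (fun φ : S => (φ : G → ℂ)))
    (d : IrrCharacter G → (G → ℂ) → ℕ)
    (hd : ∀ χ ∈ B, pRegularPart p (χ : G → ℂ) = ∑ φ ∈ S, (d χ φ : ℂ) • φ)
    (y : G) (hy : p ∣ orderOf y) (φ : G → ℂ) (hφ : φ ∈ S) :
    ∑ᶠ χ ∈ B, (d χ φ : ℂ) * (χ : G → ℂ) y = 0 := by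
  classical
  have hBf : B.Finite := Set.toFinite B
  rw [finsum_mem_eq_finite_toFinset_sum _ hBf]
  set T : Finset (IrrCharacter G) := hBf.toFinset with hT
  have hTB : ∀ χ ∈ T, χ ∈ B := fun χ hχ => hBf.mem_toFinset.mp hχ
  -- the orthogonality relation as an identity of functions
  have h1 : ∑ χ ∈ T, ((χ : G → ℂ) y) • pRegularPart p (χ : G → ℂ) = 0 := by
    funext x
    rw [Finset.sum_apply, Pi.zero_apply]
    by_cases hx : IsPRegular p x
    · have h2 := Cfsg.Agent.Helper77.weak_block_orthogonality hM hB x y hx hy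
      rw [finsum_mem_eq_finite_toFinset_sum _ hBf] at h2
      rw [← h2]
      refine Finset.sum_congr rfl (fun χ _ => ?_)
      rw [Pi.smul_apply, smul_eq_mul]
      unfold pRegularPart
      rw [if_pos hx]
    · apply Finset.sum_eq_zero
      intro χ _
      rw [Pi.smul_apply, smul_eq_mul]
      unfold pRegularPart
      rw [if_neg hx, mul_zero]
  -- substitute the decomposition numbers and swap the sums
  have h3 : ∑ ψ ∈ S, (∑ χ ∈ T, (χ : G → ℂ) y * (d χ ψ : ℂ)) • ψ = 0 := by
    rw [← h1]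
    have h4 : ∀ χ ∈ T, ((χ : G → ℂ) y) • pRegularPart p (χ : G → ℂ) =
        ∑ ψ ∈ S, ((χ : G → ℂ) y * (d χ ψ : ℂ)) • ψ := by
      intro χ hχ
      rw [hd χ (hTB χ hχ), Finset.smul_sum]
      refine Finset.sum_congr rfl (fun ψ _ => ?_)
      rw [smul_smul]
    rw [Finset.sum_congr rfl h4, Finset.sum_comm]
    refine Finset.sum_congr rfl (fun ψ _ => ?_)
    rw [Finset.sum_smul]
  -- linear independence
  have h5 : ∑ i : S, (∑ χ ∈ T, (χ : G → ℂ) y * (d χ (i : G → ℂ) : ℂ)) • (i : G → ℂ) = 0 := by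
    rw [← h3]
    exact Finset.sum_coe_sort S (fun ψ => (∑ χ ∈ T, (χ : G → ℂ) y * (d χ ψ : ℂ)) • ψ)
  have h6 := (Fintype.linearIndependent_iff.mp hli) _ h5 ⟨φ, hφ⟩
  rw [← h6]
  refine Finset.sum_congr rfl (fun χ _ => ?_)
  exact mul_comm _ _

end Cfsg.Agent.Helper61.PL1
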