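import Mathlib
import Cfsg.Agent.Helper16.DT.Defs
import Cfsg.Agent.Helper30.DT_TEI
import Cfsg.Agent.Helper70.DT_E4a

/-!
helper3 PL1 farm (S4711), piece (POS) (helper61): an irreducible Brauer character is a sum of at most `φ 1`
complex numbers of absolute value at most one.
-/

set_option autoImplicit false
set_option linter.unusedSectionVars false
set_option linter.unusedVariables false

namespace Cfsg.Agent.Helper61.PL1

open Cfsg Cfsg.Agent.Helper16 Cfsg.Agent.Helper16.DT

universe u

variable {p : ℕ} [Fact p.Prime] {M : Ideal AlgInt} {G : Type u} [Group G]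

/-- a Teichmüller lift has absolute value at most one -/
theorem POS_norm_teich_le [M.IsMaximal] (hpM : (p : AlgInt) ∈ M) (y : AlgInt ⧸ M) :
    ‖teich p M y‖ ≤ 1 := by
  by_cases hy : y = 0
  · rw [hy, Cfsg.Agent.Helper30.DT.teich_zero]
    simp
  · obtain ⟨x, ⟨m, hm, hxm⟩, -, ht⟩ := Cfsg.Agent.Helper30.DT.teich_spec hpM hy
    rw [ht]
    have hm0 : m ≠ 0 := by
      rintro rfl
      exact hm (dvd_zero p)
    exact (Complex.norm_eq_one_of_pow_eq_one hxm hm0).le

/-- a complex number of absolute value at most one and real part one is one -/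
theorem POS_eq_one_of_re {z : ℂ} (hz : ‖z‖ ≤ 1) (hre : z.re = 1) : z = 1 := by
  have h1 : ‖z‖ ^ 2 ≤ 1 := by
    have h0 : 0 ≤ ‖z‖ := norm_nonneg z
    nlinarith
  rw [← Complex.normSq_eq_norm_sq, Complex.normSq_apply, hre] at h1
  have him : z.im = 0 := by
    have h2 : z.im * z.im ≤ 0 := by linarith
    have h3 : 0 ≤ z.im * z.im := mul_self_nonneg _
    exact mul_self_eq_zero.mp (le_antisymm h2 h3)
  exact Complex.ext (by simp [hre]) (by simp [him])

/-- the real part of a sum of complex numbers of absolute value at most one -/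
theorem POS_multiset (s : Multiset ℂ) (hs : ∀ z ∈ s, ‖z‖ ≤ 1) :
    (s.sum).re ≤ (Multiset.card s : ℝ) ∧
      ((s.sum).re = (Multiset.card s : ℝ) → ∀ z ∈ s, z = 1) := by
  induction s using Multiset.induction_on with
  | empty => simp
  | cons a s ih =>
    have hsa : ‖a‖ ≤ 1 := hs a (Multiset.mem_cons_self a s)
    have hs' : ∀ z ∈ s, ‖z‖ ≤ 1 := fun z hz => hs z (Multiset.mem_cons_of_mem hz)
    obtain ⟨ih1, ih2⟩ := ih hs'
    have hare : a.re ≤ 1 := (Complex.re_le_norm a).trans hsa
    rw [Multiset.sum_cons, Complex.add_re, Multiset.card_cons]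
    push_cast
    constructor
    · linarith
    · intro heq
      have h1 : a.re = 1 := by linarith
      have h2 : (s.sum).re = (Multiset.card s : ℝ) := by linarith
      intro z hz
      rcases Multiset.mem_cons.mp hz with rfl | hz'
      · exact POS_eq_one_of_re hsa h1
      · exact ih2 h2 z hz'

/-- a sum of at most `n` complex numbers of absolute value at most one -/
theorem POS_sum_le (s : Multiset ℂ) (hs : ∀ z ∈ s, ‖z‖ ≤ 1) (n : ℕ) (hn : Multiset.card s ≤ n) :
    (s.sum).re ≤ (n : ℝ) ∧ ((s.sum).re = (n : ℝ) → s.sum = (n : ℂ)) := by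
  obtain ⟨h1, h2⟩ := POS_multiset s hs
  have hn' : (Multiset.card s : ℝ) ≤ (n : ℝ) := by exact_mod_cast hn
  constructor
  · linarith
  · intro heq
    have hc : (Multiset.card s : ℝ) = (n : ℝ) := by linarith
    have hc' : Multiset.card s = n := by exact_mod_cast hc
    have hall := h2 (by rw [heq, hc])
    have hrep : s = Multiset.replicate (Multiset.card s) 1 :=
      Multiset.eq_replicate.mpr ⟨rfl, hall⟩
    rw [hrep, Multiset.sum_replicate, hc']
    simp

/-- (POS) an irreducible Brauer character is a sum of at most `φ 1` complex numbers of absolute value at most one. -/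
theorem POS [M.IsMaximal] (hpM : (p : AlgInt) ∈ M) {φ : G → ℂ} (hφ : φ ∈ IBr p M G) (x : G) :
    (φ x).re ≤ (φ 1).re ∧ ((φ x).re = (φ 1).re → φ x = φ 1) := by
  classical
  obtain ⟨n, ρ, hirr, rfl⟩ := hφ
  have hp : p.Prime := Fact.out
  have hn : 0 < n := Fin.pos_iff_nonempty.mpr hirr.1
  have hreg1 : IsPRegular p (1 : G) := by
    unfold IsPRegular
    rw [orderOf_one]
    exact fun h => hp.one_lt.ne' (Nat.dvd_one.mp h)
  have h1 : brauerChar p M ρ 1 = (n : ℂ) := by
    unfold brauerChar pRegularPart
    rw [if_pos hreg1, Cfsg.Agent.Helper70.DT.E4_brauerFull_one hpM ρ, Fintype.card_fin]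
  rw [h1]
  have hnre : ((n : ℂ)).re = (n : ℝ) := Complex.natCast_re n
  rw [hnre]
  by_cases hx : IsPRegular p x
  · have h2 : brauerChar p M ρ x = (((ρ x).charpoly.roots).map (teich p M)).sum := by
      unfold brauerChar pRegularPart
      rw [if_pos hx]
      rfl
    rw [h2]
    apply POS_sum_le
    · intro z hz
      obtain ⟨y, -, rfl⟩ := Multiset.mem_map.mp hz
      exact POS_norm_teich_le hpM y
    · rw [Multiset.card_map]
      calc Multiset.card (ρ x).charpoly.roots ≤ (ρ x).charpoly.natDegree :=
            Polynomial.card_roots' _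
        _ = n := by rw [Matrix.charpoly_natDegree_eq_dim, Fintype.card_fin]
  · have h2 : brauerChar p M ρ x = 0 := by
      unfold brauerChar pRegularPart
      rw [if_neg hx]
    rw [h2, Complex.zero_re]
    constructor
    · exact Nat.cast_nonneg n
    · intro h0
      exfalso
      have : (n : ℝ) = 0 := h0.symm
      have hn0 : n = 0 := by exact_mod_cast this
      omega

end Cfsg.Agent.Helper61.PL1
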