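import Mathlib
import Cfsg.Agent.Helper99.Pron.Defs

/-!
helper99 S2225/S2226 block II, pieces (SLP), (SUP): common abstract core (helper61).

`pack_core`: for an injective hom `ι : H →* GL (Fin n) F` whose image consists of determinant one
matrices and contains `W ⊓ SLs`, the subgroup `S₁ = (W ⊓ SLs).comap ι` is a `2`-group whose
normaliser is `(odd central) ⊔ S₁`.
-/

set_option autoImplicit false

namespace Cfsg.Agent.Helper61.Pron

open Matrix Cfsg.Agent.Helper99.Pron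

/-- the central elements of odd order -/
def oddCenter (H : Type*) [Group H] : Subgroup H where
  carrier := {z | z ∈ Subgroup.center H ∧ Odd (orderOf z)}
  one_mem' := ⟨one_mem _, by simp⟩
  mul_mem' := by
    rintro a b ⟨ha, hoa⟩ ⟨hb, hob⟩
    refine ⟨mul_mem ha hb, ?_⟩
    have hc : Commute a b := (Subgroup.mem_center_iff.mp ha b).symm
    have h1 := hc.orderOf_mul_dvd_lcm
    have h2 : orderOf (a * b) ∣ orderOf a * orderOf b := h1.trans (Nat.lcm_dvd_mul _ _)
    exact Odd.of_dvd_nat (hoa.mul hob) h2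
  inv_mem' := by
    rintro a ⟨ha, hoa⟩
    exact ⟨inv_mem ha, by rwa [orderOf_inv]⟩

theorem mem_oddCenter {H : Type*} [Group H] {z : H} :
    z ∈ oddCenter H ↔ z ∈ Subgroup.center H ∧ Odd (orderOf z) := Iff.rfl

theorem oddCenter_le (H : Type*) [Group H] : oddCenter H ≤ Subgroup.center H := fun _ h => h.1

theorem odd_card_oddCenter (H : Type*) [Group H] [Finite H] : Odd (Nat.card (oddCenter H)) := by
  rw [← Nat.not_even_iff_odd, even_iff_two_dvd]
  intro h2
  haveI : Fact (Nat.Prime 2) := ⟨Nat.prime_two⟩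
  obtain ⟨z, hz⟩ := exists_prime_orderOf_dvd_card' 2 h2
  have h3 : orderOf (z : H) = 2 := by rw [Subgroup.orderOf_coe]; exact hz
  have h4 : Odd (orderOf (z : H)) := z.2.2
  rw [h3] at h4
  exact absurd h4 (by decide)

/-- an element of `2`-power order and odd order is trivial -/
theorem eq_one_of_two_pow_of_odd {A : Type*} [Monoid A] (x : A) (k : ℕ) (h : x ^ (2 ^ k) = 1)
    (ho : Odd (orderOf x)) : x = 1 := by
  have h1 : orderOf x ∣ 2 ^ k := orderOf_dvd_of_pow_eq_one h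
  have h2 : Nat.Coprime (orderOf x) (2 ^ k) := by
    apply Nat.Coprime.pow_right
    exact (Nat.coprime_two_right.mpr ho)
  have h3 : orderOf x = 1 := Nat.Coprime.eq_one_of_dvd h2 h1
  exact orderOf_eq_one_iff.mp h3

/-- (PARTS), local copy: `2`-part and odd part of an element of finite order. -/
theorem two_odd_parts {A : Type*} [Group A] (l : A) (hl : 0 < orderOf l) :
    ∃ s t : ℕ, (∃ k : ℕ, (l ^ s) ^ (2 ^ k) = 1) ∧ Odd (orderOf (l ^ t)) ∧ l = l ^ s * l ^ t := by
  obtain ⟨a, m, hm, hN⟩ := Nat.exists_eq_two_pow_mul_odd (Nat.pos_iff_ne_zero.mp hl)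
  have hcop : Nat.Coprime (2 ^ a) m :=
    Nat.Coprime.pow_left _ (Nat.coprime_two_left.mpr hm)
  obtain ⟨s, hs1, hs2⟩ := Nat.chineseRemainder hcop 1 0
  obtain ⟨t, ht1, ht2⟩ := Nat.chineseRemainder hcop 0 1
  refine ⟨s, t, ⟨a, ?_⟩, ?_, ?_⟩
  · rw [← pow_mul]
    apply orderOf_dvd_iff_pow_eq_one.mp
    rw [hN, mul_comm s]
    exact Nat.mul_dvd_mul_left _ ((Nat.modEq_zero_iff_dvd).mp hs2)
  · have h1 : (l ^ t) ^ m = 1 := by
      rw [← pow_mul]
      apply orderOf_dvd_iff_pow_eq_one.mp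
      rw [hN]
      exact Nat.mul_dvd_mul ((Nat.modEq_zero_iff_dvd).mp ht1) dvd_rfl
    exact Odd.of_dvd_nat hm (orderOf_dvd_of_pow_eq_one h1)
  · rw [← pow_add]
    conv_lhs => rw [← pow_one l]
    rw [pow_eq_pow_iff_modEq, hN]
    apply (Nat.modEq_and_modEq_iff_modEq_mul hcop).mp
    constructor
    · have := hs1.add ht1
      simpa using this.symm
    · have := hs2.add ht2
      simpa using this.symm

variable {F : Type*} [Field F]

theorem sc_pow {ι : Type*} [Fintype ι] [DecidableEq ι] (l : Fˣ) (k : ℕ) :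
    (sc (l ^ k) : GL ι F) = sc l ^ k := map_pow (scHom ι F) l k

theorem det_sc (n : ℕ) (l : Fˣ) :
    Matrix.GeneralLinearGroup.det (sc l : GL (Fin n) F) = l ^ n := by
  apply Units.ext
  rw [Matrix.GeneralLinearGroup.val_det_apply, sc_val, Matrix.det_smul, Matrix.det_one, mul_one,
    Fintype.card_fin, Units.val_pow_eq_pow_val]

theorem mem_SLs_iff_det {ι : Type*} [Fintype ι] [DecidableEq ι] {g : GL ι F} :
    g ∈ SLs ι F ↔ Matrix.GeneralLinearGroup.det g = 1 := Iff.rfl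

/-- the common core of (SLP) and (SUP) -/
theorem pack_core [Finite F] {H : Type*} [Group H] [Finite H] (n : ℕ) (ι : H →* GL (Fin n) F)
    (hι : Function.Injective ι) (W : Subgroup (GL (Fin n) F))
    (hW2 : ∀ g ∈ W, ∃ k : ℕ, g ^ (2 ^ k) = 1)
    (hN : ∀ x ∈ Subgroup.normalizer ((W ⊓ SLs (Fin n) F : Subgroup (GL (Fin n) F)) :
      Set (GL (Fin n) F)), ∃ l : Fˣ, ∃ w ∈ W, x = sc l * w)
    (good : Fˣ → Prop) (hgood_pow : ∀ (l : Fˣ) (k : ℕ), good l → good (l ^ k))
    (hs : ∀ l : Fˣ, good l → (∃ k : ℕ, l ^ (2 ^ k) = 1) → (sc l : GL (Fin n) F) ∈ W)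
    (hrange : ∀ g ∈ W ⊓ SLs (Fin n) F, ∃ s : H, ι s = g)
    (hdet : ∀ s : H, ι s ∈ SLs (Fin n) F)
    (hgoodx : ∀ (x : H) (l : Fˣ), ∀ w ∈ W, ι x = sc l * w → good l)
    (hlift : ∀ l : Fˣ, good l → l ^ n = 1 → ∃ z : H, ι z = sc l) :
    ∃ (S₁ Z₀ : Subgroup H), IsPGroup 2 S₁ ∧ Z₀ ≤ Subgroup.center H ∧ Odd (Nat.card Z₀) ∧
      Subgroup.normalizer (S₁ : Set H) ≤ Z₀ ⊔ S₁ := by
  refine ⟨(W ⊓ SLs (Fin n) F).comap ι, oddCenter H, ?_, oddCenter_le H, odd_card_oddCenter H, ?_⟩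
  · rintro ⟨g, hg⟩
    obtain ⟨k, hk⟩ := hW2 (ι g) (Subgroup.mem_comap.mp hg).1
    refine ⟨k, ?_⟩
    apply Subtype.ext
    apply hι
    rw [Subgroup.coe_pow, map_pow, hk, Subgroup.coe_one, map_one]
  · intro x hx
    rw [Subgroup.mem_normalizer_iff] at hx
    -- step 1: `ι x` normalises `W ⊓ SLs`
    have h1 : ι x ∈ Subgroup.normalizer ((W ⊓ SLs (Fin n) F : Subgroup (GL (Fin n) F)) :
        Set (GL (Fin n) F)) := by
      rw [Subgroup.mem_normalizer_iff]
      intro g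
      constructor
      · intro hg
        obtain ⟨s, rfl⟩ := hrange g hg
        have h2 : s ∈ (W ⊓ SLs (Fin n) F).comap ι := Subgroup.mem_comap.mpr hg
        have h3 := (hx s).mp h2
        have h4 := Subgroup.mem_comap.mp h3
        rwa [map_mul, map_mul, map_inv] at h4
      · intro hg
        obtain ⟨s', hs'⟩ := hrange _ hg
        have h2 : s' ∈ (W ⊓ SLs (Fin n) F).comap ι := by
          rw [Subgroup.mem_comap, hs']; exact hg
        have h3 : x * (x⁻¹ * s' * x) * x⁻¹ = s' := by group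
        have h4 : x⁻¹ * s' * x ∈ (W ⊓ SLs (Fin n) F).comap ι := by
          rw [hx (x⁻¹ * s' * x), h3]; exact h2
        have h5 := Subgroup.mem_comap.mp h4
        have h6 : ι (x⁻¹ * s' * x) = g := by
          rw [map_mul, map_mul, map_inv, hs']; group
        rwa [h6] at h5
    obtain ⟨l, w, hw, hxw⟩ := hN (ι x) h1
    have hgl : good l := hgoodx x l w hw hxw
    have hlpos : 0 < orderOf l := orderOf_pos l
    obtain ⟨s, t, ⟨k, hk⟩, hodd, hst⟩ := two_odd_parts l hlpos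
    -- determinants
    obtain ⟨k', hk'⟩ := hW2 w hw
    have hd1 : Matrix.GeneralLinearGroup.det (ι x) = 1 := mem_SLs_iff_det.mp (hdet x)
    have hd2 : l ^ n * Matrix.GeneralLinearGroup.det w = 1 := by
      rw [← det_sc n l, ← map_mul, ← hxw, hd1]
    have hd3 : (Matrix.GeneralLinearGroup.det w) ^ (2 ^ k') = 1 := by
      rw [← map_pow, hk', map_one]
    have hd4 : (l ^ n) ^ (2 ^ k') = 1 := by
      have : l ^ n = (Matrix.GeneralLinearGroup.det w)⁻¹ := eq_inv_of_mul_eq_one_left hd2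
      rw [this, inv_pow, hd3, inv_one]
    have hd5 : ((l ^ t) ^ n) ^ (2 ^ k') = 1 := by
      have : ((l ^ t) ^ n) ^ (2 ^ k') = ((l ^ n) ^ (2 ^ k')) ^ t := by
        simp only [← pow_mul]
        congr 1
        ring
      rw [this, hd4, one_pow]
    have hd6 : (l ^ t) ^ n = 1 := by
      apply eq_one_of_two_pow_of_odd _ k' hd5
      exact Odd.of_dvd_nat hodd (orderOf_pow_dvd n)
    obtain ⟨z, hz⟩ := hlift (l ^ t) (hgood_pow l t hgl) hd6
    have hzc : z ∈ Subgroup.center H := by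
      rw [Subgroup.mem_center_iff]
      intro h
      apply hι
      rw [map_mul, map_mul, hz, sc_comm]
    have hzo : Odd (orderOf z) := by
      have h2 : orderOf z ∣ orderOf (l ^ t) := by
        apply orderOf_dvd_of_pow_eq_one
        apply hι
        rw [map_pow, hz, ← sc_pow, pow_orderOf_eq_one, sc_one, map_one]
      exact Odd.of_dvd_nat hodd h2
    have hzZ : z ∈ oddCenter H := ⟨hzc, hzo⟩
    have hw' : sc (l ^ s) * w ∈ W := W.mul_mem (hs _ (hgood_pow l s hgl) ⟨k, hk⟩) hw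
    have h7 : ι (z⁻¹ * x) = sc (l ^ s) * w := by
      have hsc : (sc l : GL (Fin n) F) = sc (l ^ t) * sc (l ^ s) := by
        rw [← sc_mul, mul_comm, ← hst]
      rw [map_mul, map_inv, hz, hxw, hsc, mul_assoc, inv_mul_cancel_left]
    have h8 : z⁻¹ * x ∈ (W ⊓ SLs (Fin n) F).comap ι := by
      rw [Subgroup.mem_comap, Subgroup.mem_inf]
      exact ⟨by rw [h7]; exact hw', hdet _⟩
    have h9 : x = z * (z⁻¹ * x) := by group
    rw [h9]
    exact Subgroup.mul_mem_sup hzZ h8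

end Cfsg.Agent.Helper61.Pron
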