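import Mathlib
import Cfsg.Prelude.Def_HallClasses
import Cfsg.Prelude.Def_Classical
import Cfsg.Agent.Helper99.Pron.Defs
import Cfsg.Agent.Helper61.PronCore

/-!
helper99 S2225/S2226 block II, piece (SLP) (helper61): the Sylow package in `SL (Fin n) F`.
Name + statement verbatim from `tools/helper99_s2225/SkelII.lean.txt`.
-/

set_option autoImplicit false

namespace Cfsg.Agent.Helper61.Pron

open Matrix Cfsg.Agent.Helper99.Pron

variable {F : Type*} [Field F]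

/-- (SLP) the Sylow package in `SL (Fin n) F`. `S₁ := (W ⊓ SLs).comap toGL`. -/
theorem sl_pack [Fintype F] (n : ℕ) (W : Subgroup (GL (Fin n) F))
    (hW2 : ∀ g ∈ W, ∃ k : ℕ, g ^ (2 ^ k) = 1)
    (hN : ∀ x ∈ Subgroup.normalizer ((W ⊓ SLs (Fin n) F : Subgroup (GL (Fin n) F)) :
      Set (GL (Fin n) F)), ∃ l : Fˣ, ∃ w ∈ W, x = sc l * w)
    (hs : ∀ l : Fˣ, (∃ k : ℕ, l ^ (2 ^ k) = 1) → (sc l : GL (Fin n) F) ∈ W) :
    ∃ (S₁ Z₀ : Subgroup (Matrix.SpecialLinearGroup (Fin n) F)), IsPGroup 2 S₁ ∧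
      Z₀ ≤ Subgroup.center (Matrix.SpecialLinearGroup (Fin n) F) ∧ Odd (Nat.card Z₀) ∧
      Subgroup.normalizer (S₁ : Set (Matrix.SpecialLinearGroup (Fin n) F)) ≤ Z₀ ⊔ S₁ := by
  classical
  haveI : Finite (Matrix.SpecialLinearGroup (Fin n) F) :=
    Finite.of_injective (fun A : Matrix.SpecialLinearGroup (Fin n) F => A.1) Subtype.val_injective
  refine pack_core n (Matrix.SpecialLinearGroup.toGL) Matrix.SpecialLinearGroup.toGL_injective W
    hW2 hN (fun _ => True) (fun _ _ _ => trivial) (fun l _ hk => hs l hk) ?_ ?_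
    (fun _ _ _ _ _ => trivial) ?_
  · rintro g ⟨hgW, hgS⟩
    refine ⟨⟨(g : Matrix (Fin n) (Fin n) F), mem_SLs.mp hgS⟩, ?_⟩
    apply Units.ext
    rfl
  · intro s
    rw [mem_SLs]
    exact s.2
  · intro l _ hl
    refine ⟨⟨(l : F) • (1 : Matrix (Fin n) (Fin n) F), ?_⟩, ?_⟩
    · rw [Matrix.det_smul, Matrix.det_one, mul_one, Fintype.card_fin, ← Units.val_pow_eq_pow_val,
        hl, Units.val_one]
    · apply Units.ext
      rfl

end Cfsg.Agent.Helper61.Pron
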