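import Mathlib
import Cfsg.Prelude.Def_HallClasses
import Cfsg.Prelude.Def_Classical
import Cfsg.Agent.Helper99.Pron.Defs
import Cfsg.Agent.Helper61.PronCore
import Cfsg.Agent.Helper45.SUBasic

/-!
helper99 S2225/S2226 block II, piece (SUP) (helper61): the Sylow package in `SU n F q`.
Name + statement verbatim from `tools/helper99_s2225/SkelII.lean.txt`.
-/

set_option autoImplicit false

namespace Cfsg.Agent.Helper61.Pron

open Matrix Cfsg.Agent.Helper99.Pron

variable {F : Type*} [Field F]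

/-- membership in `Cfsg.SU` as the matrix condition `Uq` -/
theorem mem_SU_iff_Uq [Fintype F] {q n : ℕ} (hF : Fintype.card F = q ^ 2)
    (x : Matrix.SpecialLinearGroup (Fin n) F) :
    x ∈ Cfsg.SU n F q ↔ Uq q (x : Matrix (Fin n) (Fin n) F) := by
  obtain ⟨bar, hbar⟩ := Cfsg.Agent.Helper45.GU.exists_bar hF
  have hmap : (x : Matrix (Fin n) (Fin n) F).map (· ^ q) =
      (x : Matrix (Fin n) (Fin n) F).map bar := by
    ext i j
    simp [hbar]
  rw [Cfsg.Agent.Helper45.GU.mem_SU_iff n bar hbar x]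
  unfold Uq
  rw [hmap]
  constructor
  · intro h
    exact Cfsg.Agent.Helper45.GU.unitary_of_herm bar _ h
  · intro h u v
    rw [Cfsg.Agent.Helper45.GU.herm_mulVec, h, one_mulVec, Cfsg.Agent.Helper45.GU.herm_eq]

/-- `Uq` of a scalar multiple of a unitary matrix -/
theorem Uq_smul_iff [Fintype F] {q n : ℕ} (hF : Fintype.card F = q ^ 2) (hn : 0 < n) (l : F)
    (w : Matrix (Fin n) (Fin n) F) (hw : Uq q w) : Uq q (l • w) ↔ l ^ (q + 1) = 1 := by
  unfold Uq at hw ⊢
  have h1 : (l • w).map (· ^ q) = l ^ q • w.map (· ^ q) := by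
    ext i j
    simp [mul_pow]
  rw [h1, Matrix.transpose_smul, Matrix.smul_mul, Matrix.mul_smul, smul_smul, hw, ← pow_succ']
  constructor
  · intro h
    have := congrFun (congrFun h ⟨0, hn⟩) ⟨0, hn⟩
    simpa using this
  · intro h
    rw [h, one_smul]

/-- (SUP) the Sylow package in `SU n F q`. -/
theorem su_pack [Fintype F] (q n : ℕ) (hF : Fintype.card F = q ^ 2)
    (W : Subgroup (GL (Fin n) F))
    (hW2 : ∀ g ∈ W, ∃ k : ℕ, g ^ (2 ^ k) = 1)
    (hN : ∀ x ∈ Subgroup.normalizer ((W ⊓ SLs (Fin n) F : Subgroup (GL (Fin n) F)) :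
      Set (GL (Fin n) F)), ∃ l : Fˣ, ∃ w ∈ W, x = sc l * w)
    (hs : ∀ l : Fˣ, l ^ (q + 1) = 1 → (∃ k : ℕ, l ^ (2 ^ k) = 1) → (sc l : GL (Fin n) F) ∈ W)
    (hU : ∀ g ∈ W, Uq q (g : Matrix (Fin n) (Fin n) F)) :
    ∃ (S₁ Z₀ : Subgroup (Cfsg.SU n F q)), IsPGroup 2 S₁ ∧
      Z₀ ≤ Subgroup.center (Cfsg.SU n F q) ∧ Odd (Nat.card Z₀) ∧
      Subgroup.normalizer (S₁ : Set (Cfsg.SU n F q)) ≤ Z₀ ⊔ S₁ := by
  classical
  haveI : Finite (Matrix.SpecialLinearGroup (Fin n) F) :=
    Finite.of_injective (fun A : Matrix.SpecialLinearGroup (Fin n) F => A.1) Subtype.val_injective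
  rcases Nat.eq_zero_or_pos n with hn | hn
  · subst hn
    haveI : Subsingleton (Matrix.SpecialLinearGroup (Fin 0) F) :=
      ⟨fun a b => Subtype.ext (Subsingleton.elim _ _)⟩
    haveI : Subsingleton (Cfsg.SU 0 F q) := ⟨fun a b => Subtype.ext (Subsingleton.elim _ _)⟩
    refine ⟨⊥, ⊥, IsPGroup.of_bot, bot_le, by simp, ?_⟩
    intro x _
    rw [Subsingleton.elim x 1]
    exact one_mem _
  · have hone : Uq q (1 : Matrix (Fin n) (Fin n) F) := by
      have := (mem_SU_iff_Uq hF (1 : Matrix.SpecialLinearGroup (Fin n) F)).mp (one_mem _)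
      simpa using this
    refine pack_core n ((Matrix.SpecialLinearGroup.toGL).comp (Cfsg.SU n F q).subtype)
      (Matrix.SpecialLinearGroup.toGL_injective.comp Subtype.val_injective) W
      hW2 hN (fun l => l ^ (q + 1) = 1) ?_ hs ?_ ?_ ?_ ?_
    · intro l k hl
      show (l ^ k) ^ (q + 1) = 1
      rw [← pow_mul, mul_comm, pow_mul, hl, one_pow]
    · rintro g ⟨hgW, hgS⟩
      have hs0 : ((⟨(g : Matrix (Fin n) (Fin n) F), mem_SLs.mp hgS⟩ :
          Matrix.SpecialLinearGroup (Fin n) F)) ∈ Cfsg.SU n F q :=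
        (mem_SU_iff_Uq hF _).mpr (hU g hgW)
      refine ⟨⟨_, hs0⟩, ?_⟩
      apply Units.ext
      rfl
    · intro s
      rw [mem_SLs]
      exact s.1.2
    · intro x l w hw hxw
      have h1 : Uq q ((x : Matrix.SpecialLinearGroup (Fin n) F) : Matrix (Fin n) (Fin n) F) :=
        (mem_SU_iff_Uq hF x.1).mp x.2
      have h2 : ((x : Matrix.SpecialLinearGroup (Fin n) F) : Matrix (Fin n) (Fin n) F) =
          (l : F) • (w : Matrix (Fin n) (Fin n) F) := by
        have := congrArg (fun g : GL (Fin n) F => (g : Matrix (Fin n) (Fin n) F)) hxw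
        simpa using this
      rw [h2, Uq_smul_iff hF hn _ _ (hU w hw)] at h1
      apply Units.ext
      rw [Units.val_pow_eq_pow_val, h1, Units.val_one]
    · intro l hl hln
      have h1 : Uq q ((l : F) • (1 : Matrix (Fin n) (Fin n) F)) := by
        rw [Uq_smul_iff hF hn _ _ hone, ← Units.val_pow_eq_pow_val, hl, Units.val_one]
      have hdet : ((l : F) • (1 : Matrix (Fin n) (Fin n) F)).det = 1 := by
        rw [Matrix.det_smul, Matrix.det_one, mul_one, Fintype.card_fin,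
          ← Units.val_pow_eq_pow_val, hln, Units.val_one]
      have hs0 : ((⟨(l : F) • (1 : Matrix (Fin n) (Fin n) F), hdet⟩ :
          Matrix.SpecialLinearGroup (Fin n) F)) ∈ Cfsg.SU n F q :=
        (mem_SU_iff_Uq hF _).mpr h1
      refine ⟨⟨_, hs0⟩, ?_⟩
      apply Units.ext
      rfl

end Cfsg.Agent.Helper61.Pron
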