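import Cfsg.Agent.Helper61.ZpCore
import Cfsg.Agent.Helper61.Orbital
import Cfsg.Agent.Helper61.DihDefs

/-!
# Overgroups of `PSL(2,p)` inside the alternating group of degree `p + 1`: definitions (S3616)
-/

set_option autoImplicit false

namespace Cfsg.Agent.Helper61.Psl

open Equiv MulAction Cfsg.Agent.Helper61.Zp

/-- extension of a permutation to `Option α`, fixing `none` -/
def optHom (α : Type*) : Perm α →* Perm (Option α) where
  toFun := Equiv.optionCongr
  map_one' := Equiv.optionCongr_one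
  map_mul' := fun f g => by
    ext x : 1
    cases x <;> simp

theorem optHom_apply_some {α : Type*} (σ : Perm α) (x : α) : optHom α σ (some x) = some (σ x) := by
  simp [optHom]

theorem optHom_apply_none {α : Type*} (σ : Perm α) : optHom α σ none = none := by
  simp [optHom]

/-- the stabiliser of `none` (= infinity) as a group of permutations of `α` -/
def stabInf {α : Type*} (𝔛 : Subgroup (Perm (Option α))) : Subgroup (Perm α) :=
  𝔛.comap (optHom α)

theorem mem_stabInf {α : Type*} {𝔛 : Subgroup (Perm (Option α))} {σ : Perm α} :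
    σ ∈ stabInf 𝔛 ↔ optHom α σ ∈ 𝔛 := Iff.rfl

variable {p : ℕ} [Fact p.Prime]

/-- `𝔛` is a group of even permutations of the projective line properly containing the standard
copy `Γ` of `PSL(2,p)`. -/
structure Over (𝔛 Γ : Subgroup (Perm (Option (ZMod p)))) : Prop where
  zg : ZGroup Γ
  simple : IsSimpleGroup Γ
  nonab : ¬ IsMulCommutative Γ
  le : Γ ≤ 𝔛
  ne : Γ ≠ 𝔛
  even : ∀ g ∈ 𝔛, Perm.sign g = 1

/-- `x ↦ -1/x` on the nonzero points -/
def negInvV (G : Subgroup (Perm (ZMod p))) :
    Perm ↥(SubMulAction.ofStabilizer ↥G (0 : ZMod p)) where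
  toFun v := ⟨-(v.1)⁻¹, by
    rw [SubMulAction.mem_ofStabilizer_iff]
    have hv : v.1 ≠ 0 := (SubMulAction.mem_ofStabilizer_iff _ _).mp v.2
    exact neg_ne_zero.mpr (inv_ne_zero hv)⟩
  invFun v := ⟨-(v.1)⁻¹, by
    rw [SubMulAction.mem_ofStabilizer_iff]
    have hv : v.1 ≠ 0 := (SubMulAction.mem_ofStabilizer_iff _ _).mp v.2
    exact neg_ne_zero.mpr (inv_ne_zero hv)⟩
  left_inv v := by
    apply Subtype.ext
    simp [inv_neg]
  right_inv v := by
    apply Subtype.ext
    simp [inv_neg]

theorem negInvV_apply (G : Subgroup (Perm (ZMod p)))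
    (v : ↥(SubMulAction.ofStabilizer ↥G (0 : ZMod p))) : (negInvV G v).1 = -(v.1)⁻¹ := rfl

end Cfsg.Agent.Helper61.Psl
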