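import Cfsg.Agent.Helper61.PslPieces
import Cfsg.Agent.Helper61.DihMain
import Cfsg.Agent.Helper61.N2Main
import Cfsg.Agent.S3611
import Cfsg.Agent.S0676

/-!
# Proper overgroups of `PSL(2,p)` in `A_{p+1}` are 4-transitive: the concrete theorem
-/

set_option autoImplicit false

namespace Cfsg.Agent.Helper61.Psl

open Equiv MulAction Cfsg.Agent.Helper61.Zp DihedralGroup Cfsg.Agent.Helper61.Orbital

variable {p : ℕ} [Fact p.Prime]

theorem tr_eq_optHom (b : ZMod p) : tr b = optHom (ZMod p) (Equiv.addRight b) := rfl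

theorem ml_eq_optHom (k : (ZMod p)ˣ) : ml k = optHom (ZMod p) (Units.mulLeft k) := rfl

theorem Over.addRight_mem {𝔛 Γ : Subgroup (Perm (Option (ZMod p)))} (h : Over 𝔛 Γ) (b : ZMod p) :
    (Equiv.addRight b : Perm (ZMod p)) ∈ stabInf 𝔛 := by
  rw [mem_stabInf, ← tr_eq_optHom]
  exact h.le (h.zg.tr_mem' b)

theorem Over.mulLeft_mem {𝔛 Γ : Subgroup (Perm (Option (ZMod p)))} (h : Over 𝔛 Γ)
    {k : (ZMod p)ˣ} (hk : IsSquare k) : (Units.mulLeft k : Perm (ZMod p)) ∈ stabInf 𝔛 := by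
  rw [mem_stabInf, ← ml_eq_optHom]
  exact h.le (h.zg.ml_sq_mem hk)

theorem Over.inv0_mem {𝔛 Γ : Subgroup (Perm (Option (ZMod p)))} (h : Over 𝔛 Γ) :
    (inv0 : Perm (Option (ZMod p))) ∈ 𝔛 := by
  apply h.le
  haveI := h.simple
  have := h.zg.eq_std h.nonab
  have hmem : (inv0 : Perm (Option (ZMod p))) ∈ Std p := by
    refine Or.inr ⟨0, 1, 1, 0, IsSquare.one, IsSquare.one, ?_⟩
    rw [tr_zero, ml_one]
    simp
  rw [← this] at hmem
  exact hmem

theorem Over.isPretransitive {𝔛 Γ : Subgroup (Perm (Option (ZMod p)))} (h : Over 𝔛 Γ) :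
    IsPretransitive ↥𝔛 (Option (ZMod p)) := by
  refine ⟨fun x y => ?_⟩
  obtain ⟨g, hg, hgx⟩ := h.zg.trans x y
  exact ⟨⟨g, h.le hg⟩, hgx⟩

theorem Over.isPretransitive_stabInf {𝔛 Γ : Subgroup (Perm (Option (ZMod p)))} (h : Over 𝔛 Γ) :
    IsPretransitive ↥(stabInf 𝔛) (ZMod p) := by
  refine ⟨fun x y => ⟨⟨Equiv.addRight (y - x), h.addRight_mem _⟩, ?_⟩⟩
  show x + (y - x) = y
  ring


/-- the case `p ≡ 1 (mod 4)` -/
theorem three_trans_of_one {𝔛 Γ : Subgroup (Perm (Option (ZMod p)))} (h : Over 𝔛 Γ)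
    (hp1 : p % 4 = 1) : IsMultiplyPretransitive ↥(stabInf 𝔛) (ZMod p) 3 := by
  have hpp : p.Prime := Fact.out
  have hp2 : p ≠ 2 := by rintro rfl; omega
  haveI := h.isPretransitive_stabInf
  obtain ⟨P, hN⟩ := exists_sylow_normalizer h hp2
  have hns := not_solvable h hp2
  refine Cfsg.Agent.S0676.result (ZMod.card p) (stabInf 𝔛) hns P ?_
  have h1 : p * (p - 1) = 2 * (p * (2 * ((p - 1) / 4))) := by
    have : p - 1 = 4 * ((p - 1) / 4) := by omega
    calc p * (p - 1) = p * (4 * ((p - 1) / 4)) := by rw [← this]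
      _ = _ := by ring
  rw [h1] at hN
  have h2 := Nat.eq_of_mul_eq_mul_left (by norm_num : 0 < 2) hN
  rw [h2]
  exact ⟨p * ((p - 1) / 4), by ring⟩


/-- the case `p ≡ 3 (mod 4)` -/
theorem three_trans_of_three {𝔛 Γ : Subgroup (Perm (Option (ZMod p)))} (h : Over 𝔛 Γ)
    (hp7 : 7 < p) (hp3 : p % 4 = 3) : IsMultiplyPretransitive ↥(stabInf 𝔛) (ZMod p) 3 := by
  classical
  have hpp : p.Prime := Fact.out
  have hp2 : p ≠ 2 := by rintro rfl; omega
  haveI := h.isPretransitive_stabInf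
  obtain ⟨P, hN⟩ := exists_sylow_normalizer h hp2
  have hns := not_solvable h hp2
  have hcard : Nat.card (ZMod p) = p := by rw [Nat.card_eq_fintype_card, ZMod.card]
  rcases Cfsg.Agent.S3611.result (G := ↥(stabInf 𝔛)) (Ω := ZMod p) p hpp hcard inferInstance hns P
    hN hp3 with h3 | h4
  · exact h3
  exfalso
  haveI : Fact (1 < p) := ⟨hpp.one_lt⟩
  have h10 : (1 : ZMod p) ≠ 0 := one_ne_zero
  have h4' := h4 0 1 h10.symm
  obtain ⟨b₁, b₂, hR⟩ := exists_rank3Data_ofStabilizer (G := ↥(stabInf 𝔛)) (0 : ZMod p) 1 h10 h4'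
  haveI hprim : IsPreprimitive ↥(stabilizer ↥(stabInf 𝔛) (0 : ZMod p))
      ↥(SubMulAction.ofStabilizer ↥(stabInf 𝔛) (0 : ZMod p)) :=
    Cfsg.Agent.Helper61.N2.isPreprimitive_stabilizer (ZMod.card p) hp7 hns P hN 0
  haveI : Fintype ↥(SubMulAction.ofStabilizer ↥(stabInf 𝔛) (0 : ZMod p)) := Fintype.ofFinite _
  set a : ↥(SubMulAction.ofStabilizer ↥(stabInf 𝔛) (0 : ZMod p)) :=
    ⟨1, (SubMulAction.mem_ofStabilizer_iff _ _).mpr h10⟩ with ha
  -- the subdegrees are different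
  have hcardV : Fintype.card ↥(SubMulAction.ofStabilizer ↥(stabInf 𝔛) (0 : ZMod p)) = p - 1 := by
    have := SubMulAction.nat_card_ofStabilizer_add_one_eq (G := ↥(stabInf 𝔛)) (0 : ZMod p)
    rw [hcard, Nat.card_eq_fintype_card] at this
    omega
  have hne : Nat.card (orbit (stabilizer ↥(stabilizer ↥(stabInf 𝔛) (0 : ZMod p)) a) b₁) ≠
      Nat.card (orbit (stabilizer ↥(stabilizer ↥(stabInf 𝔛) (0 : ZMod p)) a) b₂) := by
    have := hR.card_eq
    rw [hcardV] at this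
    omega
  -- the dihedral labelling
  have he0 : (p - 1) / 2 ≠ 0 := by omega
  haveI : NeZero ((p - 1) / 2) := ⟨he0⟩
  obtain ⟨ε, hεsq, pt, hptb, hpt1, hptr, hptsr⟩ := exists_pt hp3 hp7 (stabInf 𝔛)
  have hpt1' : pt 1 = a := Subtype.ext hpt1
  -- invariance under multiplication by squares
  have hmulinv : ∀ (k : (ZMod p)ˣ), IsSquare k →
      ∀ x y x' y' : ↥(SubMulAction.ofStabilizer ↥(stabInf 𝔛) (0 : ZMod p)),
        x'.1 = (k : ZMod p) * x.1 → y'.1 = (k : ZMod p) * y.1 →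
        (Orb ↥(stabilizer ↥(stabInf 𝔛) (0 : ZMod p)) a b₁ x' y' ↔
          Orb ↥(stabilizer ↥(stabInf 𝔛) (0 : ZMod p)) a b₁ x y) := by
    intro k hk x y x' y' hx hy
    set g : ↥(stabilizer ↥(stabInf 𝔛) (0 : ZMod p)) :=
      ⟨⟨Units.mulLeft k, h.mulLeft_mem hk⟩, by
        rw [mem_stabilizer_iff]
        show (k : ZMod p) * 0 = 0
        rw [mul_zero]⟩ with hg
    have hx' : x' = g • x := Subtype.ext hx
    have hy' : y' = g • y := Subtype.ext hy
    rw [hx', hy']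
    exact orb_smul g
  -- invariance under `x ↦ -1/x`
  obtain ⟨φ, hφ⟩ := exists_conj 𝔛 h.inv0_mem
  have hwinv := orb_perm_invariant hR hne (negInvV (stabInf 𝔛)) φ hφ
  have hεpow : ∀ n : ℕ, IsSquare (ε ^ n) := fun n => hεsq.pow n
  have hinv : ∀ c d d' : DihedralGroup ((p - 1) / 2),
      Orb ↥(stabilizer ↥(stabInf 𝔛) (0 : ZMod p)) a b₁ (pt (c * d)) (pt (c * d')) ↔
        Orb ↥(stabilizer ↥(stabInf 𝔛) (0 : ZMod p)) a b₁ (pt d) (pt d') := by
    intro c d d'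
    rcases c with j | j
    · exact hmulinv (ε ^ j.val) (hεpow _) (pt d) (pt d') _ _
        (by rw [hptr, Units.val_pow_eq_pow_val]) (by rw [hptr, Units.val_pow_eq_pow_val])
    · -- `pt (sr j * d) = negInv (ε^j * pt d)`
      have key : ∀ d : DihedralGroup ((p - 1) / 2),
          ∃ z : ↥(SubMulAction.ofStabilizer ↥(stabInf 𝔛) (0 : ZMod p)),
            z.1 = ((ε ^ j.val : (ZMod p)ˣ) : ZMod p) * (pt d).1 ∧
              pt (sr j * d) = negInvV (stabInf 𝔛) z := by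
        intro d
        have hz : ((ε ^ j.val : (ZMod p)ˣ) : ZMod p) * (pt d).1 ≠ 0 := by
          apply mul_ne_zero (Units.ne_zero _)
          exact (SubMulAction.mem_ofStabilizer_iff _ _).mp (pt d).2
        refine ⟨⟨_, (SubMulAction.mem_ofStabilizer_iff _ _).mpr hz⟩, rfl, ?_⟩
        apply Subtype.ext
        rw [hptsr, negInvV_apply]
        show _ = -(((ε ^ j.val : (ZMod p)ˣ) : ZMod p) * (pt d).1)⁻¹
        rw [Units.val_pow_eq_pow_val]
      obtain ⟨z, hz1, hz2⟩ := key d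
      obtain ⟨z', hz1', hz2'⟩ := key d'
      rw [hz2, hz2', hwinv]
      exact hmulinv (ε ^ j.val) (hεpow _) (pt d) (pt d') z z' hz1 hz1'
  obtain ⟨T, k, lam, mu, hT, hmu, hmu'⟩ := exists_isSrgSet hR hne pt hptb hpt1' hinv
  rw [DihedralGroup.card] at hmu'
  have he : Odd ((p - 1) / 2) := by
    rw [Nat.odd_iff]
    omega
  have he1 : 1 < (p - 1) / 2 := by omega
  exact Dih.dihedral_false he he1 T k lam mu hT hmu hmu'


/-- **The concrete theorem.** -/
theorem conc (hp7 : 7 < p) {𝔛 Γ : Subgroup (Perm (Option (ZMod p)))} (h : Over 𝔛 Γ) :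
    IsMultiplyPretransitive ↥𝔛 (Option (ZMod p)) 4 := by
  haveI := h.isPretransitive
  have hpp : p.Prime := Fact.out
  have hodd : p % 2 = 1 := (hpp.eq_two_or_odd).resolve_left (by omega)
  have h3 : IsMultiplyPretransitive ↥(stabInf 𝔛) (ZMod p) 3 := by
    rcases (by omega : p % 4 = 1 ∨ p % 4 = 3) with h1 | h3
    · exact three_trans_of_one h h1
    · exact three_trans_of_three h hp7 h3
  exact multTrans_succ_of_stabInf 𝔛 3 h3

end Cfsg.Agent.Helper61.Psl
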