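import Cfsg.Agent.Helper61.PslDefs
import Cfsg.Agent.Helper12.PslRSRG
import Cfsg.Agent.Helper22.PslSYL
import Cfsg.Agent.Helper22.PslNSOLV
import Cfsg.Agent.Helper40.PslPT
import Cfsg.Agent.Helper48.PslWINV
import Cfsg.Agent.Helper48.PslR3
import Cfsg.Agent.Helper49.PslGAL
import Cfsg.Agent.Helper49.PslODD
import Cfsg.Agent.Helper53.PslTRANS
import Cfsg.Agent.Helper53.PslWCONJ
import Cfsg.Agent.Helper55.PslTRANSPORT
import Cfsg.Agent.Helper97.PslNORM

/-!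
# The group-theoretic pieces for S3616, collected under uniform names

Proved by helper12 (RSRG), helper22 (SYL, NSOLV), helper40 (PT; also helper97), helper48 (WINV, R3),
helper49 (GAL, ODD), helper53 (TRANS, WCONJ), helper55 (TRANSPORT), helper97 (NORM, PT).
-/

set_option autoImplicit false

namespace Cfsg.Agent.Helper61.Psl

open Equiv MulAction Cfsg.Agent.Helper61.Zp DihedralGroup Cfsg.Agent.Helper61.Orbital

theorem sylow_normal_of_solvable {α : Type*} [Fintype α] [DecidableEq α] {p : ℕ} [Fact p.Prime]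
    (hα : Fintype.card α = p) (G : Subgroup (Perm α)) [IsPretransitive G α]
    (hG : Group.IsSolvable G) (P : Sylow p G) : (P : Subgroup G).Normal :=
  Cfsg.Agent.Helper49.Psl.sylow_normal_of_solvable hα G hG P

variable {p : ℕ} [Fact p.Prime]

theorem affine_of_normalizes (g : Perm (ZMod p))
    (h : g * (Equiv.addRight (1 : ZMod p)) * g⁻¹ ∈
      Subgroup.zpowers (Equiv.addRight (1 : ZMod p) : Perm (ZMod p))) :
    ∃ a b : ZMod p, ∀ x, g x = a * x + b :=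
  Cfsg.Agent.Helper97.Psl.affine_of_normalizes g h

theorem isSquare_of_affine_mem (hp2 : p ≠ 2) (H : Subgroup (Perm (ZMod p)))
    (heven : ∀ σ ∈ H, Perm.sign σ = 1) (htr : ∀ b : ZMod p, Equiv.addRight b ∈ H)
    (hml : ∀ k : (ZMod p)ˣ, IsSquare k → (Units.mulLeft k : Perm (ZMod p)) ∈ H)
    {g : Perm (ZMod p)} (hg : g ∈ H) {a b : ZMod p} (hab : ∀ x, g x = a * x + b) :
    IsSquare a :=
  Cfsg.Agent.Helper49.Psl.isSquare_of_affine_mem hp2 H heven htr hml hg hab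

theorem multTrans_succ_of_stabInf {α : Type*} [Finite α] (𝔛 : Subgroup (Perm (Option α)))
    [IsPretransitive 𝔛 (Option α)] (n : ℕ)
    (h : IsMultiplyPretransitive ↥(stabInf 𝔛) α n) :
    IsMultiplyPretransitive ↥𝔛 (Option α) (n + 1) :=
  Cfsg.Agent.Helper53.PslTRANS.multTrans_succ_of_stabInf 𝔛 n h

theorem exists_rank3Data_ofStabilizer {G Ω : Type*} [Group G] [MulAction G Ω] [Finite Ω]
    (α β : Ω) (hβα : β ≠ α)
    (h4 : Nat.card (orbitRel.Quotient ↥(stabilizer G α ⊓ stabilizer G β) Ω) = 4) :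
    ∃ b₁ b₂ : ↥(SubMulAction.ofStabilizer G α),
      Rank3Data ↥(stabilizer G α)
        (⟨β, (SubMulAction.mem_ofStabilizer_iff _ _).mpr hβα⟩ : ↥(SubMulAction.ofStabilizer G α))
        b₁ b₂ :=
  Cfsg.Agent.Helper48.Psl.exists_rank3Data_ofStabilizer α β hβα h4

theorem exists_isSrgSet {G V : Type*} [Group G] [Fintype V] [DecidableEq V] [MulAction G V]
    [hprim : IsPreprimitive G V] {a b₁ b₂ : V} (h : Rank3Data G a b₁ b₂)
    (hne : Nat.card (orbit (stabilizer G a) b₁) ≠ Nat.card (orbit (stabilizer G a) b₂))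
    {D : Type*} [Group D] [Fintype D] [DecidableEq D] (pt : D → V)
    (hpt : Function.Bijective pt) (hpt1 : pt 1 = a)
    (hinv : ∀ c d d' : D, Orb G a b₁ (pt (c * d)) (pt (c * d')) ↔ Orb G a b₁ (pt d) (pt d')) :
    ∃ (T : Finset D) (k lam mu : ℕ),
      Dih.IsSrgSet T k lam mu ∧ 0 < mu ∧ 2 * k < Fintype.card D + lam :=
  Cfsg.Agent.Helper12.PslRSRG.exists_isSrgSet h hne pt hpt hpt1 hinv

theorem orb_perm_invariant {G V : Type*} [Group G] [Fintype V] [DecidableEq V] [MulAction G V]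
    [IsPretransitive G V] {a b₁ b₂ : V} (h : Rank3Data G a b₁ b₂)
    (hne : Nat.card (orbit (stabilizer G a) b₁) ≠ Nat.card (orbit (stabilizer G a) b₂))
    (w : Perm V) (φ : G → G) (hφ : ∀ (g : G) (v : V), φ g • (w v) = w (g • v)) (x y : V) :
    Orb G a b₁ (w x) (w y) ↔ Orb G a b₁ x y :=
  Cfsg.Agent.Helper48.Psl.orb_perm_invariant h hne w φ hφ x y

theorem exists_conj (𝔛 : Subgroup (Perm (Option (ZMod p)))) (hinv0 : inv0 ∈ 𝔛) :
    ∃ φ : ↥(stabilizer ↥(stabInf 𝔛) (0 : ZMod p)) → ↥(stabilizer ↥(stabInf 𝔛) (0 : ZMod p)),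
      ∀ (g : ↥(stabilizer ↥(stabInf 𝔛) (0 : ZMod p)))
        (v : ↥(SubMulAction.ofStabilizer ↥(stabInf 𝔛) (0 : ZMod p))),
        φ g • (negInvV (stabInf 𝔛) v) = negInvV (stabInf 𝔛) (g • v) :=
  Cfsg.Agent.Helper53.PslWCONJ.exists_conj 𝔛 hinv0

theorem exists_pt (hp3 : p % 4 = 3) (hp7 : 7 < p) [NeZero ((p - 1) / 2)]
    (G : Subgroup (Perm (ZMod p))) :
    ∃ ε : (ZMod p)ˣ, IsSquare ε ∧
      ∃ pt : DihedralGroup ((p - 1) / 2) → ↥(SubMulAction.ofStabilizer ↥G (0 : ZMod p)),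
        Function.Bijective pt ∧ (pt 1).1 = 1 ∧
        (∀ (j : ZMod ((p - 1) / 2)) (d : DihedralGroup ((p - 1) / 2)),
          (pt (r j * d)).1 = (ε : ZMod p) ^ j.val * (pt d).1) ∧
        (∀ (j : ZMod ((p - 1) / 2)) (d : DihedralGroup ((p - 1) / 2)),
          (pt (sr j * d)).1 = -((ε : ZMod p) ^ j.val * (pt d).1)⁻¹) :=
  Cfsg.Agent.Helper40.PslPT.exists_pt hp3 hp7 G

theorem exists_sylow_normalizer {𝔛 Γ : Subgroup (Perm (Option (ZMod p)))} (h : Over 𝔛 Γ)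
    (hp2 : p ≠ 2) :
    ∃ P : Sylow p ↥(stabInf 𝔛),
      2 * Nat.card ↥(Subgroup.normalizer ((P : Subgroup ↥(stabInf 𝔛)) : Set ↥(stabInf 𝔛))) =
        p * (p - 1) :=
  Cfsg.Agent.Helper22.Psl.exists_sylow_normalizer_of (fun g hg => affine_of_normalizes g hg)
    (fun hp2 H heven htr hml _ hg _ _ hab => isSquare_of_affine_mem hp2 H heven htr hml hg hab)
    h hp2

theorem not_solvable {𝔛 Γ : Subgroup (Perm (Option (ZMod p)))} (h : Over 𝔛 Γ) (hp2 : p ≠ 2) :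
    ¬ Group.IsSolvable ↥(stabInf 𝔛) :=
  Cfsg.Agent.Helper22.Psl.not_solvable_of
    (fun G _ hG P => sylow_normal_of_solvable (ZMod.card p) G hG P)
    (fun g hg => affine_of_normalizes g hg)
    (fun hp2 H heven htr hml _ hg _ _ hab => isSquare_of_affine_mem hp2 H heven htr hml hg hab)
    h hp2

theorem exists_over {X Ω : Type*} [Group X] [Finite X] [MulAction X Ω] [FaithfulSMul X Ω]
    [Fintype Ω] [DecidableEq Ω] (hp5 : 5 ≤ p) (hΩ : Fintype.card Ω = p + 1)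
    (heven : ∀ x : X, Equiv.Perm.sign (MulAction.toPerm x : Equiv.Perm Ω) = 1)
    (L : Subgroup X)
    (hL : Nonempty (↥L ≃* Matrix.ProjectiveSpecialLinearGroup (Fin 2) (ZMod p)))
    (hLt : MulAction.IsPretransitive ↥L Ω) (hLX : L ≠ ⊤) :
    ∃ (f : Ω ≃ Option (ZMod p)) (𝔛 Γ : Subgroup (Perm (Option (ZMod p)))),
      Over 𝔛 Γ ∧ ∀ g ∈ 𝔛, ∃ x : X, ∀ ω : Ω, g (f ω) = f (x • ω) :=
  Cfsg.Agent.Helper55.Psl.exists_over hp5 hΩ heven L hL hLt hLX

end Cfsg.Agent.Helper61.Psl
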