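import Cfsg.Agent.Helper23.PsuOs.Q2Defs
import Cfsg.Agent.Helper59.PsuM_CPLG
import Cfsg.Agent.Helper59.PsuM_ASM
import Cfsg.Agent.Helper65.PsuM_INV
import Cfsg.Agent.Helper10.PsuM_NRM
import Cfsg.Agent.Helper31.PsuM_KILL

/-!
helper23 OSQ2 farm (S2089, odd specials (5,2), (7,2)), piece (QC3) (helper61): conjugating `cT D τ a b u`
by a lift of `D.x a b t`.  Port of helper48's (C3) `Cfsg.Agent.Helper48.PsuE2.conj_cT` to the abstract
`RootData`.  Name + statement verbatim from `tools/helper23_psuos/Q2Skel.lean.txt`.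
-/

set_option autoImplicit false
set_option linter.unusedSectionVars false
set_option linter.unusedVariables false

namespace Cfsg.Agent.Helper61.PsuOs

open scoped commutatorElement
open Cfsg.Agent.Helper96.StLift
open Cfsg.Agent.Helper5.PsuE2 (F4Facts f4Facts)
open Cfsg.Agent.Helper23.PsuOs

universe u

section group

variable {K : Type u} [Field K] {σ : K →+* K} {G : Type u} [Group G] {m : ℕ} (D : RootData G K m)
  {Γ : Type u} [Group Γ] [Finite Γ] (τ : Γ →* G) (hτ : Function.Surjective τ)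

/-- (C3) conjugating `cT D τ a b u` by a lift of `D.x a b t`. -/
theorem conj_cT (E : Ext2 D τ hτ) (F : F4Facts σ) (R : RootFacts σ D) (hm : 2 ≤ m)
    (L : LiftFacts D τ hτ)
    (hC1 : ∀ a b : Fin m, a ≠ b → ∀ t : K, t ≠ 0 →
      lc hτ (D.x a b t) (D.z b 1) = cT D τ a b t * zt D τ hτ a b)
    (a b : Fin m) (hab : a ≠ b) (t u : K) (g : Γ) (hg : τ g = D.x a b t) :
    g * cT D τ a b u * g⁻¹ = cT D τ a b u ∨ g * cT D τ a b u * g⁻¹ = cT D τ a b u * zt D τ hτ a b := by
  classical
  -- notation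
  obtain ⟨z, hz⟩ := hτ (D.z b 1)
  have hZmap : τ (zt D τ hτ a b) = D.z a 1 := map_zt D τ hτ R hab
  have hZQ : τ (zt D τ hτ a b) ∈ D.Q := by rw [hZmap]; exact R.z_mem a
  have hzQ : τ z ∈ D.Q := by rw [hz]; exact R.z_mem b
  have hCmap : ∀ v : K, τ (cT D τ a b v) = D.c a b v := fun v => map_cT D τ hτ R hab v
  have hCQ : ∀ v : K, τ (cT D τ a b v) ∈ D.Q := fun v => by
    rw [hCmap]; exact R.c_mem a b hab v
  have hZZ : zt D τ hτ a b * zt D τ hτ a b = 1 := L.sq_one _ hZQ
  have hCC : ∀ v : K, cT D τ a b v * cT D τ a b v = 1 := fun v => L.sq_one _ (hCQ v)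
  have cm : ∀ x y : Γ, τ x ∈ D.Q → τ y ∈ D.Q → x * y = y * x :=
    fun x y hx hy => (E.comm x y hx hy).eq
  have hc0 : D.c a b 0 = 1 := by
    have h := R.c_add a b hab 0 0
    rw [add_zero] at h
    have h' : D.c a b 0 * D.c a b 0 = D.c a b 0 * 1 := by rw [mul_one]; exact h.symm
    exact mul_left_cancel h'
  -- (i) the action of a lift of `x_s`, `s ≠ 0`, on `z`
  have hact : ∀ (s : K) (x : Γ), s ≠ 0 → τ x = D.x a b s →
      x * z * x⁻¹ = cT D τ a b s * zt D τ hτ a b * z := by
    intro s x hs hx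
    have h1 : ⁅x, z⁆ = lc hτ (D.x a b s) (D.z b 1) := lc_eq' hτ E.central hx hz
    rw [hC1 a b hab s hs, commutatorElement_def, mul_inv_eq_iff_eq_mul] at h1
    exact h1
  -- (ii) lifts of `x_s` centralise `zt`
  have hZfix : ∀ (s : K) (x : Γ), τ x = D.x a b s → x * zt D τ hτ a b * x⁻¹ = zt D τ hτ a b := by
    intro s x hx
    have h := (L.x_z x (zt D τ hτ a b) a b a s hab hab hx hZmap).eq
    rw [h, mul_inv_cancel_right]
  -- the common rearrangement
  have hrearr : ∀ (X C : Γ), τ C ∈ D.Q →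
      X * zt D τ hτ a b * (C * zt D τ hτ a b * z) = X * C * z := by
    intro X C hC
    calc X * zt D τ hτ a b * (C * zt D τ hτ a b * z)
        = X * (zt D τ hτ a b * C) * zt D τ hτ a b * z := by group
      _ = X * (C * zt D τ hτ a b) * zt D τ hτ a b * z := by rw [cm _ _ hZQ hC]
      _ = X * C * (zt D τ hτ a b * zt D τ hτ a b) * z := by group
      _ = X * C * z := by rw [hZZ, mul_one]
  by_cases ht : t = 0
  · -- `g` is central
    left
    have hgk : g ∈ τ.ker := by rw [MonoidHom.mem_ker, hg, ht, R.x_zero]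
    have hcen := Subgroup.mem_center_iff.1 (E.central hgk) (cT D τ a b u)
    rw [← hcen, mul_inv_cancel_right]
  by_cases hu : u = 0
  · left
    have h1 : (1 : Γ) = cT D τ a b 0 :=
      cT_unique D τ hτ R L.csh_inf hab (Subgroup.one_mem _) (by rw [map_one, hc0])
    rw [hu, ← h1, mul_one, mul_inv_cancel]
  have hDQ : τ (g * cT D τ a b u * g⁻¹) ∈ D.Q := by
    rw [map_mul, map_mul, map_inv, hg]
    exact R.x_norm a b t _ (hCQ u)
  by_cases htu : t = u
  · left
    subst htu
    -- `g * g` is central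
    have hggk : g * g ∈ τ.ker := by
      rw [MonoidHom.mem_ker, map_mul, hg, ← R.x_add, F.two, R.x_zero]
    have hcen := Subgroup.mem_center_iff.1 (E.central hggk) z
    have h1 := hact t g ht hg
    have h2 := hZfix t g hg
    have e1 : g * cT D τ a b t * g⁻¹ * zt D τ hτ a b * (cT D τ a b t * zt D τ hτ a b * z) = z := by
      calc g * cT D τ a b t * g⁻¹ * zt D τ hτ a b * (cT D τ a b t * zt D τ hτ a b * z)
          = (g * cT D τ a b t * g⁻¹) * (g * zt D τ hτ a b * g⁻¹) * (g * z * g⁻¹) := by rw [h2, h1]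
        _ = g * (cT D τ a b t * zt D τ hτ a b * z) * g⁻¹ := by group
        _ = g * (g * z * g⁻¹) * g⁻¹ := by rw [h1]
        _ = z * (g * g) * (g⁻¹ * g⁻¹) := by rw [hcen]; group
        _ = z := by group
    rw [hrearr _ _ (hCQ t)] at e1
    have e2 : g * cT D τ a b t * g⁻¹ * cT D τ a b t = 1 := by
      have : g * cT D τ a b t * g⁻¹ * cT D τ a b t * z = 1 * z := by rw [one_mul]; exact e1
      exact mul_right_cancel this
    calc g * cT D τ a b t * g⁻¹
        = g * cT D τ a b t * g⁻¹ * (cT D τ a b t * cT D τ a b t) := by rw [hCC, mul_one]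
      _ = (g * cT D τ a b t * g⁻¹ * cT D τ a b t) * cT D τ a b t := by group
      _ = cT D τ a b t := by rw [e2, one_mul]
  · right
    have htu0 : t + u ≠ 0 := by
      intro h
      apply htu
      have : t = t + (u + u) := by rw [F.two, add_zero]
      rw [this, ← add_assoc, h, zero_add]
    obtain ⟨g', hg'⟩ := hτ (D.x a b u)
    have hgg' : τ (g * g') = D.x a b (t + u) := by rw [map_mul, hg, hg', R.x_add]
    have h1 := hact t g ht hg
    have h1' := hact u g' hu hg'
    have h1'' := hact (t + u) (g * g') htu0 hgg'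
    have h2 := hZfix t g hg
    have hadd : cT D τ a b t * cT D τ a b u = cT D τ a b (t + u) := by
      apply cT_unique D τ hτ R L.csh_inf hab
        (Subgroup.mul_mem _ (cT_mem D τ hτ R hab t) (cT_mem D τ hτ R hab u))
      rw [map_mul, hCmap, hCmap, R.c_add a b hab]
    have e1 : g * cT D τ a b u * g⁻¹ * zt D τ hτ a b * (cT D τ a b t * zt D τ hτ a b * z)
        = cT D τ a b (t + u) * zt D τ hτ a b * z := by
      calc g * cT D τ a b u * g⁻¹ * zt D τ hτ a b * (cT D τ a b t * zt D τ hτ a b * z)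
          = (g * cT D τ a b u * g⁻¹) * (g * zt D τ hτ a b * g⁻¹) * (g * z * g⁻¹) := by rw [h2, h1]
        _ = g * (cT D τ a b u * zt D τ hτ a b * z) * g⁻¹ := by group
        _ = g * (g' * z * g'⁻¹) * g⁻¹ := by rw [h1']
        _ = (g * g') * z * (g * g')⁻¹ := by group
        _ = cT D τ a b (t + u) * zt D τ hτ a b * z := h1''
    rw [hrearr _ _ (hCQ t), ← hadd] at e1
    have e2 : g * cT D τ a b u * g⁻¹ * cT D τ a b t = cT D τ a b t * cT D τ a b u * zt D τ hτ a b :=
      mul_right_cancel e1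
    have hCuZ : τ (cT D τ a b u * zt D τ hτ a b) ∈ D.Q := by
      rw [map_mul]; exact Subgroup.mul_mem _ (hCQ u) hZQ
    calc g * cT D τ a b u * g⁻¹
        = (g * cT D τ a b u * g⁻¹ * cT D τ a b t) * (cT D τ a b t)⁻¹ := by group
      _ = cT D τ a b t * cT D τ a b u * zt D τ hτ a b * (cT D τ a b t)⁻¹ := by rw [e2]
      _ = cT D τ a b t * (cT D τ a b u * zt D τ hτ a b) * (cT D τ a b t)⁻¹ := by group
      _ = (cT D τ a b u * zt D τ hτ a b) * cT D τ a b t * (cT D τ a b t)⁻¹ := by
          rw [cm _ _ (hCQ t) hCuZ]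
      _ = cT D τ a b u * zt D τ hτ a b := by group

end group

end Cfsg.Agent.Helper61.PsuOs
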