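import Cfsg.Agent.Helper59.SharpK
import Cfsg.Agent.Helper59.MultTrans
import Cfsg.Agent.Helper17.SylowKit
import Cfsg.Agent.Helper61.TwoTrans

set_option autoImplicit false

/-! A sharply 4-transitive group of degree 11 is simple of order 7920 (abstract actions). -/

namespace Cfsg.Agent.Helper61.SharpM

open MulAction Subgroup Cfsg.Agent.Helper61.TwoTrans

variable {G Ω : Type*} [Group G] [MulAction G Ω]

theorem finite_of_faithful' [FaithfulSMul G Ω] [Finite Ω] : Finite G :=
  Finite.of_injective (MulAction.toPermHom G Ω) MulAction.toPerm_injective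

/-- A subgroup of prime order `p` of a group acting faithfully on `p` points is transitive. -/
theorem trans_of_card_prime [Finite Ω] [FaithfulSMul G Ω] (P : Subgroup G) {p : ℕ} (hp : p.Prime)
    (hP : Nat.card P = p) (hΩ : Nat.card Ω = p) : Trans Ω P := by
  classical
  haveI : Finite G := finite_of_faithful' (Ω := Ω)
  have hPne : P ≠ ⊥ := by
    intro h
    rw [h, Subgroup.card_bot] at hP
    exact hp.one_lt.ne hP
  obtain ⟨x, hxP, hx1⟩ : ∃ x ∈ P, x ≠ 1 := by
    obtain ⟨x, hx⟩ := (Subgroup.ne_bot_iff_exists_ne_one).mp hPne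
    exact ⟨x.1, x.2, fun h => hx (Subtype.ext h)⟩
  have hex : ∃ a : Ω, x • a ≠ a := by
    by_contra hall
    push Not at hall
    apply hx1
    apply FaithfulSMul.eq_of_smul_eq_smul (α := Ω)
    intro c
    rw [hall c, one_smul]
  obtain ⟨a, ha⟩ := hex
  -- the orbit of `a` under `P`
  have hidx : (stabilizer P a).index = (orbit P a).ncard := MulAction.index_stabilizer P a
  have hdvd : (orbit P a).ncard ∣ p := by
    rw [← hidx, ← hP]
    exact Subgroup.index_dvd_card _
  have hne1 : (orbit P a).ncard ≠ 1 := by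
    intro h1
    rw [Set.ncard_eq_one] at h1
    obtain ⟨b, hb⟩ := h1
    have h1 : a ∈ orbit P a := mem_orbit_self a
    have h2 : x • a ∈ orbit P a := ⟨⟨x, hxP⟩, rfl⟩
    rw [hb, Set.mem_singleton_iff] at h1 h2
    exact ha (h2.trans h1.symm)
  have hcard : (orbit P a).ncard = p := (Nat.dvd_prime hp).mp hdvd |>.resolve_left hne1
  have huniv : orbit P a = Set.univ := by
    apply Set.eq_of_subset_of_ncard_le (Set.subset_univ _) _ Set.finite_univ
    rw [Set.ncard_univ, hΩ, hcard]
  intro b c
  have hb : b ∈ orbit P a := by rw [huniv]; trivial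
  have hc : c ∈ orbit P a := by rw [huniv]; trivial
  obtain ⟨⟨y, hy⟩, hyb⟩ := hb
  obtain ⟨⟨z, hz⟩, hzc⟩ := hc
  refine ⟨z * y⁻¹, P.mul_mem hz (P.inv_mem hy), ?_⟩
  have hyb' : y • a = b := hyb
  have hzc' : z • a = c := hzc
  rw [mul_smul, ← hyb', inv_smul_smul, hzc']

/-- A transitive abelian subgroup of a faithful group is self-centralizing. -/
theorem centralizer_eq_of_trans [FaithfulSMul G Ω] [Nonempty Ω] (P : Subgroup G) (hP : Trans Ω P)
    (hab : ∀ x ∈ P, ∀ y ∈ P, x * y = y * x) : centralizer (P : Set G) = P := by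
  apply le_antisymm
  · intro c hc
    obtain ⟨a⟩ := ‹Nonempty Ω›
    obtain ⟨y, hy, hya⟩ := hP a (c • a)
    have hcomm : ∀ t ∈ P, (y⁻¹ * c) * t = t * (y⁻¹ * c) := by
      intro t ht
      have h1 : t * c = c * t := (Subgroup.mem_centralizer_iff.mp hc) t ht
      have h2 : y⁻¹ * t = t * y⁻¹ := hab _ (P.inv_mem hy) _ ht
      rw [mul_assoc, ← h1, ← mul_assoc, h2, mul_assoc]
    have hfix : (y⁻¹ * c) • a = a := by rw [mul_smul, ← hya, inv_smul_smul]
    have h1 := eq_one_of_commute_of_fixed hP hcomm hfix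
    have : c = y := by
      have := congrArg (fun z => y * z) h1
      simpa using this
    rw [this]; exact hy
  · intro x hx
    rw [Subgroup.mem_centralizer_iff]
    intro y hy
    exact hab y hy x hx

/-- Order of the normalizer of a Sylow 11-subgroup in a group of order 7920 acting faithfully
on 11 points. -/
theorem card_normalizer_sylow_eleven [Finite Ω] [FaithfulSMul G Ω] [Finite G]
    (hΩ : Nat.card Ω = 11) (hG : Nat.card G = 7920) (P : Sylow 11 G)
    [Fact (Nat.Prime 11)] :
    Nat.card (normalizer ((P : Subgroup G) : Set G)) = 55 := by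
  have hP : Nat.card (P : Subgroup G) = 11 := by
    have := Cfsg.Agent.Helper17.card_sylow_subgroup_of_card_eq (G := G) (p := 11)
      (k := 1) (m := 720) (by rw [hG]; norm_num) (by norm_num) P
    simpa using this
  haveI : Nonempty Ω := by
    rw [← Finite.card_pos_iff, hΩ]; norm_num
  have htr : Trans Ω (P : Subgroup G) :=
    trans_of_card_prime (P : Subgroup G) (by norm_num : Nat.Prime 11) hP hΩ
  have hcyc : IsCyclic (P : Subgroup G) := isCyclic_of_prime_card hP
  have hab : ∀ x ∈ (P : Subgroup G), ∀ y ∈ (P : Subgroup G), x * y = y * x := by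
    intro x hx y hy
    obtain ⟨g, hg⟩ := hcyc.exists_generator
    obtain ⟨i, hi⟩ := Subgroup.mem_zpowers_iff.mp (hg ⟨x, hx⟩)
    obtain ⟨j, hj⟩ := Subgroup.mem_zpowers_iff.mp (hg ⟨y, hy⟩)
    have h1 : (⟨x, hx⟩ : (P : Subgroup G)) * ⟨y, hy⟩ = ⟨y, hy⟩ * ⟨x, hx⟩ := by
      rw [← hi, ← hj, ← zpow_add, ← zpow_add, add_comm]
    exact congrArg Subtype.val h1
  have hC : centralizer ((P : Subgroup G) : Set G) = P := centralizer_eq_of_trans _ htr hab
  have h1 := Cfsg.Agent.Helper17.card_centralizer_mul_relIndex (P : Subgroup G)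
  have h2 := (Cfsg.Agent.Helper17.relIndex_dvd_of_card_sylow_prime P hP).1
  have h3 := Cfsg.Agent.Helper17.card_normalizer_mul_card_sylow P
  have h4 : Nat.card (Sylow 11 G) ≡ 1 [MOD 11] := card_sylow_modEq_one 11 G
  have hC' : Nat.card (centralizer ((P : Subgroup G) : Set G)) = 11 := by rw [hC, hP]
  rw [hC'] at h1
  rw [hG] at h3
  generalize (centralizer ((P : Subgroup G) : Set G)).relIndex
    (normalizer ((P : Subgroup G) : Set G)) = d at h1 h2
  generalize Nat.card (Sylow 11 G) = n at h3 h4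
  generalize Nat.card (normalizer ((P : Subgroup G) : Set G)) = m at h1 h3 ⊢
  have hd10 : d ∣ 10 := h2
  have hdle : d ≤ 10 := Nat.le_of_dvd (by norm_num) hd10
  unfold Nat.ModEq at h4
  have hdpos : 0 < d := Nat.pos_of_dvd_of_pos hd10 (by norm_num)
  subst h1
  interval_cases d <;> omega

/-- A sharply 4-transitive group of degree 11 is simple of order 7920. -/
theorem m11_of_sharp [Finite Ω] (hΩ : Nat.card Ω = 11) (h4 : IsMultiplyPretransitive G Ω 4)
    (hsharp : ∀ x : Fin 4 ↪ Ω, stabilizer G x = ⊥) : IsSimpleGroup G ∧ Nat.card G = 7920 := by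
  classical
  haveI : Fact (Nat.Prime 11) := ⟨by norm_num⟩
  haveI : Fintype Ω := Fintype.ofFinite Ω
  have hΩ' : Fintype.card Ω = 11 := by rw [← Nat.card_eq_fintype_card]; exact hΩ
  have hcard : Nat.card G = 7920 := by
    rw [Cfsg.Agent.Helper59.card_of_sharp h4 hsharp (by omega), hΩ]
    rfl
  have hne : Nonempty (Fin 4 ↪ Ω) :=
    Function.Embedding.nonempty_of_card_le (by simp [hΩ'])
  haveI hf : FaithfulSMul G Ω := Cfsg.Agent.Helper59.faithful_of_sharp hsharp hne
  haveI : Finite G := finite_of_faithful' (Ω := Ω)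
  refine ⟨?_, hcard⟩
  haveI : Nontrivial G := by
    rw [← Finite.one_lt_card_iff_nontrivial, hcard]; norm_num
  refine ⟨fun N hNn => ?_⟩
  by_cases hN : N = ⊥
  · exact Or.inl hN
  right
  -- N is 3-transitive
  have h3 := Cfsg.Agent.Helper59.jordan_normal_aux 4 (by norm_num) (by omega : 4 < Nat.card Ω) h4 N hN
  have h3' : IsMultiplyPretransitive N Ω 3 := by
    rcases h3 with h | ⟨h, _⟩
    · exact h
    · omega
  have h990 : 990 ∣ Nat.card N := by
    obtain ⟨x₀⟩ : Nonempty (Fin 3 ↪ Ω) :=
      Function.Embedding.nonempty_of_card_le (by simp [hΩ'])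
    have h1 := @MulAction.index_stabilizer_of_transitive N _ _ _ x₀ h3'
    have h2 : (stabilizer N x₀).index ∣ Nat.card N := Subgroup.index_dvd_card _
    rw [h1, Nat.card_eq_fintype_card, Fintype.card_embedding_eq, Fintype.card_fin, hΩ'] at h2
    exact h2
  -- a Sylow 11-subgroup inside N
  have h11 : 11 ∣ Nat.card N := dvd_trans (by norm_num) h990
  obtain ⟨x, hx⟩ := exists_prime_orderOf_dvd_card' (G := N) 11 h11
  have hxo : orderOf (x : G) = 11 := by rw [Subgroup.orderOf_coe]; exact hx
  have hzc : Nat.card (zpowers (x : G)) = 11 := by rw [Nat.card_zpowers, hxo]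
  have hpg : IsPGroup 11 (zpowers (x : G)) := IsPGroup.of_card (n := 1) (by rw [hzc]; norm_num)
  obtain ⟨P, hP⟩ := hpg.exists_le_sylow
  have hPcard : Nat.card (P : Subgroup G) = 11 := by
    have := Cfsg.Agent.Helper17.card_sylow_subgroup_of_card_eq (G := G) (p := 11)
      (k := 1) (m := 720) (by rw [hcard]; norm_num) (by norm_num) P
    simpa using this
  have hPeq : zpowers (x : G) = P :=
    Subgroup.eq_of_le_of_card_ge hP (by rw [hzc, hPcard])
  have hPN : (P : Subgroup G) ≤ N := by
    rw [← hPeq, Subgroup.zpowers_le]; exact x.2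
  have hfr := Sylow.normalizer_sup_eq_top' P hPN
  have hnorm := card_normalizer_sylow_eleven hΩ hcard P
  -- index computation
  have hidx : N.index = N.relIndex (normalizer ((P : Subgroup G) : Set G)) := by
    have h1 : N.relIndex (normalizer ((P : Subgroup G) : Set G) ⊔ N) =
        N.relIndex (normalizer ((P : Subgroup G) : Set G)) := Subgroup.relIndex_sup_right _ _
    have hfr' : normalizer ((P : Subgroup G) : Set G) ⊔ N = ⊤ := hfr
    rw [← h1, hfr', Subgroup.relIndex_top_right]
  have hK1 : (N ⊓ normalizer ((P : Subgroup G) : Set G)).relIndex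
      (normalizer ((P : Subgroup G) : Set G)) = N.index := by
    rw [hidx, Subgroup.inf_relIndex_right]
  have hK2 : Nat.card ↥(N ⊓ normalizer ((P : Subgroup G) : Set G)) *
      (N ⊓ normalizer ((P : Subgroup G) : Set G)).relIndex
        (normalizer ((P : Subgroup G) : Set G)) = 55 := by
    have := Subgroup.relIndex_mul_relIndex (H := (⊥ : Subgroup G))
      (K := N ⊓ normalizer ((P : Subgroup G) : Set G))
      (L := normalizer ((P : Subgroup G) : Set G)) bot_le inf_le_right
    rw [Subgroup.relIndex_bot_left, Subgroup.relIndex_bot_left, hnorm] at this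
    exact this
  have hK3 : 11 ∣ Nat.card ↥(N ⊓ normalizer ((P : Subgroup G) : Set G)) := by
    have := Subgroup.card_dvd_of_le (le_inf hPN (Subgroup.le_normalizer (H := (P : Subgroup G))))
    rwa [hPcard] at this
  rw [hK1] at hK2
  have hNcard := Subgroup.card_mul_index N
  rw [hcard] at hNcard
  rw [← Subgroup.index_eq_one]
  obtain ⟨k, hk⟩ := hK3
  rw [hk] at hK2
  obtain ⟨c, hc⟩ := h990
  rw [hc] at hNcard
  have h5 : k * N.index = 5 := by
    have : 11 * (k * N.index) = 11 * 5 := by rw [← mul_assoc]; exact hK2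
    exact Nat.eq_of_mul_eq_mul_left (by norm_num) this
  have hdvd : N.index ∣ 5 := Dvd.intro_left k h5
  rcases (Nat.dvd_prime (by norm_num : Nat.Prime 5)).mp hdvd with h | h
  · exact h
  · exfalso
    rw [h] at hNcard
    omega

end Cfsg.Agent.Helper61.SharpM
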