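import Cfsg.Agent.Helper61.SharpM11

set_option autoImplicit false

/-! A sharply 5-transitive group of degree 12 is simple of order 95040 (abstract actions). -/

namespace Cfsg.Agent.Helper61.SharpM

open MulAction Subgroup Cfsg.Agent.Helper61.TwoTrans

variable {G Ω : Type*} [Group G] [MulAction G Ω]

/-- A sharply 5-transitive group of degree 12 is simple of order 95040. -/
theorem m12_of_sharp [Finite Ω] (hΩ : Nat.card Ω = 12) (h5 : IsMultiplyPretransitive G Ω 5)
    (hsharp : ∀ x : Fin 5 ↪ Ω, stabilizer G x = ⊥) : IsSimpleGroup G ∧ Nat.card G = 95040 := by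
  classical
  haveI : Fintype Ω := Fintype.ofFinite Ω
  have hΩ' : Fintype.card Ω = 12 := by rw [← Nat.card_eq_fintype_card]; exact hΩ
  have hcard : Nat.card G = 95040 := by
    rw [Cfsg.Agent.Helper59.card_of_sharp h5 hsharp (by omega), hΩ]
    rfl
  have hne : Nonempty (Fin 5 ↪ Ω) :=
    Function.Embedding.nonempty_of_card_le (by simp [hΩ'])
  haveI hf : FaithfulSMul G Ω := Cfsg.Agent.Helper59.faithful_of_sharp hsharp hne
  haveI : Finite G := finite_of_faithful' (Ω := Ω)
  refine ⟨?_, hcard⟩
  haveI : Nontrivial G := by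
    rw [← Finite.one_lt_card_iff_nontrivial, hcard]; norm_num
  have h4 : IsMultiplyPretransitive G Ω 4 :=
    isMultiplyPretransitive_of_le (n := 5) (by omega) (by omega)
  have h2 : IsMultiplyPretransitive G Ω 2 :=
    isMultiplyPretransitive_of_le (n := 5) (by omega) (by omega)
  haveI hprim : IsPreprimitive G Ω := isPreprimitive_of_is_two_pretransitive h2
  haveI hGt : IsPretransitive G Ω := hprim.toIsPretransitive
  have hne' : Nonempty Ω := by
    rw [← Finite.card_pos_iff, hΩ]; norm_num
  obtain ⟨a⟩ := hne'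
  -- the point stabilizer is simple
  have h4s : IsMultiplyPretransitive (stabilizer G a) (SubMulAction.ofStabilizer G a) 4 :=
    SubMulAction.ofStabilizer.isMultiplyPretransitive.mp h5
  have hsharp4 := Cfsg.Agent.Helper59.stabilizer_sharp hsharp a
  have hcard11 : Nat.card (SubMulAction.ofStabilizer G a) = 11 := by
    rw [SubMulAction.nat_card_ofStabilizer_eq, hΩ]
  obtain ⟨hsimple, _⟩ := m11_of_sharp hcard11 h4s hsharp4
  refine ⟨fun N hNn => ?_⟩
  by_cases hN : N = ⊥
  · exact Or.inl hN
  right
  haveI hNt : IsPretransitive N Ω :=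
    Cfsg.Agent.Helper59.normal_pretransitive_of_preprimitive (Ω := Ω) N hN
  rcases hsimple.eq_bot_or_eq_top_of_normal (N.subgroupOf (stabilizer G a)) inferInstance with h | h
  · -- regular case
    exfalso
    have hsr0 : ∀ n ∈ N, n • a = a → n = 1 := by
      intro n hn hna
      have hmem : (⟨n, hna⟩ : stabilizer G a) ∈ N.subgroupOf (stabilizer G a) :=
        Subgroup.mem_subgroupOf.mpr hn
      rw [h, Subgroup.mem_bot] at hmem
      exact congrArg Subtype.val hmem
    have hsr : ∀ n ∈ N, ∀ b : Ω, n • b = b → n = 1 := by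
      intro n hn b hnb
      obtain ⟨g, hg⟩ := MulAction.exists_smul_eq G a b
      have h1 : g⁻¹ * n * g ∈ N := by
        have := hNn.conj_mem n hn g⁻¹
        simpa using this
      have h2 : (g⁻¹ * n * g) • a = a := by
        rw [mul_smul, mul_smul, hg, hnb, ← hg, inv_smul_smul]
      have h3 := hsr0 _ h1 h2
      have : n = g * (g⁻¹ * n * g) * g⁻¹ := by group
      rw [this, h3]; group
    obtain ⟨b, hb⟩ : ∃ b : Ω, b ≠ a := by
      have : 1 < Fintype.card Ω := by omega
      obtain ⟨b, hb⟩ := Fintype.exists_ne_of_one_lt_card this a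
      exact ⟨b, hb⟩
    obtain ⟨c, hca, hcb⟩ : ∃ c : Ω, c ≠ a ∧ c ≠ b := by
      by_contra hcon
      push Not at hcon
      have hsub : (Finset.univ : Finset Ω) ⊆ {a, b} := by
        intro c _
        by_cases hca : c = a
        · simp [hca]
        · simp [hcon c hca]
      have := Finset.card_le_card hsub
      rw [Finset.card_univ, hΩ'] at this
      have h2 : ({a, b} : Finset Ω).card ≤ 2 := Finset.card_le_two
      omega
    obtain ⟨x, hx⟩ := MulAction.exists_smul_eq N a b
    obtain ⟨y, hy⟩ := MulAction.exists_smul_eq N a c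
    have hx' : (x : G) • a = b := hx
    have hy' : (y : G) • a = c := hy
    refine Cfsg.Agent.Helper59.not_semiregular_normal_of_four (G := G) (Ω := Ω) (by omega) N hsr
      x.2 y.2 ?_ ?_ ?_
    · intro h1
      rw [h1, one_smul] at hx'
      exact hb hx'.symm
    · intro h1
      rw [h1, one_smul] at hy'
      exact hca hy'.symm
    · intro h1
      rw [h1, hy'] at hx'
      exact hcb hx'
  · -- the stabilizer lies in N
    have hle : stabilizer G a ≤ N := by
      intro g hg
      have hmem : (⟨g, hg⟩ : stabilizer G a) ∈ N.subgroupOf (stabilizer G a) := by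
        rw [h]; trivial
      exact Subgroup.mem_subgroupOf.mp hmem
    rw [eq_top_iff]
    intro g _
    obtain ⟨n, hn⟩ := MulAction.exists_smul_eq N a (g • a)
    have hn' : (n : G) • a = g • a := hn
    have hk : (n : G)⁻¹ * g ∈ stabilizer G a := by
      rw [mem_stabilizer_iff, mul_smul, inv_smul_eq_iff, hn']
    have : g = (n : G) * ((n : G)⁻¹ * g) := by group
    rw [this]
    exact N.mul_mem n.2 (hle hk)

end Cfsg.Agent.Helper61.SharpM
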