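import Cfsg.Agent.Helper66.PD2Perm

/-!
# Primitive groups of degree `2p` with `|N_G(P)| = 2p` (S4707): shared definitions

* `Setup`   : the hypotheses on the permutation group, in abstract form;
* `Std`     : the "standard form" of the principal `p`-block obtained from the Brauer–Leonard data;
* `CaseB`   : the surviving case `ε = δ = -1`, degrees `p - 1`, `p - 2`, `π = 1 + χ₁ + θ`.
-/

set_option autoImplicit false

namespace Cfsg.Agent.Helper61.TwoP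

open Cfsg MulAction Cfsg.Agent.Helper66.PD2

/-- Hypotheses on the permutation group. -/
structure Setup (G : Type*) [Group G] (α : Type*) [Fintype α] [MulAction G α] (p : ℕ)
    (P : Sylow p G) : Prop where
  hp5 : 5 ≤ p
  hα : Fintype.card α = 2 * p
  faithful : ∀ g : G, (∀ a : α, g • a = a) → g = 1
  prim : IsPreprimitive G α
  not2 : ¬ IsMultiplyPretransitive G α 2
  cardP : Nat.card (P : Subgroup G) = p
  cent : Subgroup.centralizer ((P : Subgroup G) : Set G) = P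
  cardN : Nat.card (Subgroup.normalizer ((P : Subgroup G) : Set G)) = 2 * p

/-- Standard form of the principal `p`-block when `|P| = p`, `C_G(P) = P`, `|N_G(P) : P| = 2`:
the block is `{1, χ₁} ∪ Y` with `|Y| = (p - 1) / 2`; `χ₁ = ε` on `p`-singular elements, the
members of `Y` sum to `-δ` on `p`-singular elements and agree on `p`-regular elements, where
`-δ η + 1 + ε χ₁ = 0`; every other irreducible character vanishes on `p`-singular elements. -/
structure Std (G : Type*) [Group G] (p : ℕ) (ε δ : ℤ) (χ1 : IrrCharacter G)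
    (Y : Set (IrrCharacter G)) : Prop where
  eps : ε = 1 ∨ ε = -1
  del : δ = 1 ∨ δ = -1
  chi_ne : χ1 ≠ Helper79.principalIrr G
  chi_nmem : χ1 ∉ Y
  one_nmem : Helper79.principalIrr G ∉ Y
  cardY : Nat.card Y * 2 = p - 1
  chi_sing : ∀ g : G, p ∣ orderOf g → (χ1 : G → ℂ) g = (ε : ℂ)
  sum_sing : ∀ g : G, p ∣ orderOf g → ∑ᶠ η ∈ Y, (η : G → ℂ) g = -(δ : ℂ)
  other_sing : ∀ χ : IrrCharacter G, χ ≠ Helper79.principalIrr G → χ ≠ χ1 → χ ∉ Y →
    ∀ g : G, p ∣ orderOf g → (χ : G → ℂ) g = 0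
  reg_eq : ∀ η ∈ Y, ∀ η' ∈ Y, ∀ g : G, ¬ p ∣ orderOf g → (η : G → ℂ) g = (η' : G → ℂ) g
  rel : ∀ η ∈ Y, ∀ g : G, ¬ p ∣ orderOf g →
    -(δ : ℂ) * (η : G → ℂ) g + 1 + (ε : ℂ) * (χ1 : G → ℂ) g = 0

/-- The surviving case. -/
structure CaseB (G : Type*) [Group G] (α : Type*) [MulAction G α] (p : ℕ)
    (χ1 θ : IrrCharacter G) (Y : Set (IrrCharacter G)) : Prop where
  std : Std G p (-1) (-1) χ1 Y
  deg_chi : (χ1 : G → ℂ) 1 = (p : ℂ) - 1
  deg_Y : ∀ η ∈ Y, (η : G → ℂ) 1 = (p : ℂ) - 2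
  deg_theta : (θ : G → ℂ) 1 = (p : ℂ)
  theta_sing : ∀ g : G, p ∣ orderOf g → (θ : G → ℂ) g = 0
  perm : ∀ g : G, (fx α g : ℂ) = 1 + (χ1 : G → ℂ) g + (θ : G → ℂ) g

/-- Facts common to both final cases. -/
structure Facts (G : Type*) [Group G] (α : Type*) [MulAction G α] (p : ℕ)
    (χ1 : IrrCharacter G) (Y : Set (IrrCharacter G)) : Prop where
  ker : ∀ g : G, (χ1 : G → ℂ) g = (χ1 : G → ℂ) 1 → g = 1
  real : ∀ g : G, ((χ1 : G → ℂ) g).im = 0
  sq : ∀ η ∈ Y, ∀ g : G, ¬ p ∣ orderOf g →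
      (η : G → ℂ) (g * g) = (η : G → ℂ) g ^ 2 - ((p : ℂ) - 3) * (η : G → ℂ) g
  inv : ∀ s : G, orderOf s = 2 → (χ1 : G → ℂ) s = 0 ∧ ∀ η ∈ Y, (η : G → ℂ) s = -1
  conjInv : ∀ s1 s2 : G, orderOf s1 = 2 → orderOf s2 = 2 → IsConj s1 s2
  cls : ∀ t : G, orderOf t = 2 →
      Nat.card (Subgroup.centralizer ({t} : Set G)) ^ 2 * p * (p - 2) = Nat.card G * (p - 1)
  fx2 : ∀ t : G, orderOf t = 2 → fx α t = 0 ∨ fx α t = 2

end Cfsg.Agent.Helper61.TwoP
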