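import Cfsg.Agent.Helper61.TwoPDefs
import Cfsg.Agent.Helper81.PermChar
import Cfsg.Agent.Helper79.CharComplete
import Cfsg.Agent.Helper74.TwoPC
import Cfsg.Agent.Helper89.TwoPD

/-!
# S4707, piece (E0): numerical data of the permutation character
-/

set_option autoImplicit false
set_option linter.unusedSectionVars false
set_option linter.unusedVariables false
set_option linter.style.haveILetI false

namespace Cfsg.Agent.Helper61.TwoPE0

open Cfsg MulAction Cfsg.Agent.Helper66.PD2 Cfsg.Agent.Helper61.TwoP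
open scoped ComplexConjugate

variable {G : Type*} [Group G] [Fintype G] {α : Type*} [Fintype α] [DecidableEq α] [MulAction G α]
  {p : ℕ} [Fact p.Prime] {P : Sylow p G}

/-- (E0) numerical data of the permutation character. -/
theorem perm_numbers (S : Setup G α p P) {ε δ : ℤ} {χ1 : IrrCharacter G}
    {Y : Set (IrrCharacter G)} (T : Std G p ε δ χ1 Y)
    (hsemi : ∀ g : G, p ∣ orderOf g → fx α g = 0) :
    ∃ n1 n f z : ℕ, classInner (piFun (G := G) α) (χ1 : G → ℂ) = n1 ∧
      (∀ η ∈ Y, classInner (piFun (G := G) α) (η : G → ℂ) = n) ∧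
      (χ1 : G → ℂ) 1 = f ∧ (∀ η ∈ Y, (η : G → ℂ) 1 = z) ∧ 1 ≤ f ∧ 1 ≤ z ∧
      -δ * n + 1 + ε * n1 = 0 ∧ -δ * z + 1 + ε * f = 0 ∧ (∃ k : ℤ, (f : ℤ) - ε = k * p) ∧
      1 + n1 * f + n * ((p - 1) / 2) * z ≤ 2 * p := by
  classical
  have hpp : p.Prime := Fact.out
  have hp5 := S.hp5
  letI : Fintype (IrrCharacter G) := Helper74.irrFintype G
  haveI := S.prim.toIsPretransitive
  have hαpos : 0 < Fintype.card α := by rw [S.hα]; omega
  obtain ⟨a⟩ : Nonempty α := Fintype.card_pos_iff.mp hαpos
  haveI : Nonempty α := ⟨a⟩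
  have hπ : IsCharacter G (piFun (G := G) α) := isCharacter_piFun α
  have hπ1 : classInner (piFun (G := G) α) (fun _ => (1 : ℂ)) = 1 := by
    rw [piFun_eq_indFun α a]
    exact Helper81.inner_indFun_one_one _
  set one : IrrCharacter G := Helper79.principalIrr G with hone
  have hone_app : (one : G → ℂ) = fun _ => (1 : ℂ) := rfl
  -- `Y` is finite with `(p - 1) / 2` elements, nonempty
  have hYfin : Y.Finite := Set.toFinite Y
  have hYcard : hYfin.toFinset.card = (p - 1) / 2 := by
    have h := T.cardY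
    have h2 : Nat.card Y = hYfin.toFinset.card := by
      rw [Nat.card_coe_set_eq, Set.ncard_eq_toFinset_card Y hYfin]
    omega
  have hYne : hYfin.toFinset.Nonempty := by
    rw [← Finset.card_pos, hYcard]
    omega
  obtain ⟨η0, hη0f⟩ := hYne
  have hη0 : η0 ∈ Y := (Set.Finite.mem_toFinset hYfin).mp hη0f
  -- multiplicities
  choose mult hmult using fun ψ : IrrCharacter G => Helper74.isCharacter_inner_irr_nat hπ ψ
  have hF : ∀ g : G, p ∣ orderOf g → piFun (G := G) α g = 0 := by
    intro g hg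
    unfold piFun
    rw [hsemi g hg]
    simp
  obtain ⟨hC1, hC2⟩ := Helper74.TwoP.inner_rel T (piFun (G := G) α) 0 hF
  have hmY : ∀ η ∈ Y, mult η = mult η0 := by
    intro η hη
    have := hC1 η hη η0 hη0
    rw [hmult, hmult] at this
    exact_mod_cast this
  -- degrees
  have hdeg : ∀ ψ : IrrCharacter G, (ψ : G → ℂ) 1 = (charDegree (ψ : G → ℂ) : ℂ) :=
    fun ψ => (Helper74.charDegree_cast (Helper74.irr_isCharacter ψ)).symm
  have h1reg : ¬ p ∣ orderOf (1 : G) := by
    rw [orderOf_one]; exact hpp.not_dvd_one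
  have hdY : ∀ η ∈ Y, charDegree (η : G → ℂ) = charDegree (η0 : G → ℂ) := by
    intro η hη
    have := T.reg_eq η hη η0 hη0 1 h1reg
    rw [hdeg, hdeg] at this
    exact_mod_cast this
  refine ⟨mult χ1, mult η0, charDegree (χ1 : G → ℂ), charDegree (η0 : G → ℂ), hmult χ1, ?_,
    hdeg χ1, ?_, Helper79.irr_charDegree_pos χ1, Helper79.irr_charDegree_pos η0, ?_, ?_, ?_, ?_⟩
  · intro η hη
    rw [hmult, hmY η hη]
  · intro η hη
    rw [hdeg, hdY η hη]
  · have h := hC2 η0 hη0
    rw [hmult, hmult, hπ1] at h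
    have h' : ((-δ * (mult η0 : ℤ) + 1 + ε * (mult χ1 : ℤ) : ℤ) : ℂ) = ((0 : ℤ) : ℂ) := by
      push_cast
      linear_combination h
    exact_mod_cast h'
  · have h := T.rel η0 hη0 1 h1reg
    rw [hdeg, hdeg] at h
    have h' : ((-δ * (charDegree (η0 : G → ℂ) : ℤ) + 1 + ε * (charDegree (χ1 : G → ℂ) : ℤ) : ℤ) : ℂ)
        = ((0 : ℤ) : ℂ) := by
      push_cast
      linear_combination h
    exact_mod_cast h'
  · -- congruence
    haveI : Fintype (P : Subgroup G) := Fintype.ofFinite _
    obtain ⟨m, hm⟩ := Helper89.TwoP.exists_nat_sum_subgroup (P : Subgroup G)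
      (Helper74.irr_isCharacter χ1)
    have hval : ∀ x : (P : Subgroup G), x ≠ 1 → (χ1 : G → ℂ) (x : G) = (ε : ℂ) := by
      intro x hx
      apply T.chi_sing
      have hx1 : orderOf x ∣ p := by
        have := orderOf_dvd_natCard x
        rwa [S.cardP] at this
      rw [← Subgroup.orderOf_coe] at hx1
      rcases (Nat.dvd_prime hpp).mp hx1 with h | h
      · exfalso
        apply hx
        have : (x : G) = 1 := orderOf_eq_one_iff.mp h
        exact Subtype.ext this
      · rw [h]
    have hsum : ∑ x : (P : Subgroup G), (χ1 : G → ℂ) (x : G) =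
        (χ1 : G → ℂ) 1 + ((p : ℂ) - 1) * (ε : ℂ) := by
      rw [← Finset.add_sum_erase Finset.univ _ (Finset.mem_univ (1 : (P : Subgroup G)))]
      congr 1
      rw [Finset.sum_congr rfl (fun x hx => hval x (Finset.ne_of_mem_erase hx)),
        Finset.sum_const, Finset.card_erase_of_mem (Finset.mem_univ _), Finset.card_univ,
        ← Nat.card_eq_fintype_card, S.cardP, nsmul_eq_mul, Nat.cast_sub hpp.one_le]
      simp
    rw [hsum, S.cardP, hdeg] at hm
    refine ⟨(m : ℤ) - ε, ?_⟩
    have h' : (((charDegree (χ1 : G → ℂ) : ℤ) - ε : ℤ) : ℂ) = ((((m : ℤ) - ε) * (p : ℤ) : ℤ) : ℂ) := by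
      push_cast
      linear_combination hm
    exact_mod_cast h'
  · -- degree inequality
    have hdec := Helper74.isCharacter_eq_sum_irr hπ
    have h2p : (2 * p : ℕ) = ∑ ψ : IrrCharacter G, mult ψ * charDegree (ψ : G → ℂ) := by
      have h1 := congrFun hdec 1
      have h2 : piFun (G := G) α 1 = ((2 * p : ℕ) : ℂ) := by
        unfold piFun
        rw [fx_one, S.hα]
      rw [h2] at h1
      have h3 : ((2 * p : ℕ) : ℂ) =
          ((∑ ψ : IrrCharacter G, mult ψ * charDegree (ψ : G → ℂ) : ℕ) : ℂ) := by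
        rw [h1]
        simp only [Finset.sum_apply, Pi.smul_apply, smul_eq_mul]
        push_cast
        refine Finset.sum_congr rfl (fun ψ _ => ?_)
        rw [hmult, hdeg]
      exact_mod_cast h3
    have hmone : mult one = 1 := by
      have := hmult one
      rw [hone_app, hπ1] at this
      exact_mod_cast this.symm
    have hdone : charDegree (one : G → ℂ) = 1 := by
      have h := hdeg one
      have h' : (one : G → ℂ) 1 = 1 := rfl
      rw [h'] at h
      exact_mod_cast h.symm
    have hχ1Y : χ1 ∉ hYfin.toFinset := fun h => T.chi_nmem ((Set.Finite.mem_toFinset hYfin).mp h)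
    have honeY : one ∉ insert χ1 hYfin.toFinset := by
      intro h
      rcases Finset.mem_insert.mp h with h | h
      · exact T.chi_ne h.symm
      · exact T.one_nmem ((Set.Finite.mem_toFinset hYfin).mp h)
    have hsub : ∑ ψ ∈ insert one (insert χ1 hYfin.toFinset), mult ψ * charDegree (ψ : G → ℂ) ≤
        ∑ ψ : IrrCharacter G, mult ψ * charDegree (ψ : G → ℂ) :=
      Finset.sum_le_sum_of_subset (Finset.subset_univ _)
    rw [Finset.sum_insert honeY, Finset.sum_insert hχ1Y, hmone, hdone] at hsub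
    have hYsum : ∑ ψ ∈ hYfin.toFinset, mult ψ * charDegree (ψ : G → ℂ) =
        ((p - 1) / 2) * (mult η0 * charDegree (η0 : G → ℂ)) := by
      rw [Finset.sum_congr rfl (fun ψ hψ => by
        rw [hmY ψ ((Set.Finite.mem_toFinset hYfin).mp hψ),
          hdY ψ ((Set.Finite.mem_toFinset hYfin).mp hψ)]),
        Finset.sum_const, hYcard, smul_eq_mul]
    rw [hYsum, ← h2p] at hsub
    calc 1 + mult χ1 * charDegree (χ1 : G → ℂ) +
          mult η0 * ((p - 1) / 2) * charDegree (η0 : G → ℂ)
        = 1 * 1 + (mult χ1 * charDegree (χ1 : G → ℂ) +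
          (p - 1) / 2 * (mult η0 * charDegree (η0 : G → ℂ))) := by ring
      _ ≤ 2 * p := hsub

end Cfsg.Agent.Helper61.TwoPE0
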