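import Cfsg.Agent.Helper61.TwoPDefs
import Cfsg.Agent.Helper81.PermChar
import Cfsg.Agent.Helper91.AbNormCenter
import Cfsg.Agent.Helper25.InnerBasics
import Cfsg.Agent.Helper89.TwoPD

/-!
# S4707, piece (E2): the surviving case `π = 1 + χ₁ + θ`
-/

set_option autoImplicit false
set_option linter.unusedSectionVars false
set_option linter.unusedVariables false
set_option linter.style.haveILetI false

namespace Cfsg.Agent.Helper61.TwoPE2

open Cfsg MulAction Cfsg.Agent.Helper66.PD2 Cfsg.Agent.Helper61.TwoP
open scoped ComplexConjugate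

variable {G : Type*} [Group G] [Fintype G] {α : Type*} [Fintype α] [DecidableEq α] [MulAction G α]
  {p : ℕ} [Fact p.Prime] {P : Sylow p G}

/-- (E2) the surviving case. -/
theorem caseB_of_mults (S : Setup G α p P) {χ1 : IrrCharacter G}
    {Y : Set (IrrCharacter G)} (T : Std G p (-1) (-1) χ1 Y)
    (hsemi : ∀ g : G, p ∣ orderOf g → fx α g = 0)
    (hf : (χ1 : G → ℂ) 1 = (p : ℂ) - 1)
    (hn1 : classInner (piFun (G := G) α) (χ1 : G → ℂ) = 1)
    (hn : ∀ η ∈ Y, classInner (piFun (G := G) α) (η : G → ℂ) = 0) :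
    ∃ θ : IrrCharacter G, CaseB G α p χ1 θ Y := by
  classical
  have hpp : p.Prime := Fact.out
  have hp5 := S.hp5
  letI : Fintype (IrrCharacter G) := Helper74.irrFintype G
  haveI := S.prim.toIsPretransitive
  have hαpos : 0 < Fintype.card α := by rw [S.hα]; omega
  obtain ⟨a⟩ : Nonempty α := Fintype.card_pos_iff.mp hαpos
  haveI : Nonempty α := ⟨a⟩
  have hπ : IsCharacter G (piFun (G := G) α) := isCharacter_piFun α
  have hπ1 : classInner (piFun (G := G) α) (fun _ => (1 : ℂ)) = 1 := by
    rw [piFun_eq_indFun α a]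
    exact Helper81.inner_indFun_one_one _
  set one : IrrCharacter G := Helper79.principalIrr G with hone
  have hone_app : (one : G → ℂ) = fun _ => (1 : ℂ) := rfl
  -- ρ = π - 1 - χ1
  have hρ1 : IsCharacter G (piFun (G := G) α - (one : G → ℂ)) := by
    apply Helper91.AbNormCenter.isCharacter_sub_irr hπ one.2
    rw [hone_app, hπ1]
    exact one_ne_zero
  have horth1 : classInner (one : G → ℂ) (χ1 : G → ℂ) = 0 :=
    Helper74.irr_inner_ne (Ne.symm T.chi_ne)
  have hρ : IsCharacter G (piFun (G := G) α - (one : G → ℂ) - (χ1 : G → ℂ)) := by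
    apply Helper91.AbNormCenter.isCharacter_sub_irr hρ1 χ1.2
    rw [Helper74.classInner_sub_left, hn1, horth1]
    norm_num
  set ρ : G → ℂ := piFun (G := G) α - (one : G → ℂ) - (χ1 : G → ℂ) with hρdef
  have hρapp : ∀ g : G, ρ g = (fx α g : ℂ) - 1 - (χ1 : G → ℂ) g := fun g => rfl
  have hρdeg : ρ 1 = (p : ℂ) := by
    rw [hρapp, fx_one, S.hα, hf]
    push_cast
    ring
  -- multiplicities of ρ
  have hinner : ∀ ψ : IrrCharacter G, classInner ρ (ψ : G → ℂ) =
      classInner (piFun (G := G) α) (ψ : G → ℂ) - (if one = ψ then 1 else 0) -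
        (if χ1 = ψ then 1 else 0) := by
    intro ψ
    rw [hρdef, Helper74.classInner_sub_left, Helper74.classInner_sub_left,
      Helper74.irr_orthonormal one ψ, Helper74.irr_orthonormal χ1 ψ]
  have hρone : classInner ρ (one : G → ℂ) = 0 := by
    rw [hinner, if_pos rfl, if_neg T.chi_ne, hone_app, hπ1]
    norm_num
  have hρchi : classInner ρ (χ1 : G → ℂ) = 0 := by
    rw [hinner, if_neg (Ne.symm T.chi_ne), if_pos rfl, hn1]
    norm_num
  have hρY : ∀ η ∈ Y, classInner ρ (η : G → ℂ) = 0 := by
    intro η hη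
    rw [hinner, hn η hη, if_neg (fun h : one = η => T.one_nmem (by rw [← hone, h]; exact hη)), if_neg (fun h : χ1 = η => T.chi_nmem (by rw [h]; exact hη))]
    norm_num
  -- a constituent θ
  have hex : ∃ θ : IrrCharacter G, classInner ρ (θ : G → ℂ) ≠ 0 := by
    by_contra hcon
    push Not at hcon
    have hdec := Helper74.isCharacter_eq_sum_irr hρ
    have h0 : ρ = 0 := by
      rw [hdec]
      apply Finset.sum_eq_zero
      intro ψ _
      rw [hcon ψ, zero_smul]
    have : ρ 1 = 0 := by rw [h0]; rfl
    rw [hρdeg] at this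
    have : p = 0 := by exact_mod_cast this
    omega
  obtain ⟨θ, hθ⟩ := hex
  have hθone : θ ≠ one := fun h => hθ (h ▸ hρone)
  have hθchi : θ ≠ χ1 := fun h => hθ (h ▸ hρchi)
  have hθY : θ ∉ Y := fun h => hθ (hρY θ h)
  have hθsing : ∀ g : G, p ∣ orderOf g → (θ : G → ℂ) g = 0 :=
    T.other_sing θ hθone hθchi hθY
  -- p divides the degree of θ
  haveI : Fintype (P : Subgroup G) := Fintype.ofFinite _
  obtain ⟨m, hm⟩ := Helper89.TwoP.exists_nat_sum_subgroup (P : Subgroup G)
    (Helper74.irr_isCharacter θ)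
  have hsum : ∑ x : (P : Subgroup G), (θ : G → ℂ) (x : G) = (θ : G → ℂ) 1 := by
    rw [Finset.sum_eq_single (1 : (P : Subgroup G))]
    · rfl
    · intro x _ hx
      apply hθsing
      have hx1 : orderOf x ∣ p := by
        have := orderOf_dvd_natCard x
        rwa [S.cardP] at this
      rw [← Subgroup.orderOf_coe] at hx1
      rcases (Nat.dvd_prime hpp).mp hx1 with h | h
      · exfalso
        apply hx
        have : (x : G) = 1 := orderOf_eq_one_iff.mp h
        exact Subtype.ext this
      · rw [h]
    · intro h; exact absurd (Finset.mem_univ _) h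
  rw [hsum, S.cardP] at hm
  -- ρ - θ is a character of degree p - m p
  have hρθ : IsCharacter G (ρ - (θ : G → ℂ)) := Helper91.AbNormCenter.isCharacter_sub_irr hρ θ.2 hθ
  obtain ⟨k, hk⟩ := Helper74.isCharacter_apply_one hρθ
  have hk' : (p : ℂ) - (m : ℂ) * p = k := by
    rw [← hk, Pi.sub_apply, hρdeg, hm]
  have hθpos := Helper79.irr_charDegree_pos θ
  have hθdeg := Helper74.charDegree_cast (Helper74.irr_isCharacter θ)
  have hm1 : 1 ≤ m := by
    by_contra h0
    have : m = 0 := by omega
    rw [this] at hm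
    simp only [Nat.cast_zero, zero_mul] at hm
    rw [hm] at hθdeg
    have : charDegree (θ : G → ℂ) = 0 := by exact_mod_cast hθdeg
    omega
  have hkm : p = k + m * p := by
    have : (p : ℂ) = (k : ℂ) + (m : ℂ) * p := by rw [← hk']; ring
    exact_mod_cast this
  have hm_eq : m = 1 := by
    by_contra hne
    have : 2 ≤ m := by omega
    have : 2 * p ≤ m * p := Nat.mul_le_mul_right p this
    have hp0 : 0 < p := hpp.pos
    omega
  have hk0 : k = 0 := by
    rw [hm_eq] at hkm
    omega
  have hzero : ρ - (θ : G → ℂ) = 0 := by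
    apply Helper25.isCharacter_eq_zero_of_apply_one hρθ
    rw [hk, hk0]
    simp
  have hρθeq : ∀ g : G, ρ g = (θ : G → ℂ) g := by
    intro g
    have := congrFun hzero g
    simp only [Pi.sub_apply, Pi.zero_apply] at this
    exact sub_eq_zero.mp this
  have h1reg : ¬ p ∣ orderOf (1 : G) := by
    rw [orderOf_one]; exact hpp.not_dvd_one
  refine ⟨θ, ?_⟩
  exact
    { std := T
      deg_chi := hf
      deg_Y := by
        intro η hη
        have h := T.rel η hη 1 h1reg
        rw [hf] at h
        push_cast at h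
        linear_combination h
      deg_theta := by
        rw [hm, hm_eq]
        simp
      theta_sing := hθsing
      perm := by
        intro g
        have := hρθeq g
        rw [hρapp] at this
        linear_combination this }

end Cfsg.Agent.Helper61.TwoPE2
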