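import Cfsg.Agent.Helper61.TwoPDefs
import Cfsg.Agent.Helper66.PD2Main
import Cfsg.Agent.Helper81.PermChar
import Cfsg.Agent.Helper79.ClassMult
import Cfsg.Agent.Helper17.SylowKit
import Cfsg.Agent.S0494
import Cfsg.Agent.Helper11.TwoPE3
import Cfsg.Agent.Helper11.TwoPF
import Cfsg.Agent.Helper12.TwoPI
import Cfsg.Agent.Helper12.TwoPL
import Cfsg.Agent.Helper12.TwoPM
import Cfsg.Agent.Helper12.TwoPU1
import Cfsg.Agent.Helper35.TwoPO
import Cfsg.Agent.Helper35.TwoPQ
import Cfsg.Agent.Helper50.TwoPU2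
import Cfsg.Agent.Helper50.TwoPU3a
import Cfsg.Agent.Helper50.TwoPU3b
import Cfsg.Agent.Helper61.TwoPE0
import Cfsg.Agent.Helper61.TwoPE2
import Cfsg.Agent.Helper62.TwoPT1
import Cfsg.Agent.Helper63.TwoPAB
import Cfsg.Agent.Helper63.TwoPR0
import Cfsg.Agent.Helper63.TwoPR2
import Cfsg.Agent.Helper65.TwoPA2
import Cfsg.Agent.Helper65.TwoPA3
import Cfsg.Agent.Helper74.TwoPG
import Cfsg.Agent.Helper80.TwoPIJN
import Cfsg.Agent.Helper80.TwoPK
import Cfsg.Agent.Helper81.TwoPB4
import Cfsg.Agent.Helper87.TwoPR1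
import Cfsg.Agent.Helper87.TwoPR3
import Cfsg.Agent.Helper89.TwoPE1
import Cfsg.Agent.Helper89.TwoPH

/-!
# S4707: primitive, not doubly transitive groups of degree `2p` with `|N_G(P)| = 2p`

Glue file: the pieces (written by many seats from helper61's paper proof and skeleton) are
restated verbatim and discharged by citation; then the assembly (sign analysis, the common facts,
the cases `p > 5` and `p = 5`) and the main theorem.
-/

set_option autoImplicit false
set_option linter.unusedSectionVars false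
set_option linter.unusedVariables false
set_option linter.style.haveILetI false

namespace Cfsg.Agent.Helper61.TwoPMain

open Cfsg MulAction Cfsg.Agent.Helper66.PD2 Cfsg.Agent.Helper66.BL Cfsg.Agent.Helper61.TwoP
open scoped ComplexConjugate

/-! ## Part I : local structure -/

/-- (A1) -/
theorem card_sylow_of_card_normalizer {G : Type*} [Group G] [Finite G] {p : ℕ} [Fact p.Prime]
    (hp : 2 < p) (P : Sylow p G)
    (hN : Nat.card (Subgroup.normalizer ((P : Subgroup G) : Set G)) = 2 * p) :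
    Nat.card (P : Subgroup G) = p := by
  exact Cfsg.Agent.Helper63.TwoP.card_sylow_of_card_normalizer hp P hN

/-- (A2) Burnside transfer + primitivity. -/
theorem centralizer_eq_of_prim {G : Type*} [Group G] [Finite G] {α : Type*} [Fintype α]
    [MulAction G α] {p : ℕ} [Fact p.Prime] (hp : 2 < p) (hα : Fintype.card α = 2 * p)
    (hprim : IsPreprimitive G α) (P : Sylow p G) (hP : Nat.card (P : Subgroup G) = p)
    (hN : Nat.card (Subgroup.normalizer ((P : Subgroup G) : Set G)) = 2 * p) :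
    Subgroup.centralizer ((P : Subgroup G) : Set G) = P := by
  exact Cfsg.Agent.Helper65.TwoP.centralizer_eq_of_prim hp hα hprim P hP hN

/-- (A3) Jordan: `P` is semiregular. -/
theorem fx_eq_zero_of_dvd {G : Type*} [Group G] [Finite G] {α : Type*} [Fintype α]
    [DecidableEq α] [MulAction G α] {p : ℕ} [Fact p.Prime] {P : Sylow p G} (S : Setup G α p P)
    (g : G) (hg : p ∣ orderOf g) : fx α g = 0 := by
  exact Cfsg.Agent.Helper65.TwoP.fx_eq_zero_of_dvd S g hg

/-! ## Part II : the principal block -/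

/-- (B4) -/
theorem exists_std {G : Type*} [Group G] [Finite G] {p : ℕ} [Fact p.Prime] (P : Sylow p G)
    (hp5 : 5 ≤ p) (hP : Nat.card (P : Subgroup G) = p)
    (hC : Subgroup.centralizer ((P : Subgroup G) : Set G) = P)
    (hN : Nat.card (Subgroup.normalizer ((P : Subgroup G) : Set G)) = 2 * p) :
    ∃ (ε δ : ℤ) (χ1 : IrrCharacter G) (Y : Set (IrrCharacter G)), Std G p ε δ χ1 Y := by
  exact Cfsg.Agent.Helper81.TwoP.exists_std P hp5 hP hC hN


/-! ## Part III : the permutation character -/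

section partIII

variable {G : Type*} [Group G] [Fintype G] {α : Type*} [Fintype α] [DecidableEq α] [MulAction G α]
  {p : ℕ} [Fact p.Prime] {P : Sylow p G}

/-- (E0) numerical data of the permutation character. -/
theorem perm_numbers (S : Setup G α p P) {ε δ : ℤ} {χ1 : IrrCharacter G}
    {Y : Set (IrrCharacter G)} (T : Std G p ε δ χ1 Y)
    (hsemi : ∀ g : G, p ∣ orderOf g → fx α g = 0) :
    ∃ n1 n f z : ℕ, classInner (piFun (G := G) α) (χ1 : G → ℂ) = n1 ∧
      (∀ η ∈ Y, classInner (piFun (G := G) α) (η : G → ℂ) = n) ∧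
      (χ1 : G → ℂ) 1 = f ∧ (∀ η ∈ Y, (η : G → ℂ) 1 = z) ∧ 1 ≤ f ∧ 1 ≤ z ∧
      -δ * n + 1 + ε * n1 = 0 ∧ -δ * z + 1 + ε * f = 0 ∧ (∃ k : ℤ, (f : ℤ) - ε = k * p) ∧
      1 + n1 * f + n * ((p - 1) / 2) * z ≤ 2 * p := by
  exact Cfsg.Agent.Helper61.TwoPE0.perm_numbers S T hsemi

/-- (E1) the case `δ = ε = 1` with `χ₁` linear is impossible. -/
theorem caseA_false_of_deg_one (S : Setup G α p P) {χ1 : IrrCharacter G}
    {Y : Set (IrrCharacter G)} (T : Std G p 1 1 χ1 Y) (hf : (χ1 : G → ℂ) 1 = 1) : False := by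
  exact Cfsg.Agent.Helper89.TwoP.caseA_false_of_deg_one S T hf

/-- (E2) the surviving case. -/
theorem caseB_of_mults (S : Setup G α p P) {χ1 : IrrCharacter G}
    {Y : Set (IrrCharacter G)} (T : Std G p (-1) (-1) χ1 Y)
    (hsemi : ∀ g : G, p ∣ orderOf g → fx α g = 0)
    (hf : (χ1 : G → ℂ) 1 = (p : ℂ) - 1)
    (hn1 : classInner (piFun (G := G) α) (χ1 : G → ℂ) = 1)
    (hn : ∀ η ∈ Y, classInner (piFun (G := G) α) (η : G → ℂ) = 0) :
    ∃ θ : IrrCharacter G, CaseB G α p χ1 θ Y := by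
  exact Cfsg.Agent.Helper61.TwoPE2.caseB_of_mults S T hsemi hf hn1 hn

/-- (E3) `π = 1 + χ₁` would make `G` doubly transitive. -/
theorem not_deg_two_p_sub_one (S : Setup G α p P) (χ1 : IrrCharacter G)
    (hf : (χ1 : G → ℂ) 1 = 2 * (p : ℂ) - 1)
    (hn1 : classInner (piFun (G := G) α) (χ1 : G → ℂ) ≠ 0) : False := by
  exact Cfsg.Agent.Helper11.TwoP.not_deg_two_p_sub_one S χ1 hf hn1

/-- (F) a character not taking its degree on `p`-singular elements is faithful. -/
theorem eq_one_of_apply_eq (S : Setup G α p P) {χ : G → ℂ} (hχ : IsCharacter G χ)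
    (hs : ∀ g : G, p ∣ orderOf g → χ g ≠ χ 1) (g : G) (hg : χ g = χ 1) : g = 1 := by
  exact Cfsg.Agent.Helper11.TwoP.eq_one_of_apply_eq S hχ hs g hg

end partIII

/-! ## Part V : the square formula and the `2`-structure -/

section partV

variable {G : Type*} [Group G] [Fintype G] {α : Type*} [Fintype α] [DecidableEq α] [MulAction G α]
  {p : ℕ} [Fact p.Prime] {P : Sylow p G} {χ1 θ : IrrCharacter G} {Y : Set (IrrCharacter G)}

/-- (G) the Frobenius–Schur indicator of `χ₁` is `1`. -/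
theorem fsInd_chi (S : Setup G α p P) (B : CaseB G α p χ1 θ Y) :
    Helper81.fsInd (χ1 : G → ℂ) = 1 := by
  exact Cfsg.Agent.Helper74.TwoP.fsInd_chi S B

/-- (H) the exterior square of a character is a character. -/
theorem isCharacter_extSq {G : Type*} [Group G] {χ : G → ℂ} (hχ : IsCharacter G χ) :
    IsCharacter G (fun g => (χ g ^ 2 - χ (g * g)) / 2) := by
  exact Cfsg.Agent.Helper89.TwoP.isCharacter_extSq hχ

/-- (I) `Λ² χ₁ = ∑ η`. -/
theorem extSq_eq (S : Setup G α p P) (B : CaseB G α p χ1 θ Y)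
    (hν : Helper81.fsInd (χ1 : G → ℂ) = 1)
    (hΛ : IsCharacter G (fun g => ((χ1 : G → ℂ) g ^ 2 - (χ1 : G → ℂ) (g * g)) / 2)) (g : G) :
    ((χ1 : G → ℂ) g ^ 2 - (χ1 : G → ℂ) (g * g)) / 2 = ∑ᶠ η ∈ Y, (η : G → ℂ) g := by
  exact Cfsg.Agent.Helper12.TwoP.extSq_eq S B hν hΛ g

/-- (I2) the square formula. -/
theorem sq_formula (hp5 : 5 ≤ p) (B : CaseB G α p χ1 θ Y)
    (hΛ : ∀ g : G, ((χ1 : G → ℂ) g ^ 2 - (χ1 : G → ℂ) (g * g)) / 2 = ∑ᶠ η ∈ Y, (η : G → ℂ) g) :
    ∀ η ∈ Y, ∀ g : G, ¬ p ∣ orderOf g →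
      (η : G → ℂ) (g * g) = (η : G → ℂ) g ^ 2 - ((p : ℂ) - 3) * (η : G → ℂ) g := by
  exact Cfsg.Agent.Helper80.TwoP.sq_formula hp5 B hΛ

/-- (J) values on involutions. -/
theorem invol_values (hp5 : 5 ≤ p) (B : CaseB G α p χ1 θ Y)
    (hker : ∀ g : G, (χ1 : G → ℂ) g = (χ1 : G → ℂ) 1 → g = 1)
    (hsq : ∀ η ∈ Y, ∀ g : G, ¬ p ∣ orderOf g →
      (η : G → ℂ) (g * g) = (η : G → ℂ) g ^ 2 - ((p : ℂ) - 3) * (η : G → ℂ) g)
    (s : G) (hs : orderOf s = 2) :
    (χ1 : G → ℂ) s = 0 ∧ ∀ η ∈ Y, (η : G → ℂ) s = -1 := by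
  exact Cfsg.Agent.Helper80.TwoP.invol_values hp5 B hker hsq s hs

/-- (K) no elements of order `4` when `p > 5`. -/
theorem no_order_four (hp7 : 7 ≤ p) (B : CaseB G α p χ1 θ Y)
    (hreal : ∀ g : G, ((χ1 : G → ℂ) g).im = 0)
    (hsq : ∀ η ∈ Y, ∀ g : G, ¬ p ∣ orderOf g →
      (η : G → ℂ) (g * g) = (η : G → ℂ) g ^ 2 - ((p : ℂ) - 3) * (η : G → ℂ) g)
    (hinv : ∀ s : G, orderOf s = 2 → (χ1 : G → ℂ) s = 0 ∧ ∀ η ∈ Y, (η : G → ℂ) s = -1)
    (g : G) : orderOf g ≠ 4 := by
  exact Cfsg.Agent.Helper80.TwoP.no_order_four hp7 B hreal hsq hinv g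

/-- (L) the order of a Sylow `2`-subgroup divides `p - 1`. -/
theorem card_sylow_two_dvd (B : CaseB G α p χ1 θ Y) (hno4 : ∀ g : G, orderOf g ≠ 4)
    (hinv : ∀ s : G, orderOf s = 2 → (χ1 : G → ℂ) s = 0 ∧ ∀ η ∈ Y, (η : G → ℂ) s = -1)
    (Q : Sylow 2 G) : Nat.card Q ∣ p - 1 := by
  exact Cfsg.Agent.Helper12.TwoP.card_sylow_two_dvd B hno4 hinv Q

/-- (M) `χ₁` has `2`-defect zero. -/
theorem chi_vanish_even (hp5 : 5 ≤ p) (B : CaseB G α p χ1 θ Y)
    (hsyl : ∀ Q : Sylow 2 G, Nat.card Q ∣ p - 1) (g : G) (hg : 2 ∣ orderOf g) :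
    (χ1 : G → ℂ) g = 0 := by
  exact Cfsg.Agent.Helper12.TwoP.chi_vanish_even hp5 B hsyl g hg

/-- (N) every element of even order is an involution. -/
theorem even_order_eq_two (S : Setup G α p P) (B : CaseB G α p χ1 θ Y)
    (hker : ∀ g : G, (χ1 : G → ℂ) g = (χ1 : G → ℂ) 1 → g = 1)
    (hsq : ∀ η ∈ Y, ∀ g : G, ¬ p ∣ orderOf g →
      (η : G → ℂ) (g * g) = (η : G → ℂ) g ^ 2 - ((p : ℂ) - 3) * (η : G → ℂ) g)
    (hvan : ∀ g : G, 2 ∣ orderOf g → (χ1 : G → ℂ) g = 0)
    (g : G) (hg : 2 ∣ orderOf g) : orderOf g = 2 := by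
  exact Cfsg.Agent.Helper80.TwoP.even_order_eq_two S B hker hsq hvan g hg

/-- (O) all involutions are conjugate. -/
theorem invol_isConj (S : Setup G α p P) (B : CaseB G α p χ1 θ Y)
    (hinv : ∀ s : G, orderOf s = 2 → (χ1 : G → ℂ) s = 0 ∧ ∀ η ∈ Y, (η : G → ℂ) s = -1)
    (s1 s2 : G) (h1 : orderOf s1 = 2) (h2 : orderOf s2 = 2) : IsConj s1 s2 := by
  exact Cfsg.Agent.Helper35.TwoP.invol_isConj S B hinv s1 s2 h1 h2

/-- (Q) the class equation `|C(t)|² p (p - 2) = |G| (p - 1)`. -/
theorem card_centralizer_sq (S : Setup G α p P) (B : CaseB G α p χ1 θ Y)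
    (hinv : ∀ s : G, orderOf s = 2 → (χ1 : G → ℂ) s = 0 ∧ ∀ η ∈ Y, (η : G → ℂ) s = -1)
    (hconj : ∀ s1 s2 : G, orderOf s1 = 2 → orderOf s2 = 2 → IsConj s1 s2)
    (t : G) (ht : orderOf t = 2) :
    Nat.card (Subgroup.centralizer ({t} : Set G)) ^ 2 * p * (p - 2) = Nat.card G * (p - 1) := by
  exact Cfsg.Agent.Helper35.TwoP.card_centralizer_sq S B hinv hconj t ht

/-- (R0) involutions fix `0` or `2` points. -/
theorem fx_invol (S : Setup G α p P) (hsemi : ∀ g : G, p ∣ orderOf g → fx α g = 0)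
    (hconj : ∀ s1 s2 : G, orderOf s1 = 2 → orderOf s2 = 2 → IsConj s1 s2)
    (t : G) (ht : orderOf t = 2) : fx α t = 0 ∨ fx α t = 2 := by
  exact Cfsg.Agent.Helper63.TwoP.fx_invol S hsemi hconj t ht

/-- (R1) arithmetic of the order when `p > 5`. -/
theorem card_of_seven_le (hp7 : 7 ≤ p) (S : Setup G α p P)
    (hno4 : ∀ g : G, orderOf g ≠ 4)
    (hsyl : ∀ Q : Sylow 2 G, Nat.card Q ∣ p - 1)
    (heven : ∀ g : G, 2 ∣ orderOf g → orderOf g = 2)
    (hcls : ∀ t : G, orderOf t = 2 →
      Nat.card (Subgroup.centralizer ({t} : Set G)) ^ 2 * p * (p - 2) = Nat.card G * (p - 1)) :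
    ∃ n : ℕ, 3 ≤ n ∧ p = 2 ^ n + 1 ∧ Nat.card G = p * (p - 1) * (p - 2) := by
  exact Cfsg.Agent.Helper87.TwoP.card_of_seven_le hp7 S hno4 hsyl heven hcls

/-- (R2) the number of involutions in a point stabilizer is `p - 2`. -/
theorem card_invol_stabilizer (S : Setup G α p P) (n : ℕ) (hn : 3 ≤ n) (hpn : p = 2 ^ n + 1)
    (hG : Nat.card G = p * (p - 1) * (p - 2))
    (hconj : ∀ s1 s2 : G, orderOf s1 = 2 → orderOf s2 = 2 → IsConj s1 s2)
    (hfx : ∀ t : G, orderOf t = 2 → fx α t = 0 ∨ fx α t = 2)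
    (hcls : ∀ t : G, orderOf t = 2 →
      Nat.card (Subgroup.centralizer ({t} : Set G)) ^ 2 * p * (p - 2) = Nat.card G * (p - 1))
    (a : α) : Nat.card {s : stabilizer G a // orderOf s = 2} = p - 2 := by
  exact Cfsg.Agent.Helper63.TwoP.card_invol_stabilizer S n hn hpn hG hconj hfx hcls a

/-- (R3) Sylow counting in a group all of whose elements of even order are involutions with
`2`-group centralizers. -/
theorem sylow_two_sub_one_dvd {H : Type*} [Group H] [Finite H]
    (heven : ∀ g : H, 2 ∣ orderOf g → orderOf g = 2) (Q : Sylow 2 H) :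
    (Nat.card Q - 1) ∣ Nat.card {s : H // orderOf s = 2} := by
  exact Cfsg.Agent.Helper87.TwoP.sylow_two_sub_one_dvd heven Q

end partV

/-! ## Part VI : `p = 5` -/

section partVI

variable {G : Type*} [Group G] [Fintype G] {α : Type*} [Fintype α] [DecidableEq α] [MulAction G α]
  {p : ℕ} [Fact p.Prime] {P : Sylow p G} {χ1 θ : IrrCharacter G} {Y : Set (IrrCharacter G)}

/-- (U1) rank three. -/
theorem rank_three (S : Setup G α p P) (B : CaseB G α p χ1 θ Y) (a : α) :
    Nat.card (orbitRel.Quotient (stabilizer G a) α) = 3 := by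
  exact Cfsg.Agent.Helper12.TwoP.rank_three S B a

/-- (U2) a point stabilizer fixes no second point. -/
theorem exists_moves (S : Setup G α p P) (a b : α) (hab : a ≠ b) :
    ∃ h ∈ stabilizer G a, h • b ≠ b := by
  exact Cfsg.Agent.Helper50.TwoP.exists_moves S a b hab

/-- (U3a) a suborbit of length `3` when `p = 5`. -/
theorem exists_suborbit_three (hp : p = 5) (S : Setup G α p P) (a : α)
    (hrank : Nat.card (orbitRel.Quotient (stabilizer G a) α) = 3)
    (hmove : ∀ b : α, a ≠ b → ∃ h ∈ stabilizer G a, h • b ≠ b)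
    (hsmooth : ∀ q : ℕ, q.Prime → q ∣ Nat.card (stabilizer G a) → q = 2 ∨ q = 3) :
    ∃ b : α, b ≠ a ∧ Nat.card (orbit (stabilizer G a) b) = 3 := by
  exact Cfsg.Agent.Helper50.TwoP.exists_suborbit_three hp S a hrank hmove hsmooth

/-- (U3b) the stabilizer has order not divisible by `4`. -/
theorem not_four_dvd_card_stabilizer (S : Setup G α p P) (a b : α) (hb : b ≠ a)
    (h3 : Nat.card (orbit (stabilizer G a) b) = 3)
    (hfx : ∀ t : G, orderOf t = 2 → fx α t = 0 ∨ fx α t = 2) :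
    ¬ 4 ∣ Nat.card (stabilizer G a) := by
  exact Cfsg.Agent.Helper50.TwoP.not_four_dvd_card_stabilizer S a b hb h3 hfx

/-- (T1) simplicity in order `60`. -/
theorem isSimpleGroup_of_card_sixty (hp : p = 5) (S : Setup G α p P) (hG : Nat.card G = 60) :
    IsSimpleGroup G := by
  exact Cfsg.Agent.Helper62.TwoP.isSimpleGroup_of_card_sixty hp S hG

end partVI


/-! ## Assembly -/

section assembly

variable {G : Type*} [Group G] [Fintype G] {α : Type*} [Fintype α] [DecidableEq α] [MulAction G α]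
  {p : ℕ} [Fact p.Prime] {P : Sylow p G}

/-- (Z1) sign analysis: only the case `ε = δ = -1`, `π = 1 + χ₁ + θ` survives. -/
theorem exists_caseB (S : Setup G α p P) (hsemi : ∀ g : G, p ∣ orderOf g → fx α g = 0)
    {ε δ : ℤ} {χ1 : IrrCharacter G} {Y : Set (IrrCharacter G)} (T : Std G p ε δ χ1 Y) :
    ∃ θ : IrrCharacter G, CaseB G α p χ1 θ Y := by
  have hpp : p.Prime := Fact.out
  have hp5 := S.hp5
  obtain ⟨n1, n, f, z, hn1, hn, hf, hz, hf1, hz1, h1, h2, ⟨k, hk⟩, h4⟩ := perm_numbers S T hsemi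
  have hodd : p % 2 = 1 := by
    rcases hpp.eq_two_or_odd with h | h
    · omega
    · exact h
  obtain ⟨t, ht⟩ : ∃ t : ℕ, p = 2 * t + 1 := ⟨p / 2, by omega⟩
  have ht2 : 2 ≤ t := by omega
  have htt : (p - 1) / 2 = t := by omega
  rw [htt] at h4
  rcases T.eps with hε | hε <;> rcases T.del with hδ | hδ
  · -- ε = 1, δ = 1
    subst hε hδ
    exfalso
    have hn' : (n : ℤ) = n1 + 1 := by linarith
    have hz' : (z : ℤ) = f + 1 := by linarith
    have hn'' : n = n1 + 1 := by exact_mod_cast hn'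
    have hz'' : z = f + 1 := by exact_mod_cast hz'
    have hf' : f = 1 := by
      by_contra hne
      have hk1 : 1 ≤ k := by
        by_contra hk0
        push_neg at hk0
        have : k ≤ 0 := by omega
        have h5 : (f : ℤ) - 1 ≤ 0 := by
          rw [hk]
          exact mul_nonpos_of_nonpos_of_nonneg this (by positivity)
        have : (f : ℤ) ≤ 1 := by linarith
        have : f ≤ 1 := by exact_mod_cast this
        omega
      have h6 : (p : ℤ) ≤ f - 1 := by
        rw [hk]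
        nlinarith
      have h7 : p + 1 ≤ f := by
        have : (p : ℤ) + 1 ≤ f := by linarith
        exact_mod_cast this
      have h8 : 2 * (p + 2) ≤ n * t * z := by
        rw [hn'', hz'']
        have : 1 * 2 * (p + 2) ≤ (n1 + 1) * t * (f + 1) :=
          Nat.mul_le_mul (Nat.mul_le_mul (by omega) ht2) (by omega)
        omega
      omega
    subst hf'
    exact caseA_false_of_deg_one S T (by rw [hf]; simp)
  · -- ε = 1, δ = -1
    subst hε hδ
    exfalso
    have : (z : ℤ) + 1 + f = 0 := by linarith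
    have h0 : (0 : ℤ) ≤ z := by positivity
    have h0' : (0 : ℤ) ≤ f := by positivity
    linarith
  · -- ε = -1, δ = 1
    subst hε hδ
    exfalso
    have : (z : ℤ) + f = 1 := by linarith
    have h0 : (1 : ℤ) ≤ z := by exact_mod_cast hz1
    have h0' : (1 : ℤ) ≤ f := by exact_mod_cast hf1
    linarith
  · -- ε = -1, δ = -1
    subst hε hδ
    have hn' : (n1 : ℤ) = n + 1 := by linarith
    have hz' : (f : ℤ) = z + 1 := by linarith
    have hn'' : n1 = n + 1 := by exact_mod_cast hn'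
    have hz'' : f = z + 1 := by exact_mod_cast hz'
    have hk' : (f : ℤ) + 1 = k * p := by linarith
    have hfle : f ≤ 2 * p - 1 := by
      have : 1 + n1 * f ≤ 2 * p := le_trans (Nat.le_add_right _ _) h4
      rw [hn''] at this
      have h9 : 1 * f ≤ (n + 1) * f := Nat.mul_le_mul_right f (by omega)
      omega
    have hk1 : 1 ≤ k := by
      by_contra hk0
      push_neg at hk0
      have : k ≤ 0 := by omega
      have h5 : (f : ℤ) + 1 ≤ 0 := by
        rw [hk']
        exact mul_nonpos_of_nonpos_of_nonneg this (by positivity)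
      have h0' : (0 : ℤ) ≤ f := by positivity
      linarith
    have hk2 : k ≤ 2 := by
      by_contra hk3
      push_neg at hk3
      have : (3 : ℤ) * p ≤ k * p := mul_le_mul_of_nonneg_right (by omega) (by positivity)
      have h10 : (f : ℤ) ≤ 2 * p - 1 := by
        have : ((f : ℕ) : ℤ) ≤ ((2 * p - 1 : ℕ) : ℤ) := by exact_mod_cast hfle
        rw [Nat.cast_sub (by omega)] at this
        push_cast at this
        linarith
      have hp0 : (0 : ℤ) < p := by exact_mod_cast hpp.pos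
      linarith
    rcases (by omega : k = 1 ∨ k = 2) with hk | hk
    · subst hk
      have hfp : f = p - 1 := by
        have : (f : ℤ) = p - 1 := by linarith
        have h11 : ((f : ℕ) : ℤ) = ((p - 1 : ℕ) : ℤ) := by
          rw [Nat.cast_sub (by omega)]
          push_cast
          linarith
        exact_mod_cast h11
      have hn0 : n = 0 := by
        by_contra hne
        have hn1' : 1 ≤ n := Nat.one_le_iff_ne_zero.mpr hne
        have hzp : z = p - 2 := by omega
        have h12 : 2 * (p - 1) ≤ n1 * f := by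
          rw [hn'', hfp]
          exact Nat.mul_le_mul (by omega) le_rfl
        have h13 : 1 * 2 * (p - 2) ≤ n * t * z := by
          rw [hzp]
          exact Nat.mul_le_mul (Nat.mul_le_mul hn1' ht2) le_rfl
        omega
      subst hn0
      have hn1'' : n1 = 1 := by omega
      refine caseB_of_mults S T hsemi ?_ ?_ ?_
      · rw [hf, hfp, Nat.cast_sub (by omega)]
        simp
      · rw [hn1, hn1'']
        simp
      · intro η hη
        rw [hn η hη]
        simp
    · subst hk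
      exfalso
      have hfp : f = 2 * p - 1 := by
        have h11 : ((f : ℕ) : ℤ) = ((2 * p - 1 : ℕ) : ℤ) := by
          rw [Nat.cast_sub (by omega)]
          push_cast
          linarith
        exact_mod_cast h11
      refine not_deg_two_p_sub_one S χ1 ?_ ?_
      · rw [hf, hfp, Nat.cast_sub (by omega)]
        push_cast
        ring
      · rw [hn1, hn'']
        exact_mod_cast Nat.succ_ne_zero n


/-- (Z2) the common facts. -/
theorem facts (S : Setup G α p P) (hsemi : ∀ g : G, p ∣ orderOf g → fx α g = 0)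
    {χ1 θ : IrrCharacter G} {Y : Set (IrrCharacter G)} (B : CaseB G α p χ1 θ Y) :
    Facts G α p χ1 Y := by
  have hpp : p.Prime := Fact.out
  have hp5 := S.hp5
  have hker : ∀ g : G, (χ1 : G → ℂ) g = (χ1 : G → ℂ) 1 → g = 1 := by
    intro g hg
    refine eq_one_of_apply_eq S (Helper74.irr_isCharacter χ1) ?_ g hg
    intro x hx
    rw [B.std.chi_sing x hx, B.deg_chi]
    intro h
    have h2 : (p : ℂ) = 0 := by
      push_cast at h
      linear_combination -h
    have : p = 0 := by exact_mod_cast h2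
    omega
  have hν := fsInd_chi S B
  have hreal := Helper81.real_of_fsInd_eq_one χ1.2 hν
  have hΛ := extSq_eq S B hν (isCharacter_extSq (Helper74.irr_isCharacter χ1))
  have hsq := sq_formula hp5 B hΛ
  have hinv := invol_values hp5 B hker hsq
  have hconj := invol_isConj S B hinv
  exact
    { ker := hker
      real := hreal
      sq := hsq
      inv := hinv
      conjInv := hconj
      cls := card_centralizer_sq S B hinv hconj
      fx2 := fx_invol S hsemi hconj }


omit [DecidableEq α] in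
theorem card_stabilizer_mul (S : Setup G α p P) (a : α) :
    Nat.card (stabilizer G a) * (2 * p) = Nat.card G := by
  haveI := S.prim.toIsPretransitive
  have h1 := MulAction.index_stabilizer_of_transitive G a
  have h2 := Subgroup.card_mul_index (stabilizer G a)
  rw [h1, Nat.card_eq_fintype_card (α := α), S.hα] at h2
  exact h2

/-- (Z3) `p > 5` is impossible. -/
theorem false_of_seven_le (hp7 : 7 ≤ p) (S : Setup G α p P)
    {χ1 θ : IrrCharacter G} {Y : Set (IrrCharacter G)} (B : CaseB G α p χ1 θ Y)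
    (F : Facts G α p χ1 Y) : False := by
  have hno4 := no_order_four hp7 B F.real F.sq F.inv
  have hsyl := card_sylow_two_dvd B hno4 F.inv
  have hvan := chi_vanish_even S.hp5 B hsyl
  have heven := even_order_eq_two S B F.ker F.sq hvan
  obtain ⟨n, hn, hpn, hG⟩ := card_of_seven_le hp7 S hno4 hsyl heven F.cls
  have hαpos : 0 < Fintype.card α := by rw [S.hα]; omega
  obtain ⟨a⟩ : Nonempty α := Fintype.card_pos_iff.mp hαpos
  have hcnt := card_invol_stabilizer S n hn hpn hG F.conjInv F.fx2 F.cls a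
  have hevenH : ∀ g : stabilizer G a, 2 ∣ orderOf g → orderOf g = 2 := by
    intro g hg
    rw [← Subgroup.orderOf_coe] at hg ⊢
    exact heven _ hg
  obtain ⟨Q⟩ : Nonempty (Sylow 2 (stabilizer G a)) := inferInstance
  have hdvd := sylow_two_sub_one_dvd hevenH Q
  rw [hcnt] at hdvd
  -- the order of the stabilizer
  obtain ⟨n', rfl⟩ : ∃ n', n = n' + 1 := ⟨n - 1, by omega⟩
  have hn' : 2 ≤ n' := by omega
  have hpow : (2 : ℕ) ^ (n' + 1) = 2 * 2 ^ n' := by rw [pow_succ]; ring
  have hH : Nat.card (stabilizer G a) = 2 ^ n' * (2 ^ (n' + 1) - 1) := by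
    have h1 := card_stabilizer_mul S a
    rw [hG, hpn] at h1
    have h2 : (2 ^ (n' + 1) + 1 - 1 : ℕ) = 2 * 2 ^ n' := by omega
    have h3 : (2 ^ (n' + 1) + 1 - 2 : ℕ) = 2 ^ (n' + 1) - 1 := by omega
    rw [h2, h3] at h1
    have hpos : 0 < 2 * (2 ^ (n' + 1) + 1) := by positivity
    apply Nat.eq_of_mul_eq_mul_right hpos
    rw [h1]
    ring
  -- the order of the Sylow 2-subgroup
  have hodd : ¬ 2 ∣ 2 ^ (n' + 1) - 1 := by
    have : 2 ∣ 2 ^ (n' + 1) := dvd_pow_self 2 (by omega)
    have h1 : 1 ≤ 2 ^ (n' + 1) := Nat.one_le_two_pow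
    omega
  have hcop : Nat.Coprime (2 ^ n') (2 ^ (n' + 1) - 1) := by
    apply Nat.Coprime.pow_left
    exact (Nat.Prime.coprime_iff_not_dvd Nat.prime_two).mpr hodd
  have hQ : Nat.card Q = 2 ^ n' := by
    have h1 := Sylow.card_eq_multiplicity Q
    rw [hH, Nat.factorization_mul (by positivity) (by omega)] at h1
    simp only [Finsupp.coe_add, Pi.add_apply] at h1
    rw [Nat.Prime.factorization_pow Nat.prime_two] at h1
    simp only [Finsupp.single_eq_same] at h1
    rw [Nat.factorization_eq_zero_of_not_dvd hodd, add_zero] at h1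
    exact h1
  rw [hQ, hpn] at hdvd
  have h4 : (2 ^ (n' + 1) + 1 - 2 : ℕ) = 2 * (2 ^ n' - 1) + 1 := by
    have : 1 ≤ 2 ^ n' := Nat.one_le_two_pow
    omega
  rw [h4] at hdvd
  have h5 : 2 ^ n' - 1 ∣ 1 := by
    have h6 : 2 ^ n' - 1 ∣ 2 * (2 ^ n' - 1) := dvd_mul_left _ _
    exact (Nat.dvd_add_right h6).mp hdvd
  have h7 : 2 ^ n' - 1 = 1 := Nat.dvd_one.mp h5
  have h8 : 2 ^ 2 ≤ 2 ^ n' := Nat.pow_le_pow_right (by norm_num) hn'
  omega


theorem aux_c0 : ∀ c0 < 246, c0 ^ 2 ∣ 60480 → c0 ∣ 24 := by decide +kernel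

theorem card_dvd_factorial (S : Setup G α p P) : Nat.card G ∣ (2 * p).factorial := by
  have hinj : Function.Injective (MulAction.toPermHom G α) := by
    rw [injective_iff_map_eq_one]
    intro g hg
    apply S.faithful
    intro a
    have := congrArg (fun σ : Equiv.Perm α => σ a) hg
    simpa using this
  have h := Subgroup.card_dvd_of_injective _ hinj
  rwa [Nat.card_eq_fintype_card (α := Equiv.Perm α), Fintype.card_perm, S.hα] at h

/-- (Z4) `p = 5` gives order `60`. -/
theorem card_eq_sixty (hp : p = 5) (S : Setup G α p P)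
    {χ1 θ : IrrCharacter G} {Y : Set (IrrCharacter G)} (B : CaseB G α p χ1 θ Y)
    (F : Facts G α p χ1 Y) : Nat.card G = 60 := by
  subst hp
  have hαpos : 0 < Fintype.card α := by rw [S.hα]; omega
  obtain ⟨a⟩ : Nonempty α := Fintype.card_pos_iff.mp hαpos
  have hH := card_stabilizer_mul S a
  have h2G : 2 ∣ Nat.card G := by
    rw [← hH]
    exact Dvd.dvd.mul_left (dvd_mul_right 2 5) _
  obtain ⟨t, ht⟩ := exists_prime_orderOf_dvd_card' (G := G) 2 h2G
  have hcls := F.cls t ht
  have hc : Nat.card (Subgroup.centralizer ({t} : Set G)) ∣ Nat.card G :=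
    Subgroup.card_subgroup_dvd_card _
  have h10 := card_dvd_factorial S
  have hN := Helper17.card_normalizer_mul_card_sylow P
  rw [S.cardN] at hN
  have hmod : Nat.card (Sylow 5 G) ≡ 1 [MOD 5] := card_sylow_modEq_one 5 G
  generalize Nat.card (Subgroup.centralizer ({t} : Set G)) = c at hcls hc
  generalize Nat.card (Sylow 5 G) = n5 at hN hmod
  -- `c = 4 c0`, `|G| = 60 c0²`
  obtain ⟨e, he⟩ := hc
  have hGpos : 0 < Nat.card G := Nat.card_pos
  have hcpos : 0 < c := by
    rcases Nat.eq_zero_or_pos c with h | h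
    · rw [h] at he; omega
    · exact h
  have h1 : 4 * e = 15 * c := by
    have : c * (4 * e) = c * (15 * c) := by
      have h2 : c ^ 2 * 5 * (5 - 2) = c * e * (5 - 1) := by rw [hcls, he]
      norm_num at h2
      nlinarith
    exact Nat.eq_of_mul_eq_mul_left hcpos this
  obtain ⟨c0, rfl⟩ : 4 ∣ c := by
    have : 4 ∣ 15 * c := ⟨e, h1.symm⟩
    exact (Nat.Coprime.dvd_of_dvd_mul_left (by norm_num) this)
  have he' : e = 15 * c0 := by omega
  have hG : Nat.card G = 60 * c0 ^ 2 := by rw [he, he']; ring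
  have hc0 : c0 ∣ 24 := by
    have h3 : c0 ^ 2 ∣ 60480 := by
      have : 60 * c0 ^ 2 ∣ 60 * 60480 := by
        rw [← hG]
        have h4 : (2 * 5).factorial = 60 * 60480 := by decide
        rw [← h4]; exact h10
      exact (Nat.mul_dvd_mul_iff_left (by norm_num)).mp this
    have h5 : c0 < 246 := by
      have := Nat.le_of_dvd (by norm_num) h3
      nlinarith
    exact aux_c0 c0 h5 h3
  have hHc : Nat.card (stabilizer G a) = 6 * c0 ^ 2 := by
    rw [hG] at hH
    omega
  -- the stabilizer is a {2,3}-group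
  have hsmooth : ∀ q : ℕ, q.Prime → q ∣ Nat.card (stabilizer G a) → q = 2 ∨ q = 3 := by
    intro q hq hdvd
    rw [hHc] at hdvd
    have h6 : q ∣ 6 * 24 ^ 2 := dvd_trans hdvd (Nat.mul_dvd_mul_left 6 (pow_dvd_pow_of_dvd hc0 2))
    have h7 : (6 * 24 ^ 2 : ℕ) = 2 ^ 7 * 3 ^ 3 := by norm_num
    rw [h7] at h6
    rcases (Nat.Prime.dvd_mul hq).mp h6 with h | h
    · left
      exact (Nat.prime_dvd_prime_iff_eq hq Nat.prime_two).mp (hq.dvd_of_dvd_pow h)
    · right
      exact (Nat.prime_dvd_prime_iff_eq hq Nat.prime_three).mp (hq.dvd_of_dvd_pow h)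
  have hrank := rank_three S B a
  obtain ⟨b, hb, h3⟩ := exists_suborbit_three rfl S a hrank (fun b hab => exists_moves S a b hab) hsmooth
  have h4 := not_four_dvd_card_stabilizer S a b hb h3 F.fx2
  rw [hHc] at h4
  have hc0le : c0 ≤ 24 := Nat.le_of_dvd (by norm_num) hc0
  have hc0pos : 0 < c0 := by
    rcases Nat.eq_zero_or_pos c0 with h | h
    · rw [h] at hcpos; omega
    · exact h
  interval_cases c0 <;> first | omega | (exfalso; apply h4; norm_num) | skip
  · -- c0 = 3
    exfalso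
    rw [hG] at hN
    have : n5 = 54 := by omega
    rw [this] at hmod
    exact absurd hmod (by decide)

end assembly


/-- The statement of S4707. -/
theorem main {α : Type*} [Fintype α] [DecidableEq α] {p : ℕ} [Fact p.Prime] (hp : 3 < p)
    (hα : Fintype.card α = 2 * p) (G : Subgroup (Equiv.Perm α))
    (hprim : MulAction.IsPreprimitive G α) (hnot2 : ¬ MulAction.IsMultiplyPretransitive G α 2)
    (P : Sylow p G) (hN : Nat.card (Subgroup.normalizer ((P : Subgroup G) : Set G)) = 2 * p) :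
    p = 5 ∧ Nonempty (G ≃* alternatingGroup (Fin 5)) := by
  classical
  have hpp : p.Prime := Fact.out
  have hp5 : 5 ≤ p := by
    rcases (by omega : p = 4 ∨ 5 ≤ p) with h | h
    · rw [h] at hpp; norm_num at hpp
    · exact h
  letI : Fintype G := Fintype.ofFinite G
  have hP := card_sylow_of_card_normalizer (by omega) P hN
  have hC := centralizer_eq_of_prim (by omega) hα hprim P hP hN
  have S : Setup G α p P :=
    { hp5 := hp5
      hα := hα
      faithful := fun g hg => Subtype.ext (Equiv.ext fun a => hg a)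
      prim := hprim
      not2 := hnot2
      cardP := hP
      cent := hC
      cardN := hN }
  have hsemi : ∀ g : G, p ∣ orderOf g → fx α g = 0 := fun g hg => fx_eq_zero_of_dvd S g hg
  obtain ⟨ε, δ, χ1, Y, T⟩ := exists_std P hp5 hP hC hN
  obtain ⟨θ, B⟩ := exists_caseB S hsemi T
  have F := facts S hsemi B
  have h5 : p = 5 := by
    by_contra hne
    have h7 : 7 ≤ p := by
      rcases (by omega : p = 6 ∨ 7 ≤ p) with h | h
      · rw [h] at hpp; norm_num at hpp
      · exact h
    exact false_of_seven_le h7 S B F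
  refine ⟨h5, ?_⟩
  have hG := card_eq_sixty h5 S B F
  haveI := isSimpleGroup_of_card_sixty h5 S hG
  exact Cfsg.Agent.S0494.result hG

end Cfsg.Agent.Helper61.TwoPMain
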