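import Mathlib
import Cfsg.Agent.Helper56.CarmichaelA

/-!
# S2149 farm 2, piece (WPR) (helper61)

Evaluating a word in generators on permutation tables.
-/

set_option autoImplicit false

namespace Cfsg.Agent.Helper61.U35

open Cfsg.Agent.Helper56.Carmichael

/-- (WPR) evaluating a word in generators on permutation tables -/
theorem smul_wprod {K : Type*} [Group K] [MulAction K (Fin 126)] (gen : ℕ → K) (tab : ℕ → List ℕ)
    (hgen : ∀ (k : ℕ) (i : Fin 126), (gen k • i).1 = (tab k).getD i.1 0) (w : List ℕ) (i : Fin 126) :
    ((w.map gen).prod • i).1 = w.foldr (fun k n => (tab k).getD n 0) i.1 := by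
  induction w with
  | nil => simp
  | cons k w ih =>
    rw [List.map_cons, List.prod_cons, mul_smul, hgen, ih, List.foldr_cons]

end Cfsg.Agent.Helper61.U35
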