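import Mathlib

/-!
# S0720: the arithmetic of the rank four configuration (C-ARITH)
-/

set_option autoImplicit false

namespace Cfsg.Agent.Helper61.W2p

open scoped ComplexConjugate

/-- a prime is not the square of an integer -/
theorem prime_ne_sq {p : ℕ} (hp : p.Prime) (m : ℤ) : m ^ 2 ≠ (p : ℤ) := by
  intro h
  have h1 : (m.natAbs ^ 2 : ℕ) = p := by
    have : ((m.natAbs ^ 2 : ℕ) : ℤ) = (p : ℤ) := by
      rw [Nat.cast_pow, Int.natCast_natAbs, sq_abs]; exact h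
    exact_mod_cast this
  have hdvd : m.natAbs ∣ p := ⟨m.natAbs, by rw [← h1]; ring⟩
  have h3 := hp.one_lt
  rcases (Nat.dvd_prime hp).mp hdvd with h2 | h2
  · rw [h2] at h1
    omega
  · rw [h2] at h1
    nlinarith

/-- the integer equation behind (C-ARITH) -/
theorem arith_int {p : ℕ} (hp : p.Prime) (k cp cm : ℕ) (hk : 0 < k) (hcp : cp ≤ 2) (hcm : cm ≤ 2)
    (h : 8 * (k : ℤ) = 8 * (k : ℤ) ^ 2 - 8 * ((p : ℤ) - 1) * k * ((cp : ℤ) + cm)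
      + ((p : ℤ) - 1) * ((2 * (p : ℤ) - 1) * ((cp : ℤ) + cm) ^ 2 + ((cp : ℤ) - cm) ^ 2)) :
    ¬ ((cp = 1 ∧ cm ≠ 1) ∨ (cp ≠ 1 ∧ cm = 1)) ∧ (cp = 0 → cm = 0 → k = 1) := by
  have hk' : (0 : ℤ) < k := by exact_mod_cast hk
  have key : 2 * (2 * (k : ℤ) - ((p : ℤ) - 1) * ((cp : ℤ) + cm) - 1) ^ 2 =
      ((p : ℤ) - 1) * (4 * ((cp : ℤ) + cm) - ((cp : ℤ) + cm) ^ 2 - ((cp : ℤ) - cm) ^ 2) + 2 := by
    linear_combination (-1 : ℤ) * h
  constructor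
  · intro hh
    have bad : ∀ u w : ℤ, (cp : ℤ) + cm = u → (cp : ℤ) - cm = w → 4 * u - u ^ 2 - w ^ 2 = 2 →
        False := by
      intro u w hu hw huw
      rw [hu, hw, huw] at key
      apply prime_ne_sq hp (2 * (k : ℤ) - ((p : ℤ) - 1) * u - 1)
      linarith
    interval_cases cp <;> interval_cases cm <;> simp at hh
    · exact bad 1 (-1) (by norm_num) (by norm_num) (by norm_num)
    · exact bad 1 1 (by norm_num) (by norm_num) (by norm_num)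
    · exact bad 3 (-1) (by norm_num) (by norm_num) (by norm_num)
    · exact bad 3 1 (by norm_num) (by norm_num) (by norm_num)
  · intro h0 h1
    subst h0 h1
    simp only [Nat.cast_zero, add_zero, mul_zero, sub_zero] at key
    have h2 : (2 * (k : ℤ) - 1) ^ 2 = 1 := by nlinarith
    have h3 : (k : ℤ) * ((k : ℤ) - 1) = 0 := by nlinarith
    rcases mul_eq_zero.mp h3 with h4 | h4
    · omega
    · have : (k : ℤ) = 1 := by linarith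
      exact_mod_cast this

/-- (C-ARITH) the arithmetic -/
theorem arith {p : ℕ} (hp : p.Prime) (hodd : p ≠ 2) (k cp cm : ℕ) (hk : 0 < k) (hcp : cp ≤ 2)
    (hcm : cm ≤ 2) (f₁ f₂ d ω₁ ω₂ η₁ η₂ : ℂ) (hf₁ : 2 * f₁ + 1 = p) (hf₂ : 2 * f₂ + 1 = p)
    (hη : η₁ + η₂ = -1) (hg : (η₁ - η₂) * conj (η₁ - η₂) = p)
    (E1 : (k : ℂ) + p * d + f₁ * ω₁ + f₂ * ω₂ = 0)
    (E2p : (p : ℂ) * cp = k + ω₁ * η₁ + ω₂ * η₂)
    (E2m : (p : ℂ) * cm = k + ω₁ * η₂ + ω₂ * η₁)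
    (E3 : 2 * (p : ℂ) * k = (k : ℂ) ^ 2 + p * (d * conj d) + f₁ * (ω₁ * conj ω₁)
      + f₂ * (ω₂ * conj ω₂)) :
    ¬ ((cp = 1 ∧ cm ≠ 1) ∨ (cp ≠ 1 ∧ cm = 1)) ∧ (cp = 0 → cm = 0 → k = 1) := by
  have hpC : (p : ℂ) ≠ 0 := by exact_mod_cast hp.pos.ne'
  have hf1 : f₁ = ((p : ℂ) - 1) / 2 := by linear_combination hf₁ / 2
  have hf2 : f₂ = ((p : ℂ) - 1) / 2 := by linear_combination hf₂ / 2
  -- sum and difference
  have hs : ω₁ + ω₂ = 2 * (k : ℂ) - p * ((cp : ℂ) + cm) := by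
    linear_combination E2p + E2m + (ω₁ + ω₂) * hη
  have hΔ : (ω₁ - ω₂) * (η₁ - η₂) = p * ((cp : ℂ) - cm) := by
    linear_combination E2m - E2p
  -- `d`
  have hd : d = (((p : ℂ) - 1) * ((cp : ℂ) + cm) - 2 * k) / 2 := by
    apply mul_left_cancel₀ hpC
    rw [hf1, hf2] at E1
    have : f₁ * ω₁ + f₂ * ω₂ = ((p : ℂ) - 1) / 2 * (ω₁ + ω₂) := by rw [hf1, hf2]; ring
    linear_combination E1 - ((p : ℂ) - 1) / 2 * hs
  have hdc : conj d = d := by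
    rw [hd]
    simp only [map_div₀, map_sub, map_mul, map_add, map_natCast, map_ofNat, map_one]
  -- the norm of the difference
  have hΔ2 : (ω₁ - ω₂) * conj (ω₁ - ω₂) = p * ((cp : ℂ) - cm) ^ 2 := by
    have h1 : conj (ω₁ - ω₂) * conj (η₁ - η₂) = p * ((cp : ℂ) - cm) := by
      rw [← map_mul, hΔ]
      simp only [map_sub, map_mul, map_natCast]
    apply mul_right_cancel₀ hpC
    calc (ω₁ - ω₂) * conj (ω₁ - ω₂) * (p : ℂ)
        = (ω₁ - ω₂) * conj (ω₁ - ω₂) * ((η₁ - η₂) * conj (η₁ - η₂)) := by rw [hg]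
      _ = ((ω₁ - ω₂) * (η₁ - η₂)) * (conj (ω₁ - ω₂) * conj (η₁ - η₂)) := by ring
      _ = (p * ((cp : ℂ) - cm)) * (p * ((cp : ℂ) - cm)) := by rw [hΔ, h1]
      _ = p * ((cp : ℂ) - cm) ^ 2 * p := by ring
  have hs2 : (ω₁ + ω₂) * conj (ω₁ + ω₂) = (2 * (k : ℂ) - p * ((cp : ℂ) + cm)) ^ 2 := by
    rw [hs]
    simp only [map_sub, map_mul, map_add, map_natCast, map_ofNat]
    ring
  have hsum : ω₁ * conj ω₁ + ω₂ * conj ω₂ =
      ((ω₁ + ω₂) * conj (ω₁ + ω₂) + (ω₁ - ω₂) * conj (ω₁ - ω₂)) / 2 := by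
    simp only [map_add, map_sub]
    ring
  -- the final equation over `ℂ`
  have hfin : (p : ℂ) * (8 * (k : ℂ)) = (p : ℂ) * (8 * (k : ℂ) ^ 2
      - 8 * ((p : ℂ) - 1) * k * ((cp : ℂ) + cm)
      + ((p : ℂ) - 1) * ((2 * (p : ℂ) - 1) * ((cp : ℂ) + cm) ^ 2 + ((cp : ℂ) - cm) ^ 2)) := by
    have E3' : 2 * (p : ℂ) * k = (k : ℂ) ^ 2 + p * (d * d)
        + ((p : ℂ) - 1) / 2 * (ω₁ * conj ω₁ + ω₂ * conj ω₂) := by
      rw [E3, hdc, hf1, hf2]; ring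
    rw [hsum, hs2, hΔ2, hd] at E3'
    linear_combination 4 * E3'
  have hfin' := mul_left_cancel₀ hpC hfin
  apply arith_int hp k cp cm hk hcp hcm
  exact_mod_cast hfin'

end Cfsg.Agent.Helper61.W2p
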