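import Mathlib
import Cfsg.Agent.Helper61.W2pDefs
import Cfsg.Agent.Helper12.HomTrace
import Cfsg.Agent.Helper79.ClassMult

/-!
# S0720 (C-MOM): the second moment of an orbital of a multiplicity-free permutation group
-/

set_option autoImplicit false

namespace Cfsg.Agent.Helper61.W2p

open Cfsg Module LinearMap
open Cfsg.Agent.Helper12 Cfsg.Agent.Helper12.Orbital
open scoped ComplexConjugate

section onedim

variable {U : Type*} [AddCommGroup U] [Module ℂ U]

/-- on a one-dimensional space the trace is multiplicative -/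
theorem trace_comp_of_finrank_one (h1 : Module.finrank ℂ U = 1) (f g : End ℂ U) :
    trace ℂ U (f ∘ₗ g) = trace ℂ U f * trace ℂ U g := by
  classical
  let b : Basis Unit ℂ U := Module.basisUnique Unit h1
  rw [trace_eq_matrix_trace ℂ b, trace_eq_matrix_trace ℂ b, trace_eq_matrix_trace ℂ b,
    LinearMap.toMatrix_comp b b b]
  simp [Matrix.trace, Matrix.mul_apply]

end onedim

section general

variable {G : Type*} [Group G] [Fintype G] {Ω : Type*} [Fintype Ω] [DecidableEq Ω]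
  [MulAction G Ω]

/-- the twisted inner product of `Helper12.HomTrace` -/
noncomputable def tau (X : End ℂ (Ω → ℂ)) (χ : G → ℂ) : ℂ :=
  (Nat.card G : ℂ)⁻¹ * ∑ g : G, trace ℂ _ (X ∘ₗ permRep ℂ G Ω g) * χ g⁻¹

/-- `tr X = ∑ ψ(1) τ_ψ(X)` -/
theorem trace_eq_sum_tau [Fintype (IrrCharacter G)] (X : End ℂ (Ω → ℂ)) :
    trace ℂ _ X = ∑ ψ : IrrCharacter G, (ψ : G → ℂ) 1 * tau X (ψ : G → ℂ) := by
  classical
  have hne : (Nat.card G : ℂ) ≠ 0 := by exact_mod_cast Nat.card_pos.ne'
  unfold tau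
  have h1 : ∀ ψ : IrrCharacter G, (ψ : G → ℂ) 1 * ((Nat.card G : ℂ)⁻¹ *
      ∑ g : G, trace ℂ _ (X ∘ₗ permRep ℂ G Ω g) * (ψ : G → ℂ) g⁻¹) =
      (Nat.card G : ℂ)⁻¹ * ∑ g : G, trace ℂ _ (X ∘ₗ permRep ℂ G Ω g) *
        ((ψ : G → ℂ) 1 * (ψ : G → ℂ) g⁻¹) := by
    intro ψ
    rw [Finset.mul_sum, Finset.mul_sum, Finset.mul_sum]
    refine Finset.sum_congr rfl fun g _ => ?_
    ring
  simp only [h1]
  rw [← Finset.mul_sum, Finset.sum_comm]
  simp only [← Finset.mul_sum]
  have h2 : ∀ g : G, ∑ ψ : IrrCharacter G, (ψ : G → ℂ) 1 * (ψ : G → ℂ) g⁻¹ =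
      if g = 1 then (Nat.card G : ℂ) else 0 := by
    intro g
    rw [Helper79.sum_irr_one_mul g⁻¹]
    simp only [inv_eq_one]
  simp only [h2]
  rw [Finset.sum_eq_single (1 : G)]
  · rw [if_pos rfl, map_one]
    have : X ∘ₗ (1 : End ℂ (Ω → ℂ)) = X := by ext; simp
    rw [this, ← mul_assoc, mul_comm _ (trace ℂ _ X), mul_assoc, inv_mul_cancel₀ hne, mul_one]
  · intro g _ hg
    rw [if_neg hg, mul_zero]
  · intro h; exact absurd (Finset.mem_univ _) h

/-- multiplicativity of `τ` on constituents of multiplicity one -/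
theorem tau_comp (A B : End ℂ (Ω → ℂ))
    (hA : ∀ g : G, A ∘ₗ permRep ℂ G Ω g = permRep ℂ G Ω g ∘ₗ A)
    (hB : ∀ g : G, B ∘ₗ permRep ℂ G Ω g = permRep ℂ G Ω g ∘ₗ B)
    {χ : G → ℂ} (hχ : IsIrrCharacter G χ) (h1 : classInner (pc G Ω) χ = 1) :
    tau (A ∘ₗ B) χ = tau A χ * tau B χ := by
  obtain ⟨n, ρ, -, rfl⟩ := hχ
  have hAB : ∀ g : G, (A ∘ₗ B) ∘ₗ permRep ℂ G Ω g = permRep ℂ G Ω g ∘ₗ (A ∘ₗ B) := by
    intro g
    rw [LinearMap.comp_assoc, hB g, ← LinearMap.comp_assoc, hA g, LinearMap.comp_assoc]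
  unfold tau
  rw [← HomTrace.trace_T ρ (permRep ℂ G Ω) A hA, ← HomTrace.trace_T ρ (permRep ℂ G Ω) B hB,
    ← HomTrace.trace_T ρ (permRep ℂ G Ω) (A ∘ₗ B) hAB]
  have hT : HomTrace.T ρ (permRep ℂ G Ω) (A ∘ₗ B) hAB =
      HomTrace.T ρ (permRep ℂ G Ω) A hA ∘ₗ HomTrace.T ρ (permRep ℂ G Ω) B hB := by
    apply LinearMap.ext
    intro φ
    apply Subtype.ext
    rw [LinearMap.comp_apply, HomTrace.T_apply, HomTrace.T_apply, HomTrace.T_apply,
      LinearMap.comp_assoc]
  rw [hT]
  have h2 := Orbital.classInner_perm_rep (G := G) (Ω := Ω) ρ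
  rw [h1] at h2
  have h3 : Module.finrank ℂ (Representation.linHom ρ (permRep ℂ G Ω)).invariants = 1 := by
    exact_mod_cast h2.symm
  exact trace_comp_of_finrank_one
    (U := ↥(Representation.linHom ρ (permRep ℂ G Ω)).invariants) h3 _ _

/-- `τ` vanishes outside the constituents -/
theorem tau_eq_zero (A : End ℂ (Ω → ℂ))
    (hA : ∀ g : G, A ∘ₗ permRep ℂ G Ω g = permRep ℂ G Ω g ∘ₗ A)
    {χ : G → ℂ} (hχ : IsIrrCharacter G χ) (h0 : classInner (pc G Ω) χ = 0) :
    tau A χ = 0 := by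
  obtain ⟨n, ρ, -, rfl⟩ := hχ
  unfold tau
  apply HomTrace.twisted_eq_zero ρ (permRep ℂ G Ω) A hA
  have h2 := Orbital.classInner_perm_rep (G := G) (Ω := Ω) ρ
  rw [h0] at h2
  exact_mod_cast h2.symm

section rel

variable (R : Ω → Ω → Prop)

open Classical in
/-- the trace of `adj R ∘ adj Rᵀ` counts the pairs in `R` -/
theorem trace_adj_comp_adj_transpose :
    trace ℂ _ (adj R ∘ₗ adj (fun z w => R w z)) =
      ((Finset.univ.filter fun zw : Ω × Ω => R zw.1 zw.2).card : ℂ) := by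
  rw [trace_pi]
  simp only [LinearMap.comp_apply, adj_apply, Pi.single_apply]
  have h1 : ∀ z : Ω, (∑ w : Ω, if R z w then (∑ v : Ω, if R v w then
      (if v = z then (1 : ℂ) else 0) else 0) else 0) = ∑ w : Ω, if R z w then (1 : ℂ) else 0 := by
    intro z
    refine Finset.sum_congr rfl fun w _ => ?_
    split_ifs with hzw
    · rw [Finset.sum_eq_single z]
      · simp [hzw]
      · intro v _ hv
        simp [hv]
      · intro h; exact absurd (Finset.mem_univ _) h
    · rfl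
  simp only [h1]
  rw [Finset.card_filter, Nat.cast_sum, ← Finset.univ_product_univ, Finset.sum_product]
  refine Finset.sum_congr rfl fun z _ => ?_
  refine Finset.sum_congr rfl fun w _ => ?_
  split_ifs <;> simp

open Classical in
/-- `τ(adj R) = ⟨θ_R, χ⟩` -/
theorem tau_adj {χ : G → ℂ} (hχ : IsIrrCharacter G χ) :
    tau (G := G) (adj R) χ = classInner (theta (G := G) R) χ := by
  obtain ⟨n, ρ, -, rfl⟩ := hχ
  rw [classInner_theta_rep]
  rfl

open Classical in
/-- `τ(adj Rᵀ) = conj ⟨θ_R, χ⟩` -/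
theorem tau_adj_transpose {χ : G → ℂ} (hχ : IsIrrCharacter G χ) :
    tau (G := G) (adj (fun z w => R w z)) χ = conj (classInner (theta (G := G) R) χ) := by
  obtain ⟨n, ρ, -, rfl⟩ := hχ
  unfold tau classInner
  rw [map_mul, map_inv₀, Complex.conj_natCast, map_sum]
  congr 1
  -- reindex by `g ↦ g⁻¹`
  rw [← Equiv.sum_comp (Equiv.inv G)]
  refine Finset.sum_congr rfl fun g _ => ?_
  simp only [Equiv.inv_apply, inv_inv]
  rw [trace_adj_comp, map_mul, Complex.conj_conj]
  congr 1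
  unfold theta
  rw [Complex.conj_natCast]
  congr 1
  refine Finset.card_bij (fun z _ => g⁻¹ • z) ?_ ?_ ?_
  · intro z hz
    simp only [Finset.mem_filter, Finset.mem_univ, true_and] at hz ⊢
    rwa [smul_inv_smul]
  · intro z _ z' _ h
    exact smul_left_cancel _ h
  · intro w hw
    simp only [Finset.mem_filter, Finset.mem_univ, true_and] at hw
    refine ⟨g • w, ?_, inv_smul_smul g w⟩
    simp only [Finset.mem_filter, Finset.mem_univ, true_and]
    rwa [inv_smul_smul]

open Classical in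
/-- **the second moment** of a `G`-invariant relation in a multiplicity-free permutation group -/
theorem moment_general [Fintype (IrrCharacter G)]
    (hR : ∀ (g : G) z w, R (g • z) (g • w) ↔ R z w)
    (hmf : ∀ ψ : IrrCharacter G, classInner (pc G Ω) (ψ : G → ℂ) = 0 ∨
      classInner (pc G Ω) (ψ : G → ℂ) = 1) :
    ((Finset.univ.filter fun zw : Ω × Ω => R zw.1 zw.2).card : ℂ) =
      ∑ ψ : IrrCharacter G, (ψ : G → ℂ) 1 *
        (classInner (theta (G := G) R) (ψ : G → ℂ) *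
          conj (classInner (theta (G := G) R) (ψ : G → ℂ))) := by
  have hRt : ∀ (g : G) z w, (fun z w => R w z) (g • z) (g • w) ↔ (fun z w => R w z) z w :=
    fun g z w => hR g w z
  have hA := adj_comm G R hR
  have hB := adj_comm G (fun z w => R w z) hRt
  rw [← trace_adj_comp_adj_transpose, trace_eq_sum_tau (G := G)]
  refine Finset.sum_congr rfl fun ψ _ => ?_
  congr 1
  rcases hmf ψ with h0 | h1
  · have hAB : ∀ g : G, (adj R ∘ₗ adj (fun z w => R w z)) ∘ₗ permRep ℂ G Ω g =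
        permRep ℂ G Ω g ∘ₗ (adj R ∘ₗ adj (fun z w => R w z)) := by
      intro g
      rw [LinearMap.comp_assoc, hB g, ← LinearMap.comp_assoc, hA g, LinearMap.comp_assoc]
    rw [tau_eq_zero _ hAB ψ.2 h0, ← tau_adj R ψ.2, tau_eq_zero _ hA ψ.2 h0, zero_mul]
  · rw [tau_comp _ _ hA hB ψ.2 h1, tau_adj R ψ.2, tau_adj_transpose R ψ.2]

end rel

end general

end Cfsg.Agent.Helper61.W2p

namespace Cfsg.Agent.Helper61.W2p

open Cfsg Module LinearMap
open Cfsg.Agent.Helper12 Cfsg.Agent.Helper12.Orbital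
open scoped ComplexConjugate

section gam

variable {G : Type*} [Group G] [Fintype G] {Ω : Type*} [Fintype Ω] [DecidableEq Ω]
  [MulAction G Ω] {p : ℕ} {x : G} {θ χ₁ χ₂ : G → ℂ} {κ : ℕ}

open Classical in
/-- the multiplicities in the configuration `Gam` -/
theorem gam_inner (h : Gam G Ω p x θ χ₁ χ₂ κ) (ψ : IrrCharacter G) :
    classInner (pc G Ω) (ψ : G → ℂ) =
      (if Helper74.irrTriv G = ψ then 1 else 0) + (if (⟨θ, h.hθ⟩ : IrrCharacter G) = ψ then 1 else 0)
      + (if (⟨χ₁, h.h₁⟩ : IrrCharacter G) = ψ then 1 else 0)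
      + (if (⟨χ₂, h.h₂⟩ : IrrCharacter G) = ψ then 1 else 0) := by
  have e : pc G Ω = (Helper74.irrTriv G : G → ℂ) + ((⟨θ, h.hθ⟩ : IrrCharacter G) : G → ℂ)
      + ((⟨χ₁, h.h₁⟩ : IrrCharacter G) : G → ℂ) + ((⟨χ₂, h.h₂⟩ : IrrCharacter G) : G → ℂ) := by
    rw [h.hπ]
    funext g
    simp [Helper74.irrTriv_apply]
  rw [e, Helper74.classInner_add_left, Helper74.classInner_add_left,
    Helper74.classInner_add_left, Helper74.irr_orthonormal, Helper74.irr_orthonormal,
    Helper74.irr_orthonormal, Helper74.irr_orthonormal]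

open Classical in
/-- (C-MOM) the second moment -/
theorem second_moment (h : Gam G Ω p x θ χ₁ χ₂ κ) (a b : Ω) :
    2 * (p : ℂ) * (kk G a b : ℂ) = (kk G a b : ℂ) ^ 2 + p * (ev G a b θ * conj (ev G a b θ))
      + χ₁ 1 * (ev G a b χ₁ * conj (ev G a b χ₁)) + χ₂ 1 * (ev G a b χ₂ * conj (ev G a b χ₂)) := by
  have : MulAction.IsPretransitive G Ω := h.S.hprim.toIsPretransitive
  have := Helper74.irrFintype G
  set T0 : IrrCharacter G := Helper74.irrTriv G with hT0
  set Tθ : IrrCharacter G := ⟨θ, h.hθ⟩ with hTθ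
  set T1 : IrrCharacter G := ⟨χ₁, h.h₁⟩ with hT1
  set T2 : IrrCharacter G := ⟨χ₂, h.h₂⟩ with hT2
  have n0θ : T0 ≠ Tθ := fun e => h.hθ1 (congrArg Subtype.val e).symm
  have n01 : T0 ≠ T1 := fun e => h.h11 (congrArg Subtype.val e).symm
  have n02 : T0 ≠ T2 := fun e => h.h21 (congrArg Subtype.val e).symm
  have nθ1 : Tθ ≠ T1 := fun e => h.hθ₁ (congrArg Subtype.val e)
  have nθ2 : Tθ ≠ T2 := fun e => h.hθ₂ (congrArg Subtype.val e)
  have n12 : T1 ≠ T2 := fun e => h.h₁₂ (congrArg Subtype.val e)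
  have hR : ∀ (g : G) z w, orbRel G a b (g • z) (g • w) ↔ orbRel G a b z w :=
    fun g z w => orbRel_smul a b g z w
  -- multiplicity-free
  have hmf : ∀ ψ : IrrCharacter G, classInner (pc G Ω) (ψ : G → ℂ) = 0 ∨
      classInner (pc G Ω) (ψ : G → ℂ) = 1 := by
    intro ψ
    rw [gam_inner h ψ]
    by_cases e0 : T0 = ψ
    · rw [if_pos e0, if_neg (fun e => n0θ (e0.trans e.symm)), if_neg (fun e => n01 (e0.trans e.symm)),
        if_neg (fun e => n02 (e0.trans e.symm))]
      right; norm_num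
    · by_cases eθ : Tθ = ψ
      · rw [if_neg e0, if_pos eθ, if_neg (fun e => nθ1 (eθ.trans e.symm)),
          if_neg (fun e => nθ2 (eθ.trans e.symm))]
        right; norm_num
      · by_cases e1 : T1 = ψ
        · rw [if_neg e0, if_neg eθ, if_pos e1, if_neg (fun e => n12 (e1.trans e.symm))]
          right; norm_num
        · by_cases e2 : T2 = ψ
          · rw [if_neg e0, if_neg eθ, if_neg e1, if_pos e2]
            right; norm_num
          · rw [if_neg e0, if_neg eθ, if_neg e1, if_neg e2]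
            left; norm_num
  have hgen := moment_general (G := G) (orbRel G a b) hR hmf
  -- the left side
  have hleft : ((Finset.univ.filter fun zw : Ω × Ω => orbRel G a b zw.1 zw.2).card : ℂ) =
      2 * (p : ℂ) * (kk G a b : ℂ) := by
    rw [Finset.card_filter, ← Finset.univ_product_univ, Finset.sum_product]
    have : ∀ z : Ω, (∑ w : Ω, if orbRel G a b z w then 1 else 0) = kk G a b := by
      intro z
      rw [← Finset.card_filter, card_orbRel_row]
      rfl
    simp only [this, Finset.sum_const, Finset.card_univ, h.S.hcard, smul_eq_mul]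
    push_cast
    ring
  rw [hleft] at hgen
  rw [hgen]
  -- the right side: only four terms survive
  have hzero : ∀ ψ : IrrCharacter G, ψ ∉ ({T0, Tθ, T1, T2} : Finset (IrrCharacter G)) →
      (ψ : G → ℂ) 1 * (classInner (theta (G := G) (orbRel G a b)) (ψ : G → ℂ) *
        conj (classInner (theta (G := G) (orbRel G a b)) (ψ : G → ℂ))) = 0 := by
    intro ψ hψ
    simp only [Finset.mem_insert, Finset.mem_singleton, not_or] at hψ
    have h0 : classInner (pc G Ω) (ψ : G → ℂ) = 0 := by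
      rw [gam_inner h ψ, if_neg (Ne.symm hψ.1), if_neg (Ne.symm hψ.2.1),
        if_neg (Ne.symm hψ.2.2.1), if_neg (Ne.symm hψ.2.2.2)]
      norm_num
    rw [classInner_theta_eq_zero _ hR ψ.2 h0]
    simp
  rw [← Finset.sum_subset (Finset.subset_univ ({T0, Tθ, T1, T2} : Finset (IrrCharacter G)))
    (fun ψ _ hψ => hzero ψ hψ)]
  rw [Finset.sum_insert (by simp [n0θ, n01, n02]), Finset.sum_insert (by simp [nθ1, nθ2]),
    Finset.sum_insert (by simp [n12]), Finset.sum_singleton]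
  have hk : classInner (theta (G := G) (orbRel G a b)) (T0 : G → ℂ) = (kk G a b : ℂ) :=
    classInner_theta_one a b
  rw [hk]
  simp only [hT0, Helper74.irrTriv_apply, hTθ, hT1, hT2, h.dθ, Complex.conj_natCast]
  unfold ev
  ring

end gam

end Cfsg.Agent.Helper61.W2p
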