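import Mathlib
import Cfsg.Agent.Helper61.W2pDefs
import Cfsg.Agent.S0713
import Cfsg.Agent.S0719
import Cfsg.Agent.Helper10.W2pCEXP
import Cfsg.Agent.Helper12.W2pB4
import Cfsg.Agent.Helper12.W2pB6
import Cfsg.Agent.Helper14.W2pCFourier
import Cfsg.Agent.Helper23.W2pB3
import Cfsg.Agent.Helper23.W2pB5a
import Cfsg.Agent.Helper23.W2pJ1
import Cfsg.Agent.Helper23.W2pJ23
import Cfsg.Agent.Helper23.W2pPW
import Cfsg.Agent.Helper35.W2pF4
import Cfsg.Agent.Helper35.W2pNN
import Cfsg.Agent.Helper35.W2pNR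
import Cfsg.Agent.Helper55.W2pB5b
import Cfsg.Agent.Helper55.W2pFA
import Cfsg.Agent.Helper59.W2pCnt
import Cfsg.Agent.Helper61.W2pArith
import Cfsg.Agent.Helper61.W2pMom
import Cfsg.Agent.Helper73.W2pB1
import Cfsg.Agent.Helper73.W2pB2

/-!
# S0720 (Wielandt, degree 2p): the glue; the pieces are cited by name from the helpers.
-/

set_option autoImplicit false

namespace Cfsg.Agent.Helper61.W2p

open Cfsg
open Cfsg.Agent.Helper10.W2p Cfsg.Agent.Helper12.W2p Cfsg.Agent.Helper14.W2p Cfsg.Agent.Helper23.W2p Cfsg.Agent.Helper35.W2p Cfsg.Agent.Helper55.W2p Cfsg.Agent.Helper59.W2p Cfsg.Agent.Helper73.W2p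
open scoped ComplexConjugate

/-! ## Part A: permutation group reductions (subgroups of `Perm α`) -/

section partA

variable {α : Type*} [Fintype α] [DecidableEq α]

/-- (JP) the Jordan reduction (glue of J1, J2, J3) -/
theorem jordan_part {p : ℕ} (hp : p.Prime) (hodd : p ≠ 2) (hα : Fintype.card α = 2 * p)
    (G : Subgroup (Equiv.Perm α)) (hG : MulAction.IsPreprimitive G α) :
    MulAction.IsMultiplyPretransitive G α 2 ∨
      (¬ p ^ 2 ∣ Nat.card G ∧ ∀ g : G, p ∣ orderOf g → ∀ a : α, g • a ≠ a) := by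
  by_cases h : ∃ g : G, p ∣ orderOf g ∧ ∃ a : α, g • a = a
  · left
    obtain ⟨g, hg, a, ha⟩ := h
    obtain ⟨m, hm⟩ := hg
    -- `g ^ m` has order `p` and fixes `a`
    have hpos : 0 < orderOf g := orderOf_pos g
    have hm0 : 0 < m := by
      rcases Nat.eq_zero_or_pos m with h0 | h0
      · rw [h0, mul_zero] at hm; omega
      · exact h0
    have ho : orderOf (g ^ m) = p := by
      rw [orderOf_pow' g hm0.ne', hm, Nat.gcd_eq_right ⟨p, mul_comm p m⟩,
        Nat.mul_div_cancel _ hm0]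
    have ho' : orderOf ((g ^ m : G) : Equiv.Perm α) = p := by
      rw [Subgroup.orderOf_coe]; exact ho
    have hfix : ((g ^ m : G) : Equiv.Perm α) a = a := by
      have h1 : ∀ k : ℕ, (g ^ k) • a = a := by
        intro k
        induction k with
        | zero => simp
        | succ k ih => rw [pow_succ, mul_smul, ha, ih]
      exact h1 m
    obtain ⟨hc, hs⟩ := cycle_of_fixed hp hα _ ho' a hfix
    exact two_trans_of_cycle hp hodd hα G hG _ (g ^ m).2 hc hs
  · right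
    push Not at h
    refine ⟨?_, fun g hg a => h g hg a⟩
    intro hsq
    obtain ⟨g, hg, a, ha⟩ := exists_fixed_of_sq_dvd hp hodd hα G hG.toIsPretransitive hsq
    exact h g (by rw [hg]) a ha

end partA

/-! ## Part B: the permutation character -/

section partB

variable {G : Type*} [Group G] [Fintype G] {Ω : Type*} [Fintype Ω] [MulAction G Ω] {p : ℕ}

end partB

/-! ## Part C: killing the rank four configuration -/

section partC

variable {G : Type*} [Group G] [Fintype G] {Ω : Type*} [Fintype Ω] [DecidableEq Ω]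
  [MulAction G Ω] {p : ℕ} {x : G} {θ χ₁ χ₂ : G → ℂ} {κ : ℕ}

/-- per orbital: the two counts `cp = cnt(x)/p`, `cm = cnt(x^κ)/p` -/
theorem orbital_facts (h : Gam G Ω p x θ χ₁ χ₂ κ) (a b : Ω) (hab : b ≠ a) :
    ∃ cp cm : ℕ, cnt G a b x = p * cp ∧ cnt G a b (x ^ κ) = p * cm ∧
      ¬ ((cp = 1 ∧ cm ≠ 1) ∨ (cp ≠ 1 ∧ cm = 1)) ∧ (cp = 0 → cm = 0 → kk G a b = 1) := by
  have hp := h.S.hp
  have hppos : 0 < p := hp.pos
  have hpC : (p : ℂ) ≠ 0 := by exact_mod_cast hppos.ne'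
  -- `p` divides `|G|`
  have hpG : p ∣ Nat.card G := by rw [← h.hx]; exact orderOf_dvd_natCard x
  have hκp : ¬ p ∣ κ := by
    intro hd
    have := Nat.dvd_gcd hd hpG
    rw [h.hκ] at this
    exact hp.one_lt.ne' (Nat.dvd_one.mp this)
  have hoκ : orderOf (x ^ κ) = p := by
    rw [Nat.Coprime.orderOf_pow]
    · exact h.hx
    · rw [h.hx]
      exact (Nat.Prime.coprime_iff_not_dvd hp).mpr hκp
  obtain ⟨cp, hcp⟩ := dvd_cnt h.S x h.hx a b
  obtain ⟨cm, hcm⟩ := dvd_cnt h.S (x ^ κ) hoκ a b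
  have hle : ∀ y : G, cnt G a b y ≤ 2 * p := by
    intro y
    rw [← h.S.hcard]
    exact Finset.card_le_univ _
  have hcp2 : cp ≤ 2 := by
    have := hle x
    rw [hcp] at this
    nlinarith
  have hcm2 : cm ≤ 2 := by
    have := hle (x ^ κ)
    rw [hcm] at this
    nlinarith
  -- the values at `x`
  have hpcx : pc G Ω x = 0 := by
    have : MulAction.fixedBy Ω x = ∅ := by
      ext z
      simp only [MulAction.mem_fixedBy, Set.mem_empty_iff_false, iff_false]
      exact h.S.hfix x (by rw [h.hx]) z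
    show ((Nat.card (MulAction.fixedBy Ω x) : ℕ) : ℂ) = 0
    rw [this]; simp
  have hθx : θ x = 0 := by
    have := h.vθ 1 (by intro hd; exact hp.one_lt.ne' (Nat.dvd_one.mp hd))
    rwa [pow_one] at this
  have hθxκ : θ (x ^ κ) = 0 := h.vθ κ hκp
  have hη : χ₁ x + χ₂ x = -1 := by
    have := congrFun h.hπ x
    rw [hpcx] at this
    simp only [hθx] at this
    linear_combination -this
  have hkpos : 0 < kk G a b := by
    unfold kk
    have : Nonempty (MulAction.orbit (MulAction.stabilizer G a) b) :=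
      ⟨⟨b, MulAction.mem_orbit_self b⟩⟩
    exact Nat.card_pos
  have E1 : (kk G a b : ℂ) + p * ev G a b θ + χ₁ 1 * ev G a b χ₁ + χ₂ 1 * ev G a b χ₂ = 0 := by
    have h1 := theta_expansion h a b 1
    have h0 : cnt G a b (1 : G) = 0 := by
      classical
      unfold cnt
      rw [Finset.card_eq_zero, Finset.filter_eq_empty_iff]
      intro z _
      rw [one_smul]
      exact Helper12.Orbital.orbRel_irrefl hab z
    rw [h0, h.dθ] at h1
    push_cast at h1
    linear_combination -h1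
  have E2p : (p : ℂ) * cp = kk G a b + ev G a b χ₁ * χ₁ x + ev G a b χ₂ * χ₂ x := by
    have h1 := theta_expansion h a b x
    rw [hcp, hθx] at h1
    push_cast at h1
    linear_combination h1
  have E2m : (p : ℂ) * cm = kk G a b + ev G a b χ₁ * χ₂ x + ev G a b χ₂ * χ₁ x := by
    have h1 := theta_expansion h a b (x ^ κ)
    rw [hcm, hθxκ, h.tw₁, h.tw₂] at h1
    push_cast at h1
    linear_combination h1
  have E3 := second_moment h a b
  obtain ⟨hA, hB⟩ := arith hp h.S.hodd (kk G a b) cp cm hkpos hcp2 hcm2 (χ₁ 1) (χ₂ 1)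
    (ev G a b θ) (ev G a b χ₁) (ev G a b χ₂) (χ₁ x) (χ₂ x) h.d₁ h.d₂ hη (gauss h) E1 E2p E2m E3
  exact ⟨cp, cm, hcp, hcm, hA, hB⟩

/-- (G) the rank four configuration is impossible -/
theorem gamma_false [Nonempty Ω] (h : Gam G Ω p x θ χ₁ χ₂ κ) : False := by
  have hp := h.S.hp
  have hppos : 0 < p := hp.pos
  obtain ⟨a⟩ := ‹Nonempty Ω›
  obtain ⟨b₁, b₂, b₃, h1, h2, h3, h12, h13, h23⟩ := exists_three h a
  obtain ⟨cp₁, cm₁, e1, e1', A1, B1⟩ := orbital_facts h a b₁ h1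
  obtain ⟨cp₂, cm₂, e2, e2', A2, B2⟩ := orbital_facts h a b₂ h2
  obtain ⟨cp₃, cm₃, e3, e3', A3, B3⟩ := orbital_facts h a b₃ h3
  have hs := cnt_add_le (G := G) a b₁ b₂ b₃ h12 h13 h23 x
  have hs' := cnt_add_le (G := G) a b₁ b₂ b₃ h12 h13 h23 (x ^ κ)
  rw [e1, e2, e3, h.S.hcard] at hs
  rw [e1', e2', e3', h.S.hcard] at hs'
  have hsum : cp₁ + cp₂ + cp₃ ≤ 2 := by nlinarith
  have hsum' : cm₁ + cm₂ + cm₃ ≤ 2 := by nlinarith
  have hfin : Finite G := Finite.of_fintype G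
  have hnp : ¬ (Fintype.card Ω).Prime := by
    rw [h.S.hcard]
    intro hpr
    have := (Nat.prime_mul_iff.mp hpr)
    rcases this with ⟨_, h1⟩ | ⟨_, h2⟩
    · exact hp.one_lt.ne' h1
    · norm_num at h2
  have hfa := h.S.hfaith
  have N1 := subdegree_ne_one (G := G) h.S.hprim hnp a b₁ h1
  have N2 := subdegree_ne_one (G := G) h.S.hprim hnp a b₂ h2
  have N3 := subdegree_ne_one (G := G) h.S.hprim hnp a b₃ h3
  have Z1 : ¬ (cp₁ = 0 ∧ cm₁ = 0) := fun hh => N1 (B1 hh.1 hh.2)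
  have Z2 : ¬ (cp₂ = 0 ∧ cm₂ = 0) := fun hh => N2 (B2 hh.1 hh.2)
  have Z3 : ¬ (cp₃ = 0 ∧ cm₃ = 0) := fun hh => N3 (B3 hh.1 hh.2)
  omega

end partC

/-! ## The main theorem -/

section main

variable {G : Type*} [Group G] [Fintype G] {Ω : Type*} [Fintype Ω] [DecidableEq Ω]
  [MulAction G Ω] {p : ℕ}

/-- the abstract form: under `Setup` and the Brauer bound -/
theorem main_abstract (S : Setup G Ω p)
    (hB : ∀ χ : G → ℂ, IsIrrCharacter G χ → χ ≠ (fun _ => 1) → classInner (pc G Ω) χ ≠ 0 →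
      ∃ n : ℕ, χ 1 = n ∧ p ≤ 2 * n + 1) (a₀ : Ω) :
    MulAction.IsMultiplyPretransitive G Ω 2 ∨
    (Nat.card (MulAction.orbitRel.Quotient (MulAction.stabilizer G a₀) Ω) = 3 ∧
      ∃ a : ℕ, 0 < a ∧ p = 2 * a ^ 2 + 2 * a + 1 ∧ ∀ b : Ω, b ≠ a₀ →
        Nat.card (MulAction.orbit (MulAction.stabilizer G a₀) b) = a * (2 * a + 1) ∨
        Nat.card (MulAction.orbit (MulAction.stabilizer G a₀) b) = (a + 1) * (2 * a + 1)) := by
  have hp := S.hp
  have : MulAction.IsPretransitive G Ω := S.hprim.toIsPretransitive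
  -- an element of order `p`
  have hpG : p ∣ Nat.card G := by
    have h1 : Fintype.card Ω ∣ Nat.card G := by
      rw [← Nat.card_eq_fintype_card (α := Ω), ← MulAction.index_stabilizer_of_transitive G a₀]
      exact Subgroup.index_dvd_card _
    rw [S.hcard] at h1
    exact (Dvd.intro_left 2 rfl).trans h1
  haveI : Fact p.Prime := ⟨hp⟩
  obtain ⟨x, hx⟩ := exists_prime_orderOf_dvd_card' p hpG
  obtain ⟨θ, hθ, hθ1, hm, hsum, hrest, hinv⟩ := exists_theta S x hx
  have hc : classInner (pc G Ω) θ ≠ 0 := by rw [hm]; exact one_ne_zero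
  rcases theta_degree S x hx θ hθ hθ1 hm hsum hinv with h1 | ⟨hd, hv⟩ | h2p
  · exact absurd h1 (not_linear S θ hθ hθ1 hc)
  · rcases split_cases S θ hθ hθ1 hm hd hB with ⟨χ, hχ, hπ⟩ | ⟨χ₁, χ₂, h₁, h₂, h11, h21, hπ, d₁, d₂⟩
    · right
      exact rank3_case S θ χ hθ hχ hπ hd a₀
    · exfalso
      obtain ⟨hne, κ, hκ, tw₁, tw₂⟩ := exists_swap S x hx θ χ₁ χ₂ hθ h₁ h₂ hπ hd h11 h21 d₁ d₂ hv hinv
      -- the remaining fields of `Gam`
      have hθ₁ : θ ≠ χ₁ := by
        intro h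
        have e := d₁
        rw [← h, hd] at e
        -- 2p + 1 = p
        have : (2 * p + 1 : ℕ) = p := by exact_mod_cast e
        omega
      have hθ₂ : θ ≠ χ₂ := by
        intro h
        have e := d₂
        rw [← h, hd] at e
        have : (2 * p + 1 : ℕ) = p := by exact_mod_cast e
        omega
      haveI : Nonempty Ω := ⟨a₀⟩
      exact gamma_false (G := G) (Ω := Ω)
        { S := S, hx := hx, hθ := hθ, h₁ := h₁, h₂ := h₂, hθ1 := hθ1, h11 := h11, h21 := h21,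
          hθ₁ := hθ₁, hθ₂ := hθ₂, h₁₂ := hne, hπ := hπ, dθ := hd, d₁ := d₁, d₂ := d₂, vθ := hv,
          twθ := hinv, hκ := hκ, tw₁ := tw₁, tw₂ := tw₂ }
  · left
    exact two_trans_of_degree S θ hθ hc h2p

end main

end Cfsg.Agent.Helper61.W2p
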