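import Cfsg.Agent.Helper61.Zassenhaus

set_option autoImplicit false

/-! Zassenhaus groups of odd degree are simple (involution counting). -/

namespace Cfsg.Agent.Helper61.Zassenhaus

open MulAction Cfsg.Agent.Helper61.TwoTrans

variable {G Ω : Type*} [Group G] [MulAction G Ω]

/-- An element interchanging two points has a power which is an involution. -/
theorem exists_involution_of_swap {x : G} [Finite G] {a b : Ω} (hab : a ≠ b) (hxa : x • a = b)
    (hxb : x • b = a) : ∃ k : ℕ, x ^ k ≠ 1 ∧ x ^ k * x ^ k = 1 := by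
  have hpos : 0 < orderOf x := orderOf_pos x
  have hx2 : ∀ j : ℕ, (x ^ (2 * j)) • b = b := by
    intro j
    induction j with
    | zero => simp
    | succ j ih =>
      rw [show 2 * (j + 1) = 2 + 2 * j by ring, pow_add, mul_smul, ih, pow_two, mul_smul, hxb, hxa]
  have heven : 2 ∣ orderOf x := by
    by_contra hodd
    have hodd' : orderOf x % 2 = 1 := by omega
    have : orderOf x = 2 * (orderOf x / 2) + 1 := by omega
    have h1 : (x ^ orderOf x) • a = b := by
      rw [this, pow_succ, mul_smul, hxa]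
      exact hx2 _
    rw [pow_orderOf_eq_one, one_smul] at h1
    exact hab h1
  refine ⟨orderOf x / 2, ?_, ?_⟩
  · intro h
    have := orderOf_dvd_of_pow_eq_one h
    have h2 := Nat.le_of_dvd (by omega) this
    omega
  · rw [← pow_add]
    have : orderOf x / 2 + orderOf x / 2 = orderOf x := by omega
    rw [this, pow_orderOf_eq_one]

/-- An involution of a Zassenhaus group of odd degree fixes exactly one point. -/
theorem card_fixed_involution [Fintype Ω] [DecidableEq Ω]
    (h3f : ∀ g : G, ∀ a b c : Ω, a ≠ b → b ≠ c → a ≠ c → g • a = a → g • b = b → g • c = c → g = 1)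
    (hodd : Odd (Fintype.card Ω)) (t : G) (ht1 : t ≠ 1) (htt : t * t = 1) :
    (Finset.univ.filter (fun a : Ω => t • a = a)).card = 1 := by
  have hmod : (Finset.univ.filter (fun a : Ω => t • a = a)).card ≡ Fintype.card Ω [MOD 2] := by
    haveI : Fact (Nat.Prime 2) := ⟨Nat.prime_two⟩
    have hσ : (MulAction.toPerm t : Equiv.Perm Ω) ^ 2 ^ 1 = 1 := by
      ext a
      simp [pow_two, ← mul_smul, htt]
    have := Equiv.Perm.card_compl_support_modEq hσ
    convert this using 2
    ext a
    simp [Equiv.Perm.mem_support]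
  have hle : (Finset.univ.filter (fun a : Ω => t • a = a)).card ≤ 2 := by
    by_contra hgt
    push Not at hgt
    obtain ⟨a, b, c, ha, hb, hc, hab, hac, hbc⟩ := Finset.two_lt_card_iff.mp hgt
    simp only [Finset.mem_filter, Finset.mem_univ, true_and] at ha hb hc
    exact ht1 (h3f t a b c hab hbc hac ha hb hc)
  have h1 := Nat.odd_iff.mp hodd
  unfold Nat.ModEq at hmod
  omega

/-- A non-trivial normal subgroup of a Zassenhaus group of odd degree is the whole group. -/
theorem eq_top_of_normal_of_odd [Fintype Ω] (hZ : Cfsg.IsZassenhausGroup G Ω)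
    (hodd : Odd (Fintype.card Ω)) (N : Subgroup G) [hNn : N.Normal] (hN : N ≠ ⊥) : N = ⊤ := by
  classical
  have h3 := three_le_card hZ
  have hdbl := dblTrans_of_normal hZ N hN
  obtain ⟨hf, h2, h3f, h4, h5⟩ := hZ
  haveI : Finite G := finite_of_faithful (Ω := Ω)
  haveI : Fintype G := Fintype.ofFinite G
  rw [Nat.card_eq_fintype_card] at h3
  -- two distinct points
  obtain ⟨α, β, hαβ⟩ : ∃ α β : Ω, α ≠ β := by
    have : 1 < Fintype.card Ω := by omega
    exact Fintype.exists_pair_of_one_lt_card this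
  -- involutions of N
  let inv : Finset G := Finset.univ.filter (fun t => t ∈ N ∧ t ≠ 1 ∧ t * t = 1)
  have hmem_inv : ∀ t : G, t ∈ inv ↔ (t ∈ N ∧ t ≠ 1 ∧ t * t = 1) := by
    intro t; simp [inv]
  let S : Ω → Ω → Finset G := fun a b => inv.filter (fun t => t • a = b)
  have hmem_S : ∀ (a b : Ω) (t : G), t ∈ S a b ↔ (t ∈ inv ∧ t • a = b) := by
    intro a b t; simp [S]
  -- conjugation invariance
  have hconj : ∀ x ∈ N, ∀ a b : Ω, (S a b).card ≤ (S (x • a) (x • b)).card := by
    intro x hx a b
    apply Finset.card_le_card_of_injOn (fun t => x * t * x⁻¹)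
    · intro t ht
      have ht' := (hmem_S a b t).mp ht
      obtain ⟨htinv, hta⟩ := ht'
      obtain ⟨htN, ht1, htt⟩ := (hmem_inv t).mp htinv
      apply (hmem_S _ _ _).mpr
      refine ⟨(hmem_inv _).mpr ⟨N.mul_mem (N.mul_mem hx htN) (N.inv_mem hx), ?_, ?_⟩, ?_⟩
      · intro h
        have h : x * t * x⁻¹ = 1 := h
        apply ht1
        have : t = x⁻¹ * (x * t * x⁻¹) * x := by group
        rw [this, h]; group
      · have : x * t * x⁻¹ * (x * t * x⁻¹) = x * (t * t) * x⁻¹ := by group
        rw [this, htt]; group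
      · rw [mul_smul, mul_smul, inv_smul_smul, hta]
    · intro t _ t' _ h
      simpa using h
  have hconj_eq : ∀ x ∈ N, ∀ a b a' b' : Ω, x • a = a' → x • b = b' →
      (S a b).card = (S a' b').card := by
    intro x hx a b a' b' ha hb
    apply le_antisymm
    · rw [← ha, ← hb]; exact hconj x hx a b
    · have := hconj x⁻¹ (N.inv_mem hx) a' b'
      rwa [← ha, ← hb, inv_smul_smul, inv_smul_smul, ha, hb] at this
  -- first count: by fixed point
  have hfix1 := card_fixed_involution h3f hodd
  have hcount2 : inv.card = ∑ a : Ω, (S a a).card := by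
    have h1 : inv.card = ∑ t ∈ inv, (Finset.univ.filter (fun a : Ω => t • a = a)).card := by
      rw [Finset.card_eq_sum_ones]
      apply Finset.sum_congr rfl
      intro t ht
      obtain ⟨_, ht1, htt⟩ := (hmem_inv t).mp ht
      exact (hfix1 t ht1 htt).symm
    rw [h1]
    exact Finset.sum_card_bipartiteAbove_eq_sum_card_bipartiteBelow (fun (t : G) (a : Ω) => t • a = a)
  have hSaa : ∀ a : Ω, (S a a).card = (S α α).card := by
    intro a
    by_cases haα : a = α
    · rw [haα]
    · obtain ⟨x, hx, hxa, _⟩ := hdbl a α α a haα (Ne.symm haα)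
      exact hconj_eq x hx a a α α hxa hxa
  have hcount2' : inv.card = Fintype.card Ω * (S α α).card := by
    rw [hcount2, Finset.sum_congr rfl (fun a _ => hSaa a), Finset.sum_const, smul_eq_mul,
      Finset.card_univ]
  -- second count: by the image of α
  have hcount1 : inv.card = ∑ b : Ω, (S α b).card :=
    Finset.card_eq_sum_card_fiberwise (f := fun t : G => t • α) (s := inv) (t := Finset.univ)
      (fun _ _ => Finset.mem_univ _)
  have hSαb : ∀ b : Ω, b ≠ α → (S α b).card = (S α β).card := by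
    intro b hb
    obtain ⟨x, hx, hxα, hxb⟩ := hdbl α b α β (Ne.symm hb) hαβ
    exact hconj_eq x hx α b α β hxα hxb
  have hcount1' : inv.card = (S α α).card + (Fintype.card Ω - 1) * (S α β).card := by
    rw [hcount1, ← Finset.add_sum_erase Finset.univ _ (Finset.mem_univ α)]
    congr 1
    rw [Finset.sum_congr rfl (fun b hb => hSαb b (Finset.ne_of_mem_erase hb)), Finset.sum_const,
      smul_eq_mul, Finset.card_erase_of_mem (Finset.mem_univ α), Finset.card_univ]
  have hic : (S α α).card = (S α β).card := by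
    obtain ⟨m, hm⟩ : ∃ m, Fintype.card Ω = m + 1 := ⟨Fintype.card Ω - 1, by omega⟩
    rw [hm] at hcount1' hcount2'
    have h : (m + 1) * (S α α).card = (S α α).card + m * (S α β).card := by
      rw [← hcount2']
      simpa using hcount1'
    have hm0 : 0 < m := by omega
    have : m * (S α α).card = m * (S α β).card := by
      have : (m + 1) * (S α α).card = m * (S α α).card + (S α α).card := by ring
      omega
    exact Nat.eq_of_mul_eq_mul_left hm0 this
  -- an involution exists
  have hinv_ne : inv.Nonempty := by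
    obtain ⟨x, hx, hxα, hxβ⟩ := hdbl α β β α hαβ (Ne.symm hαβ)
    obtain ⟨k, hk1, hkk⟩ := exists_involution_of_swap hαβ hxα hxβ
    exact ⟨x ^ k, (hmem_inv _).mpr ⟨N.pow_mem hx k, hk1, hkk⟩⟩
  have hipos : 0 < (S α α).card := by
    by_contra h0
    have h0' : (S α α).card = 0 := by omega
    rw [h0', mul_zero] at hcount2'
    exact (Finset.card_pos.mpr hinv_ne).ne' hcount2'
  obtain ⟨t0, ht0⟩ := Finset.card_pos.mp hipos
  obtain ⟨ht0inv, ht0α⟩ := (hmem_S α α t0).mp ht0
  obtain ⟨ht0N, ht01, ht0t0⟩ := (hmem_inv t0).mp ht0inv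
  -- the two-point stabilizers
  let Gab : Finset G := Finset.univ.filter (fun h : G => h • α = α ∧ h • β = β)
  let Nab : Finset G := Gab.filter (fun h => h ∈ N)
  have hmem_Gab : ∀ h : G, h ∈ Gab ↔ (h • α = α ∧ h • β = β) := by intro h; simp [Gab]
  have hmem_Nab : ∀ h : G, h ∈ Nab ↔ (h ∈ Gab ∧ h ∈ N) := by intro h; simp [Nab]
  -- t0 moves β to a third point
  have ht0β : t0 • β ≠ β := by
    intro h
    have hc := hfix1 t0 ht01 ht0t0
    obtain ⟨a0, ha0⟩ := Finset.card_eq_one.mp hc
    have h1 : α ∈ Finset.univ.filter (fun a : Ω => t0 • a = a) := by simp [ht0α]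
    have h2 : β ∈ Finset.univ.filter (fun a : Ω => t0 • a = a) := by simp [h]
    rw [ha0, Finset.mem_singleton] at h1 h2
    exact hαβ (h1.trans h2.symm)
  have ht0βα : t0 • β ≠ α := by
    intro h
    rw [← ht0α] at h
    exact hαβ (smul_left_cancel t0 h).symm
  have hGab_le : Gab.card ≤ (S α α).card := by
    apply Finset.card_le_card_of_injOn (fun h => h * t0 * h⁻¹)
    · intro h hh
      obtain ⟨hhα, hhβ⟩ := (hmem_Gab h).mp hh
      apply (hmem_S _ _ _).mpr
      refine ⟨(hmem_inv _).mpr ⟨hNn.conj_mem t0 ht0N h, ?_, ?_⟩, ?_⟩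
      · intro h1
        have h1 : h * t0 * h⁻¹ = 1 := h1
        apply ht01
        have : t0 = h⁻¹ * (h * t0 * h⁻¹) * h := by group
        rw [this, h1]; group
      · have : h * t0 * h⁻¹ * (h * t0 * h⁻¹) = h * (t0 * t0) * h⁻¹ := by group
        rw [this, ht0t0]; group
      · rw [mul_smul, mul_smul, inv_smul_eq_iff.mpr hhα.symm, ht0α, hhα]
    · intro h hh h' hh' heq
      obtain ⟨hhα, hhβ⟩ := (hmem_Gab h).mp hh
      obtain ⟨hhα', hhβ'⟩ := (hmem_Gab h').mp hh'
      have heq' : h * t0 * h⁻¹ = h' * t0 * h'⁻¹ := heq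
      have hcomm : (h'⁻¹ * h) * t0 = t0 * (h'⁻¹ * h) := by
        have : h'⁻¹ * (h * t0 * h⁻¹) * h = h'⁻¹ * (h' * t0 * h'⁻¹) * h := by rw [heq']
        simpa [mul_assoc] using this
      have hkα : (h'⁻¹ * h) • α = α := by
        rw [mul_smul, hhα, inv_smul_eq_iff, hhα']
      have hkβ : (h'⁻¹ * h) • β = β := by
        rw [mul_smul, hhβ, inv_smul_eq_iff, hhβ']
      have hkγ : (h'⁻¹ * h) • (t0 • β) = t0 • β := by
        rw [← mul_smul, hcomm, mul_smul, hkβ]
      have hk1 := h3f (h'⁻¹ * h) α β (t0 • β) hαβ (Ne.symm ht0β) (Ne.symm ht0βα) hkα hkβ hkγ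
      have := congrArg (fun z => h' * z) hk1
      simpa using this
  have hNab_ge : (S α β).card ≤ Nab.card := by
    rcases Finset.eq_empty_or_nonempty (S α β) with h0 | ⟨u, hu⟩
    · rw [h0]; simp
    · obtain ⟨huinv, huα⟩ := (hmem_S α β u).mp hu
      obtain ⟨huN, hu1, huu⟩ := (hmem_inv u).mp huinv
      have huβ : u • β = α := by
        rw [← huα, ← mul_smul, huu, one_smul]
      apply Finset.card_le_card_of_injOn (fun t => u * t)
      · intro t ht
        obtain ⟨htinv, htα⟩ := (hmem_S α β t).mp ht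
        obtain ⟨htN, ht1, htt⟩ := (hmem_inv t).mp htinv
        have htβ : t • β = α := by
          rw [← htα, ← mul_smul, htt, one_smul]
        apply (hmem_Nab _).mpr
        refine ⟨(hmem_Gab _).mpr ⟨?_, ?_⟩, N.mul_mem huN htN⟩
        · rw [mul_smul, htα, huβ]
        · rw [mul_smul, htβ, huα]
      · intro t _ t' _ h
        exact mul_left_cancel h
  have hNG : Nab = Gab := by
    apply Finset.eq_of_subset_of_card_le (Finset.filter_subset _ _)
    calc Gab.card ≤ (S α α).card := hGab_le
      _ = (S α β).card := hic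
      _ ≤ Nab.card := hNab_ge
  -- conclusion
  rw [eq_top_iff]
  intro g _
  have hg : g • α ≠ g • β := fun h => hαβ (smul_left_cancel g h)
  obtain ⟨n, hn, hnα, hnβ⟩ := hdbl α β (g • α) (g • β) hαβ hg
  have hk : n⁻¹ * g ∈ Gab := by
    apply (hmem_Gab _).mpr
    constructor
    · rw [mul_smul, inv_smul_eq_iff, hnα]
    · rw [mul_smul, inv_smul_eq_iff, hnβ]
  rw [← hNG] at hk
  have hkN := ((hmem_Nab _).mp hk).2
  have : g = n * (n⁻¹ * g) := by group
  rw [this]
  exact N.mul_mem hn hkN

/-- A Zassenhaus group of odd degree is simple. -/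
theorem isSimpleGroup_of_odd [Fintype Ω] (hZ : Cfsg.IsZassenhausGroup G Ω)
    (hodd : Odd (Fintype.card Ω)) : IsSimpleGroup G := by
  haveI : Nontrivial G := by
    obtain ⟨_, _, _, ⟨g, hg, _⟩, _⟩ := hZ
    exact ⟨⟨g, 1, hg⟩⟩
  refine ⟨fun N hNn => ?_⟩
  by_cases hN : N = ⊥
  · exact Or.inl hN
  · exact Or.inr (eq_top_of_normal_of_odd hZ hodd N hN)

end Cfsg.Agent.Helper61.Zassenhaus
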