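import Mathlib

set_option autoImplicit false
set_option linter.unusedSectionVars false

/-! Elementary facts on squares in a finite field of odd characteristic. -/

namespace Cfsg.Agent.Helper61.Zq

open Polynomial

variable {F : Type*} [Field F] [Fintype F] [DecidableEq F]

/-- `x y` is a square iff `x` and `y` are both squares or both non-squares -/
theorem isSquare_mul_iff {x y : F} (hx : x ≠ 0) (hy : y ≠ 0) :
    IsSquare (x * y) ↔ (IsSquare x ↔ IsSquare y) := by
  have hxy : x * y ≠ 0 := mul_ne_zero hx hy
  rw [← quadraticChar_one_iff_isSquare hxy, ← quadraticChar_one_iff_isSquare hx,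
    ← quadraticChar_one_iff_isSquare hy, map_mul]
  rcases quadraticChar_dichotomy hx with h1 | h1 <;> rcases quadraticChar_dichotomy hy with h2 | h2 <;>
    rw [h1, h2] <;> norm_num

theorem isSquare_inv_iff {x : F} (hx : x ≠ 0) : IsSquare x⁻¹ ↔ IsSquare x := by
  have h1 : IsSquare (x * x⁻¹) := by rw [mul_inv_cancel₀ hx]; exact IsSquare.one
  exact ((isSquare_mul_iff hx (inv_ne_zero hx)).mp h1).symm

theorem exists_nonsq (hF : ringChar F ≠ 2) : ∃ n : F, ¬ IsSquare n :=
  FiniteField.exists_nonsquare hF

theorem ne_zero_of_not_isSquare {n : F} (h : ¬ IsSquare n) : n ≠ 0 := by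
  rintro rfl
  exact h (IsSquare.zero)

/-- every element is a sum of two squares -/
theorem exists_sq_add_sq (hF : Fintype.card F % 2 = 1) (x : F) : ∃ a b : F, a * a + b * b = x := by
  obtain ⟨a, b, hab⟩ := FiniteField.exists_root_sum_quadratic (R := F) (f := X ^ 2)
    (g := X ^ 2 - C x) (degree_X_pow 2) (degree_X_pow_sub_C (by decide) _) hF
  refine ⟨a, b, ?_⟩
  simp only [eval_pow, eval_X, eval_sub, eval_C] at hab
  linear_combination hab

/-- there is a square followed by a non-square -/
theorem exists_sq_succ_nonsq (hF : Fintype.card F % 2 = 1) :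
    ∃ v : F, IsSquare v ∧ ¬ IsSquare (v + 1) := by
  by_contra hcon
  push Not at hcon
  have hchar : ringChar F ≠ 2 := by
    intro h
    have h2 := FiniteField.even_card_iff_char_two.mp h
    omega
  -- squares are closed under addition
  have hadd : ∀ a b : F, IsSquare a → IsSquare b → IsSquare (a + b) := by
    intro a b ha hb
    by_cases hb0 : b = 0
    · rw [hb0, add_zero]; exact ha
    · have h1 : IsSquare (a * b⁻¹) := ha.mul ((isSquare_inv_iff hb0).mpr hb)
      have h2 := hcon _ h1
      have h3 : IsSquare ((a * b⁻¹ + 1) * b) := h2.mul hb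
      have e : (a * b⁻¹ + 1) * b = a + b := by field_simp
      rwa [e] at h3
  obtain ⟨n, hn⟩ := exists_nonsq hchar
  obtain ⟨a, b, hab⟩ := exists_sq_add_sq hF n
  exact hn (hab ▸ hadd _ _ ⟨a, rfl⟩ ⟨b, rfl⟩)

end Cfsg.Agent.Helper61.Zq
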