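import Cfsg.Agent.Helper61.ZqDefs
import Cfsg.Agent.Helper61.ZqQuad

set_option autoImplicit false
set_option linter.unusedSectionVars false

/-! A subgroup `Γ` of `Perm (Option F)` (`F` a finite field of odd order) containing all
translations and multiplications, whose stabiliser of infinity consists of affine maps and in which
only the identity fixes three points: an involution of `Γ` interchanging zero and infinity and
fixing `1` is the inversion `x ↦ 1/x`. -/

namespace Cfsg.Agent.Helper61.Zg

open Equiv
open Cfsg.Agent.Helper61.Zq (tr ml tr_none tr_some ml_none ml_some isSquare_mul_iff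
  isSquare_inv_iff exists_sq_succ_nonsq ne_zero_of_not_isSquare)

variable {F : Type*} [Field F] [DecidableEq F]

/-- the inversion `x ↦ 1/x` as a function -/
def inv1Fun : Option F → Option F
  | none => some 0
  | some x => if x = 0 then none else some x⁻¹

theorem inv1Fun_invol : Function.Involutive (inv1Fun : Option F → Option F) := by
  intro x
  cases x with
  | none => simp [inv1Fun]
  | some x =>
    by_cases hx : x = 0
    · simp [inv1Fun, hx]
    · have : x⁻¹ ≠ 0 := inv_ne_zero hx
      simp [inv1Fun, hx, this]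

/-- the inversion `x ↦ 1/x` -/
def inv1 : Perm (Option F) := inv1Fun_invol.toPerm

@[simp] theorem inv1_none : inv1 (none : Option F) = some 0 := rfl
@[simp] theorem inv1_zero : inv1 (some (0 : F)) = none := by
  simp [inv1, Function.Involutive.toPerm, inv1Fun]
theorem inv1_some {x : F} (hx : x ≠ 0) : inv1 (some x) = some x⁻¹ := by
  simp [inv1, Function.Involutive.toPerm, inv1Fun, hx]

theorem inv1_mul_self : (inv1 : Perm (Option F)) * inv1 = 1 := by
  ext x : 1
  exact inv1Fun_invol x

/-- the hypotheses on `Γ` -/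
structure ZgGroup (Γ : Subgroup (Perm (Option F))) : Prop where
  tr_mem : ∀ b : F, tr b ∈ Γ
  ml_mem : ∀ k : Fˣ, ml k ∈ Γ
  affine : ∀ g ∈ Γ, g none = none → ∃ (k : Fˣ) (c : F), g = tr c * ml k
  three_fixed : ∀ g ∈ Γ, ∀ x y w : Option F, x ≠ y → y ≠ w → x ≠ w → g x = x → g y = y →
    g w = w → g = 1

/-- a normalised swap -/
structure GoodSwap (Γ : Subgroup (Perm (Option F))) (t : Perm (Option F)) : Prop where
  mem : t ∈ Γ
  t_none : t none = some 0
  t_zero : t (some 0) = none
  t_one : t (some 1) = some 1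
  sq : t * t = 1

/-- the action of the swap on nonzero field elements -/
def tau (t : Perm (Option F)) (x : F) : F := (t (some x)).getD 0

variable {Γ : Subgroup (Perm (Option F))} {t : Perm (Option F)}

section Basic

variable (hΓ : ZgGroup Γ) (ht : GoodSwap Γ t)
include ht

theorem GoodSwap.apply_apply (u : Option F) : t (t u) = u := by
  have := congrArg (fun f : Perm (Option F) => f u) ht.sq
  simpa [Perm.mul_apply] using this

theorem GoodSwap.tau_spec {x : F} (hx : x ≠ 0) :
    t (some x) = some (tau t x) ∧ tau t x ≠ 0 := by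
  unfold tau
  rcases h : t (some x) with _ | y
  · exfalso
    have := ht.apply_apply (some x)
    rw [h, ht.t_none] at this
    exact hx (Option.some.inj this).symm
  · refine ⟨by simp, ?_⟩
    simp only [Option.getD_some]
    rintro rfl
    have := ht.apply_apply (some x)
    rw [h, ht.t_zero] at this
    simp at this

theorem GoodSwap.tau_tau {x : F} (hx : x ≠ 0) : tau t (tau t x) = x := by
  obtain ⟨h1, h2⟩ := ht.tau_spec hx
  obtain ⟨h3, -⟩ := ht.tau_spec h2
  have := ht.apply_apply (some x)
  rw [h1, h3] at this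
  exact Option.some.inj this

theorem GoodSwap.tau_one : tau t 1 = 1 := by
  have := (ht.tau_spec (one_ne_zero)).1
  rw [ht.t_one] at this
  exact (Option.some.inj this).symm

theorem GoodSwap.tau_injective {x y : F} (hx : x ≠ 0) (hy : y ≠ 0) (h : tau t x = tau t y) :
    x = y := by
  rw [← ht.tau_tau hx, ← ht.tau_tau hy, h]

include hΓ

/-- conjugation by the swap on multiplications -/
theorem GoodSwap.exists_sigma (k : Fˣ) : ∃ k' : Fˣ, t * ml k * t = ml k' := by
  have hmem : t * ml k * t ∈ Γ := Γ.mul_mem (Γ.mul_mem ht.mem (hΓ.ml_mem k)) ht.mem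
  have hnone : (t * ml k * t : Perm (Option F)) none = none := by
    simp only [Perm.mul_apply]
    rw [ht.t_none, ml_some, mul_zero, ht.t_zero]
  obtain ⟨k', c, hE⟩ := hΓ.affine _ hmem hnone
  have hzero := congrArg (fun f : Perm (Option F) => f (some 0)) hE
  simp only [Perm.mul_apply] at hzero
  rw [ht.t_zero, ml_none, ht.t_none, ml_some, mul_zero, tr_some, zero_add] at hzero
  have hc : c = 0 := (Option.some.inj hzero).symm
  refine ⟨k', ?_⟩
  rw [hE, hc, Zq.tr_zero, one_mul]

theorem GoodSwap.tau_mul_unit (k : Fˣ) {x : F} (hx : x ≠ 0) :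
    tau t ((k : F) * x) = tau t (k : F) * tau t x := by
  obtain ⟨k', hk'⟩ := ht.exists_sigma hΓ k
  have hrel : t * ml k = ml k' * t := by
    calc t * ml k = t * ml k * (t * t) := by rw [ht.sq, mul_one]
      _ = (t * ml k * t) * t := by group
      _ = ml k' * t := by rw [hk']
  have key : ∀ y : F, y ≠ 0 → tau t ((k : F) * y) = (k' : F) * tau t y := by
    intro y hy
    have hky : (k : F) * y ≠ 0 := mul_ne_zero k.ne_zero hy
    obtain ⟨h1, -⟩ := ht.tau_spec hky
    obtain ⟨h2, -⟩ := ht.tau_spec hy
    have := congrArg (fun f : Perm (Option F) => f (some y)) hrel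
    simp only [Perm.mul_apply, ml_some] at this
    rw [h1, h2, ml_some] at this
    exact Option.some.inj this
  have h1 := key 1 one_ne_zero
  rw [mul_one, ht.tau_one, mul_one] at h1
  rw [key x hx, h1]

theorem GoodSwap.tau_mul {x y : F} (hx : x ≠ 0) (hy : y ≠ 0) :
    tau t (x * y) = tau t x * tau t y := by
  have := ht.tau_mul_unit hΓ (Units.mk0 x hx) hy
  rwa [Units.val_mk0] at this

theorem GoodSwap.tau_inv {x : F} (hx : x ≠ 0) : tau t x⁻¹ = (tau t x)⁻¹ := by
  have h := ht.tau_mul hΓ hx (inv_ne_zero hx)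
  rw [mul_inv_cancel₀ hx, ht.tau_one] at h
  exact eq_inv_of_mul_eq_one_right h.symm

/-- `x τ(x) = ± 1` -/
theorem GoodSwap.gam_sq {x : F} (hx : x ≠ 0) : (x * tau t x) * (x * tau t x) = 1 := by
  obtain ⟨h1, h2⟩ := ht.tau_spec hx
  set e : F := x * tau t x with he
  have he0 : e ≠ 0 := mul_ne_zero hx h2
  -- `τ e = e`
  have hτe : tau t e = e := by
    rw [he, ht.tau_mul hΓ hx h2, ht.tau_tau hx, mul_comm]
  have hfix1 : t (some e) = some e := by
    rw [(ht.tau_spec he0).1, hτe]
  have hee0 : e * e ≠ 0 := mul_ne_zero he0 he0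
  have hfix2 : t (some (e * e)) = some (e * e) := by
    rw [(ht.tau_spec hee0).1, ht.tau_mul hΓ he0 he0, hτe]
  by_contra hne
  have h1e : (1 : F) ≠ e := by
    intro h
    apply hne
    rw [← h, mul_one]
  have heee : e ≠ e * e := by
    intro h
    apply h1e
    have : e * 1 = e * e := by rw [mul_one]; exact h
    exact mul_left_cancel₀ he0 this
  have h1ee : (1 : F) ≠ e * e := fun h => hne h.symm
  have := hΓ.three_fixed t ht.mem (some 1) (some e) (some (e * e))
    (fun h => h1e (Option.some.inj h)) (fun h => heee (Option.some.inj h))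
    (fun h => h1ee (Option.some.inj h)) ht.t_one hfix1 hfix2
  have h3 := ht.t_none
  rw [this] at h3
  simp at h3

theorem GoodSwap.gam_pm {x : F} (hx : x ≠ 0) : x * tau t x = 1 ∨ x * tau t x = -1 := by
  have h := ht.gam_sq hΓ hx
  have : (x * tau t x - 1) * (x * tau t x + 1) = 0 := by linear_combination h
  rcases mul_eq_zero.mp this with h1 | h1
  · left; linear_combination h1
  · right; linear_combination h1

theorem GoodSwap.gam_of_isSquare {x : F} (hx : x ≠ 0) (hs : IsSquare x) : x * tau t x = 1 := by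
  obtain ⟨u, rfl⟩ := hs
  have hu : u ≠ 0 := left_ne_zero_of_mul hx
  rw [ht.tau_mul hΓ hu hu]
  have := ht.gam_sq hΓ hu
  linear_combination this

end Basic

end Cfsg.Agent.Helper61.Zg

namespace Cfsg.Agent.Helper61.Zg

open Equiv
open Cfsg.Agent.Helper61.Zq (tr ml tr_none tr_some ml_none ml_some isSquare_mul_iff
  isSquare_inv_iff exists_sq_succ_nonsq ne_zero_of_not_isSquare)

variable {F : Type*} [Field F] [DecidableEq F] {Γ : Subgroup (Perm (Option F))}
  {t : Perm (Option F)}

section KT

variable (hΓ : ZgGroup Γ) (ht : GoodSwap Γ t) (h2 : (2 : F) ≠ 0)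
include hΓ ht h2

theorem GoodSwap.tau_neg_one : tau t (-1) = -1 := by
  have hm1 : (-1 : F) ≠ 0 := neg_ne_zero.mpr one_ne_zero
  rcases ht.gam_pm hΓ hm1 with h | h
  · linear_combination -h
  · exfalso
    have h1 : tau t (-1) = 1 := by linear_combination -h
    have := ht.tau_injective hm1 one_ne_zero (h1.trans ht.tau_one.symm)
    apply h2
    linear_combination -this

/-- the structure equation -/
theorem GoodSwap.kt {y : F} (hy : y ≠ 0) (hy1 : y + 1 ≠ 0) :
    tau t (y + 1) - 1 ≠ 0 ∧ tau t (tau t (y + 1) - 1) = -tau t y - 1 := by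
  have hm1 : (-1 : F) ≠ 0 := neg_ne_zero.mpr one_ne_zero
  have hmem : t * tr (-1) * t * tr 1 * t ∈ Γ :=
    Γ.mul_mem (Γ.mul_mem (Γ.mul_mem (Γ.mul_mem ht.mem (hΓ.tr_mem _)) ht.mem) (hΓ.tr_mem _)) ht.mem
  have hnone : (t * tr (-1) * t * tr 1 * t : Perm (Option F)) none = none := by
    simp only [Perm.mul_apply]
    rw [ht.t_none, tr_some, zero_add, ht.t_one, tr_some, add_neg_cancel, ht.t_zero]
  obtain ⟨k, c, hE⟩ := hΓ.affine _ hmem hnone
  -- evaluate at `0`
  have hc : c = -1 := by
    have := congrArg (fun f : Perm (Option F) => f (some 0)) hE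
    simp only [Perm.mul_apply] at this
    rw [ht.t_zero, tr_none, ht.t_none, tr_some, zero_add, (ht.tau_spec hm1).1,
      ht.tau_neg_one hΓ h2, ml_some, mul_zero, tr_some, zero_add] at this
    exact (Option.some.inj this).symm
  -- evaluate at `-1`
  have hk : (k : F) = -1 := by
    have := congrArg (fun f : Perm (Option F) => f (some (-1))) hE
    simp only [Perm.mul_apply] at this
    rw [(ht.tau_spec hm1).1, ht.tau_neg_one hΓ h2, tr_some, neg_add_cancel, ht.t_zero, tr_none,
      ht.t_none, ml_some, tr_some, Option.some.injEq, hc] at this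
    linear_combination this
  -- evaluate at `τ y`
  have hτy : tau t y ≠ 0 := (ht.tau_spec hy).2
  have hne : tau t (y + 1) - 1 ≠ 0 := by
    intro h
    have h1 : tau t (y + 1) = tau t 1 := by rw [ht.tau_one]; linear_combination h
    have := ht.tau_injective hy1 one_ne_zero h1
    apply hy
    linear_combination this
  refine ⟨hne, ?_⟩
  have := congrArg (fun f : Perm (Option F) => f (some (tau t y))) hE
  simp only [Perm.mul_apply] at this
  have h1 : t (some (tau t y)) = some y := by
    rw [← (ht.tau_spec hy).1, ht.apply_apply]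
  rw [h1, tr_some, (ht.tau_spec hy1).1, tr_some, ← sub_eq_add_neg, (ht.tau_spec hne).1, ml_some,
    tr_some, Option.some.injEq, hc, hk] at this
  rw [this]
  ring

end KT

/-- **Determination of the swap.** -/
theorem GoodSwap.eq_inv1 [Fintype F] (hΓ : ZgGroup Γ) (ht : GoodSwap Γ t)
    (hodd : Fintype.card F % 2 = 1) : t = inv1 := by
  have h2 : (2 : F) ≠ 0 := by
    intro h
    have hchar : ringChar F = 2 := by
      have : CharP F 2 := CharTwo.of_one_ne_zero_of_two_eq_zero one_ne_zero h
      exact ringChar.eq F 2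
    have := FiniteField.even_card_iff_char_two.mp hchar
    omega
  have hm1 : (-1 : F) ≠ 0 := neg_ne_zero.mpr one_ne_zero
  have hall : ∀ x : F, x ≠ 0 → x * tau t x = 1 := by
    by_contra hcon
    push Not at hcon
    obtain ⟨n, hn0, hn⟩ := hcon
    have hn' : n * tau t n = -1 := by
      rcases ht.gam_pm hΓ hn0 with h | h
      · exact absurd h hn
      · exact h
    have hnns : ¬ IsSquare n := fun hs => hn (ht.gam_of_isSquare hΓ hn0 hs)
    -- every non-square has value `-1`
    have hns : ∀ m : F, ¬ IsSquare m → m * tau t m = -1 := by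
      intro m hm
      have hm0 := ne_zero_of_not_isSquare hm
      have hs : IsSquare (m * n⁻¹) := by
        rw [isSquare_mul_iff hm0 (inv_ne_zero hn0), isSquare_inv_iff hn0]
        exact ⟨fun h => absurd h hm, fun h => absurd h hnns⟩
      have hmn0 : m * n⁻¹ ≠ 0 := mul_ne_zero hm0 (inv_ne_zero hn0)
      have h1 := ht.gam_of_isSquare hΓ hmn0 hs
      have e : m = (m * n⁻¹) * n := by field_simp
      have h3 : tau t m = tau t (m * n⁻¹) * tau t n := by
        conv_lhs => rw [e]
        exact ht.tau_mul hΓ hmn0 hn0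
      rw [h3]
      have : m * (tau t (m * n⁻¹) * tau t n) = (m * n⁻¹ * tau t (m * n⁻¹)) * (n * tau t n) := by
        field_simp
      rw [this, h1, hn', one_mul]
    obtain ⟨v, hv, hv1⟩ := exists_sq_succ_nonsq (F := F) hodd
    have hv0 : v ≠ 0 := by
      rintro rfl
      rw [zero_add] at hv1
      exact hv1 IsSquare.one
    have hm0 : v + 1 ≠ 0 := ne_zero_of_not_isSquare hv1
    have hτv : v * tau t v = 1 := ht.gam_of_isSquare hΓ hv0 hv
    have hτm : (v + 1) * tau t (v + 1) = -1 := hns _ hv1
    obtain ⟨hA0, hkt⟩ := ht.kt hΓ h2 hv0 hm0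
    set A : F := tau t (v + 1) - 1 with hA
    -- `τ A = B`, hence `τ B = A`
    set B : F := -tau t v - 1 with hB
    have hτA : tau t A = B := hkt
    have hτB : tau t B = A := by rw [← hτA, ht.tau_tau hA0]
    have hB0 : B ≠ 0 := by rw [← hτA]; exact (ht.tau_spec hA0).2
    -- `B = -(v+1)/v`
    have hτv0 : tau t v ≠ 0 := (ht.tau_spec hv0).2
    have hBv : B * v = -(v + 1) := by
      rw [hB]; linear_combination -hτv
    -- `τ B * τ v = τ (B v) = τ (-(v+1)) = -τ(v+1)`
    have h4 : tau t B * tau t v = -tau t (v + 1) := by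
      rw [← ht.tau_mul hΓ hB0 hv0, hBv]
      have : -(v + 1) = (-1) * (v + 1) := by ring
      rw [this, ht.tau_mul hΓ hm1 hm0, ht.tau_neg_one hΓ h2]
      ring
    rw [hτB, hA] at h4
    -- now the algebra: `(τ(v+1) - 1) τ v = - τ(v+1)`
    have h5 : (v + 1) * ((tau t (v + 1) - 1) * tau t v) * v = (v + 1) * (-tau t (v + 1)) * v := by
      rw [h4]
    have h6 : (-1 - (v + 1)) * 1 = 1 * v := by
      have e1 : (v + 1) * ((tau t (v + 1) - 1) * tau t v) * v =
          ((v + 1) * tau t (v + 1) - (v + 1)) * (v * tau t v) := by ring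
      have e2 : (v + 1) * (-tau t (v + 1)) * v = -((v + 1) * tau t (v + 1)) * v := by ring
      rw [e1, e2, hτm, hτv] at h5
      linear_combination h5
    have h7 : (2 : F) * (v + 1) = 0 := by linear_combination -h6
    rcases mul_eq_zero.mp h7 with h | h
    · exact h2 h
    · exact hm0 h
  -- conclude
  ext o : 1
  cases o with
  | none => rw [ht.t_none, inv1_none]
  | some x =>
    by_cases hx : x = 0
    · rw [hx, ht.t_zero, inv1_zero]
    · rw [(ht.tau_spec hx).1, inv1_some hx]
      congr 1
      have := hall x hx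
      exact eq_inv_of_mul_eq_one_right this

end Cfsg.Agent.Helper61.Zg
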