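import Cfsg.Agent.Helper61.ZpStab

set_option autoImplicit false

/-! The stabiliser of infinity consists of affine maps; the stabiliser of infinity and zero
consists of the multiplications by squares. -/

namespace Cfsg.Agent.Helper61.Zp

open Equiv MulAction

/-- two subgroups with trivial intersection inside a finite subgroup -/
theorem card_mul_card_le {G : Type*} [Group G] (K A B : Subgroup G) [Finite K] (hA : A ≤ K)
    (hB : B ≤ K) (h : A ⊓ B = ⊥) : Nat.card A * Nat.card B ≤ Nat.card K := by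
  rw [← Nat.card_prod]
  apply Nat.card_le_card_of_injective (fun x : A × B => (⟨x.1.1 * x.2.1,
    K.mul_mem (hA x.1.2) (hB x.2.2)⟩ : K))
  rintro ⟨⟨a, ha⟩, ⟨b, hb⟩⟩ ⟨⟨a', ha'⟩, ⟨b', hb'⟩⟩ heq
  simp only [Subtype.mk.injEq] at heq
  have h1 : a'⁻¹ * a = b' * b⁻¹ := by
    rw [inv_mul_eq_iff_eq_mul, ← mul_assoc, ← heq, mul_assoc, mul_inv_cancel, mul_one]
  have h2 : a'⁻¹ * a ∈ A ⊓ B := by
    refine ⟨A.mul_mem (A.inv_mem ha') ha, ?_⟩
    rw [h1]
    exact B.mul_mem hb' (B.inv_mem hb)
  rw [h, Subgroup.mem_bot] at h2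
  have h3 : a = a' := by
    rw [inv_mul_eq_one] at h2
    exact h2.symm
  subst h3
  have h4 : b = b' := mul_left_cancel heq
  subst h4
  rfl

/-- two elements of prime order `p` in a finite subgroup of order less than `p ^ 2` generate the
same cyclic subgroup -/
theorem mem_zpowers_of_card_lt {G : Type*} [Group G] {p : ℕ} [Fact p.Prime] (K : Subgroup G)
    [Finite K] (hK : Nat.card K < p * p) {x y : G} (hx : x ∈ K) (hy : y ∈ K)
    (hox : orderOf x = p) (hoy : orderOf y = p) : y ∈ Subgroup.zpowers x := by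
  have hne : Subgroup.zpowers x ⊓ Subgroup.zpowers y ≠ ⊥ := by
    intro h
    have := card_mul_card_le K (Subgroup.zpowers x) (Subgroup.zpowers y)
      ((Subgroup.zpowers_le).mpr hx) ((Subgroup.zpowers_le).mpr hy) h
    rw [Nat.card_zpowers, Nat.card_zpowers, hox, hoy] at this
    omega
  obtain ⟨⟨w, hw⟩, hw1'⟩ := (Subgroup.ne_bot_iff_exists_ne_one).mp hne
  have hw1 : w ≠ 1 := fun h1 => hw1' (Subtype.ext h1)
  have hcy : Nat.card (Subgroup.zpowers y) = p := by rw [Nat.card_zpowers, hoy]
  have hmem : (⟨y, Subgroup.mem_zpowers y⟩ : Subgroup.zpowers y)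
      ∈ Subgroup.zpowers (⟨w, hw.2⟩ : Subgroup.zpowers y) :=
    mem_zpowers_of_prime_card hcy (fun h => hw1 (congrArg Subtype.val h))
  obtain ⟨n, hn⟩ := Subgroup.mem_zpowers_iff.mp hmem
  have hn' : w ^ n = y := by
    have := congrArg Subtype.val hn
    simpa using this
  rw [← hn']
  exact Subgroup.zpow_mem _ hw.1 n

variable {p : ℕ} [Fact p.Prime] {Γ : Subgroup (Perm (Option (ZMod p)))}

theorem tr_ne_one {b : ZMod p} (hb : b ≠ 0) : tr b ≠ 1 := by
  intro h
  rw [← tr_zero] at h
  exact hb (tr_injective h)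

theorem orderOf_tr {b : ZMod p} (hb : b ≠ 0) : orderOf (tr b) = p := by
  apply orderOf_eq_prime _ (tr_ne_one hb)
  rw [tr_pow, ZMod.natCast_self, zero_mul, tr_zero]

/-- Elements of the stabiliser of infinity are affine. -/
theorem ZGroup.stabB_affine (hΓ : ZGroup Γ) {g : Perm (Option (ZMod p))}
    (hg : g ∈ stabB Γ) : ∃ (k : (ZMod p)ˣ) (c : ZMod p), g = tr c * ml k := by
  have hp := (Fact.out : p.Prime)
  have h1ne : (1 : ZMod p) ≠ 0 := one_ne_zero
  -- the conjugate of `tr 1` is a translation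
  have hconj : g * tr 1 * g⁻¹ ∈ Subgroup.zpowers (tr (1 : ZMod p)) := by
    apply mem_zpowers_of_card_lt (stabB Γ) _ (hΓ.tr_mem_stabB 1)
      ((stabB Γ).mul_mem ((stabB Γ).mul_mem hg (hΓ.tr_mem_stabB 1)) ((stabB Γ).inv_mem hg))
      (orderOf_tr h1ne)
    · have hc : orderOf (g * tr (1 : ZMod p) * g⁻¹) = orderOf (tr (1 : ZMod p)) := by
        have := orderOf_injective (MulAut.conj g).toMonoidHom (MulAut.conj g).injective
          (tr (1 : ZMod p))
        simpa [MulAut.conj_apply] using this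
      rw [hc, orderOf_tr h1ne]
    · rw [hΓ.card_stabB]
      have : (p - 1) / 2 < p := by have := hp.two_le; omega
      exact Nat.mul_lt_mul_of_pos_left this hp.pos
  rw [← (isOfFinOrder_of_finite (tr (1 : ZMod p))).mem_powers_iff_mem_zpowers] at hconj
  obtain ⟨n, hn⟩ := hconj
  simp only at hn
  rw [tr_one_pow] at hn
  set k : ZMod p := (n : ZMod p) with hk
  have hrel : g * tr 1 = tr k * g := by
    rw [hn, mul_assoc, mul_assoc, inv_mul_cancel, mul_one]
  have hgn : g none = none := (mem_stabB.mp hg).2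
  have hsome : ∀ x : ZMod p, g (some x) = some ((g (some x)).getD 0) := by
    intro x
    rcases hx : g (some x) with _ | y
    · exfalso
      have := g.injective (hx.trans hgn.symm)
      simp at this
    · simp
  set φ : ZMod p → ZMod p := fun x => (g (some x)).getD 0 with hφ
  have hrec : ∀ x : ZMod p, φ (x + 1) = φ x + k := by
    intro x
    have h := congrArg (fun f : Perm (Option (ZMod p)) => f (some x)) hrel
    simp only [Perm.mul_apply, tr_some] at h
    rw [hsome (x + 1), hsome x, tr_some] at h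
    exact Option.some.inj h
  have hnat : ∀ m : ℕ, φ (m : ZMod p) = φ 0 + m * k := by
    intro m
    induction m with
    | zero => simp
    | succ m ih => rw [Nat.cast_succ, hrec, ih]; ring
  have hall : ∀ x : ZMod p, φ x = φ 0 + x * k := by
    intro x
    have := hnat x.val
    rwa [ZMod.natCast_zmod_val] at this
  have hk0 : k ≠ 0 := by
    intro h0
    have h01 : φ 0 = φ 1 := by rw [hall 1, h0]; ring
    have : g (some 0) = g (some 1) := by rw [hsome 0, hsome 1]; exact congrArg some h01
    have := g.injective this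
    simp at this
  refine ⟨Units.mk0 k hk0, φ 0, ?_⟩
  ext x : 1
  cases x with
  | none => simp [Perm.mul_apply, hgn]
  | some x =>
    rw [hsome x, Perm.mul_apply, ml_some, tr_some]
    change some (φ x) = _
    rw [hall x, Units.val_mk0]
    congr 1
    ring

/-- Elements of the stabiliser of infinity and zero are multiplications. -/
theorem ZGroup.stabH_ml (hΓ : ZGroup Γ) {g : Perm (Option (ZMod p))}
    (hg : g ∈ stabH Γ) : ∃ k : (ZMod p)ˣ, g = ml k := by
  rw [mem_stabH] at hg
  obtain ⟨k, c, rfl⟩ := hΓ.stabB_affine (mem_stabB.mpr ⟨hg.1, hg.2.1⟩)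
  have h0 := hg.2.2
  simp only [Perm.mul_apply, ml_some, mul_zero, tr_some, zero_add, Option.some.injEq] at h0
  refine ⟨k, ?_⟩
  rw [h0, tr_zero, one_mul]

end Cfsg.Agent.Helper61.Zp
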