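import Cfsg.Agent.Helper61.ZpTau

set_option autoImplicit false

/-! The core theorem: a simple `ZGroup` is the standard set. -/

namespace Cfsg.Agent.Helper61.Zp

open Equiv MulAction

variable {p : ℕ} [Fact p.Prime] {Γ : Subgroup (Perm (Option (ZMod p)))}

/-- **Core theorem.** -/
theorem ZGroup.eq_std (hΓ : ZGroup Γ) [IsSimpleGroup Γ] (hna : ¬ IsMulCommutative Γ) :
    (Γ : Set (Perm (Option (ZMod p)))) = Std p := by
  obtain ⟨t, ht⟩ := hΓ.exists_goodSwap hna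
  obtain ⟨κ, hκ0, hκsq, hγ⟩ := ht.tau_eq hΓ
  have hnκ0 : -κ ≠ 0 := neg_ne_zero.mpr hκ0
  set c₀ : (ZMod p)ˣ := Units.mk0 (-κ) hnκ0 with hc₀
  have hc₀sq : IsSquare c₀ := (isSquare_units_iff _).mpr (by rw [hc₀, Units.val_mk0]; exact hκsq)
  have ht_eq : t = ml c₀ * inv0 := by
    ext u : 1
    rcases u with _ | x
    · rw [ht.swap.2.1, Perm.mul_apply, inv0_none, ml_some, mul_zero]
    · by_cases hx : x = 0
      · rw [hx, ht.swap.2.2, Perm.mul_apply, inv0_zero, ml_none]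
      · rw [(ht.tau_spec hx).1, Perm.mul_apply, inv0_some hx, ml_some, hc₀, Units.val_mk0]
        congr 1
        have := hγ x hx
        field_simp
        linear_combination this
  have htinv : t⁻¹ = t := inv_eq_of_mul_eq_one_left ht.sq
  have hinv0 : inv0 ∈ Γ := by
    have : (inv0 : Perm (Option (ZMod p))) = (ml c₀)⁻¹ * t := by rw [ht_eq, inv_mul_cancel_left]
    rw [this]
    exact Γ.mul_mem (Γ.inv_mem (hΓ.ml_sq_mem hc₀sq)) ht.swap.1
  ext g
  simp only [SetLike.mem_coe]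
  constructor
  · intro hg
    rcases hgn : g none with _ | f
    · obtain ⟨k, c, hk, rfl⟩ := hΓ.stabB_affine_sq hg hgn
      exact Or.inl ⟨k, c, hk, rfl⟩
    · have hmem : t * tr (-f) * g ∈ Γ := Γ.mul_mem (Γ.mul_mem ht.swap.1 (hΓ.tr_mem' _)) hg
      have hnone : (t * tr (-f) * g : Perm (Option (ZMod p))) none = none := by
        simp only [Perm.mul_apply]
        rw [hgn, tr_some, add_neg_cancel, ht.swap.2.2]
      obtain ⟨k, c, hk, hE⟩ := hΓ.stabB_affine_sq hmem hnone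
      refine Or.inr ⟨f, c₀, k, c, hc₀sq, hk, ?_⟩
      have : g = tr f * t * (t * tr (-f) * g) := by
        rw [tr_neg]
        calc g = tr f * (t * t) * (tr f)⁻¹ * g := by rw [ht.sq]; group
          _ = tr f * t * (t * (tr f)⁻¹ * g) := by group
      rw [this, hE, ht_eq]
      group
  · rintro (⟨k, c, hk, rfl⟩ | ⟨f, a, k, c, ha, hk, rfl⟩)
    · exact Γ.mul_mem (hΓ.tr_mem' c) (hΓ.ml_sq_mem hk)
    · exact Γ.mul_mem (Γ.mul_mem (Γ.mul_mem (hΓ.tr_mem' f) (hΓ.ml_sq_mem ha)) hinv0)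
        (Γ.mul_mem (hΓ.tr_mem' c) (hΓ.ml_sq_mem hk))

/-- Two simple `ZGroup`s coincide. -/
theorem ZGroup.unique {Γ₁ Γ₂ : Subgroup (Perm (Option (ZMod p)))} (h₁ : ZGroup Γ₁)
    (h₂ : ZGroup Γ₂) [IsSimpleGroup Γ₁] [IsSimpleGroup Γ₂] (hna₁ : ¬ IsMulCommutative Γ₁)
    (hna₂ : ¬ IsMulCommutative Γ₂) : Γ₁ = Γ₂ :=
  SetLike.coe_injective ((h₁.eq_std hna₁).trans (h₂.eq_std hna₂).symm)

end Cfsg.Agent.Helper61.Zp
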