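import Mathlib

set_option autoImplicit false

/-! Concrete permutations of the projective line `Option (ZMod p)` (`none` is the point at
infinity): translations, multiplications, and the inversion `x ↦ -1/x`. -/

namespace Cfsg.Agent.Helper61.Zp

open Equiv

variable {p : ℕ} [Fact p.Prime]

/-- translation `x ↦ x + b`, fixing infinity -/
def tr (b : ZMod p) : Perm (Option (ZMod p)) := Equiv.optionCongr (Equiv.addRight b)

/-- multiplication `x ↦ a x`, fixing infinity -/
def ml (a : (ZMod p)ˣ) : Perm (Option (ZMod p)) := Equiv.optionCongr (Units.mulLeft a)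

@[simp] theorem tr_none (b : ZMod p) : tr b none = none := rfl
@[simp] theorem tr_some (b x : ZMod p) : tr b (some x) = some (x + b) := rfl
@[simp] theorem ml_none (a : (ZMod p)ˣ) : ml a none = none := rfl
@[simp] theorem ml_some (a : (ZMod p)ˣ) (x : ZMod p) : ml a (some x) = some ((a : ZMod p) * x) := rfl

theorem tr_zero : tr (0 : ZMod p) = 1 := by
  ext x : 1
  cases x <;> simp

theorem tr_add (a b : ZMod p) : tr (a + b) = tr a * tr b := by
  ext x : 1
  cases x with
  | none => simp
  | some x => simp [Perm.mul_apply]; ring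

theorem tr_neg (a : ZMod p) : tr (-a) = (tr a)⁻¹ := by
  rw [eq_inv_iff_mul_eq_one, ← tr_add, neg_add_cancel, tr_zero]

theorem tr_inv_some (a x : ZMod p) : (tr a)⁻¹ (some x) = some (x - a) := by
  rw [← tr_neg, tr_some, sub_eq_add_neg]

theorem tr_inv_none (a : ZMod p) : (tr a)⁻¹ none = none := by
  rw [← tr_neg, tr_none]

theorem tr_pow (a : ZMod p) (n : ℕ) : (tr a) ^ n = tr ((n : ZMod p) * a) := by
  induction n with
  | zero => simp [tr_zero]
  | succ n ih => rw [pow_succ, ih, ← tr_add]; congr 1; push_cast; ring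

theorem tr_one_pow (n : ℕ) : (tr (1 : ZMod p)) ^ n = tr (n : ZMod p) := by
  rw [tr_pow, mul_one]

theorem tr_injective : Function.Injective (tr : ZMod p → Perm (Option (ZMod p))) := by
  intro a b h
  have := congrArg (fun f : Perm (Option (ZMod p)) => f (some 0)) h
  simpa using this

theorem ml_one : ml (1 : (ZMod p)ˣ) = 1 := by
  ext x : 1
  cases x <;> simp

theorem ml_mul (a b : (ZMod p)ˣ) : ml (a * b) = ml a * ml b := by
  ext x : 1
  cases x with
  | none => simp
  | some x => simp [Perm.mul_apply, mul_assoc]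

theorem ml_inv (a : (ZMod p)ˣ) : ml a⁻¹ = (ml a)⁻¹ := by
  rw [eq_inv_iff_mul_eq_one, ← ml_mul, inv_mul_cancel, ml_one]

theorem ml_inv_some (a : (ZMod p)ˣ) (x : ZMod p) :
    (ml a)⁻¹ (some x) = some (((a⁻¹ : (ZMod p)ˣ) : ZMod p) * x) := by
  rw [← ml_inv, ml_some]

theorem ml_inv_none (a : (ZMod p)ˣ) : (ml a)⁻¹ none = none := by
  rw [← ml_inv, ml_none]

/-- `ml` as a monoid homomorphism -/
def mlHom : (ZMod p)ˣ →* Perm (Option (ZMod p)) where
  toFun := ml
  map_one' := ml_one
  map_mul' := ml_mul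

@[simp] theorem mlHom_apply (a : (ZMod p)ˣ) : mlHom a = ml a := rfl

theorem ml_injective : Function.Injective (ml : (ZMod p)ˣ → Perm (Option (ZMod p))) := by
  intro a b h
  have := congrArg (fun f : Perm (Option (ZMod p)) => f (some 1)) h
  simp only [ml_some, mul_one, Option.some.injEq] at this
  exact Units.ext this

theorem ml_comm (a b : (ZMod p)ˣ) : ml a * ml b = ml b * ml a := by
  rw [← ml_mul, ← ml_mul, mul_comm]

theorem ml_pow (a : (ZMod p)ˣ) (n : ℕ) : (ml a) ^ n = ml (a ^ n) := by
  induction n with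
  | zero => simp [ml_one]
  | succ n ih => rw [pow_succ, ih, ← ml_mul, pow_succ]

/-- `ml a * tr b = tr (a b) * ml a` -/
theorem ml_mul_tr (a : (ZMod p)ˣ) (b : ZMod p) : ml a * tr b = tr ((a : ZMod p) * b) * ml a := by
  ext x : 1
  cases x with
  | none => simp
  | some x => simp [Perm.mul_apply]; ring

/-- the inversion `x ↦ -1/x` as a function -/
def inv0Fun : Option (ZMod p) → Option (ZMod p)
  | none => some 0
  | some x => if x = 0 then none else some (-x⁻¹)

theorem inv0Fun_invol : Function.Involutive (inv0Fun : Option (ZMod p) → Option (ZMod p)) := by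
  intro x
  cases x with
  | none => simp [inv0Fun]
  | some x =>
    by_cases hx : x = 0
    · simp [inv0Fun, hx]
    · have : -x⁻¹ ≠ 0 := neg_ne_zero.mpr (inv_ne_zero hx)
      simp [inv0Fun, hx, this]

/-- the inversion `x ↦ -1/x` -/
def inv0 : Perm (Option (ZMod p)) := inv0Fun_invol.toPerm

@[simp] theorem inv0_none : inv0 (none : Option (ZMod p)) = some 0 := rfl
@[simp] theorem inv0_zero : inv0 (some (0 : ZMod p)) = none := by
  simp [inv0, Function.Involutive.toPerm, inv0Fun]
theorem inv0_some {x : ZMod p} (hx : x ≠ 0) : inv0 (some x) = some (-x⁻¹) := by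
  simp [inv0, Function.Involutive.toPerm, inv0Fun, hx]

theorem inv0_mul_self : (inv0 : Perm (Option (ZMod p))) * inv0 = 1 := by
  ext x : 1
  exact inv0Fun_invol x

/-- the standard set: the image of `PSL(2,p)` written in Bruhat normal form -/
def Std (p : ℕ) [Fact p.Prime] : Set (Perm (Option (ZMod p))) :=
  {g | (∃ (k : (ZMod p)ˣ) (c : ZMod p), IsSquare k ∧ g = tr c * ml k) ∨
    (∃ (f : ZMod p) (a k : (ZMod p)ˣ) (c : ZMod p), IsSquare a ∧ IsSquare k ∧
      g = tr f * ml a * inv0 * (tr c * ml k))}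

end Cfsg.Agent.Helper61.Zp
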