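import Cfsg.Agent.Helper61.ZpInvA
import Cfsg.Agent.Helper17.Embed

set_option autoImplicit false

/-! The case `p ≡ 3 (mod 4)`: a swap is an involution inverting the two-point stabiliser and
has no fixed points (Burnside transfer into the two-point stabiliser). -/

namespace Cfsg.Agent.Helper61.Zp

open Equiv MulAction

open scoped IsMulCommutative in
/-- Transfer into an abelian subgroup of a non-abelian simple group kills elements whose
powers are not fused to anything else inside the subgroup. -/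
theorem pow_index_eq_one_of_not_fused {X : Type*} [Group X] [Finite X] [IsSimpleGroup X]
    (hX : ¬ IsMulCommutative X) (A : Subgroup X) [IsMulCommutative A] (y : X)
    (key : ∀ (k : ℕ) (g₀ : X), g₀⁻¹ * y ^ k * g₀ ∈ A → g₀⁻¹ * y ^ k * g₀ = y ^ k) :
    y ^ A.index = 1 := by
  have h := MonoidHom.transfer_eq_pow (MonoidHom.id A) y key
  have h1 := Cfsg.Agent.Helper17.hom_to_comm_trivial hX (MonoidHom.transfer (MonoidHom.id A)) y
  rw [h] at h1
  have := congrArg Subtype.val h1
  simpa using this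

variable {p : ℕ} [Fact p.Prime] {Γ : Subgroup (Perm (Option (ZMod p)))}

theorem stabH_comm (hΓ : ZGroup Γ) : IsMulCommutative (stabH Γ) := by
  refine ⟨⟨fun a b => ?_⟩⟩
  obtain ⟨k, hk⟩ := hΓ.stabH_ml a.2
  obtain ⟨l, hl⟩ := hΓ.stabH_ml b.2
  apply Subtype.ext
  simp only [Subgroup.coe_mul]
  rw [hk, hl, ml_comm]

theorem stabH_le (Γ : Subgroup (Perm (Option (ZMod p)))) : stabH Γ ≤ Γ := by
  intro g hg
  exact (mem_stabH.mp hg).1

theorem ZGroup.index_stabH (hΓ : ZGroup Γ) : ((stabH Γ).subgroupOf Γ).index = (p + 1) * p := by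
  have h := Subgroup.card_mul_index ((stabH Γ).subgroupOf Γ)
  have hc : Nat.card ((stabH Γ).subgroupOf Γ) = (p - 1) / 2 := by
    rw [Nat.card_congr (Subgroup.subgroupOfEquivOfLe (stabH_le Γ)).toEquiv, hΓ.card_stabH]
  rw [hc, hΓ.card] at h
  have hpos : 0 < (p - 1) / 2 := by
    have := hΓ.three_le
    omega
  have h' : (p - 1) / 2 * ((stabH Γ).subgroupOf Γ).index = (p - 1) / 2 * ((p + 1) * p) := by
    rw [h]; ring
  exact Nat.eq_of_mul_eq_mul_left hpos h'

theorem ZGroup.coprime_index (hΓ : ZGroup Γ) (h4 : p % 4 = 3) :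
    Nat.Coprime ((p + 1) * p) ((p - 1) / 2) := by
  have hp := (Fact.out : p.Prime)
  have h3 := hΓ.three_le
  apply Nat.Coprime.mul_left
  · rw [Nat.coprime_iff_gcd_eq_one]
    set d := Nat.gcd (p + 1) ((p - 1) / 2) with hd
    have hd1 : d ∣ p + 1 := Nat.gcd_dvd_left _ _
    have hd2 : d ∣ (p - 1) / 2 := Nat.gcd_dvd_right _ _
    have hd3 : d ∣ p - 1 := by
      have := hΓ.two_mul_half
      rw [← this]
      exact Dvd.dvd.mul_left hd2 2
    have hd4 : d ∣ 2 := by
      have : p + 1 - (p - 1) = 2 := by omega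
      rw [← this]
      exact Nat.dvd_sub hd1 hd3
    rcases (Nat.dvd_prime Nat.prime_two).mp hd4 with h | h
    · exact h
    · exfalso
      rw [h] at hd2
      omega
  · rw [Nat.Prime.coprime_iff_not_dvd hp]
    apply Nat.not_dvd_of_pos_of_lt <;> omega

section Transfer

variable (hΓ : ZGroup Γ) (h4 : p % 4 = 3) [IsSimpleGroup Γ] (hna : ¬ IsMulCommutative Γ)
include hΓ h4 hna

/-- An element of the two-point stabiliser commuting with a swap is trivial. -/
theorem ZGroup.eq_one_of_comm_swap {t : Perm (Option (ZMod p))} (ht : IsSwap Γ t)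
    {y : Perm (Option (ZMod p))} (hy : y ∈ stabH Γ) (hty : t * y = y * t) : y = 1 := by
  have : IsMulCommutative ((stabH Γ).subgroupOf Γ) := by
    refine ⟨⟨fun a b => ?_⟩⟩
    apply Subtype.ext
    apply Subtype.ext
    have ha := Subgroup.mem_subgroupOf.mp a.2
    have hb := Subgroup.mem_subgroupOf.mp b.2
    obtain ⟨k, hk⟩ := hΓ.stabH_ml ha
    obtain ⟨l, hl⟩ := hΓ.stabH_ml hb
    simp only [Subgroup.coe_mul]
    rw [hk, hl, ml_comm]
  have hyΓ : y ∈ Γ := stabH_le Γ hy
  obtain ⟨a, hya⟩ := hΓ.stabH_ml hy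
  have key : ∀ (k : ℕ) (g₀ : Γ), g₀⁻¹ * (⟨y, hyΓ⟩ : Γ) ^ k * g₀ ∈ (stabH Γ).subgroupOf Γ →
      g₀⁻¹ * (⟨y, hyΓ⟩ : Γ) ^ k * g₀ = (⟨y, hyΓ⟩ : Γ) ^ k := by
    intro k g₀ hmem
    apply Subtype.ext
    rw [Subgroup.mem_subgroupOf] at hmem
    simp only [Subgroup.coe_mul, Subgroup.coe_inv, Subgroup.coe_pow] at hmem ⊢
    set g : Perm (Option (ZMod p)) := (g₀ : Perm (Option (ZMod p))) with hg
    have hgΓ : g ∈ Γ := g₀.2
    by_cases hyk : y ^ k = 1
    · rw [hyk]; group
    · -- `y ^ k` is a nontrivial multiplication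
      have hyk' : y ^ k = ml (a ^ k) := by rw [hya, ml_pow]
      have hak : a ^ k ≠ 1 := by
        intro h
        rw [h, ml_one] at hyk'
        exact hyk hyk'
      obtain ⟨hw1, hw2, hw3⟩ := mem_stabH.mp hmem
      have hfix1 : (y ^ k) (g none) = g none := by
        have := congrArg g hw2
        simpa [Perm.mul_apply] using this
      have hfix2 : (y ^ k) (g (some 0)) = g (some 0) := by
        have := congrArg g hw3
        simpa [Perm.mul_apply] using this
      have hcases : ∀ u : Option (ZMod p), (y ^ k) u = u → u = none ∨ u = some 0 := by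
        intro u hu
        rcases u with _ | x
        · exact Or.inl rfl
        · right
          by_cases hx : x = 0
          · rw [hx]
          · rw [hyk'] at hu
            exact absurd (ml_fix hx hu) hak
      have hne : g none ≠ g (some 0) := fun h => by
        have := g.injective h
        simp at this
      have hpair : (g none = none ∧ g (some 0) = some 0) ∨
          (g none = some 0 ∧ g (some 0) = none) := by
        rcases hcases _ hfix1 with h1 | h1 <;> rcases hcases _ hfix2 with h2 | h2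
        · exact absurd (h1.trans h2.symm) hne
        · exact Or.inl ⟨h1, h2⟩
        · exact Or.inr ⟨h1, h2⟩
        · exact absurd (h1.trans h2.symm) hne
      have hcomm : g * y ^ k = y ^ k * g := by
        rcases hΓ.ml_or_swap hgΓ hpair with ⟨l, -, hl⟩ | hsw
        · rw [hl, hyk', ml_comm]
        · obtain ⟨l, -, hl⟩ := hΓ.swap_eq ht hsw
          have h1 : t * y ^ k = y ^ k * t := by
            have : Commute t y := hty
            exact (this.pow_right k).eq
          rw [hl, mul_assoc, hyk', ml_comm, ← mul_assoc, ← hyk', h1, mul_assoc]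
      rw [mul_assoc, ← hcomm, inv_mul_cancel_left]
  have hpow := pow_index_eq_one_of_not_fused hna ((stabH Γ).subgroupOf Γ) (⟨y, hyΓ⟩ : Γ) key
  rw [hΓ.index_stabH] at hpow
  have hpow' : y ^ ((p + 1) * p) = 1 := by
    have := congrArg Subtype.val hpow
    simpa using this
  have hpow2 : y ^ ((p - 1) / 2) = 1 := by
    have h1 : (⟨y, hy⟩ : stabH Γ) ^ Nat.card (stabH Γ) = 1 := pow_card_eq_one'
    rw [hΓ.card_stabH] at h1
    have := congrArg Subtype.val h1
    simpa using this
  have hd1 := orderOf_dvd_of_pow_eq_one hpow'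
  have hd2 := orderOf_dvd_of_pow_eq_one hpow2
  have hg : orderOf y ∣ Nat.gcd ((p + 1) * p) ((p - 1) / 2) := Nat.dvd_gcd hd1 hd2
  rw [Nat.coprime_iff_gcd_eq_one.mp (hΓ.coprime_index h4), Nat.dvd_one] at hg
  exact orderOf_eq_one_iff.mp hg

end Transfer

end Cfsg.Agent.Helper61.Zp
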