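import Mathlib

set_option autoImplicit false

/-! Elementary facts on squares in `ZMod p`. -/

namespace Cfsg.Agent.Helper61.Zp

variable {p : ℕ} [Fact p.Prime]

/-- `x y` is a square iff `x` and `y` are both squares or both non-squares -/
theorem isSquare_mul_iff {x y : ZMod p} (hx : x ≠ 0) (hy : y ≠ 0) :
    IsSquare (x * y) ↔ (IsSquare x ↔ IsSquare y) := by
  have hxy : x * y ≠ 0 := mul_ne_zero hx hy
  rw [← quadraticChar_one_iff_isSquare hxy, ← quadraticChar_one_iff_isSquare hx,
    ← quadraticChar_one_iff_isSquare hy, map_mul]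
  rcases quadraticChar_dichotomy hx with h1 | h1 <;> rcases quadraticChar_dichotomy hy with h2 | h2 <;>
    rw [h1, h2] <;> norm_num

theorem isSquare_inv_iff {x : ZMod p} (hx : x ≠ 0) : IsSquare x⁻¹ ↔ IsSquare x := by
  have h1 : IsSquare (x * x⁻¹) := by rw [mul_inv_cancel₀ hx]; exact IsSquare.one
  exact ((isSquare_mul_iff hx (inv_ne_zero hx)).mp h1).symm

/-- there is a square followed by a non-square -/
theorem exists_sq_succ_nonsq (hp2 : p ≠ 2) :
    ∃ v : ZMod p, IsSquare v ∧ ¬ IsSquare (v + 1) := by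
  by_contra hcon
  push Not at hcon
  have hall : ∀ n : ℕ, IsSquare ((n : ZMod p)) := by
    intro n
    induction n with
    | zero => simp
    | succ n ih => rw [Nat.cast_succ]; exact hcon _ ih
  obtain ⟨a, ha⟩ := FiniteField.exists_nonsquare (F := ZMod p) (by rwa [ZMod.ringChar_zmod_n])
  apply ha
  have := hall a.val
  rwa [ZMod.natCast_zmod_val] at this

theorem exists_nonsq (hp2 : p ≠ 2) : ∃ n : ZMod p, ¬ IsSquare n :=
  FiniteField.exists_nonsquare (F := ZMod p) (by rwa [ZMod.ringChar_zmod_n])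

theorem ne_zero_of_not_isSquare {n : ZMod p} (h : ¬ IsSquare n) : n ≠ 0 := by
  rintro rfl
  exact h (IsSquare.zero)

end Cfsg.Agent.Helper61.Zp
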