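import Cfsg.Agent.Helper61.ZpAffine

set_option autoImplicit false

/-! The two-point stabiliser is exactly the group of multiplications by squares. -/

namespace Cfsg.Agent.Helper61.Zp

open Equiv MulAction

variable {p : ℕ} [Fact p.Prime] {Γ : Subgroup (Perm (Option (ZMod p)))}

theorem ZGroup.three_le (hΓ : ZGroup Γ) : 3 ≤ p := by
  have h := hΓ.card_stabH
  have hpos : 0 < Nat.card (stabH Γ) := Nat.card_pos
  have := (Fact.out : p.Prime).two_le
  omega

theorem ZGroup.odd (hΓ : ZGroup Γ) : p % 2 = 1 := by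
  have h3 := hΓ.three_le
  rcases (Fact.out : p.Prime).eq_two_or_odd with h | h
  · omega
  · exact h

theorem ZGroup.two_mul_half (hΓ : ZGroup Γ) : 2 * ((p - 1) / 2) = p - 1 := by
  have := hΓ.odd
  omega

/-- the multipliers occurring in `Γ` -/
def mults (Γ : Subgroup (Perm (Option (ZMod p)))) : Subgroup (ZMod p)ˣ := Γ.comap mlHom

theorem mem_mults {k : (ZMod p)ˣ} : k ∈ mults Γ ↔ ml k ∈ Γ := Iff.rfl

theorem ZGroup.map_mults (hΓ : ZGroup Γ) : (mults Γ).map mlHom = stabH Γ := by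
  ext g
  rw [Subgroup.mem_map, mem_stabH]
  constructor
  · rintro ⟨k, hk, rfl⟩
    exact ⟨hk, by simp, by simp⟩
  · intro hg
    obtain ⟨k, rfl⟩ := hΓ.stabH_ml (mem_stabH.mpr hg)
    exact ⟨k, hg.1, rfl⟩

theorem ZGroup.card_mults (hΓ : ZGroup Γ) : Nat.card (mults Γ) = (p - 1) / 2 := by
  rw [← hΓ.card_stabH, ← hΓ.map_mults]
  exact (Subgroup.card_map_of_injective (f := mlHom) ml_injective).symm

theorem ZGroup.index_mults (hΓ : ZGroup Γ) : (mults Γ).index = 2 := by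
  have h := Subgroup.card_mul_index (mults Γ)
  rw [hΓ.card_mults, Nat.card_eq_fintype_card, ZMod.card_units] at h
  have hpos : 0 < (p - 1) / 2 := by
    have := hΓ.three_le
    omega
  have h' : (p - 1) / 2 * (mults Γ).index = (p - 1) / 2 * 2 := by
    rw [h, mul_comm]; exact hΓ.two_mul_half.symm
  exact Nat.eq_of_mul_eq_mul_left hpos h'

/-- multiplications by squares lie in `Γ` -/
theorem ZGroup.ml_sq_mem (hΓ : ZGroup Γ) {k : (ZMod p)ˣ} (hk : IsSquare k) : ml k ∈ Γ := by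
  obtain ⟨j, rfl⟩ := hk
  exact Subgroup.mul_self_mem_of_index_two hΓ.index_mults j

/-- a multiplication lying in `Γ` is by a square -/
theorem ZGroup.isSquare_of_ml_mem (hΓ : ZGroup Γ) {k : (ZMod p)ˣ} (hk : ml k ∈ Γ) :
    IsSquare k := by
  have h1 : (⟨k, hk⟩ : mults Γ) ^ Nat.card (mults Γ) = 1 := pow_card_eq_one'
  rw [hΓ.card_mults] at h1
  have h2 : k ^ ((p - 1) / 2) = 1 := by
    have := congrArg Subtype.val h1
    simpa using this
  have h3 : (p - 1) / 2 = p / 2 := by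
    have := hΓ.odd
    omega
  rw [h3] at h2
  obtain ⟨y, hy⟩ := (ZMod.euler_criterion_units p k).mpr h2
  exact ⟨y, by rw [← hy, sq]⟩

theorem ZGroup.ml_mem_iff (hΓ : ZGroup Γ) {k : (ZMod p)ˣ} : ml k ∈ Γ ↔ IsSquare k :=
  ⟨hΓ.isSquare_of_ml_mem, hΓ.ml_sq_mem⟩

/-- Elements of the stabiliser of infinity: affine with square multiplier. -/
theorem ZGroup.stabB_affine_sq (hΓ : ZGroup Γ) {g : Perm (Option (ZMod p))}
    (hg : g ∈ Γ) (hgn : g none = none) :
    ∃ (k : (ZMod p)ˣ) (c : ZMod p), IsSquare k ∧ g = tr c * ml k := by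
  obtain ⟨k, c, rfl⟩ := hΓ.stabB_affine (mem_stabB.mpr ⟨hg, hgn⟩)
  refine ⟨k, c, ?_, rfl⟩
  apply hΓ.isSquare_of_ml_mem
  have : ml k = (tr c)⁻¹ * (tr c * ml k) := by rw [inv_mul_cancel_left]
  rw [this]
  exact Γ.mul_mem (Γ.inv_mem (hΓ.tr_mem' c)) hg

/-- Elements of the stabiliser of infinity and zero: multiplications by squares. -/
theorem ZGroup.stabH_ml_sq (hΓ : ZGroup Γ) {g : Perm (Option (ZMod p))}
    (hg : g ∈ Γ) (hgn : g none = none) (hg0 : g (some 0) = some 0) :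
    ∃ k : (ZMod p)ˣ, IsSquare k ∧ g = ml k := by
  obtain ⟨k, rfl⟩ := hΓ.stabH_ml (mem_stabH.mpr ⟨hg, hgn, hg0⟩)
  exact ⟨k, hΓ.isSquare_of_ml_mem hg, rfl⟩

end Cfsg.Agent.Helper61.Zp
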