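import Cfsg.Agent.Helper61.ZpDefs

set_option autoImplicit false

/-! Point stabilisers in a subgroup `Γ` of `Perm (Option (ZMod p))` of order `(p+1) p (p-1)/2`
containing the translation `x ↦ x + 1` and transitive on the `p + 1` points. -/

namespace Cfsg.Agent.Helper61.Zp

open Equiv MulAction

/-- orbit-stabiliser for a subgroup of a symmetric group, with an explicit orbit -/
theorem card_eq_card_mul_stab {Ω : Type*} (K : Subgroup (Perm Ω)) [Finite K] (x : Ω)
    (S : Finset Ω) (h1 : ∀ g ∈ K, g x ∈ S) (h2 : ∀ y ∈ S, ∃ g ∈ K, g x = y) :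
    Nat.card K = S.card * Nat.card (K ⊓ stabilizer (Perm Ω) x : Subgroup (Perm Ω)) := by
  have h := Subgroup.card_mul_index (stabilizer K x)
  rw [MulAction.index_stabilizer] at h
  have horb : orbit K x = (S : Set Ω) := by
    ext y
    constructor
    · rintro ⟨g, rfl⟩
      exact h1 g.1 g.2
    · intro hy
      obtain ⟨g, hg, rfl⟩ := h2 y hy
      exact ⟨⟨g, hg⟩, rfl⟩
  rw [horb, Set.ncard_coe_finset] at h
  have hc : Nat.card (stabilizer K x)
      = Nat.card (K ⊓ stabilizer (Perm Ω) x : Subgroup (Perm Ω)) := by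
    apply Nat.card_congr
    refine ⟨fun g => ⟨g.1.1, g.1.2, g.2⟩, fun g => ⟨⟨g.1, g.2.1⟩, g.2.2⟩, ?_, ?_⟩
    · intro g; rfl
    · intro g; rfl
  rw [← h, hc, mul_comm]

variable {p : ℕ} [Fact p.Prime]

/-- The hypotheses on `Γ`. -/
structure ZGroup (Γ : Subgroup (Perm (Option (ZMod p)))) : Prop where
  card : Nat.card Γ = (p + 1) * p * ((p - 1) / 2)
  tr_mem : tr 1 ∈ Γ
  trans : ∀ x y : Option (ZMod p), ∃ g ∈ Γ, g x = y

/-- the stabiliser of infinity -/
def stabB (Γ : Subgroup (Perm (Option (ZMod p)))) : Subgroup (Perm (Option (ZMod p))) :=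
  Γ ⊓ stabilizer (Perm (Option (ZMod p))) (none : Option (ZMod p))

/-- the stabiliser of infinity and zero -/
def stabH (Γ : Subgroup (Perm (Option (ZMod p)))) : Subgroup (Perm (Option (ZMod p))) :=
  stabB Γ ⊓ stabilizer (Perm (Option (ZMod p))) (some (0 : ZMod p))

variable {Γ : Subgroup (Perm (Option (ZMod p)))}

theorem mem_stabB {g : Perm (Option (ZMod p))} : g ∈ stabB Γ ↔ g ∈ Γ ∧ g none = none := by
  unfold stabB
  rw [Subgroup.mem_inf, mem_stabilizer_iff, Perm.smul_def]

theorem mem_stabH {g : Perm (Option (ZMod p))} :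
    g ∈ stabH Γ ↔ g ∈ Γ ∧ g none = none ∧ g (some 0) = some 0 := by
  unfold stabH
  rw [Subgroup.mem_inf, mem_stabB, mem_stabilizer_iff, Perm.smul_def, and_assoc]

theorem ZGroup.tr_mem' (hΓ : ZGroup Γ) (b : ZMod p) : tr b ∈ Γ := by
  have h := Γ.pow_mem hΓ.tr_mem b.val
  rw [tr_one_pow, ZMod.natCast_zmod_val] at h
  exact h

theorem ZGroup.tr_mem_stabB (hΓ : ZGroup Γ) (b : ZMod p) : tr b ∈ stabB Γ :=
  mem_stabB.mpr ⟨hΓ.tr_mem' b, tr_none b⟩

instance ZGroup.finite (Γ : Subgroup (Perm (Option (ZMod p)))) : Finite Γ := inferInstance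

theorem ZGroup.card_stabB (hΓ : ZGroup Γ) : Nat.card (stabB Γ) = p * ((p - 1) / 2) := by
  have h := card_eq_card_mul_stab Γ (none : Option (ZMod p)) Finset.univ
    (fun _ _ => Finset.mem_univ _) (fun y _ => hΓ.trans none y)
  rw [Finset.card_univ, Fintype.card_option, ZMod.card, hΓ.card] at h
  have hp : 0 < p + 1 := Nat.succ_pos p
  unfold stabB
  have h' : (p + 1) * (p * ((p - 1) / 2))
      = (p + 1) * Nat.card (Γ ⊓ stabilizer (Perm (Option (ZMod p))) (none : Option (ZMod p))
          : Subgroup _) := by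
    rw [← h]; ring
  exact (Nat.eq_of_mul_eq_mul_left hp h').symm

theorem ZGroup.card_stabH (hΓ : ZGroup Γ) : Nat.card (stabH Γ) = (p - 1) / 2 := by
  have h := card_eq_card_mul_stab (stabB Γ) (some (0 : ZMod p))
    (Finset.univ.image (some : ZMod p → Option (ZMod p)))
    (fun g hg => by
      rw [mem_stabB] at hg
      rcases hx : g (some 0) with _ | y
      · exfalso
        have := g.injective (hx.trans hg.2.symm)
        simp at this
      · simp)
    (fun y hy => by
      rw [Finset.mem_image] at hy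
      obtain ⟨b, -, rfl⟩ := hy
      exact ⟨tr b, hΓ.tr_mem_stabB b, by simp⟩)
  rw [Finset.card_image_of_injective _ (Option.some_injective _), Finset.card_univ, ZMod.card,
    hΓ.card_stabB] at h
  have hp : 0 < p := (Fact.out : p.Prime).pos
  unfold stabH
  exact (Nat.eq_of_mul_eq_mul_left hp h).symm

end Cfsg.Agent.Helper61.Zp
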