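import Cfsg.Agent.Helper61.ZpInvB

set_option autoImplicit false

/-! Existence of a good swap: an involution interchanging zero and infinity, inverting the
two-point stabiliser, with control of its fixed points. -/

namespace Cfsg.Agent.Helper61.Zp

open Equiv MulAction

variable {p : ℕ} [Fact p.Prime] {Γ : Subgroup (Perm (Option (ZMod p)))}

/-- a good swap -/
structure GoodSwap (Γ : Subgroup (Perm (Option (ZMod p)))) (t : Perm (Option (ZMod p))) :
    Prop where
  swap : IsSwap Γ t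
  sq : t * t = 1
  inv : ∀ k : (ZMod p)ˣ, IsSquare k → t * ml k * t = ml k⁻¹
  fix1 : p % 4 = 1 → ∃ x : ZMod p, x ≠ 0 ∧ t (some x) = some x
  fix3 : p % 4 = 3 → ∀ x : ZMod p, t (some x) ≠ some x

theorem ZGroup.goodSwap_A (hΓ : ZGroup Γ) (h4 : p % 4 = 1) : ∃ t, GoodSwap Γ t := by
  obtain ⟨t, ht⟩ := hΓ.exists_swap
  obtain ⟨htt, hfix⟩ := hΓ.swap_invol h4 ht
  refine ⟨t, ht, htt, ?_, fun _ => hfix, fun h => by omega⟩
  intro k hk
  obtain ⟨h1, -⟩ := hΓ.swap_invol h4 (hΓ.swap_mul_ml ht hk)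
  rw [ml_inv, eq_inv_iff_mul_eq_one, ← h1]
  group

theorem ZGroup.goodSwap_B (hΓ : ZGroup Γ) (h4 : p % 4 = 3) [IsSimpleGroup Γ]
    (hna : ¬ IsMulCommutative Γ) : ∃ t, GoodSwap Γ t := by
  obtain ⟨t, ht⟩ := hΓ.exists_swap
  have htt : t * t = 1 := by
    apply hΓ.eq_one_of_comm_swap h4 hna ht (y := t * t) _ (by group)
    rw [mem_stabH]
    refine ⟨Γ.mul_mem ht.1 ht.1, ?_, ?_⟩
    · rw [Perm.mul_apply, ht.2.1, ht.2.2]
    · rw [Perm.mul_apply, ht.2.2, ht.2.1]
  have htinv : t⁻¹ = t := inv_eq_of_mul_eq_one_left htt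
  refine ⟨t, ht, htt, ?_, fun h => by omega, ?_⟩
  · intro k hk
    have hcmem : t * ml k * t ∈ stabH Γ := by
      rw [mem_stabH]
      refine ⟨Γ.mul_mem (Γ.mul_mem ht.1 (hΓ.ml_sq_mem hk)) ht.1, ?_, ?_⟩
      · rw [Perm.mul_apply, Perm.mul_apply, ht.2.1, ml_some, mul_zero, ht.2.2]
      · rw [Perm.mul_apply, Perm.mul_apply, ht.2.2, ml_none, ht.2.1]
    obtain ⟨l, hl⟩ := hΓ.stabH_ml hcmem
    have hy : ml k * (t * ml k * t) ∈ stabH Γ := by
      apply (stabH Γ).mul_mem _ hcmem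
      rw [mem_stabH]
      exact ⟨hΓ.ml_sq_mem hk, by simp, by simp⟩
    have hcomm : t * (ml k * (t * ml k * t)) = ml k * (t * ml k * t) * t := by
      have e1 : t * (ml k * (t * ml k * t)) = (t * ml k * t) * ml k * t := by
        simp only [mul_assoc]
      have e2 : ml k * (t * ml k * t) * t = (t * ml k * t) * ml k * t := by
        rw [hl, ml_comm]
      rw [e1, e2]
    have h1 := hΓ.eq_one_of_comm_swap h4 hna ht hy hcomm
    rw [ml_inv, eq_inv_iff_mul_eq_one, hl, ml_comm, ← hl]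
    exact h1
  · intro _ x hx
    -- conjugate `t` into the stabiliser of infinity, which has odd order
    obtain ⟨g, hg, hgx⟩ := hΓ.trans (some x) none
    have hmem : g * t * g⁻¹ ∈ stabB Γ := by
      rw [mem_stabB]
      refine ⟨Γ.mul_mem (Γ.mul_mem hg ht.1) (Γ.inv_mem hg), ?_⟩
      have hinv : g⁻¹ none = some x := by rw [Perm.inv_eq_iff_eq, hgx]
      rw [Perm.mul_apply, Perm.mul_apply, hinv, hx, hgx]
    have ht1 : t ≠ 1 := by
      intro h
      have := ht.2.1
      rw [h] at this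
      simp at this
    have ho : orderOf (g * t * g⁻¹) = 2 := by
      apply orderOf_eq_prime
      · have : (g * t * g⁻¹) ^ 2 = g * (t * t) * g⁻¹ := by
          rw [pow_two]; group
        rw [this, htt]; group
      · intro h
        apply ht1
        have : t = g⁻¹ * (g * t * g⁻¹) * g := by group
        rw [this, h]; group
    have hdvd : orderOf (⟨g * t * g⁻¹, hmem⟩ : stabB Γ) ∣ Nat.card (stabB Γ) :=
      orderOf_dvd_natCard _
    rw [Subgroup.orderOf_mk, ho, hΓ.card_stabB] at hdvd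
    have hp := (Fact.out : p.Prime)
    rcases (Nat.Prime.dvd_mul Nat.prime_two).mp hdvd with h | h
    · have := hΓ.odd
      omega
    · omega

theorem ZGroup.exists_goodSwap (hΓ : ZGroup Γ) [IsSimpleGroup Γ]
    (hna : ¬ IsMulCommutative Γ) : ∃ t, GoodSwap Γ t := by
  have hodd := hΓ.odd
  have h4 : p % 4 = 1 ∨ p % 4 = 3 := by omega
  rcases h4 with h4 | h4
  · exact hΓ.goodSwap_A h4
  · exact hΓ.goodSwap_B h4 hna

end Cfsg.Agent.Helper61.Zp
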