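import Cfsg.Agent.Helper61.ZpSwap
import Cfsg.Agent.Helper61.ZpQuad

set_option autoImplicit false

/-! A good swap acts as `x ↦ κ / x` with `-κ` a square. -/

namespace Cfsg.Agent.Helper61.Zp

open Equiv MulAction

variable {p : ℕ} [Fact p.Prime] {Γ : Subgroup (Perm (Option (ZMod p)))}
  {t : Perm (Option (ZMod p))}

/-- the action of the swap on nonzero field elements -/
def tau (t : Perm (Option (ZMod p))) (x : ZMod p) : ZMod p := (t (some x)).getD 0

section Basic

variable (ht : GoodSwap Γ t)
include ht

theorem GoodSwap.apply_apply (u : Option (ZMod p)) : t (t u) = u := by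
  have := congrArg (fun f : Perm (Option (ZMod p)) => f u) ht.sq
  simpa [Perm.mul_apply] using this

theorem GoodSwap.tau_spec {x : ZMod p} (hx : x ≠ 0) :
    t (some x) = some (tau t x) ∧ tau t x ≠ 0 := by
  unfold tau
  rcases h : t (some x) with _ | y
  · exfalso
    have := ht.apply_apply (some x)
    rw [h, ht.swap.2.1] at this
    exact hx (Option.some.inj this).symm
  · refine ⟨by simp, ?_⟩
    simp only [Option.getD_some]
    rintro rfl
    have := ht.apply_apply (some x)
    rw [h, ht.swap.2.2] at this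
    simp at this

theorem GoodSwap.tau_tau {x : ZMod p} (hx : x ≠ 0) : tau t (tau t x) = x := by
  obtain ⟨h1, h2⟩ := ht.tau_spec hx
  obtain ⟨h3, -⟩ := ht.tau_spec h2
  have := ht.apply_apply (some x)
  rw [h1, h3] at this
  exact Option.some.inj this

theorem GoodSwap.tau_mul {k : (ZMod p)ˣ} (hk : IsSquare k) {x : ZMod p} (hx : x ≠ 0) :
    tau t ((k : ZMod p) * x) = ((k⁻¹ : (ZMod p)ˣ) : ZMod p) * tau t x := by
  have hrel : t * ml k = ml k⁻¹ * t := by
    have := ht.inv k hk
    calc t * ml k = t * ml k * (t * t) := by rw [ht.sq, mul_one]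
      _ = (t * ml k * t) * t := by group
      _ = ml k⁻¹ * t := by rw [this]
  have hkx : (k : ZMod p) * x ≠ 0 := mul_ne_zero k.ne_zero hx
  obtain ⟨h1, -⟩ := ht.tau_spec hkx
  obtain ⟨h2, -⟩ := ht.tau_spec hx
  have := congrArg (fun f : Perm (Option (ZMod p)) => f (some x)) hrel
  simp only [Perm.mul_apply, ml_some] at this
  rw [h1, h2, ml_some] at this
  exact Option.some.inj this

/-- `x τ(x)` is invariant under multiplication of `x` by squares -/
theorem GoodSwap.gam_mul {s : ZMod p} (hs : IsSquare s) (hs0 : s ≠ 0) {x : ZMod p} (hx : x ≠ 0) :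
    (s * x) * tau t (s * x) = x * tau t x := by
  have hk : IsSquare (Units.mk0 s hs0) := (isSquare_units_iff _).mpr (by simpa using hs)
  have h := ht.tau_mul hk hx
  rw [Units.val_mk0] at h
  rw [h]
  have : s * ((Units.mk0 s hs0)⁻¹ : (ZMod p)ˣ) = 1 := by
    have := (Units.mk0 s hs0).mul_inv
    rwa [Units.val_mk0] at this
  linear_combination (x * tau t x) * this

theorem GoodSwap.gam_sq {s : ZMod p} (hs : IsSquare s) (hs0 : s ≠ 0) :
    s * tau t s = tau t 1 := by
  have := ht.gam_mul hs hs0 (x := 1) one_ne_zero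
  rwa [mul_one, one_mul] at this

theorem GoodSwap.gam_nonsq {n n' : ZMod p} (hn : ¬ IsSquare n) (hn' : ¬ IsSquare n') :
    n * tau t n = n' * tau t n' := by
  have hn0 := ne_zero_of_not_isSquare hn
  have hn'0 := ne_zero_of_not_isSquare hn'
  have hs : IsSquare (n * n'⁻¹) := by
    rw [isSquare_mul_iff hn0 (inv_ne_zero hn'0), isSquare_inv_iff hn'0]
    exact ⟨fun h => absurd h hn, fun h => absurd h hn'⟩
  have := ht.gam_mul hs (mul_ne_zero hn0 (inv_ne_zero hn'0)) hn'0
  have e : n * n'⁻¹ * n' = n := by rw [mul_assoc, inv_mul_cancel₀ hn'0, mul_one]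
  rwa [e] at this

end Basic

/-- **Determination of the swap**: `x τ(x) = κ` is constant, and `-κ` is a square. -/
theorem GoodSwap.tau_eq (hΓ : ZGroup Γ) (ht : GoodSwap Γ t) :
    ∃ κ : ZMod p, κ ≠ 0 ∧ IsSquare (-κ) ∧ ∀ x : ZMod p, x ≠ 0 → x * tau t x = κ := by
  have hodd := hΓ.odd
  have hp2 : p ≠ 2 := by omega
  have h1ne : (1 : ZMod p) ≠ 0 := one_ne_zero
  set κ : ZMod p := tau t 1 with hκ
  have hκ0 : κ ≠ 0 := (ht.tau_spec h1ne).2
  have hτκ : tau t κ = 1 := ht.tau_tau h1ne
  -- if `κ` is a non-square then the function is constant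
  have hconst_of_nonsq : ¬ IsSquare κ → ∀ x : ZMod p, x ≠ 0 → x * tau t x = κ := by
    intro hns x hx
    by_cases hxs : IsSquare x
    · exact ht.gam_sq hxs hx
    · rw [ht.gam_nonsq hxs hns, hτκ, mul_one]
  have h4 : p % 4 = 1 ∨ p % 4 = 3 := by omega
  rcases h4 with h4 | h4
  · -- `-1` is a square
    have hm1 : IsSquare (-1 : ZMod p) := ZMod.exists_sq_eq_neg_one_iff.mpr (by omega)
    have hm1ne : (-1 : ZMod p) ≠ 0 := neg_ne_zero.mpr h1ne
    have hnegsq : ∀ y : ZMod p, y ≠ 0 → (IsSquare (-y) ↔ IsSquare y) := by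
      intro y hy
      have : -y = (-1) * y := by ring
      rw [this, isSquare_mul_iff hm1ne hy]
      exact ⟨fun h => h.mp hm1, fun h => ⟨fun _ => h, fun _ => hm1⟩⟩
    obtain ⟨x₀, hx₀, hfix⟩ := ht.fix1 h4
    have hτx₀ : tau t x₀ = x₀ := by
      have := (ht.tau_spec hx₀).1
      rw [hfix] at this
      exact (Option.some.inj this).symm
    have hκsq : IsSquare κ := by
      by_contra hns
      have := hconst_of_nonsq hns x₀ hx₀
      rw [hτx₀] at this
      exact hns ⟨x₀, this.symm⟩
    obtain ⟨n₀, hn₀⟩ := exists_nonsq (p := p) hp2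
    have hn₀0 := ne_zero_of_not_isSquare hn₀
    set κ' : ZMod p := n₀ * tau t n₀ with hκ'
    have hτn₀ : tau t n₀ ≠ 0 := (ht.tau_spec hn₀0).2
    have hκ'0 : κ' ≠ 0 := mul_ne_zero hn₀0 hτn₀
    have hκ'sq : IsSquare κ' := by
      by_contra hns
      -- then `τ n₀` is a square
      have hsq : IsSquare (tau t n₀) := by
        have h1 : ¬ IsSquare (n₀ * tau t n₀) := hns
        rw [isSquare_mul_iff hn₀0 hτn₀] at h1
        by_contra h2
        exact h1 ⟨fun h => absurd h hn₀, fun h => absurd h h2⟩
      have h2 := ht.gam_sq hsq hτn₀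
      rw [ht.tau_tau hn₀0, mul_comm] at h2
      -- `κ' = κ`
      exact hns (by rw [hκ', h2]; exact hκsq)
    -- the structure equation
    have hκ'eq : κ' = κ := by
      have ht1 : t (some 1) = some κ := (ht.tau_spec h1ne).1
      have hgmem : t * tr (-κ) * (t * tr 1 * t) ∈ Γ :=
        Γ.mul_mem (Γ.mul_mem ht.swap.1 (hΓ.tr_mem' _))
          (Γ.mul_mem (Γ.mul_mem ht.swap.1 (hΓ.tr_mem' _)) ht.swap.1)
      have hgnone : (t * tr (-κ) * (t * tr 1 * t) : Perm (Option (ZMod p))) none = none := by
        simp only [Perm.mul_apply]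
        rw [ht.swap.2.1, tr_some, zero_add, ht1, tr_some, add_neg_cancel, ht.swap.2.2]
      obtain ⟨k, c, hk, hE⟩ := hΓ.stabB_affine_sq hgmem hgnone
      -- evaluate at `0`
      have hτnegκ : tau t (-κ) = -1 := by
        have h1 := ht.gam_sq ((hnegsq κ hκ0).mpr hκsq) (neg_ne_zero.mpr hκ0)
        have : κ * (tau t (-κ) + 1) = 0 := by linear_combination -h1
        rcases mul_eq_zero.mp this with h | h
        · exact absurd h hκ0
        · linear_combination h
      have hc : c = -1 := by
        have := congrArg (fun f : Perm (Option (ZMod p)) => f (some 0)) hE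
        simp only [Perm.mul_apply] at this
        rw [ht.swap.2.2, tr_none, ht.swap.2.1, tr_some, zero_add,
          (ht.tau_spec (neg_ne_zero.mpr hκ0)).1, hτnegκ, ml_some, mul_zero, tr_some, zero_add]
          at this
        exact (Option.some.inj this).symm
      -- evaluate at `τ (-1)`
      have hτneg1 : tau t (-1) = -κ := by
        have h1 := ht.gam_sq hm1 hm1ne
        linear_combination -h1
      have hkκ : (k : ZMod p) * κ = -1 := by
        have := congrArg (fun f : Perm (Option (ZMod p)) => f (some (-κ))) hE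
        simp only [Perm.mul_apply] at this
        have h1 : t (some (-κ)) = some (-1) := by
          rw [(ht.tau_spec (neg_ne_zero.mpr hκ0)).1, hτnegκ]
        rw [h1, tr_some, neg_add_cancel, ht.swap.2.2, tr_none, ht.swap.2.1, ml_some, tr_some,
          Option.some.injEq] at this
        rw [hc] at this
        linear_combination this
      -- evaluate at `τ v`
      obtain ⟨v, hv, hv1⟩ := exists_sq_succ_nonsq (p := p) hp2
      have hv0 : v ≠ 0 := by
        rintro rfl
        rw [zero_add] at hv1
        exact hv1 IsSquare.one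
      have hv10 : v + 1 ≠ 0 := ne_zero_of_not_isSquare hv1
      have hγv : v * tau t v = κ := ht.gam_sq hv hv0
      have hτv0 : tau t v ≠ 0 := (ht.tau_spec hv0).2
      set A : ZMod p := (k : ZMod p) * tau t v + c with hA
      have hvA : v * A = -(1 + v) := by
        rw [hA, hc]
        linear_combination (k : ZMod p) * hγv + hkκ
      have hvA0 : v * A ≠ 0 := by
        rw [hvA]
        exact neg_ne_zero.mpr (by rwa [add_comm])
      have hA0 : A ≠ 0 := right_ne_zero_of_mul hvA0
      have hAns : ¬ IsSquare A := by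
        intro hAs
        have h1 : IsSquare (v * A) := (isSquare_mul_iff hv0 hA0).mpr ⟨fun _ => hAs, fun _ => hv⟩
        rw [hvA, hnegsq _ (by rwa [add_comm]), add_comm] at h1
        exact hv1 h1
      have hγA : A * tau t A = κ' := ht.gam_nonsq hAns hn₀
      have hγv1 : (v + 1) * tau t (v + 1) = κ' := ht.gam_nonsq hv1 hn₀
      have hEv := congrArg (fun f : Perm (Option (ZMod p)) => f (some (tau t v))) hE
      simp only [Perm.mul_apply] at hEv
      have h1 : t (some (tau t v)) = some v := by
        rw [← (ht.tau_spec hv0).1, ht.apply_apply]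
      rw [h1, tr_some, (ht.tau_spec hv10).1, tr_some, ml_some, tr_some] at hEv
      -- `t (some (τ(v+1) - κ)) = some A`
      have h2 : t (some A) = some (tau t (v + 1) + -κ) := by
        rw [← hEv, ht.apply_apply]
      rw [(ht.tau_spec hA0).1, Option.some.injEq] at h2
      -- now the algebra
      have s1 : v * κ' = -(1 + v) * tau t A := by
        rw [← hγA]
        linear_combination (tau t A) * hvA
      have s2 : κ' = (v + 1) * (tau t A + κ) := by
        rw [← hγv1]
        linear_combination (-(v + 1)) * h2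
      have s3 : (v + 1) * κ' = (v + 1) * κ := by
        linear_combination s1 + s2
      exact mul_left_cancel₀ hv10 s3
    refine ⟨κ, hκ0, (hnegsq κ hκ0).mpr hκsq, ?_⟩
    intro x hx
    by_cases hxs : IsSquare x
    · exact ht.gam_sq hxs hx
    · rw [ht.gam_nonsq hxs hn₀, ← hκ'eq]
  · -- `-1` is a non-square, `t` has no fixed points
    have hm1 : ¬ IsSquare (-1 : ZMod p) := by
      rw [ZMod.exists_sq_eq_neg_one_iff]
      omega
    have hm1ne : (-1 : ZMod p) ≠ 0 := neg_ne_zero.mpr h1ne
    have hnegsq : ∀ y : ZMod p, y ≠ 0 → (IsSquare (-y) ↔ ¬ IsSquare y) := by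
      intro y hy
      have : -y = (-1) * y := by ring
      rw [this, isSquare_mul_iff hm1ne hy]
      exact ⟨fun h hy' => hm1 (h.mpr hy'), fun h => ⟨fun h' => absurd h' hm1, fun h' => absurd h' h⟩⟩
    have hκns : ¬ IsSquare κ := by
      rintro ⟨w, hw⟩
      have hw0 : w ≠ 0 := by
        rintro rfl
        rw [mul_zero] at hw
        exact hκ0 hw
      -- either `w` or `-w` is a square
      have key : ∀ x : ZMod p, x ≠ 0 → IsSquare x → x * x = κ → False := by
        intro x hx hxs hxx
        have h1 := ht.gam_sq hxs hx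
        have h2 : tau t x = x := by
          have : x * (tau t x - x) = 0 := by linear_combination h1 - hxx
          rcases mul_eq_zero.mp this with h | h
          · exact absurd h hx
          · linear_combination h
        have h3 := (ht.tau_spec hx).1
        rw [h2] at h3
        exact ht.fix3 h4 x h3
      by_cases hws : IsSquare w
      · exact key w hw0 hws hw.symm
      · exact key (-w) (neg_ne_zero.mpr hw0) ((hnegsq w hw0).mpr hws) (by rw [hw]; ring)
    refine ⟨κ, hκ0, (hnegsq κ hκ0).mpr hκns, hconst_of_nonsq hκns⟩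

end Cfsg.Agent.Helper61.Zp
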