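import Cfsg.Agent.Helper61.ZpSquares

set_option autoImplicit false

/-! Double transitivity, triviality of three-point stabilisers, and the coset of elements
interchanging zero and infinity. -/

namespace Cfsg.Agent.Helper61.Zp

open Equiv MulAction

variable {p : ℕ} [Fact p.Prime] {Γ : Subgroup (Perm (Option (ZMod p)))}

/-- double transitivity -/
theorem ZGroup.two_trans (hΓ : ZGroup Γ) {x y : Option (ZMod p)} (hxy : x ≠ y) :
    ∃ g ∈ Γ, g x = none ∧ g y = some 0 := by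
  obtain ⟨g₁, hg₁, hx⟩ := hΓ.trans x none
  rcases hy : g₁ y with _ | b
  · exact absurd (g₁.injective (hx.trans hy.symm)) hxy
  · refine ⟨tr (-b) * g₁, Γ.mul_mem (hΓ.tr_mem' _) hg₁, ?_, ?_⟩
    · rw [Perm.mul_apply, hx, tr_none]
    · rw [Perm.mul_apply, hy, tr_some, add_neg_cancel]

/-- a non-identity multiplication fixes only zero and infinity -/
theorem ml_fix {k : (ZMod p)ˣ} {x : ZMod p} (hx : x ≠ 0) (h : ml k (some x) = some x) : k = 1 := by
  rw [ml_some, Option.some.injEq] at h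
  apply Units.ext
  have : ((k : ZMod p) - 1) * x = 0 := by rw [sub_mul, h, one_mul, sub_self]
  rcases mul_eq_zero.mp this with h1 | h1
  · rw [Units.val_one]; exact sub_eq_zero.mp h1
  · exact absurd h1 hx

/-- only the identity fixes three points -/
theorem ZGroup.eq_one_of_three_fixed (hΓ : ZGroup Γ) {g : Perm (Option (ZMod p))} (hg : g ∈ Γ)
    {x y z : Option (ZMod p)} (hxy : x ≠ y) (hxz : x ≠ z) (hyz : y ≠ z)
    (hx : g x = x) (hy : g y = y) (hz : g z = z) : g = 1 := by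
  obtain ⟨h, hh, h1, h2⟩ := hΓ.two_trans hxy
  have hmem : h * g * h⁻¹ ∈ Γ := Γ.mul_mem (Γ.mul_mem hh hg) (Γ.inv_mem hh)
  have hinv1 : h⁻¹ none = x := by rw [Perm.inv_eq_iff_eq, h1]
  have hinv2 : h⁻¹ (some 0) = y := by rw [Perm.inv_eq_iff_eq, h2]
  obtain ⟨k, -, hk⟩ := hΓ.stabH_ml_sq hmem
    (by rw [Perm.mul_apply, Perm.mul_apply, hinv1, hx, h1])
    (by rw [Perm.mul_apply, Perm.mul_apply, hinv2, hy, h2])
  rcases hw : h z with _ | w
  · exact absurd (h.injective (h1.trans hw.symm)) hxz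
  · have hw0 : w ≠ 0 := by
      rintro rfl
      exact hyz (h.injective (h2.trans hw.symm))
    have hfix : ml k (some w) = some w := by
      have hinv : h⁻¹ (h z) = z := Perm.inv_eq_iff_eq.mpr rfl
      rw [← hk, Perm.mul_apply, Perm.mul_apply, ← hw, hinv, hz]
    have hk1 := ml_fix hw0 hfix
    rw [hk1, ml_one] at hk
    have : g = h⁻¹ * (h * g * h⁻¹) * h := by group
    rw [this, hk]
    group

/-- the set of elements of `Γ` interchanging zero and infinity -/
def IsSwap (Γ : Subgroup (Perm (Option (ZMod p)))) (d : Perm (Option (ZMod p))) : Prop :=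
  d ∈ Γ ∧ d none = some 0 ∧ d (some 0) = none

theorem ZGroup.exists_swap (hΓ : ZGroup Γ) : ∃ t, IsSwap Γ t := by
  obtain ⟨g, hg, h1, h2⟩ := hΓ.two_trans (x := some (0 : ZMod p)) (y := none) (by simp)
  exact ⟨g, hg, h2, h1⟩

theorem IsSwap.inv_none {d : Perm (Option (ZMod p))} (hd : IsSwap Γ d) : d⁻¹ none = some 0 := by
  rw [Perm.inv_eq_iff_eq, hd.2.2]

theorem IsSwap.inv_zero {d : Perm (Option (ZMod p))} (hd : IsSwap Γ d) : d⁻¹ (some 0) = none := by
  rw [Perm.inv_eq_iff_eq, hd.2.1]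

/-- two swaps differ by a multiplication by a square -/
theorem ZGroup.swap_eq (hΓ : ZGroup Γ) {d d' : Perm (Option (ZMod p))} (hd : IsSwap Γ d)
    (hd' : IsSwap Γ d') : ∃ k : (ZMod p)ˣ, IsSquare k ∧ d' = d * ml k := by
  obtain ⟨k, hk, h⟩ := hΓ.stabH_ml_sq (Γ.mul_mem (Γ.inv_mem hd.1) hd'.1)
    (by rw [Perm.mul_apply, hd'.2.1, hd.inv_zero])
    (by rw [Perm.mul_apply, hd'.2.2, hd.inv_none])
  exact ⟨k, hk, by rw [← h, mul_inv_cancel_left]⟩

theorem ZGroup.swap_mul_ml (hΓ : ZGroup Γ) {d : Perm (Option (ZMod p))} (hd : IsSwap Γ d)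
    {k : (ZMod p)ˣ} (hk : IsSquare k) : IsSwap Γ (d * ml k) := by
  refine ⟨Γ.mul_mem hd.1 (hΓ.ml_sq_mem hk), ?_, ?_⟩
  · rw [Perm.mul_apply, ml_none, hd.2.1]
  · rw [Perm.mul_apply, ml_some, mul_zero, hd.2.2]

/-- an element of `Γ` normalising the pair zero, infinity is a multiplication or a swap -/
theorem ZGroup.ml_or_swap (hΓ : ZGroup Γ) {g : Perm (Option (ZMod p))} (hg : g ∈ Γ)
    (h : (g none = none ∧ g (some 0) = some 0) ∨ (g none = some 0 ∧ g (some 0) = none)) :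
    (∃ k : (ZMod p)ˣ, IsSquare k ∧ g = ml k) ∨ IsSwap Γ g := by
  rcases h with h | h
  · exact Or.inl (hΓ.stabH_ml_sq hg h.1 h.2)
  · exact Or.inr ⟨hg, h.1, h.2⟩

end Cfsg.Agent.Helper61.Zp
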