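import Cfsg.Agent.Helper61.ZqTau

set_option autoImplicit false
set_option linter.unusedSectionVars false

/-! The core theorem: a `ZqGroup` is the standard set. -/

namespace Cfsg.Agent.Helper61.Zq

open Equiv MulAction

variable {F : Type*} [Field F] [Fintype F] [DecidableEq F] {Γ : Subgroup (Perm (Option F))}

/-- **Core theorem.** -/
theorem ZqGroup.eq_std (hΓ : ZqGroup Γ) :
    (Γ : Set (Perm (Option F))) = Std F := by
  obtain ⟨t, ht⟩ := hΓ.exists_goodSwap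
  obtain ⟨κ, hκ0, hκsq, hγ⟩ := ht.tau_eq hΓ
  have hnκ0 : -κ ≠ 0 := neg_ne_zero.mpr hκ0
  set c₀ : Fˣ := Units.mk0 (-κ) hnκ0 with hc₀
  have hc₀sq : IsSquare c₀ := (isSquare_units_iff _).mpr (by rw [hc₀, Units.val_mk0]; exact hκsq)
  have ht_eq : t = ml c₀ * inv0 := by
    ext u : 1
    rcases u with _ | x
    · rw [ht.swap.2.1, Perm.mul_apply, inv0_none, ml_some, mul_zero]
    · by_cases hx : x = 0
      · rw [hx, ht.swap.2.2, Perm.mul_apply, inv0_zero, ml_none]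
      · rw [(ht.tau_spec hx).1, Perm.mul_apply, inv0_some hx, ml_some, hc₀, Units.val_mk0]
        congr 1
        have := hγ x hx
        field_simp
        linear_combination this
  have htinv : t⁻¹ = t := inv_eq_of_mul_eq_one_left ht.sq
  have hinv0 : inv0 ∈ Γ := by
    have : (inv0 : Perm (Option F)) = (ml c₀)⁻¹ * t := by rw [ht_eq, inv_mul_cancel_left]
    rw [this]
    exact Γ.mul_mem (Γ.inv_mem (hΓ.ml_sq_mem hc₀sq)) ht.swap.1
  ext g
  simp only [SetLike.mem_coe]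
  constructor
  · intro hg
    rcases hgn : g none with _ | f
    · obtain ⟨k, c, hk, rfl⟩ := hΓ.stabB_affine_sq hg hgn
      exact Or.inl ⟨k, c, hk, rfl⟩
    · have hmem : t * tr (-f) * g ∈ Γ := Γ.mul_mem (Γ.mul_mem ht.swap.1 (hΓ.tr_mem _)) hg
      have hnone : (t * tr (-f) * g : Perm (Option F)) none = none := by
        simp only [Perm.mul_apply]
        rw [hgn, tr_some, add_neg_cancel, ht.swap.2.2]
      obtain ⟨k, c, hk, hE⟩ := hΓ.stabB_affine_sq hmem hnone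
      refine Or.inr ⟨f, c₀, k, c, hc₀sq, hk, ?_⟩
      have : g = tr f * t * (t * tr (-f) * g) := by
        rw [tr_neg]
        calc g = tr f * (t * t) * (tr f)⁻¹ * g := by rw [ht.sq]; group
          _ = tr f * t * (t * (tr f)⁻¹ * g) := by group
      rw [this, hE, ht_eq]
      group
  · rintro (⟨k, c, hk, rfl⟩ | ⟨f, a, k, c, ha, hk, rfl⟩)
    · exact Γ.mul_mem (hΓ.tr_mem c) (hΓ.ml_sq_mem hk)
    · exact Γ.mul_mem (Γ.mul_mem (Γ.mul_mem (hΓ.tr_mem f) (hΓ.ml_sq_mem ha)) hinv0)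
        (Γ.mul_mem (hΓ.tr_mem c) (hΓ.ml_sq_mem hk))

/-- Two `ZqGroup`s coincide. -/
theorem ZqGroup.unique {Γ₁ Γ₂ : Subgroup (Perm (Option F))} (h₁ : ZqGroup Γ₁)
    (h₂ : ZqGroup Γ₂) : Γ₁ = Γ₂ :=
  SetLike.coe_injective (h₁.eq_std.trans h₂.eq_std.symm)

end Cfsg.Agent.Helper61.Zq
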