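import Mathlib

set_option autoImplicit false

/-! Concrete permutations of the projective line `Option F` over a field `F` (`none` is the point at
infinity): translations, multiplications, and the inversion `x ↦ -1/x`. -/

namespace Cfsg.Agent.Helper61.Zq

open Equiv

variable {F : Type*} [Field F]

/-- translation `x ↦ x + b`, fixing infinity -/
def tr (b : F) : Perm (Option (F)) := Equiv.optionCongr (Equiv.addRight b)

/-- multiplication `x ↦ a x`, fixing infinity -/
def ml (a : Fˣ) : Perm (Option (F)) := Equiv.optionCongr (Units.mulLeft a)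

@[simp] theorem tr_none (b : F) : tr b none = none := rfl
@[simp] theorem tr_some (b x : F) : tr b (some x) = some (x + b) := rfl
@[simp] theorem ml_none (a : Fˣ) : ml a none = none := rfl
@[simp] theorem ml_some (a : Fˣ) (x : F) : ml a (some x) = some ((a : F) * x) := rfl

theorem tr_zero : tr (0 : F) = 1 := by
  ext x : 1
  cases x <;> simp

theorem tr_add (a b : F) : tr (a + b) = tr a * tr b := by
  ext x : 1
  cases x with
  | none => simp
  | some x => simp [Perm.mul_apply]; ring

theorem tr_neg (a : F) : tr (-a) = (tr a)⁻¹ := by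
  rw [eq_inv_iff_mul_eq_one, ← tr_add, neg_add_cancel, tr_zero]

theorem tr_inv_some (a x : F) : (tr a)⁻¹ (some x) = some (x - a) := by
  rw [← tr_neg, tr_some, sub_eq_add_neg]

theorem tr_inv_none (a : F) : (tr a)⁻¹ none = none := by
  rw [← tr_neg, tr_none]

theorem tr_pow (a : F) (n : ℕ) : (tr a) ^ n = tr ((n : F) * a) := by
  induction n with
  | zero => simp [tr_zero]
  | succ n ih => rw [pow_succ, ih, ← tr_add]; congr 1; push_cast; ring

theorem tr_one_pow (n : ℕ) : (tr (1 : F)) ^ n = tr (n : F) := by
  rw [tr_pow, mul_one]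

theorem tr_injective : Function.Injective (tr : F → Perm (Option (F))) := by
  intro a b h
  have := congrArg (fun f : Perm (Option (F)) => f (some 0)) h
  simpa using this

theorem ml_one : ml (1 : Fˣ) = 1 := by
  ext x : 1
  cases x <;> simp

theorem ml_mul (a b : Fˣ) : ml (a * b) = ml a * ml b := by
  ext x : 1
  cases x with
  | none => simp
  | some x => simp [Perm.mul_apply, mul_assoc]

theorem ml_inv (a : Fˣ) : ml a⁻¹ = (ml a)⁻¹ := by
  rw [eq_inv_iff_mul_eq_one, ← ml_mul, inv_mul_cancel, ml_one]

theorem ml_inv_some (a : Fˣ) (x : F) :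
    (ml a)⁻¹ (some x) = some (((a⁻¹ : Fˣ) : F) * x) := by
  rw [← ml_inv, ml_some]

theorem ml_inv_none (a : Fˣ) : (ml a)⁻¹ none = none := by
  rw [← ml_inv, ml_none]

/-- `ml` as a monoid homomorphism -/
def mlHom : Fˣ →* Perm (Option (F)) where
  toFun := ml
  map_one' := ml_one
  map_mul' := ml_mul

@[simp] theorem mlHom_apply (a : Fˣ) : mlHom a = ml a := rfl

theorem ml_injective : Function.Injective (ml : Fˣ → Perm (Option (F))) := by
  intro a b h
  have := congrArg (fun f : Perm (Option (F)) => f (some 1)) h
  simp only [ml_some, mul_one, Option.some.injEq] at this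
  exact Units.ext this

theorem ml_comm (a b : Fˣ) : ml a * ml b = ml b * ml a := by
  rw [← ml_mul, ← ml_mul, mul_comm]

theorem ml_pow (a : Fˣ) (n : ℕ) : (ml a) ^ n = ml (a ^ n) := by
  induction n with
  | zero => simp [ml_one]
  | succ n ih => rw [pow_succ, ih, ← ml_mul, pow_succ]

/-- `ml a * tr b = tr (a b) * ml a` -/
theorem ml_mul_tr (a : Fˣ) (b : F) : ml a * tr b = tr ((a : F) * b) * ml a := by
  ext x : 1
  cases x with
  | none => simp
  | some x => simp [Perm.mul_apply]; ring

variable [DecidableEq F]

/-- the inversion `x ↦ -1/x` as a function -/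
def inv0Fun : Option (F) → Option (F)
  | none => some 0
  | some x => if x = 0 then none else some (-x⁻¹)

theorem inv0Fun_invol : Function.Involutive (inv0Fun : Option (F) → Option (F)) := by
  intro x
  cases x with
  | none => simp [inv0Fun]
  | some x =>
    by_cases hx : x = 0
    · simp [inv0Fun, hx]
    · have : -x⁻¹ ≠ 0 := neg_ne_zero.mpr (inv_ne_zero hx)
      simp [inv0Fun, hx, this]

/-- the inversion `x ↦ -1/x` -/
def inv0 : Perm (Option (F)) := inv0Fun_invol.toPerm

@[simp] theorem inv0_none : inv0 (none : Option (F)) = some 0 := rfl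
@[simp] theorem inv0_zero : inv0 (some (0 : F)) = none := by
  simp [inv0, Function.Involutive.toPerm, inv0Fun]
theorem inv0_some {x : F} (hx : x ≠ 0) : inv0 (some x) = some (-x⁻¹) := by
  simp [inv0, Function.Involutive.toPerm, inv0Fun, hx]

theorem inv0_mul_self : (inv0 : Perm (Option (F))) * inv0 = 1 := by
  ext x : 1
  exact inv0Fun_invol x

/-- the standard set: the image of `PSL(2,p)` written in Bruhat normal form -/
def Std (F : Type*) [Field F] [DecidableEq F] : Set (Perm (Option F)) :=
  {g | (∃ (k : Fˣ) (c : F), IsSquare k ∧ g = tr c * ml k) ∨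
    (∃ (f : F) (a k : Fˣ) (c : F), IsSquare a ∧ IsSquare k ∧
      g = tr f * ml a * inv0 * (tr c * ml k))}

end Cfsg.Agent.Helper61.Zq
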