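import Cfsg.Agent.Helper61.ZqTwoTrans

set_option autoImplicit false
set_option linter.unusedSectionVars false

/-! Every element interchanging zero and infinity is an involution
with a fixed point (counting argument). -/

namespace Cfsg.Agent.Helper61.Zq

open Equiv MulAction

variable {F : Type*} [Field F] [Fintype F] [DecidableEq F] {Γ : Subgroup (Perm (Option F))}

theorem isSquare_units_iff (k : Fˣ) : IsSquare k ↔ IsSquare (k : F) := by
  constructor
  · rintro ⟨j, rfl⟩
    exact ⟨(j : F), by simp⟩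
  · rintro ⟨y, hy⟩
    have hy0 : y ≠ 0 := by
      rintro rfl
      rw [mul_zero] at hy
      exact k.ne_zero hy
    exact ⟨Units.mk0 y hy0, Units.ext (by simpa using hy)⟩

theorem ZqGroup.neg_ne_self (hΓ : ZqGroup Γ) {x : F} (hx : x ≠ 0) : -x ≠ x := by
  intro h
  have : (2 : F) * x = 0 := by linear_combination -h
  rcases mul_eq_zero.mp this with h2 | h2
  · exact hΓ.two_ne_zero h2
  · exact hx h2

theorem ml_neg_one_some (x : F) : ml (-1 : Fˣ) (some x) = some (-x) := by
  rw [ml_some]; simp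

theorem ml_neg_one_mul_self : ml (-1 : Fˣ) * ml (-1) = 1 := by
  rw [← ml_mul]; simp [ml_one]

theorem ml_neg_one_inv : (ml (-1 : Fˣ))⁻¹ = ml (-1) := by
  rw [inv_eq_iff_mul_eq_one, ml_neg_one_mul_self]

theorem ZqGroup.ml_neg_one_ne_one (hΓ : ZqGroup Γ) : ml (-1 : Fˣ) ≠ 1 := by
  intro h
  have := congrArg (fun f : Perm (Option F) => f (some 1)) h
  simp only [ml_neg_one_some, Perm.coe_one, id_eq, Option.some.injEq] at this
  exact hΓ.neg_ne_self one_ne_zero this

/-- An involutory multiplication different from the identity is multiplication by `-1`. -/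
theorem ml_invol {k : Fˣ} (h1 : ml k ≠ 1) (h2 : ml k * ml k = 1) : k = -1 := by
  rw [← ml_mul, ← ml_one] at h2
  have h3 := ml_injective h2
  have h4 : (k : F) * (k : F) = 1 := by
    have := congrArg Units.val h3
    simpa using this
  rcases mul_self_eq_one_iff.mp h4 with h | h
  · have hk : k = 1 := Units.ext (by simpa using h)
    rw [hk, ml_one] at h1
    exact absurd rfl h1
  · exact Units.ext (by simpa using h)

section Uniq

variable (hΓ : ZqGroup Γ)
include hΓ

/-- uniqueness of the involution fixing two given points -/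
theorem ZqGroup.invol_unique {a b : Option F} (hab : a ≠ b)
    {j j' : Perm (Option F)} (hj : j ∈ Γ) (hj' : j' ∈ Γ) (hj1 : j ≠ 1) (hj'1 : j' ≠ 1)
    (hjj : j * j = 1) (hjj' : j' * j' = 1) (ha : j a = a) (hb : j b = b)
    (ha' : j' a = a) (hb' : j' b = b) : j = j' := by
  obtain ⟨g, hg, h1, h2⟩ := hΓ.two_trans hab
  have hinv1 : g⁻¹ none = a := by rw [Perm.inv_eq_iff_eq, h1]
  have hinv2 : g⁻¹ (some 0) = b := by rw [Perm.inv_eq_iff_eq, h2]
  have key : ∀ i : Perm (Option F), i ∈ Γ → i ≠ 1 → i * i = 1 → i a = a → i b = b →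
      g * i * g⁻¹ = ml (-1) := by
    intro i hi hi1 hii hia hib
    obtain ⟨k, -, hk⟩ := hΓ.stabH_ml_sq (Γ.mul_mem (Γ.mul_mem hg hi) (Γ.inv_mem hg))
      (by rw [Perm.mul_apply, Perm.mul_apply, hinv1, hia, h1])
      (by rw [Perm.mul_apply, Perm.mul_apply, hinv2, hib, h2])
    have hk1 : ml k ≠ 1 := by
      rw [← hk]
      intro h
      apply hi1
      have : i = g⁻¹ * (g * i * g⁻¹) * g := by group
      rw [this, h]; group
    have hk2 : ml k * ml k = 1 := by
      rw [← hk]
      have : g * i * g⁻¹ * (g * i * g⁻¹) = g * (i * i) * g⁻¹ := by group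
      rw [this, hii]; group
    rw [hk, ml_invol hk1 hk2]
  have e1 := key j hj hj1 hjj ha hb
  have e2 := key j' hj' hj'1 hjj' ha' hb'
  have : g * j * g⁻¹ = g * j' * g⁻¹ := e1.trans e2.symm
  exact mul_left_cancel (mul_right_cancel this)

end Uniq

theorem ZqGroup.isSquare_neg_one' (hΓ : ZqGroup Γ) : IsSquare (-1 : F) := by
  rw [FiniteField.isSquare_neg_one_iff]
  have := hΓ.mod4
  omega

theorem ZqGroup.isSquare_neg_one (hΓ : ZqGroup Γ) : IsSquare (-1 : Fˣ) := by
  rw [isSquare_units_iff]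
  simpa using hΓ.isSquare_neg_one'

/-- the number of swaps -/
theorem ZqGroup.card_swap (hΓ : ZqGroup Γ) :
    Nat.card {d : Perm (Option F) // IsSwap Γ d} = (Fintype.card F - 1) / 2 := by
  obtain ⟨t, ht⟩ := hΓ.exists_swap
  rw [← hΓ.card_stabH]
  apply Nat.card_congr
  refine ⟨fun d => ⟨t⁻¹ * d.1, ?_⟩, fun h => ⟨t * h.1, ?_⟩, ?_, ?_⟩
  · rw [mem_stabH]
    refine ⟨Γ.mul_mem (Γ.inv_mem ht.1) d.2.1, ?_, ?_⟩
    · rw [Perm.mul_apply, d.2.2.1, ht.inv_zero]
    · rw [Perm.mul_apply, d.2.2.2, ht.inv_none]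
  · have hh := mem_stabH.mp h.2
    refine ⟨Γ.mul_mem ht.1 hh.1, ?_, ?_⟩
    · rw [Perm.mul_apply, hh.2.1, ht.2.1]
    · rw [Perm.mul_apply, hh.2.2, ht.2.2]
  · intro d
    apply Subtype.ext
    simp
  · intro h
    apply Subtype.ext
    simp

section Count

variable (hΓ : ZqGroup Γ)
include hΓ

theorem ZqGroup.ml_neg_one_mem : ml (-1 : Fˣ) ∈ Γ := hΓ.ml_sq_mem hΓ.isSquare_neg_one

/-- existence of the involution fixing `x` and `-x` -/
theorem ZqGroup.invol_exists {x : F} (hx : x ≠ 0) :
    ∃ j : Perm (Option F), j ∈ Γ ∧ j ≠ 1 ∧ j * j = 1 ∧ j (some x) = some x ∧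
      j (some (-x)) = some (-x) := by
  have hne : (some x : Option F) ≠ some (-x) := by
    intro h
    exact hΓ.neg_ne_self hx (Option.some.inj h).symm
  obtain ⟨g, hg, h1, h2⟩ := hΓ.two_trans hne
  have hinv1 : g⁻¹ none = some x := by rw [Perm.inv_eq_iff_eq, h1]
  have hinv2 : g⁻¹ (some 0) = some (-x) := by rw [Perm.inv_eq_iff_eq, h2]
  refine ⟨g⁻¹ * ml (-1) * g, Γ.mul_mem (Γ.mul_mem (Γ.inv_mem hg) (hΓ.ml_neg_one_mem)) hg,
    ?_, ?_, ?_, ?_⟩
  · intro h
    apply hΓ.ml_neg_one_ne_one
    have : ml (-1 : Fˣ) = g * (g⁻¹ * ml (-1) * g) * g⁻¹ := by group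
    rw [this, h]; group
  · have : g⁻¹ * ml (-1 : Fˣ) * g * (g⁻¹ * ml (-1) * g)
        = g⁻¹ * (ml (-1) * ml (-1)) * g := by group
    rw [this, ml_neg_one_mul_self]; group
  · rw [Perm.mul_apply, Perm.mul_apply, h1, ml_none, hinv1]
  · rw [Perm.mul_apply, Perm.mul_apply, h2, ml_neg_one_some, neg_zero, hinv2]

/-- the involution fixing `x` and `-x` interchanges zero and infinity -/
theorem ZqGroup.invol_isSwap {x : F} (hx : x ≠ 0) {j : Perm (Option F)}
    (hj : j ∈ Γ) (hj1 : j ≠ 1) (hjj : j * j = 1) (hjx : j (some x) = some x)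
    (hjx' : j (some (-x)) = some (-x)) : IsSwap Γ j := by
  have hne : (some x : Option F) ≠ some (-x) := by
    intro h
    exact hΓ.neg_ne_self hx (Option.some.inj h).symm
  set z : Perm (Option F) := ml (-1) with hz
  have hzmem : z ∈ Γ := hΓ.ml_neg_one_mem
  have hzz : z * z = 1 := ml_neg_one_mul_self
  have hzinv : z⁻¹ = z := ml_neg_one_inv
  -- `z j z⁻¹ = j`
  have hconj : z * j * z⁻¹ = j := by
    apply hΓ.invol_unique hne (Γ.mul_mem (Γ.mul_mem hzmem hj) (Γ.inv_mem hzmem)) hj
    · intro h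
      apply hj1
      have : j = z⁻¹ * (z * j * z⁻¹) * z := by group
      rw [this, h]; group
    · exact hj1
    · have : z * j * z⁻¹ * (z * j * z⁻¹) = z * (j * j) * z⁻¹ := by group
      rw [this, hjj]; group
    · exact hjj
    · rw [hzinv, Perm.mul_apply, Perm.mul_apply, hz, ml_neg_one_some, hjx', ml_neg_one_some,
        neg_neg]
    · rw [hzinv, Perm.mul_apply, Perm.mul_apply, hz, ml_neg_one_some, neg_neg, hjx,
        ml_neg_one_some]
    · exact hjx
    · exact hjx'
  have hcomm : z * j = j * z := by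
    have := congrArg (· * z) hconj
    simpa [mul_assoc] using this
  have hfix : z (j none) = j none := by
    have := congrArg (fun f : Perm (Option F) => f none) hcomm
    simpa [Perm.mul_apply, hz] using this
  have hnone : j none = some 0 := by
    rcases hjn : j none with _ | y
    · exfalso
      apply hj1
      exact hΓ.eq_one_of_three_fixed hj (x := none) (y := some x) (z := some (-x))
        (by simp) (by simp) hne hjn hjx hjx'
    · rw [hjn, hz, ml_neg_one_some, Option.some.injEq] at hfix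
      by_cases hy : y = 0
      · rw [hy]
      · exact absurd hfix (hΓ.neg_ne_self hy)
  refine ⟨hj, hnone, ?_⟩
  have := congrArg (fun f : Perm (Option F) => f none) hjj
  simpa [Perm.mul_apply, hnone] using this

/-- **Counting**: every swap is an involution with a fixed point. -/
theorem ZqGroup.swap_invol {d : Perm (Option F)} (hd : IsSwap Γ d) :
    d * d = 1 ∧ ∃ x : F, x ≠ 0 ∧ d (some x) = some x := by
  classical
  have hex : ∀ x : F, x ≠ 0 → ∃ j : Perm (Option F), j ∈ Γ ∧ j ≠ 1 ∧ j * j = 1 ∧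
      j (some x) = some x ∧ j (some (-x)) = some (-x) := fun x hx => hΓ.invol_exists hx
  choose! J hJ using hex
  set s : Finset (F) := Finset.univ.filter (fun x => x ≠ 0) with hs
  have hscard : s.card = Fintype.card F - 1 := by
    rw [hs, Finset.filter_ne', Finset.card_erase_of_mem (Finset.mem_univ _), Finset.card_univ]
  set Dset : Finset (Perm (Option F)) := Finset.univ.filter (fun d => IsSwap Γ d) with hD
  have hDcard : Dset.card = (Fintype.card F - 1) / 2 := by
    rw [← hΓ.card_swap, Nat.card_eq_fintype_card, Fintype.card_subtype]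
  have himg : s.image J ⊆ Dset := by
    intro j hj
    rw [Finset.mem_image] at hj
    obtain ⟨x, hx, rfl⟩ := hj
    have hx0 : x ≠ 0 := (Finset.mem_filter.mp hx).2
    obtain ⟨h1, h2, h3, h4', h5⟩ := hJ x hx0
    rw [hD, Finset.mem_filter]
    exact ⟨Finset.mem_univ _, hΓ.invol_isSwap hx0 h1 h2 h3 h4' h5⟩
  have hfib : ∀ b ∈ s.image J, (s.filter (fun a => J a = b)).card ≤ 2 := by
    intro b hb
    rw [Finset.mem_image] at hb
    obtain ⟨x, hx, rfl⟩ := hb
    have hx0 : x ≠ 0 := (Finset.mem_filter.mp hx).2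
    obtain ⟨h1, h2, h3, h4', h5⟩ := hJ x hx0
    have hsub : s.filter (fun a => J a = J x) ⊆ {x, -x} := by
      intro a ha
      rw [Finset.mem_filter] at ha
      have ha0 : a ≠ 0 := (Finset.mem_filter.mp ha.1).2
      obtain ⟨g1, g2, g3, g4, g5⟩ := hJ a ha0
      rw [ha.2] at g4
      rw [Finset.mem_insert, Finset.mem_singleton]
      by_contra hcon
      push Not at hcon
      apply h2
      refine hΓ.eq_one_of_three_fixed h1 (x := some x) (y := some (-x)) (z := some a) ?_ ?_ ?_
        h4' h5 g4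
      · intro h
        exact hΓ.neg_ne_self hx0 (Option.some.inj h).symm
      · intro h
        exact hcon.1 (Option.some.inj h).symm
      · intro h
        exact hcon.2 (Option.some.inj h).symm
    exact (Finset.card_le_card hsub).trans Finset.card_le_two
  have hle := Finset.card_le_mul_card_image s 2 hfib
  have hle2 : (s.image J).card ≤ Dset.card := Finset.card_le_card himg
  have htm := hΓ.two_mul_half
  have heq : s.image J = Dset := by
    apply Finset.eq_of_subset_of_card_le himg
    rw [hDcard]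
    rw [hscard] at hle
    omega
  have hdD : d ∈ Dset := by
    rw [hD, Finset.mem_filter]
    exact ⟨Finset.mem_univ _, hd⟩
  rw [← heq, Finset.mem_image] at hdD
  obtain ⟨x, hx, rfl⟩ := hdD
  have hx0 : x ≠ 0 := (Finset.mem_filter.mp hx).2
  obtain ⟨h1, h2, h3, h4', h5⟩ := hJ x hx0
  exact ⟨h3, x, hx0, h4'⟩

end Count

end Cfsg.Agent.Helper61.Zq
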