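import Cfsg.Agent.Helper61.ZqStab

set_option autoImplicit false
set_option linter.unusedSectionVars false

/-! The two-point stabiliser is exactly the group of multiplications by squares. -/

namespace Cfsg.Agent.Helper61.Zq

open Equiv MulAction

variable {F : Type*} [Field F] [Fintype F] [DecidableEq F] {Γ : Subgroup (Perm (Option F))}

theorem ZqGroup.five_le (hΓ : ZqGroup Γ) : 5 ≤ Fintype.card F := by
  have h := hΓ.mod4
  have h1 : 1 < Fintype.card F := Fintype.one_lt_card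
  omega

theorem ZqGroup.odd (hΓ : ZqGroup Γ) : Fintype.card F % 2 = 1 := by
  have h := hΓ.mod4
  omega

theorem ZqGroup.two_mul_half (hΓ : ZqGroup Γ) :
    2 * ((Fintype.card F - 1) / 2) = Fintype.card F - 1 := by
  have := hΓ.odd
  omega

theorem ZqGroup.ringChar_ne_two (hΓ : ZqGroup Γ) : ringChar F ≠ 2 := by
  intro h
  have h2 := FiniteField.even_card_iff_char_two.mp h
  have := hΓ.odd
  omega

theorem ZqGroup.two_ne_zero (hΓ : ZqGroup Γ) : (2 : F) ≠ 0 :=
  Ring.two_ne_zero hΓ.ringChar_ne_two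

/-- the multipliers occurring in `Γ` -/
def mults (Γ : Subgroup (Perm (Option F))) : Subgroup Fˣ := Γ.comap mlHom

theorem mem_mults {k : Fˣ} : k ∈ mults Γ ↔ ml k ∈ Γ := Iff.rfl

theorem ZqGroup.map_mults (hΓ : ZqGroup Γ) : (mults Γ).map mlHom = stabH Γ := by
  ext g
  rw [Subgroup.mem_map, mem_stabH]
  constructor
  · rintro ⟨k, hk, rfl⟩
    exact ⟨hk, by simp, by simp⟩
  · intro hg
    obtain ⟨k, rfl⟩ := hΓ.stabH_ml (mem_stabH.mpr hg)
    exact ⟨k, hg.1, rfl⟩

theorem ZqGroup.card_mults (hΓ : ZqGroup Γ) :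
    Nat.card (mults Γ) = (Fintype.card F - 1) / 2 := by
  rw [← hΓ.card_stabH, ← hΓ.map_mults]
  exact (Subgroup.card_map_of_injective (f := mlHom) ml_injective).symm

theorem ZqGroup.index_mults (hΓ : ZqGroup Γ) : (mults Γ).index = 2 := by
  have h := Subgroup.card_mul_index (mults Γ)
  rw [hΓ.card_mults, Nat.card_eq_fintype_card, Fintype.card_units] at h
  have hpos : 0 < (Fintype.card F - 1) / 2 := by
    have := hΓ.five_le
    omega
  have h' : (Fintype.card F - 1) / 2 * (mults Γ).index = (Fintype.card F - 1) / 2 * 2 := by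
    rw [h, mul_comm]; exact hΓ.two_mul_half.symm
  exact Nat.eq_of_mul_eq_mul_left hpos h'

/-- multiplications by squares lie in `Γ` -/
theorem ZqGroup.ml_sq_mem (hΓ : ZqGroup Γ) {k : Fˣ} (hk : IsSquare k) : ml k ∈ Γ := by
  obtain ⟨j, rfl⟩ := hk
  exact Subgroup.mul_self_mem_of_index_two hΓ.index_mults j

/-- a multiplication lying in `Γ` is by a square -/
theorem ZqGroup.isSquare_of_ml_mem (hΓ : ZqGroup Γ) {k : Fˣ} (hk : ml k ∈ Γ) :
    IsSquare k := by
  have h1 : (⟨k, hk⟩ : mults Γ) ^ Nat.card (mults Γ) = 1 := pow_card_eq_one'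
  rw [hΓ.card_mults] at h1
  have h2 : k ^ ((Fintype.card F - 1) / 2) = 1 := by
    have := congrArg Subtype.val h1
    simpa using this
  have h3 : (Fintype.card F - 1) / 2 = Fintype.card F / 2 := by
    have := hΓ.odd
    omega
  rw [h3] at h2
  exact (FiniteField.unit_isSquare_iff hΓ.ringChar_ne_two k).mpr h2

theorem ZqGroup.ml_mem_iff (hΓ : ZqGroup Γ) {k : Fˣ} : ml k ∈ Γ ↔ IsSquare k :=
  ⟨hΓ.isSquare_of_ml_mem, hΓ.ml_sq_mem⟩

/-- Elements of the stabiliser of infinity: affine with square multiplier. -/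
theorem ZqGroup.stabB_affine_sq (hΓ : ZqGroup Γ) {g : Perm (Option F)}
    (hg : g ∈ Γ) (hgn : g none = none) :
    ∃ (k : Fˣ) (c : F), IsSquare k ∧ g = tr c * ml k := by
  obtain ⟨k, c, rfl⟩ := hΓ.affine g hg hgn
  refine ⟨k, c, ?_, rfl⟩
  apply hΓ.isSquare_of_ml_mem
  have : ml k = (tr c)⁻¹ * (tr c * ml k) := by rw [inv_mul_cancel_left]
  rw [this]
  exact Γ.mul_mem (Γ.inv_mem (hΓ.tr_mem c)) hg

/-- Elements of the stabiliser of infinity and zero: multiplications by squares. -/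
theorem ZqGroup.stabH_ml_sq (hΓ : ZqGroup Γ) {g : Perm (Option F)}
    (hg : g ∈ Γ) (hgn : g none = none) (hg0 : g (some 0) = some 0) :
    ∃ k : Fˣ, IsSquare k ∧ g = ml k := by
  obtain ⟨k, rfl⟩ := hΓ.stabH_ml (mem_stabH.mpr ⟨hg, hgn, hg0⟩)
  exact ⟨k, hΓ.isSquare_of_ml_mem hg, rfl⟩

end Cfsg.Agent.Helper61.Zq
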