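import Cfsg.Agent.Helper61.ZqDefs
import Cfsg.Agent.Helper61.ZpStab

set_option autoImplicit false

/-! Point stabilisers in a subgroup `Γ` of `Perm (Option F)` (`F` a finite field with `q ≡ 1 (mod 4)`
elements) of order `(q+1) q (q-1)/2`, containing all translations, transitive on the `q + 1` points
and whose stabiliser of infinity consists of affine maps. -/

namespace Cfsg.Agent.Helper61.Zq

open Equiv MulAction

variable {F : Type*} [Field F] [Fintype F] [DecidableEq F]

/-- The hypotheses on `Γ`. -/
structure ZqGroup (Γ : Subgroup (Perm (Option F))) : Prop where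
  mod4 : Fintype.card F % 4 = 1
  card : Nat.card Γ = (Fintype.card F + 1) * Fintype.card F * ((Fintype.card F - 1) / 2)
  tr_mem : ∀ b : F, tr b ∈ Γ
  affine : ∀ g ∈ Γ, g none = none → ∃ (k : Fˣ) (c : F), g = tr c * ml k
  trans : ∀ x y : Option F, ∃ g ∈ Γ, g x = y

/-- the stabiliser of infinity -/
def stabB (Γ : Subgroup (Perm (Option F))) : Subgroup (Perm (Option F)) :=
  Γ ⊓ stabilizer (Perm (Option F)) (none : Option F)

/-- the stabiliser of infinity and zero -/
def stabH (Γ : Subgroup (Perm (Option F))) : Subgroup (Perm (Option F)) :=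
  stabB Γ ⊓ stabilizer (Perm (Option F)) (some (0 : F))

variable {Γ : Subgroup (Perm (Option F))}

omit [Fintype F] in
theorem mem_stabB {g : Perm (Option F)} : g ∈ stabB Γ ↔ g ∈ Γ ∧ g none = none := by
  unfold stabB
  rw [Subgroup.mem_inf, mem_stabilizer_iff, Perm.smul_def]

omit [Fintype F] in
theorem mem_stabH {g : Perm (Option F)} :
    g ∈ stabH Γ ↔ g ∈ Γ ∧ g none = none ∧ g (some 0) = some 0 := by
  unfold stabH
  rw [Subgroup.mem_inf, mem_stabB, mem_stabilizer_iff, Perm.smul_def, and_assoc]

theorem ZqGroup.tr_mem_stabB (hΓ : ZqGroup Γ) (b : F) : tr b ∈ stabB Γ :=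
  mem_stabB.mpr ⟨hΓ.tr_mem b, tr_none b⟩

theorem ZqGroup.card_stabB (hΓ : ZqGroup Γ) :
    Nat.card (stabB Γ) = Fintype.card F * ((Fintype.card F - 1) / 2) := by
  have h := Zp.card_eq_card_mul_stab Γ (none : Option F) Finset.univ
    (fun _ _ => Finset.mem_univ _) (fun y _ => hΓ.trans none y)
  rw [Finset.card_univ, Fintype.card_option, hΓ.card] at h
  have hp : 0 < Fintype.card F + 1 := Nat.succ_pos _
  unfold stabB
  have h' : (Fintype.card F + 1) * (Fintype.card F * ((Fintype.card F - 1) / 2))
      = (Fintype.card F + 1) * Nat.card (Γ ⊓ stabilizer (Perm (Option F)) (none : Option F)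
          : Subgroup _) := by
    rw [← h]; ring
  exact (Nat.eq_of_mul_eq_mul_left hp h').symm

theorem ZqGroup.card_stabH (hΓ : ZqGroup Γ) :
    Nat.card (stabH Γ) = (Fintype.card F - 1) / 2 := by
  have h := Zp.card_eq_card_mul_stab (stabB Γ) (some (0 : F))
    (Finset.univ.image (some : F → Option F))
    (fun g hg => by
      rw [mem_stabB] at hg
      rcases hx : g (some 0) with _ | y
      · exfalso
        have := g.injective (hx.trans hg.2.symm)
        simp at this
      · simp)
    (fun y hy => by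
      rw [Finset.mem_image] at hy
      obtain ⟨b, -, rfl⟩ := hy
      exact ⟨tr b, hΓ.tr_mem_stabB b, by simp⟩)
  rw [Finset.card_image_of_injective _ (Option.some_injective _), Finset.card_univ,
    hΓ.card_stabB] at h
  have hp : 0 < Fintype.card F := Fintype.card_pos
  unfold stabH
  exact (Nat.eq_of_mul_eq_mul_left hp h).symm

/-- Elements of the stabiliser of infinity and zero are multiplications. -/
theorem ZqGroup.stabH_ml (hΓ : ZqGroup Γ) {g : Perm (Option F)}
    (hg : g ∈ stabH Γ) : ∃ k : Fˣ, g = ml k := by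
  rw [mem_stabH] at hg
  obtain ⟨k, c, rfl⟩ := hΓ.affine g hg.1 hg.2.1
  have h0 := hg.2.2
  simp only [Perm.mul_apply, ml_some, mul_zero, tr_some, zero_add, Option.some.injEq] at h0
  refine ⟨k, ?_⟩
  rw [h0, tr_zero, one_mul]

end Cfsg.Agent.Helper61.Zq
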