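import Cfsg.Agent.Helper61.ZqInv

set_option autoImplicit false
set_option linter.unusedSectionVars false

/-! Existence of a good swap: an involution interchanging zero and infinity, inverting the
two-point stabiliser, with a fixed point. -/

namespace Cfsg.Agent.Helper61.Zq

open Equiv MulAction

variable {F : Type*} [Field F] [Fintype F] [DecidableEq F] {Γ : Subgroup (Perm (Option F))}

/-- a good swap -/
structure GoodSwap (Γ : Subgroup (Perm (Option F))) (t : Perm (Option F)) :
    Prop where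
  swap : IsSwap Γ t
  sq : t * t = 1
  inv : ∀ k : Fˣ, IsSquare k → t * ml k * t = ml k⁻¹
  fix1 : ∃ x : F, x ≠ 0 ∧ t (some x) = some x

theorem ZqGroup.exists_goodSwap (hΓ : ZqGroup Γ) : ∃ t, GoodSwap Γ t := by
  obtain ⟨t, ht⟩ := hΓ.exists_swap
  obtain ⟨htt, hfix⟩ := hΓ.swap_invol ht
  refine ⟨t, ht, htt, ?_, hfix⟩
  intro k hk
  obtain ⟨h1, -⟩ := hΓ.swap_invol (hΓ.swap_mul_ml ht hk)
  rw [ml_inv, eq_inv_iff_mul_eq_one, ← h1]
  group

end Cfsg.Agent.Helper61.Zq
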