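import Cfsg.Agent.Helper61.ZsData

set_option autoImplicit false
set_option linter.unusedSectionVars false

/-! Zassenhaus data with two-point stabiliser of even order: the involution of the two-point
stabiliser inverts `K`, so `K` is abelian; uniqueness of the involution fixing two points. -/

namespace Cfsg.Agent.Helper61.Zs

open MulAction

variable {G Ω : Type*} [Group G] [MulAction G Ω] {inf zero : Ω} {K : Subgroup G}

namespace ZData

variable (D : ZData inf zero K)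
include D

theorem exists_K_ne_one : ∃ k ∈ K, k ≠ 1 := by
  obtain ⟨w, hw1, hw2⟩ := D.third
  obtain ⟨k, hk, hkw⟩ := D.K_trans zero w D.zero_ne hw1
  refine ⟨k, hk, ?_⟩
  rintro rfl
  rw [one_smul] at hkw
  exact hw2 hkw.symm

theorem exists_invol [Finite G] (heven : Even (Nat.card (stabH G inf zero))) :
    ∃ j ∈ stabH G inf zero, j ≠ 1 ∧ j * j = 1 := by
  have : Fact (Nat.Prime 2) := ⟨Nat.prime_two⟩
  obtain ⟨x, hx⟩ := exists_prime_orderOf_dvd_card' (G := stabH G inf zero) 2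
    (even_iff_two_dvd.mp heven)
  refine ⟨x.1, x.2, ?_, ?_⟩
  · intro h1
    have : x = 1 := Subtype.ext h1
    rw [this, orderOf_one] at hx
    norm_num at hx
  · have h2 : x ^ 2 = 1 := by rw [← hx]; exact pow_orderOf_eq_one x
    have := congrArg Subtype.val h2
    simpa [pow_two] using this

/-- an involution of the two-point stabiliser inverts `K` -/
theorem invol_inverts [Finite G] {j : G} (hj : j ∈ stabH G inf zero) (hj1 : j ≠ 1)
    (hjj : j * j = 1) {k : G} (hk : k ∈ K) : j * k * j⁻¹ = k⁻¹ := by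
  have hjinv : j⁻¹ = j := inv_eq_of_mul_eq_one_left hjj
  let f : K → K := fun x => ⟨x.1⁻¹ * (j * x.1 * j⁻¹),
    K.mul_mem (K.inv_mem x.2) (D.conj_mem hj x.2)⟩
  have hfinj : Function.Injective f := by
    intro x y hxy
    have h1 : x.1⁻¹ * (j * x.1 * j⁻¹) = y.1⁻¹ * (j * y.1 * j⁻¹) := congrArg Subtype.val hxy
    -- then `y x⁻¹` is centralised by `j`
    have h2 : j * (y.1 * x.1⁻¹) * j⁻¹ = y.1 * x.1⁻¹ := by
      have e1 : j * (y.1 * x.1⁻¹) * j⁻¹ = (j * y.1 * j⁻¹) * (j * x.1 * j⁻¹)⁻¹ := by group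
      have e2 : j * y.1 * j⁻¹ = y.1 * (x.1⁻¹ * (j * x.1 * j⁻¹)) := by
        rw [h1]; group
      rw [e1, e2]; group
    by_contra hne
    have hne' : y.1 * x.1⁻¹ ≠ 1 := by
      intro h
      apply hne
      apply Subtype.ext
      exact (mul_inv_eq_one.mp h).symm
    exact hj1 (D.eq_one_of_conj_eq hj (K.mul_mem y.2 (K.inv_mem x.2)) hne' h2)
  have hfsurj : Function.Surjective f := Finite.injective_iff_surjective.mp hfinj
  obtain ⟨x, hx⟩ := hfsurj ⟨k, hk⟩
  have hk' : k = x.1⁻¹ * (j * x.1 * j⁻¹) := (congrArg Subtype.val hx).symm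
  rw [hk', hjinv]
  have e1 : j * (x.1⁻¹ * (j * x.1 * j)) * j = j * x.1⁻¹ * j * x.1 * (j * j) := by group
  have e2 : (x.1⁻¹ * (j * x.1 * j))⁻¹ = j⁻¹ * x.1⁻¹ * j⁻¹ * x.1 := by group
  rw [e1, e2, hjj, hjinv, mul_one]

/-- `K` is abelian -/
theorem K_comm [Finite G] (heven : Even (Nat.card (stabH G inf zero))) {x y : G} (hx : x ∈ K)
    (hy : y ∈ K) : x * y = y * x := by
  obtain ⟨j, hj, hj1, hjj⟩ := D.exists_invol heven
  have h1 := D.invol_inverts hj hj1 hjj hx
  have h2 := D.invol_inverts hj hj1 hjj hy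
  have h3 := D.invol_inverts hj hj1 hjj (K.mul_mem hx hy)
  have e : j * (x * y) * j⁻¹ = (j * x * j⁻¹) * (j * y * j⁻¹) := by group
  rw [e, h1, h2, mul_inv_rev] at h3
  have h4 : (x⁻¹ * y⁻¹)⁻¹ = (y⁻¹ * x⁻¹)⁻¹ := congrArg (·⁻¹) h3
  simpa using h4.symm

/-- the two-point stabiliser has a unique involution -/
theorem invol_unique_H [Finite G] {j j' : G} (hj : j ∈ stabH G inf zero)
    (hj' : j' ∈ stabH G inf zero) (hj1 : j ≠ 1) (hj'1 : j' ≠ 1) (hjj : j * j = 1)
    (hjj' : j' * j' = 1) : j = j' := by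
  obtain ⟨k, hk, hk1⟩ := D.exists_K_ne_one
  have h1 := D.invol_inverts hj hj1 hjj hk
  have h2 := D.invol_inverts hj' hj'1 hjj' hk
  have hc : (j * j') * k * (j * j')⁻¹ = k := by
    have e : (j * j') * k * (j * j')⁻¹ = j * (j' * k * j'⁻¹) * j⁻¹ := by group
    rw [e, h2]
    have h3 := D.invol_inverts hj hj1 hjj (K.inv_mem hk)
    rw [h3, inv_inv]
  have h3 := D.eq_one_of_conj_eq ((stabH G inf zero).mul_mem hj hj') hk hk1 hc
  have hjinv : j⁻¹ = j := inv_eq_of_mul_eq_one_left hjj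
  calc j = j⁻¹ := hjinv.symm
    _ = j' := inv_eq_of_mul_eq_one_right h3

/-- uniqueness of the involution fixing two given points -/
theorem invol_unique [Finite G] {x y : Ω} (hxy : x ≠ y) {i i' : G} (hi1 : i ≠ 1) (hi'1 : i' ≠ 1)
    (hii : i * i = 1) (hii' : i' * i' = 1) (hx : i • x = x) (hy : i • y = y) (hx' : i' • x = x)
    (hy' : i' • y = y) : i = i' := by
  obtain ⟨g, hgx, hgy⟩ := D.two_trans x y inf zero hxy D.ne
  have key : ∀ u : G, u ≠ 1 → u * u = 1 → u • x = x → u • y = y →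
      g * u * g⁻¹ ∈ stabH G inf zero ∧ g * u * g⁻¹ ≠ 1 ∧ (g * u * g⁻¹) * (g * u * g⁻¹) = 1 := by
    intro u hu1 huu hux huy
    refine ⟨?_, ?_, ?_⟩
    · rw [mem_stabH]
      constructor
      · rw [mul_smul, mul_smul, inv_smul_eq_iff.mpr hgx.symm, hux, hgx]
      · rw [mul_smul, mul_smul, inv_smul_eq_iff.mpr hgy.symm, huy, hgy]
    · intro h
      apply hu1
      have : u = g⁻¹ * (g * u * g⁻¹) * g := by group
      rw [this, h]; group
    · have : g * u * g⁻¹ * (g * u * g⁻¹) = g * (u * u) * g⁻¹ := by group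
      rw [this, huu]; group
  obtain ⟨a1, a2, a3⟩ := key i hi1 hii hx hy
  obtain ⟨b1, b2, b3⟩ := key i' hi'1 hii' hx' hy'
  have := D.invol_unique_H a1 b1 a2 b2 a3 b3
  exact mul_left_cancel (mul_right_cancel this)

end ZData

end Cfsg.Agent.Helper61.Zs
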